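import Groth.Agent.H87.Locus
import Mathlib.GroupTheory.Finiteness
import Groth.Agent.Lib.RedPts.Ga

/-!
# Homomorphisms `D(M) ⟶ D(N)` and `D(M) ⟶ 𝔾ₐ`
-/

set_option autoImplicit false
universe u

open CategoryTheory MonoidalCategory CartesianMonoidalCategory MonObj GrpObj AlgebraicGeometry
open CategoryTheory.Limits
open Groth.Agent.Lib.RedPts
open Groth.Agent.H87.Locus (toG Kills killSet)

namespace Groth.Agent.H87.HomDS

variable {S : Scheme.{u}}

theorem isMonHom_of_points {H G : Over S} [GrpObj H] [GrpObj G] (w : H ⟶ G)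
    (h : ∀ (X : Over S) (a b : X ⟶ H), (a * b) ≫ w = (a ≫ w) * (b ≫ w)) : IsMonHom w where
  one_hom := by
    have h1 := h (𝟙_ (Over S)) 1 1
    rw [_root_.one_mul] at h1
    rw [Gm.η_eq_one, Gm.η_eq_one]
    exact left_eq_mul.mp h1
  mul_hom := by
    rw [Gm.μ_eq_mul, h, Gm.tensorHom_μ]

theorem gm_comm {X : Over S} (a b : X ⟶ Red.Gm S) : a * b = b * a :=
  Gm.gmFn_injective (by rw [Gm.gmFn_mul, Gm.gmFn_mul, _root_.mul_comm])

theorem group_aux {G : Type*} [Group G] (hc : ∀ a b : G, a * b = b * a) (a b c d : G) :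
    a * b * (c * d)⁻¹ = a * c⁻¹ * (b * d⁻¹) := by
  rw [_root_.mul_inv_rev, _root_.mul_assoc a, _root_.mul_assoc a, ← _root_.mul_assoc b, hc (b * d⁻¹) c⁻¹]

theorem group_cancel {G : Type*} [Group G] {a b c : G} (h : a * b = a * c) : b = c := mul_left_cancel h

theorem isMonHom_div {H : Over S} [GrpObj H] (u v : H ⟶ Red.Gm S) [IsMonHom u] [IsMonHom v] :
    IsMonHom (u * v⁻¹) := by
  refine isMonHom_of_points _ fun X a b => ?_
  rw [comp_mul, comp_mul, comp_mul, comp_inv, comp_inv, comp_inv, MonObj.mul_comp a b u, MonObj.mul_comp a b v]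
  exact group_aux (G := X ⟶ Red.Gm S) gm_comm _ _ _ _

theorem comp_div_eq_one_iff {H : Over S} (u v : H ⟶ Red.Gm S) {X : Over S} (x : X ⟶ H) :
    x ≫ (u * v⁻¹) = 1 ↔ x ≫ u = x ≫ v := by
  rw [comp_mul, comp_inv, mul_inv_eq_one]

section Univ

variable {A : CommRingCat.{u}} (t : Spec A ⟶ S) (M : Type) [AddCommGroup M]

/-- The group algebra. -/
noncomputable abbrev ring : CommRingCat.{u} := CommRingCat.of (MonoidAlgebra A (Multiplicative M))

/-- Test object `Spec D` over `S` through `φ : A ⟶ D`. -/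
noncomputable abbrev test {D : CommRingCat.{u}} (φ : A ⟶ D) : Over S := Over.mk (Spec.map φ ≫ t)

/-- The universal point. -/
noncomputable def univPt :
    test t (CommRingCat.ofHom MonoidAlgebra.singleOneRingHom : A ⟶ ring M) ⟶ Red.DS S M :=
  Gm.dsPt (X := test t (CommRingCat.ofHom MonoidAlgebra.singleOneRingHom : A ⟶ ring M))
    ((toG (ring M)).comp (MonoidAlgebra.of A (Multiplicative M)))

/-- Evaluation. -/
noncomputable def evHom {D : CommRingCat.{u}} (φ : A ⟶ D) (ch : Multiplicative M →* D) :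
    test t φ ⟶ test t (CommRingCat.ofHom MonoidAlgebra.singleOneRingHom : A ⟶ ring M) :=
  Over.homMk (Spec.map (Locus.ev φ ch)) (by
    show Spec.map _ ≫ Spec.map _ ≫ t = Spec.map φ ≫ t
    rw [← Category.assoc, ← Spec.map_comp, Locus.inc_ev])

theorem dsFn_evHom {D : CommRingCat.{u}} (φ : A ⟶ D) (ch : Multiplicative M →* D) (m : M) :
    Gm.dsFn (evHom t M φ ch ≫ univPt t M) m = toG D (ch (Multiplicative.ofAdd m)) := by
  rw [Gm.dsFn_comp, univPt, Gm.dsFn_dsPt]
  show (Spec.map (Locus.ev φ ch)).appTop ((Scheme.ΓSpecIso _).inv (MonoidAlgebra.single _ 1)) = _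
  rw [← CommRingCat.comp_apply, ← Scheme.ΓSpecIso_inv_naturality, CommRingCat.comp_apply]
  exact congrArg (fun z => (Scheme.ΓSpecIso D).inv z) (Locus.ev_single φ ch _)

/-- Every point lying over `Spec A` factors through the universal one. -/
theorem exists_fac {X : Over S} (q : X.left ⟶ Spec A) (hq : q ≫ t = X.hom) (x : X ⟶ Red.DS S M) :
    ∃ r : X ⟶ test t (CommRingCat.ofHom MonoidAlgebra.singleOneRingHom : A ⟶ ring M),
      r ≫ univPt t M = x := by
  let D : CommRingCat.{u} := Γ(X.left, ⊤)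
  let φ : A ⟶ D := (Scheme.ΓSpecIso A).inv ≫ q.appTop
  let ch : Multiplicative M →* D :=
    { toFun := fun m => Gm.dsFn x m.toAdd
      map_one' := Gm.dsFn_zero x
      map_mul' := fun m n => Gm.dsFn_add x _ _ }
  have hφ : X.left.toSpecΓ ≫ Spec.map φ = q := by
    rw [Spec.map_comp, ← Scheme.toSpecΓ_naturality_assoc, toSpecΓ_SpecMap_ΓSpecIso_inv,
      Category.comp_id]
  refine ⟨Over.homMk (U := X) (X.left.toSpecΓ) (show X.left.toSpecΓ ≫ Spec.map φ ≫ t = X.hom by
    rw [← Category.assoc, hφ, hq]) ≫ evHom t M φ ch, Gm.dsFn_ext fun m => ?_⟩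
  rw [Category.assoc, Gm.dsFn_comp, dsFn_evHom]
  show X.left.toSpecΓ.appTop ((Scheme.ΓSpecIso D).inv (Gm.dsFn x m)) = _
  rw [← CommRingCat.comp_apply, Scheme.toSpecΓ_appTop]
  simp [D]

/-- Triviality over `Spec A` may be checked on the universal point. -/
theorem kills_of_univ {G : Over S} [GrpObj G] (w : Red.DS S M ⟶ G) (h : univPt t M ≫ w = 1) :
    Kills w t := by
  intro Y p γ
  obtain ⟨r, rfl⟩ := exists_fac t M p.left (Over.w p) γ
  rw [Category.assoc, h, MonObj.comp_one]

theorem univ_mul : ∃ (r₁ r₂ r : test t (CommRingCat.ofHom MonoidAlgebra.singleOneRingHom :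
      A ⟶ CommRingCat.of (MonoidAlgebra A (Multiplicative M × Multiplicative M))) ⟶
        test t (CommRingCat.ofHom MonoidAlgebra.singleOneRingHom : A ⟶ ring M)),
    r ≫ univPt t M = (r₁ ≫ univPt t M) * (r₂ ≫ univPt t M) ∧
    r₁.left = Spec.map (Locus.ev (CommRingCat.ofHom MonoidAlgebra.singleOneRingHom)
      ((MonoidAlgebra.of A (Multiplicative M × Multiplicative M)).comp (MonoidHom.inl _ _))) ∧
    r₂.left = Spec.map (Locus.ev (CommRingCat.ofHom MonoidAlgebra.singleOneRingHom)
      ((MonoidAlgebra.of A (Multiplicative M × Multiplicative M)).comp (MonoidHom.inr _ _))) ∧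
    r.left = Spec.map (Locus.ev (CommRingCat.ofHom MonoidAlgebra.singleOneRingHom)
      ((MonoidAlgebra.of A (Multiplicative M × Multiplicative M)).comp
        (MonoidHom.prod (MonoidHom.id _) (MonoidHom.id _)))) := by
  refine ⟨evHom t M _ _, evHom t M _ _, evHom t M _ _, Gm.dsFn_ext fun m => ?_, rfl, rfl, rfl⟩
  rw [Gm.dsFn_mul, dsFn_evHom, dsFn_evHom, dsFn_evHom]
  refine Eq.trans ?_ (map_mul _ _ _)
  refine congrArg _ ?_
  show (MonoidAlgebra.single (_, _) (1 : A)) = MonoidAlgebra.single (_, 1) 1 * MonoidAlgebra.single (1, _) 1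
  simp

theorem evHom_one : evHom t M (𝟙 A) 1 ≫ univPt t M = 1 := Gm.dsFn_ext fun m => by
  rw [dsFn_evHom, Gm.dsFn_one]
  simp

theorem ev_inl {N : Type*} [CommGroup N] [DecidableEq N] {A : Type u} [CommRing A] (x : MonoidAlgebra A N) (p q : N) :
    (MonoidAlgebra.liftNCRingHom (MonoidAlgebra.singleOneRingHom (R := A) (M := N × N))
      ((MonoidAlgebra.of A (N × N)).comp (MonoidHom.inl N N)) (CoactTrivial.commute_aux _ _) x).coeff (p, q) =
      (if q = 1 then x.coeff p else 0) := by
  classical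
  induction x using MonoidAlgebra.induction_linear with
  | zero => simp
  | add z z' hz hz' => rw [map_add, MonoidAlgebra.coeff_add, Finsupp.add_apply, hz, hz']; split_ifs <;> simp
  | single n r =>
    simp [Finsupp.single_apply, Prod.ext_iff]
    by_cases h1 : q = 1
    · subst h1; simp
    · simp [h1, Ne.symm h1]

end Univ

section Field

variable {A : CommRingCat.{u}} [IsDomain A] (t : Spec A ⟶ S) {M : Type} [AddCommGroup M]

theorem diag_coeff {N : Type*} [CommGroup N] [DecidableEq N] {A : Type u} [CommRing A]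
    (x : MonoidAlgebra A N) (p q : N) :
    (MonoidAlgebra.liftNCRingHom (MonoidAlgebra.singleOneRingHom (R := A) (M := N × N))
      ((MonoidAlgebra.of A (N × N)).comp (MonoidHom.prod (MonoidHom.id N) (MonoidHom.id N)))
      (CoactTrivial.commute_aux _ _) x).coeff (p, q) = if p = q then x.coeff p else 0 := by
  induction x using MonoidAlgebra.induction_linear with
  | zero => simp
  | add z z' hz hz' => rw [map_add, MonoidAlgebra.coeff_add, Finsupp.add_apply, hz, hz']; split_ifs <;> simp
  | single n r =>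
    simp [Finsupp.single_apply, Prod.ext_iff]
    by_cases h1 : n = p <;> by_cases h2 : n = q <;> by_cases h3 : p = q <;> simp_all

theorem ev_inr {N : Type*} [CommGroup N] [DecidableEq N] {A : Type u} [CommRing A]
    (x : MonoidAlgebra A N) (p q : N) :
    (MonoidAlgebra.liftNCRingHom (MonoidAlgebra.singleOneRingHom (R := A) (M := N × N))
      ((MonoidAlgebra.of A (N × N)).comp (MonoidHom.inr N N)) (CoactTrivial.commute_aux _ _) x).coeff (p, q) =
      (if p = 1 then x.coeff q else 0) := by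
  induction x using MonoidAlgebra.induction_linear with
  | zero => simp
  | add z z' hz hz' => rw [map_add, MonoidAlgebra.coeff_add, Finsupp.add_apply, hz, hz']; split_ifs <;> simp
  | single n r =>
    simp [Finsupp.single_apply, Prod.ext_iff]
    by_cases h1 : p = 1
    · subst h1; simp
    · simp [h1, Ne.symm h1]

theorem ev_prod {N : Type*} [CommGroup N] [DecidableEq N] {A : Type u} [CommRing A]
    (x y : MonoidAlgebra A N) (p q : N) :
    ((MonoidAlgebra.liftNCRingHom (MonoidAlgebra.singleOneRingHom (R := A) (M := N × N))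
      ((MonoidAlgebra.of A (N × N)).comp (MonoidHom.inl N N)) (CoactTrivial.commute_aux _ _) x) *
    (MonoidAlgebra.liftNCRingHom (MonoidAlgebra.singleOneRingHom (R := A) (M := N × N))
      ((MonoidAlgebra.of A (N × N)).comp (MonoidHom.inr N N)) (CoactTrivial.commute_aux _ _) y)).coeff (p, q) =
      x.coeff p * y.coeff q := by
  induction x using MonoidAlgebra.induction_linear with
  | zero => simp
  | add z z' hz hz' => rw [map_add, _root_.add_mul, MonoidAlgebra.coeff_add, Finsupp.add_apply, hz, hz',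
      MonoidAlgebra.coeff_add, Finsupp.add_apply, _root_.add_mul]
  | single n r =>
    induction y using MonoidAlgebra.induction_linear with
    | zero => simp
    | add z z' hz hz' => rw [map_add, _root_.mul_add, MonoidAlgebra.coeff_add, Finsupp.add_apply, hz, hz',
        MonoidAlgebra.coeff_add, Finsupp.add_apply, _root_.mul_add]
    | single n' r' =>
      simp [Finsupp.single_apply, Prod.ext_iff]
      by_cases h1 : n = p <;> by_cases h2 : n' = q <;> simp_all

theorem appTop_SpecMap_apply {R D : CommRingCat.{u}} (f : R ⟶ D) (z : Γ(Spec R, ⊤)) :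
    (Spec.map f).appTop z = toG D (f ((Scheme.ΓSpecIso R).hom z)) := by
  have h : (Spec.map f).appTop = (Scheme.ΓSpecIso R).hom ≫ f ≫ (Scheme.ΓSpecIso D).inv := by
    rw [← Category.assoc, ← Scheme.ΓSpecIso_naturality, Category.assoc, Iso.hom_inv_id, Category.comp_id]
  exact congr($h z)

omit [IsDomain A] in
theorem gmFn_evHom (v : Red.DS S M ⟶ Red.Gm S) {D : CommRingCat.{u}} (φ : A ⟶ D)
    (ch : Multiplicative M →* D) :
    Red.gmFn ((evHom t M φ ch ≫ univPt t M) ≫ v) =
      toG D (Locus.ev φ ch ((Scheme.ΓSpecIso (ring M)).hom (Red.gmFn (univPt t M ≫ v)))) := by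
  rw [Category.assoc, Gm.gmFn_comp]
  exact appTop_SpecMap_apply _ _

omit [IsDomain A] in
theorem gaFn_evHom (v : Red.DS S M ⟶ Red.Ga S) {D : CommRingCat.{u}} (φ : A ⟶ D)
    (ch : Multiplicative M →* D) :
    Red.gaFn ((evHom t M φ ch ≫ univPt t M) ≫ v) =
      toG D (Locus.ev φ ch ((Scheme.ΓSpecIso (ring M)).hom (Red.gaFn (univPt t M ≫ v)))) := by
  rw [Category.assoc, Ga.gaFn_comp]
  exact appTop_SpecMap_apply _ _

theorem toG_injective (D : CommRingCat.{u}) : Function.Injective (toG D) :=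
  (ConcreteCategory.isIso_iff_bijective (Scheme.ΓSpecIso D).inv).mp inferInstance |>.1

/-- Over a domain, a homomorphism to `𝔾ₘ` is a character. -/
theorem exists_char (v : Red.DS S M ⟶ Red.Gm S) [IsMonHom v] :
    ∃ m : M, univPt t M ≫ v = univPt t M ≫ Red.chi S m := by
  classical
  let B := CommRingCat.of (MonoidAlgebra A (Multiplicative M × Multiplicative M))
  let f : MonoidAlgebra A (Multiplicative M) :=
    (Scheme.ΓSpecIso (ring M)).hom (Red.gmFn (univPt t M ≫ v))
  obtain ⟨r₁, r₂, r, hr, e₁, e₂, e⟩ := univ_mul t M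
  have hr₁ : r₁ = evHom t M _ _ := Over.OverMorphism.ext e₁
  have hr₂ : r₂ = evHom t M _ _ := Over.OverMorphism.ext e₂
  have hr₃ : r = evHom t M _ _ := Over.OverMorphism.ext e
  have h1 := congrArg (fun z => Red.gmFn (z ≫ v)) hr
  rw [MonObj.mul_comp _ _ v, Gm.gmFn_mul] at h1
  rw [hr₁, hr₂, hr₃, gmFn_evHom, gmFn_evHom, gmFn_evHom, ← map_mul] at h1
  have h2 : ∀ p q, (if p = q then f.coeff p else 0) = f.coeff p * f.coeff q := by
    intro p q
    have := congrArg (fun z : MonoidAlgebra A (Multiplicative M × Multiplicative M) => z.coeff (p, q))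
      (toG_injective B h1)
    exact (diag_coeff f p q).symm.trans (this.trans (ev_prod f f p q))
  have h0 := congrArg (fun z => Red.gmFn (z ≫ v)) (evHom_one t M)
  rw [MonObj.one_comp v, Gm.gmFn_one, gmFn_evHom, ← map_one (toG A)] at h0
  have h3 : (MonoidAlgebra.liftNCRingHom (RingHom.id A) (1 : Multiplicative M →* A)
      (CoactTrivial.commute_aux _ _)) f = 1 := toG_injective A h0
  have hsum : (f.coeff.sum fun _ r => r) = 1 := by
    rw [← h3]
    clear h1 h2 h3
    induction f using MonoidAlgebra.induction_linear with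
    | zero => simp
    | add z z' hz hz' => rw [map_add, MonoidAlgebra.coeff_add, Finsupp.sum_add_index (by simp) (by simp), hz, hz']
    | single n r => simp
  obtain ⟨p, hp⟩ : ∃ p, f.coeff p ≠ 0 := by
    by_contra h
    push_neg at h
    rw [Finsupp.sum, Finset.sum_eq_zero fun p _ => h p] at hsum
    exact zero_ne_one hsum
  have hp1 : f.coeff p = 1 := by
    have h := h2 p p
    rw [if_pos rfl] at h
    exact (mul_eq_left₀ hp).mp h.symm
  have hq : ∀ q, q ≠ p → f.coeff q = 0 := fun q hq => by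
    simpa [hp1, Ne.symm hq] using (h2 p q).symm
  refine ⟨p.toAdd, Gm.gmFn_injective ?_⟩
  rw [Gm.gmFn_chi, univPt, Gm.dsFn_dsPt]
  apply (ConcreteCategory.isIso_iff_bijective (Scheme.ΓSpecIso (ring M)).hom).mp inferInstance |>.1
  show f = _
  have : f = MonoidAlgebra.single p 1 := by
    ext q
    rw [MonoidAlgebra.coeff_single, Finsupp.single_apply]
    split_ifs with h
    · rw [← h, hp1]
    · exact hq q (Ne.symm h)
  rw [this]
  simp

theorem chi_injective {m m' : M} (h : univPt t M ≫ Red.chi S m = univPt t M ≫ Red.chi S m') :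
    m = m' := by
  have h' := congrArg Red.gmFn h
  rw [Gm.gmFn_chi, Gm.gmFn_chi, univPt, Gm.dsFn_dsPt, Gm.dsFn_dsPt] at h'
  have h'' : (MonoidAlgebra.single (Multiplicative.ofAdd m) (1 : A)) = MonoidAlgebra.single (Multiplicative.ofAdd m') 1 :=
    toG_injective (ring M) h'
  exact Multiplicative.ofAdd.injective (MonoidAlgebra.of_injective (R := A) h'')

/-- A homomorphism to `𝔾ₐ` is trivial. -/
theorem ga_eq_one (v : Red.DS S M ⟶ Red.Ga S) [IsMonHom v] : univPt t M ≫ v = 1 := by
  classical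
  let B := CommRingCat.of (MonoidAlgebra A (Multiplicative M × Multiplicative M))
  let f : MonoidAlgebra A (Multiplicative M) :=
    (Scheme.ΓSpecIso (ring M)).hom (Red.gaFn (univPt t M ≫ v))
  obtain ⟨r₁, r₂, r, hr, e₁, e₂, e⟩ := univ_mul t M
  have hr₁ : r₁ = evHom t M _ _ := Over.OverMorphism.ext e₁
  have hr₂ : r₂ = evHom t M _ _ := Over.OverMorphism.ext e₂
  have hr₃ : r = evHom t M _ _ := Over.OverMorphism.ext e
  have h1 := congrArg (fun z => Red.gaFn (z ≫ v)) hr
  rw [MonObj.mul_comp _ _ v, Ga.gaFn_mul] at h1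
  rw [hr₁, hr₂, hr₃, gaFn_evHom, gaFn_evHom, gaFn_evHom] at h1
  have h1' := (map_add (Scheme.ΓSpecIso B).inv.hom _ _).trans h1.symm
  have h2 : ∀ p, f.coeff p = (if p = 1 then f.coeff p else 0) + (if p = 1 then f.coeff p else 0) := by
    intro p
    have := congrArg (fun z : MonoidAlgebra A (Multiplicative M × Multiplicative M) => z.coeff (p, p))
      (toG_injective B h1')
    refine ((if_pos rfl).symm.trans (diag_coeff f p p).symm).trans (this.symm.trans ?_)
    exact congrArg₂ (· + ·) (ev_inl f p p) (ev_inr f p p)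
  apply Ga.gaFn_injective
  rw [Ga.gaFn_one]
  apply (ConcreteCategory.isIso_iff_bijective (Scheme.ΓSpecIso (ring M)).hom).mp inferInstance |>.1
  rw [map_zero]
  show f = 0
  ext p
  have h := h2 p
  by_cases hp : p = 1
  · simpa [hp] using h
  · simpa [hp] using h

end Field

/-- Near any point a homomorphism between diagonalisable groups comes from the character groups. -/
theorem exists_local_form {M N : Type} [AddCommGroup M] [AddCommGroup N] (hM : SGA3x.IsMultTypeFT (Red.DS S M))
    [hN : AddGroup.FG N] (v : Red.DS S M ⟶ Red.DS S N) [IsMonHom v] (s : S) :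
    ∃ (φ : N →+ M) (U : S.Opens), s ∈ U ∧ IsClosed (U : Set S) ∧
      ∀ (X : Over S) (_ : X ⟶ Over.mk U.ι) (x : X ⟶ Red.DS S M), x ≫ v = x ≫ Red.DSmap S φ := by
  classical
  let t := S.fromSpecResidueField s
  have : IsDomain (S.residueField s) := inferInstance
  choose m hm using fun n : N => exists_char t (v ≫ Red.chi S n)
  have hadd : ∀ a b, m (a + b) = m a + m b := fun a b => by
    refine chi_injective t ((hm (a + b)).symm.trans ?_)
    rw [← Category.assoc, Gm.chi_add, Category.assoc, Category.assoc, hm, hm, Gm.chi_add]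
  let φ : N →+ M := AddMonoidHom.mk' m hadd
  obtain ⟨F, hF⟩ := hN.out
  have hgl : IsSeparated (Red.Gm S).hom := by
    have := Groth.Agent.Lib.Tori.DS.isAffineHom S ℤ
    infer_instance
  have hlfp : LocallyOfFinitePresentation (Red.Gm S).hom :=
    Groth.Agent.Lib.Tori.DS.locallyOfFinitePresentation S ℤ
  have hU : ∀ n : N, ∃ U : S.Opens, s ∈ U ∧ IsClosed (U : Set S) ∧
      ∀ (X : Over S) (_ : X ⟶ Over.mk U.ι) (x : X ⟶ Red.DS S M),
        x ≫ v ≫ Red.chi S n = x ≫ Red.chi S (m n) := by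
    intro n
    let w := (v ≫ Red.chi S n) * (Red.chi S (m n))⁻¹
    have : IsMonHom w := isMonHom_div _ _
    obtain ⟨U, hUc, hUe, hk⟩ := Locus.exists_trivial_locus w hM (Or.inr hlfp)
    refine ⟨U, ?_, hUc, fun X q x => (comp_div_eq_one_iff _ _ x).mp (hk X q x)⟩
    show s ∈ (U : Set S)
    rw [hUe]
    exact kills_of_univ t M w ((comp_div_eq_one_iff _ _ _).mpr (hm n))
  choose U hsU hUc hUeq using hU
  refine ⟨φ, ⟨⋂ n ∈ F, (U n : Set S), isOpen_biInter_finset fun n _ => (U n).2⟩, ?_,
    isClosed_biInter fun n _ => hUc n, fun X q x => ?_⟩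
  · exact Set.mem_iInter₂.mpr fun n _ => hsU n
  apply Gm.dsFn_ext
  intro n
  rw [Gm.dsFn_DSmap, ← Gm.gmFn_chi, ← Gm.gmFn_chi]
  refine congrArg Red.gmFn ?_
  have hn : n ∈ AddSubgroup.closure (F : Set N) := hF ▸ AddSubgroup.mem_top n
  induction hn using AddSubgroup.closure_induction with
  | mem n hn =>
    rw [Category.assoc]
    refine hUeq n X (q ≫ Over.homMk (S.homOfLE ?_) (S.homOfLE_ι _)) x
    exact Set.biInter_subset_of_mem hn
  | zero => rw [map_zero, Gm.chi_zero, Gm.chi_zero]
  | add a b _ _ ha hb => rw [map_add, Gm.chi_add, Gm.chi_add, ha, hb]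
  | neg a _ ha =>
    have h1 := Gm.chi_add (x ≫ v) a (-a)
    have h2 := Gm.chi_add x (φ a) (φ (-a))
    rw [add_neg_cancel, Gm.chi_zero] at h1
    rw [← map_add, add_neg_cancel, map_zero, Gm.chi_zero, ← ha] at h2
    exact group_cancel (G := X ⟶ Red.Gm S) (h1.symm.trans h2)

end Groth.Agent.H87.HomDS
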