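import Groth.Prelude.Def_SGA3x
import Groth.Agent.Lib.RedPts.BC
import Mathlib.AlgebraicGeometry.Morphisms.Flat

/-!
# Equality of morphisms of S-schemes is local for flat surjective covers followed by open covers
-/

set_option autoImplicit false
universe u

open CategoryTheory MonoidalCategory CartesianMonoidalCategory MonObj GrpObj AlgebraicGeometry
open CategoryTheory.Limits
open Groth.Agent.Lib.RedPts

namespace Groth.Agent.H87.LocalEq

variable {S S' : Scheme.{u}}

theorem ext_of_local (f : S' ⟶ S) [Flat f] [Surjective f] {Y X : Over S} (a b : Y ⟶ X)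
    (U : S' → S'.Opens) (hU : ∀ s', s' ∈ U s')
    (h : ∀ s', BC.down ((U s').ι ≫ f) (𝟙 (Red.bc ((U s').ι ≫ f) Y)) ≫ a =
      BC.down ((U s').ι ≫ f) (𝟙 (Red.bc ((U s').ι ≫ f) Y)) ≫ b) : a = b := by
  apply Over.OverMorphism.ext
  have : Epi (pullback.fst Y.hom f) := Flat.epi_of_flat_of_surjective _
  rw [← cancel_epi (pullback.fst Y.hom f)]
  have hcov : TopologicalSpace.IsOpenCover U := TopologicalSpace.IsOpenCover.mk
    (eq_top_iff.mpr fun x _ => TopologicalSpace.Opens.mem_iSup.mpr ⟨x, hU x⟩)
  refine Scheme.Cover.hom_ext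
    (Scheme.Pullback.openCoverOfRight (S'.openCoverOfIsOpenCover U hcov) Y.hom f) _ _ fun s' => ?_
  have key := congr(($(h s')).left)
  simp only [Over.comp_left, BC.down_left, Over.id_left] at key
  erw [Category.id_comp] at key
  rw [← Category.assoc, ← Category.assoc]
  erw [pullback.lift_fst, Category.comp_id]
  exact key

end Groth.Agent.H87.LocalEq
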