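import Groth.Agent.H87.Charts
import Mathlib.AlgebraicGeometry.Morphisms.FlatMono
import Mathlib.RingTheory.Flat.FaithfullyFlat.Algebra
import Mathlib.RingTheory.RingHom.FaithfullyFlat

/-!
# `D(φ)` is mono, iso, faithfully flat
-/

set_option autoImplicit false
universe u

open CategoryTheory MonoidalCategory CartesianMonoidalCategory MonObj GrpObj AlgebraicGeometry
open CategoryTheory.Limits
open Groth.Agent.Lib.RedPts Groth.Agent.Lib.Tori
open Groth.Agent.H87.Locus (toG)

namespace Groth.Agent.H87.Loci

variable {M N : Type} [AddCommGroup M] [AddCommGroup N]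

instance descendsAlong_monomorphisms :
    (MorphismProperty.monomorphisms Scheme.{u}).DescendsAlong (@Surjective ⊓ @Flat ⊓ @QuasiCompact) := by
  have : ((@Surjective ⊓ @Flat : MorphismProperty Scheme.{u})).IsStableUnderBaseChange :=
    MorphismProperty.IsStableUnderBaseChange.inf
  have : ((@Surjective ⊓ @Flat ⊓ @QuasiCompact : MorphismProperty Scheme.{u})).IsStableUnderBaseChange :=
    MorphismProperty.IsStableUnderBaseChange.inf
  rw [← MorphismProperty.diagonal_isomorphisms]
  infer_instance

instance descendsAlong_flat :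
    MorphismProperty.DescendsAlong (@Flat : MorphismProperty Scheme.{u}) (@Surjective ⊓ @Flat ⊓ @QuasiCompact) :=
  HasRingHomProperty.descendsAlong_flat (P := @Flat) (Q := fun f => f.Flat) (by
    refine .mk _ RingHom.Flat.respectsIso fun R S T _ _ _ _ _ h h' => ?_
    rw [RingHom.flat_algebraMap_iff] at h' ⊢
    rw [RingHom.faithfullyFlat_algebraMap_iff] at h
    exact Module.Flat.of_flat_tensorProduct R T S)

theorem mono_DSmap_of_surjective (T : Scheme.{u}) {φ : N →+ M} (h : Function.Surjective φ) :
    Mono (Red.DSmap T φ) := ⟨fun a b hab => Gm.dsFn_ext fun m => by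
  obtain ⟨n, rfl⟩ := h m
  rw [← Gm.dsFn_DSmap, ← Gm.dsFn_DSmap, hab]⟩

theorem surjective_of_mono {A : CommRingCat.{u}} [Nontrivial A] {φ : N →+ M}
    (h : Mono (Red.DSmap (Spec A) φ)) : Function.Surjective φ := by
  classical
  by_contra hne
  obtain ⟨m, hm⟩ : ∃ m, m ∉ φ.range := by
    simp only [Function.Surjective, not_forall, not_exists] at hne
    obtain ⟨m, hm⟩ := hne
    exact ⟨m, fun ⟨n, hn⟩ => hm n hn⟩
  let D : CommRingCat.{u} := CommRingCat.of (MonoidAlgebra A (Multiplicative (M ⧸ φ.range)))
  let X : Over (Spec A) := HomDS.test (𝟙 (Spec A)) (D := D) (CommRingCat.ofHom MonoidAlgebra.singleOneRingHom)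
  let x : X ⟶ Red.DS (Spec A) M := Gm.dsPt (X := X) ((toG D).comp
    ((MonoidAlgebra.of A (Multiplicative (M ⧸ φ.range))).comp (QuotientAddGroup.mk' φ.range).toMultiplicative))
  have he : x ≫ Red.DSmap (Spec A) φ = (1 : X ⟶ Red.DS (Spec A) M) ≫ Red.DSmap (Spec A) φ := by
    apply Gm.dsFn_ext
    intro n
    rw [Gm.dsFn_DSmap, Gm.dsFn_DSmap, Gm.dsFn_one, Gm.dsFn_dsPt]
    refine Eq.trans ?_ (map_one (toG D))
    refine congrArg (toG D) ?_
    show MonoidAlgebra.of A _ (Multiplicative.ofAdd (QuotientAddGroup.mk' φ.range (φ n))) = 1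
    rw [show QuotientAddGroup.mk' φ.range (φ n) = 0 from (QuotientAddGroup.eq_zero_iff _).mpr ⟨n, rfl⟩]
    exact map_one _
  have h1 := congrArg (fun z => Gm.dsFn z m) ((cancel_mono (Red.DSmap (Spec A) φ)).mp he)
  simp only [Gm.dsFn_one, x, Gm.dsFn_dsPt] at h1
  have h2 : MonoidAlgebra.of A _ (Multiplicative.ofAdd (QuotientAddGroup.mk' φ.range m)) =
      MonoidAlgebra.of A _ 1 :=
    (HomDS.toG_injective D (h1.trans (map_one (toG D)).symm)).trans (map_one _).symm
  exact hm ((QuotientAddGroup.eq_zero_iff _).mp (Multiplicative.ofAdd.injective (MonoidAlgebra.of_injective h2)))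

theorem injective_of_epi {A : CommRingCat.{u}} [IsDomain A] {φ : N →+ M}
    (h : Epi (Red.DSmap (Spec A) φ)) : Function.Injective φ := by
  rw [injective_iff_map_eq_zero]
  intro n hn
  have h1 : Red.DSmap (Spec A) φ ≫ Red.chi (Spec A) n = Red.DSmap (Spec A) φ ≫ Red.chi (Spec A) 0 :=
    Gm.gmFn_injective (by rw [Gm.gmFn_chi, Gm.gmFn_chi, DS.dsFn_DSmap_self, DS.dsFn_DSmap_self, hn, map_zero])
  exact HomDS.chi_injective (𝟙 (Spec A)) (congrArg (HomDS.univPt (𝟙 (Spec A)) N ≫ ·) ((cancel_epi _).mp h1))

theorem isIso_DSmap (T : Scheme.{u}) {φ : N →+ M} (h : Function.Bijective φ) : IsIso (Red.DSmap T φ) := by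
  have : IsIso (DS.dsOverIso T (AddEquiv.ofBijective φ h)).hom := inferInstance
  exact this

section Flat

variable {G H : Type} [CommGroup G] [CommGroup H] {R : Type u} [CommRing R]

theorem exists_coset_basis (f : H →* G) (hf : Function.Injective f) :
    letI := (MonoidAlgebra.mapDomainRingHom R f).toAlgebra
    Module.Free (MonoidAlgebra R H) (MonoidAlgebra R G) := by
  classical
  letI := (MonoidAlgebra.mapDomainRingHom R f).toAlgebra
  let σ : G ⧸ f.range → G := Quotient.out
  have hσ : ∀ q, (QuotientGroup.mk (σ q) : G ⧸ f.range) = q := fun q => Quotient.out_eq q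
  let v : G ⧸ f.range → MonoidAlgebra R G := fun q => MonoidAlgebra.single (σ q) 1
  have key : ∀ (c : G ⧸ f.range →₀ MonoidAlgebra R H) (q : G ⧸ f.range) (n : H),
      (Finsupp.linearCombination (MonoidAlgebra R H) v c).coeff (σ q * f n) = (c q).coeff n := by
    intro c q n
    induction c using Finsupp.induction_linear with
    | zero => simp
    | add a b ha hb => simp [ha, hb]
    | single q' r =>
      rw [Finsupp.linearCombination_single, Algebra.smul_def, RingHom.algebraMap_toAlgebra]
      induction r using MonoidAlgebra.induction_linear with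
      | zero => simp
      | add a b ha hb =>
        rw [map_add, _root_.add_mul, MonoidAlgebra.coeff_add, Finsupp.add_apply, ha, hb, Finsupp.single_add,
          Finsupp.add_apply, MonoidAlgebra.coeff_add, Finsupp.add_apply]
      | single n' s =>
        have hiff : f n' * σ q' = σ q * f n ↔ q' = q ∧ n' = n := by
          refine ⟨fun he => ?_, fun ⟨a, b⟩ => by rw [a, b, mul_comm]⟩
          have hq : q' = q := by
            rw [← hσ q', ← hσ q]
            refine QuotientGroup.eq.mpr ⟨n' / n, ?_⟩
            rw [map_div, div_eq_iff_eq_mul, _root_.mul_assoc, eq_inv_mul_iff_mul_eq, mul_comm (σ q')]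
            exact he
          subst hq
          exact ⟨rfl, hf (by rw [mul_comm (f n')] at he; exact mul_left_cancel he)⟩
        simp only [MonoidAlgebra.mapDomainRingHom_apply, MonoidAlgebra.mapDomain_single,
          MonoidAlgebra.single_mul_single, _root_.mul_one, v, MonoidAlgebra.coeff_single, Finsupp.single_apply]
        simp only [hiff]
        by_cases h : q' = q
        · simp [h, Finsupp.single_apply]
        · simp [h]
  refine Module.Free.of_basis (Module.Basis.mk (v := v) ?_ ?_)
  · rw [linearIndependent_iff]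
    intro c hc
    refine Finsupp.ext fun q => MonoidAlgebra.coeff_injective (Finsupp.ext fun n => ?_)
    rw [← key c q n, hc]
    simp
  · intro x _
    induction x using MonoidAlgebra.induction_linear with
    | zero => simp
    | add a b ha hb => exact add_mem (ha trivial) (hb trivial)
    | single g r =>
      obtain ⟨n, hn⟩ : (σ (QuotientGroup.mk g))⁻¹ * g ∈ f.range := QuotientGroup.eq.mp (hσ _)
      have : MonoidAlgebra.single g r = MonoidAlgebra.single n r • v (QuotientGroup.mk g) := by
        rw [Algebra.smul_def, RingHom.algebraMap_toAlgebra]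
        simp [v, hn, mul_comm _ (σ _)]
      rw [this]
      exact Submodule.smul_mem _ _ (Submodule.subset_span ⟨_, rfl⟩)

end Flat

instance stable_ff : (@Flat ⊓ @Surjective : MorphismProperty Scheme.{u}).IsStableUnderBaseChange :=
  MorphismProperty.IsStableUnderBaseChange.inf

theorem ff_DSmap (T : Scheme.{u}) {φ : N →+ M} (h : Function.Injective φ) :
    Flat (Red.DSmap T φ).left ∧ Surjective (Red.DSmap T φ).left := by
  let f : Multiplicative N →* Multiplicative M := φ.toMultiplicative
  let F : MonoidAlgebra (ULift.{u} ℤ) (Multiplicative N) →+* MonoidAlgebra (ULift.{u} ℤ) (Multiplicative M) :=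
    MonoidAlgebra.mapDomainRingHom _ f
  have hff : F.FaithfullyFlat := by
    letI := F.toAlgebra
    have := exists_coset_basis (R := ULift.{u} ℤ) f h
    exact (RingHom.faithfullyFlat_algebraMap_iff.mpr inferInstance)
  have h0 : (@Flat ⊓ @Surjective : MorphismProperty Scheme.{u}) (Red.diagMap (ULift.{u} ℤ) φ).left :=
    (AlgebraicGeometry.flat_and_surjective_SpecMap_iff (CommRingCat.ofHom F)).mpr hff
  exact Charts.fib_of (@Flat ⊓ @Surjective : MorphismProperty Scheme.{u}) _ _ h0

/-- The locus where the fibre is a monomorphism. -/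
theorem hP_mono (M N : Type) [AddCommGroup M] [AddCommGroup N] [AddGroup.FG M] [AddGroup.FG N] (φ : N →+ M)
    (X : Scheme.{u}) (x : X) (h : MorphismProperty.monomorphisms Scheme (Red.DSmap (Spec (X.residueField x)) φ).left)
    (T : Scheme.{u}) : MorphismProperty.monomorphisms Scheme (Red.DSmap T φ).left := by
  have : Mono (Red.DSmap (Spec (X.residueField x)) φ).left := h
  have := mono_DSmap_of_surjective T (surjective_of_mono (Over.mono_of_mono_left (Red.DSmap (Spec (X.residueField x)) φ)))
  exact MorphismProperty.monomorphisms.infer_property _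

theorem hP_iso (M N : Type) [AddCommGroup M] [AddCommGroup N] [AddGroup.FG M] [AddGroup.FG N] (φ : N →+ M)
    (X : Scheme.{u}) (x : X) (h : MorphismProperty.isomorphisms Scheme (Red.DSmap (Spec (X.residueField x)) φ).left)
    (T : Scheme.{u}) : MorphismProperty.isomorphisms Scheme (Red.DSmap T φ).left := by
  have : IsIso (Red.DSmap (Spec (X.residueField x)) φ).left := h
  have := isIso_DSmap T (φ := φ)
    ⟨injective_of_epi (Over.epi_of_epi_left (Red.DSmap (Spec (X.residueField x)) φ)),
      surjective_of_mono (Over.mono_of_mono_left (Red.DSmap (Spec (X.residueField x)) φ))⟩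
  exact (inferInstanceAs (IsIso ((Over.forget T).map (Red.DSmap T φ))))

theorem hP_ff (M N : Type) [AddCommGroup M] [AddCommGroup N] [AddGroup.FG M] [AddGroup.FG N] (φ : N →+ M)
    (X : Scheme.{u}) (x : X)
    (h : (@Flat ⊓ @Surjective : MorphismProperty Scheme.{u}) (Red.DSmap (Spec (X.residueField x)) φ).left)
    (T : Scheme.{u}) : (@Flat ⊓ @Surjective : MorphismProperty Scheme.{u}) (Red.DSmap T φ).left := by
  have := h.1
  have := h.2
  have : Epi (Red.DSmap (Spec (X.residueField x)) φ).left := Flat.epi_of_flat_of_surjective _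
  exact ff_DSmap T (injective_of_epi (Over.epi_of_epi_left (Red.DSmap (Spec (X.residueField x)) φ)))

end Groth.Agent.H87.Loci
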