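import Groth.Agent.H87.Factor
import Groth.Agent.S16611

/-!
# Maximal split subtori
-/

set_option autoImplicit false
universe u

open CategoryTheory MonoidalCategory CartesianMonoidalCategory MonObj GrpObj AlgebraicGeometry
open CategoryTheory.Limits
open Groth.Agent.Lib.RedPts Groth.Agent.Lib.Tori

namespace Groth.Agent.H87.SplitMax

variable {S : Scheme.{u}}

theorem DSmap_id (M : Type) [AddCommGroup M] : Red.DSmap S (AddMonoidHom.id M) = 𝟙 (Red.DS S M) :=
  Gm.dsFn_ext fun m => by rw [DS.dsFn_DSmap_self]; rfl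

/-- A monomorphism between split tori of the same rank is an isomorphism. -/
theorem isIso_of_split {T T' : Over S} [GrpObj T] [GrpObj T'] {r : ℕ}
    (hT : Red.IsSplitTorusWith (Fin r → ℤ) T) (hT' : Red.IsSplitTorusWith (Fin r → ℤ) T') (g : T ⟶ T')
    [IsMonHom g] [Mono g] : IsIso g :=
  S16611.result (Basic.isTorus_of_isSplit hT) (Basic.isTorus_of_isSplit hT') g
    fun _ => ⟨r, Basic.isSplit_bc hT _, Basic.isSplit_bc hT' _⟩

/-- The maximal rank of a split subgroup. -/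
theorem exists_max_rank [Nonempty ↥S] {H : Over S} [GrpObj H] (hH : SGA3x.IsMultTypeFT H) :
    ∃ (r : ℕ) (j : Red.DS S (Fin r → ℤ) ⟶ H), IsMonHom j ∧ Mono j ∧
      ∀ (r' : ℕ) (j' : Red.DS S (Fin r' → ℤ) ⟶ H), IsMonHom j' → Mono j' → r' ≤ r := by
  classical
  obtain ⟨b, hb⟩ := Factor.exists_rank_bound hH (Classical.arbitrary ↥S)
  let p : ℕ → Prop := fun r => ∃ j : Red.DS S (Fin r → ℤ) ⟶ H, IsMonHom j ∧ Mono j
  have h0 : p 0 := by
    have hone : ∀ {X : Over S} (x : X ⟶ Red.DS S (Fin 0 → ℤ)), x = 1 := fun x => Gm.dsFn_ext fun m => by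
      rw [Subsingleton.elim m 0, Gm.dsFn_zero, Gm.dsFn_one]
    exact ⟨1, HomDS.isMonHom_of_points _ fun X a b => by simp [MonObj.comp_one],
      ⟨fun a b _ => (hone a).trans (hone b).symm⟩⟩
  obtain ⟨j, hj, hjm⟩ : p (Nat.findGreatest p b) := Nat.findGreatest_spec (Nat.zero_le b) h0
  exact ⟨_, j, hj, hjm, fun r' j' h h' => Nat.le_findGreatest (hb r' j' h h') ⟨j', h, h'⟩⟩

/-- A monomorphism from a split torus gives one from the standard one. -/
theorem exists_std {H T : Over S} [GrpObj H] [GrpObj T] {r : ℕ} (hT : Red.IsSplitTorusWith (Fin r → ℤ) T)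
    (j : T ⟶ H) [IsMonHom j] [Mono j] :
    ∃ j₀ : Red.DS S (Fin r → ℤ) ⟶ H, IsMonHom j₀ ∧ Mono j₀ := by
  obtain ⟨e⟩ := hT
  have : IsMonHom (BaseChange.overIso e).inv := inferInstanceAs (IsMonHom (BaseChange.overIso e.symm).hom)
  exact ⟨(BaseChange.overIso e).inv ≫ j, inferInstance, inferInstance⟩

theorem isMonHom_of_comp {T T' H : Over S} [GrpObj T] [GrpObj T'] [GrpObj H] (g : T ⟶ T') (j : T ⟶ H) [IsMonHom j]
    (j' : T' ⟶ H) [IsMonHom j'] [Mono j'] (h : g ≫ j' = j) : IsMonHom g :=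
  HomDS.isMonHom_of_points g fun X a b => by
    rw [← cancel_mono j', MonObj.mul_comp _ _ j', Category.assoc, Category.assoc, Category.assoc, h,
      MonObj.mul_comp _ _ j]

end Groth.Agent.H87.SplitMax
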