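import Groth.Prelude.Def_SGA3x
import Groth.Prelude.Def_TwC
import Groth.Agent.Lib.Tori.Basic
import Groth.Agent.Lib.DescAlg.Descends
import Mathlib.AlgebraicGeometry.Morphisms.LocalFlatDescent
import Mathlib.AlgebraicGeometry.Morphisms.Flat

/-!
# Properties of S-groups of multiplicative type obtained by descent
-/

set_option autoImplicit false
universe u

open CategoryTheory MonoidalCategory CartesianMonoidalCategory MonObj GrpObj AlgebraicGeometry
open CategoryTheory.Limits
open Groth.Agent.Lib.Tori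

namespace Groth.Agent.H87.MT

variable {S S' : Scheme.{u}}

/-- The quasi-compact restriction of an fpqc cover over an affine open. -/
theorem exists_qc_res (f : S' ⟶ S) (hc : Basic.IsQCCover f) {V : S.Opens} (hV : IsAffineOpen V) :
    ∃ (W : S'.Opens) (h : W ≤ f ⁻¹ᵁ V), QuasiCompact (f.resLE V W h) ∧ Surjective (f.resLE V W h) := by
  obtain ⟨W, hW, hWV⟩ := hc V hV
  have hle : W ≤ f ⁻¹ᵁ V := fun w hw => show f.base w ∈ (V : Set S) from hWV ▸ ⟨w, hw, rfl⟩
  refine ⟨W, hle, ?_, ⟨fun v => ?_⟩⟩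
  · have : CompactSpace (W : Scheme.{u}) := isCompact_iff_compactSpace.1 hW
    have : IsAffine (V : Scheme.{u}) := hV
    exact (quasiCompact_iff_compactSpace _).2 inferInstance
  · obtain ⟨w, hw, hwv⟩ := (Set.ext_iff.1 hWV v.1).2 v.2
    refine ⟨⟨w, hw⟩, Subtype.ext ?_⟩
    simpa using hwv

/-- Openness descends along an fpqc cover. -/
theorem isOpen_of_preimage (f : S' ⟶ S) [Flat f] (hc : Basic.IsQCCover f) {Z : Set S}
    (hZ : IsOpen (f.base ⁻¹' Z)) : IsOpen Z := by
  rw [(iSup_affineOpens_eq_top S |> TopologicalSpace.IsOpenCover.mk).isOpen_iff_coe_preimage]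
  intro V
  obtain ⟨W, h, hqc, hs⟩ := exists_qc_res f hc V.2
  have hq : Topology.IsQuotientMap (f.resLE V.1 W h) := Flat.isQuotientMap_of_surjective _
  refine hq.isOpen_preimage.mp ?_
  have : (f.resLE V.1 W h) ⁻¹' (Subtype.val ⁻¹' Z) = Subtype.val ⁻¹' (f.base ⁻¹' Z) := by
    ext x
    show ((f.resLE V.1 W h) x).1 ∈ Z ↔ f.base x.1 ∈ Z
    exact iff_of_eq (congrArg (· ∈ Z) (Scheme.Hom.coe_resLE_apply f h x))
  erw [this]
  exact hZ.preimage continuous_subtype_val

theorem isClosed_of_preimage (f : S' ⟶ S) [Flat f] (hc : Basic.IsQCCover f) {Z : Set S}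
    (hZ : IsClosed (f.base ⁻¹' Z)) : IsClosed Z :=
  ⟨isOpen_of_preimage f hc (by rw [Set.preimage_compl]; exact hZ.isOpen_compl)⟩

/-- A property local on the target which satisfies fpqc descent may be checked locally. -/
theorem prop_of_local (P : MorphismProperty Scheme.{u}) [IsZariskiLocalAtTarget P]
    [P.IsStableUnderBaseChange] [P.DescendsAlong (@Surjective ⊓ @Flat ⊓ @QuasiCompact)]
    (H : Over S) [GrpObj H] (f : S' ⟶ S) [Flat f] (hc : Basic.IsQCCover f)
    (hloc : ∀ s' : S', ∃ U : S'.Opens, s' ∈ U ∧ P (Red.bc (U.ι ≫ f) H).hom) : P H.hom := by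
  choose U hU hP using hloc
  have hUS : TopologicalSpace.IsOpenCover U :=
    TopologicalSpace.IsOpenCover.mk (eq_top_iff.mpr fun x _ => TopologicalSpace.Opens.mem_iSup.mpr ⟨x, hU x⟩)
  have h' : P (Limits.pullback.snd H.hom f) := by
    refine IsZariskiLocalAtTarget.of_openCover (𝒰 := S'.openCoverOfIsOpenCover U hUS) fun x => ?_
    change P (Limits.pullback.snd (Limits.pullback.snd H.hom f) (U x).ι)
    rw [← Limits.pullbackLeftPullbackSndIso_hom_snd]
    exact (P.cancel_left_of_respectsIso _ _).2 (hP x)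
  refine IsZariskiLocalAtTarget.of_openCover
    (𝒰 := S.openCoverOfIsOpenCover (fun V : S.affineOpens => V.1) (iSup_affineOpens_eq_top S)) ?_
  intro (V : S.affineOpens)
  obtain ⟨W, hle, hqc, hqs⟩ := exists_qc_res f hc V.2
  change P (Limits.pullback.snd H.hom V.1.ι)
  refine MorphismProperty.of_pullback_snd_of_descendsAlong (P := P)
    (Q := @Surjective ⊓ @Flat ⊓ @QuasiCompact) (g := f.resLE V.1 W hle) ⟨⟨hqs, inferInstance⟩, hqc⟩ ?_
  rw [← Limits.pullbackLeftPullbackSndIso_hom_snd]
  refine (P.cancel_left_of_respectsIso _ _).2 ?_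
  have h3 : P (Limits.pullback.snd (Limits.pullback.snd H.hom f) W.ι) :=
    MorphismProperty.of_isPullback (IsPullback.of_hasPullback _ _) h'
  have key : ∀ g : (W : Scheme.{u}) ⟶ S, g = W.ι ≫ f → P (Limits.pullback.snd H.hom g) := by
    rintro _ rfl
    rw [← Limits.pullbackLeftPullbackSndIso_inv_snd_snd H.hom f W.ι]
    exact (P.cancel_left_of_respectsIso _ _).2 h3
  exact key _ (Scheme.Hom.resLE_comp_ι _ _)

/-- A property of every D(M) holds for every group locally isomorphic to some D(M). -/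
theorem prop_of_locally_DS (P : MorphismProperty Scheme.{u}) [IsZariskiLocalAtTarget P]
    [P.IsStableUnderBaseChange] [P.DescendsAlong (@Surjective ⊓ @Flat ⊓ @QuasiCompact)]
    (H : Over S) [GrpObj H] (Q : ∀ (M : Type), AddCommGroup M → Prop) (f : S' ⟶ S) [Flat f] (hc : Basic.IsQCCover f)
    (hloc : ∀ s' : S', ∃ U : S'.Opens, s' ∈ U ∧ ∃ (M : Type) (i : AddCommGroup M), Q M i ∧
      Nonempty (Grp.mk (Red.bc (U.ι ≫ f) H) ≅ Grp.mk (Red.DS (U : Scheme.{u}) M)))
    (hP : ∀ (X : Scheme.{u}) (M : Type) (i : AddCommGroup M), Q M i → P (Red.DS X M).hom) : P H.hom := by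
  refine prop_of_local P H f hc fun s' => ?_
  obtain ⟨U, hU, M, i, hQ, ⟨e⟩⟩ := hloc s'
  refine ⟨U, hU, ?_⟩
  have : IsIso (BaseChange.overIso e).hom.left :=
    inferInstanceAs (IsIso ((Over.forget _).map (BaseChange.overIso e).hom))
  rw [← Over.w (BaseChange.overIso e).hom]
  exact (P.cancel_left_of_respectsIso _ _).2 (hP _ _ _ hQ)

variable {H : Over S} [GrpObj H]

set_option backward.isDefEq.respectTransparency false in
theorem isAffineHom (h : SGA3x.IsMultTypeFT H) : IsAffineHom H.hom := by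
  obtain ⟨S', f, hf, hs, hc, hloc⟩ := h
  have := AffineDescent.descendsAlong_isAffineHom.{u}
  exact prop_of_locally_DS @IsAffineHom H (fun M i => @AddGroup.FG M i.toAddGroup) f hc hloc
    fun X M _ _ => DS.isAffineHom X M

set_option backward.isDefEq.respectTransparency false in
theorem locallyOfFinitePresentation (h : SGA3x.IsMultTypeFT H) : LocallyOfFinitePresentation H.hom := by
  obtain ⟨S', f, hf, hs, hc, hloc⟩ := h
  exact prop_of_locally_DS @LocallyOfFinitePresentation H (fun M i => @AddGroup.FG M i.toAddGroup) f hc hloc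
    fun X M i hM => @DS.locallyOfFinitePresentation X M i hM

set_option backward.isDefEq.respectTransparency false in
theorem flat (h : SGA3x.IsMultTypeFT H) : Flat H.hom := by
  obtain ⟨S', f, hf, hs, hc, hloc⟩ := h
  exact prop_of_locally_DS @Flat H (fun M i => @AddGroup.FG M i.toAddGroup) f hc hloc
    fun X M i _ => @DS.flat X M i

end Groth.Agent.H87.MT
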