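import Groth.Agent.H87.Rigid
import Groth.Agent.H87.MT
import Groth.Agent.Lib.Lim.OpenImm
import Groth.Agent.Lib.Tori.BaseChange
import Groth.Agent.Lib.Tori.DS
import Mathlib.AlgebraicGeometry.Noetherian
import Mathlib.AlgebraicGeometry.Morphisms.Separated
import Mathlib.RingTheory.Ideal.IdempotentFG
import Mathlib.RingTheory.FinitePresentation

/-!
# The locus where a homomorphism from a group of multiplicative type is trivial is open and closed
-/

set_option autoImplicit false
universe u

open CategoryTheory MonoidalCategory CartesianMonoidalCategory MonObj GrpObj AlgebraicGeometry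
open CategoryTheory.Limits
open Groth.Agent.Lib.RedPts Groth.Agent.Lib.Tori

namespace Groth.Agent.H87.Locus

variable {S : Scheme.{u}} {H G : Over S} [GrpObj H] [GrpObj G] (u : H ⟶ G)

/-- `u` is trivial after the base change `t : T ⟶ S`. -/
def Kills {T : Scheme.{u}} (t : T ⟶ S) : Prop :=
  ∀ (Y : Over S) (_ : Y ⟶ Over.mk t) (γ : Y ⟶ H), γ ≫ u = 1

theorem kills_iff_map_eq_one {T : Scheme.{u}} (t : T ⟶ S) :
    Kills u t ↔ (Over.pullback t).map u = 1 := by
  constructor
  · intro h
    apply BC.down_injective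
    rw [← Category.id_comp ((Over.pullback t).map u)]
    erw [BC.down_map]
    rw [BC.down_one]
    exact h _ (Over.homMk (Red.bc t H).hom) _
  · intro h Y p γ
    let φ : (Over.map t).obj (Over.mk p.left) ≅ Y :=
      Over.isoMk (Iso.refl _) ((Category.id_comp _).trans (Over.w p).symm)
    have h1 := congrArg (fun k => BC.down t (BC.up t (φ.hom ≫ γ) ≫ k)) h
    simp only [BC.down_map, BC.down_up, MonObj.comp_one, BC.down_one] at h1
    rw [← cancel_epi φ.hom, MonObj.comp_one, ← Category.assoc]
    exact h1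

theorem kills_comp {T T' : Scheme.{u}} (h : T' ⟶ T) {t : T ⟶ S} (ht : Kills u t) : Kills u (h ≫ t) :=
  fun Y p γ => ht Y (p ≫ Over.homMk h) γ

theorem kills_congr {T : Scheme.{u}} {t t' : T ⟶ S} (e : t = t') (ht : Kills u t) : Kills u t' := e ▸ ht

theorem kills_of_comp {T T' : Scheme.{u}} (h : T' ⟶ T) [Flat h] [Surjective h] {t : T ⟶ S}
    (ht : Kills u (h ≫ t)) : Kills u t := by
  intro Y p γ
  let π : Over.mk (pullback.fst p.left h ≫ Y.hom) ⟶ Y := Over.homMk (pullback.fst p.left h)
  let q : Over.mk (pullback.fst p.left h ≫ Y.hom) ⟶ Over.mk (h ≫ t) :=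
    Over.homMk (pullback.snd p.left h) (by
      show pullback.snd p.left h ≫ h ≫ t = _
      rw [← Category.assoc, ← pullback.condition, Category.assoc]
      exact congrArg _ (Over.w p))
  apply Over.OverMorphism.ext
  have : Epi (pullback.fst p.left h) := Flat.epi_of_flat_of_surjective _
  rw [← cancel_epi (pullback.fst p.left h)]
  have := congr(($(ht _ q (π ≫ γ))).left)
  rw [← MonObj.comp_one π, Category.assoc] at this
  exact this

/-- Morphisms agreeing on every affine open are equal. -/
theorem ext_affine {X Y : Scheme.{u}} {a b : X ⟶ Y}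
    (h : ∀ (O : X.Opens) (hO : IsAffineOpen O), hO.fromSpec ≫ a = hO.fromSpec ≫ b) : a = b := by
  refine Scheme.Cover.hom_ext (X.openCoverOfIsOpenCover (fun O : X.affineOpens => O.1)
    (TopologicalSpace.IsOpenCover.mk (iSup_affineOpens_eq_top X))) _ _ fun O => ?_
  change O.1.ι ≫ a = O.1.ι ≫ b
  rw [← cancel_epi O.2.isoSpec.inv]
  exact (Category.assoc _ _ _).symm.trans ((h O.1 O.2).trans (Category.assoc _ _ _))

section Chart

variable {A : CommRingCat.{u}} {g : Spec A ⟶ S} {M : Type} [AddCommGroup M]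
  (e : Grp.mk (Red.bc g H) ≅ Grp.mk (Red.DS (Spec A) M))

/-- The character of `Spec D` given by units of `D`. -/
noncomputable abbrev toG (D : CommRingCat.{u}) : D →* Γ(Spec D, ⊤) :=
  ((Scheme.ΓSpecIso D).inv.hom : D →+* _)

/-- The evaluation of a character. -/
noncomputable abbrev ev {D : CommRingCat.{u}} (φ : A ⟶ D) (ch : Multiplicative M →* D) :
    CommRingCat.of (MonoidAlgebra A (Multiplicative M)) ⟶ D :=
  CommRingCat.ofHom (MonoidAlgebra.liftNCRingHom φ.hom ch fun _ _ => Commute.all _ _)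

theorem inc_ev {D : CommRingCat.{u}} (φ : A ⟶ D) (ch : Multiplicative M →* D) :
    CommRingCat.ofHom MonoidAlgebra.singleOneRingHom ≫ ev φ ch = φ := by
  ext b
  simp

theorem ev_single {D : CommRingCat.{u}} (φ : A ⟶ D) (ch : Multiplicative M →* D)
    (m : Multiplicative M) : (ev φ ch).hom (MonoidAlgebra.single m 1) = ch m :=
  (MonoidAlgebra.liftNCRingHom_single φ.hom ch (fun _ _ => Commute.all _ _) m 1).trans (by rw [map_one, _root_.one_mul])

include e in
theorem exists_ideal [IsClosedImmersion (pullback.fst u.left η[G].left)] [LocallyOfFinitePresentation (pullback.fst u.left η[G].left)] :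
    ∃ I : Ideal (MonoidAlgebra A (Multiplicative M)), I.FG ∧
      ∀ (D : CommRingCat.{u}) (φ : A ⟶ D) (ch : Multiplicative M →* D),
        (Rigid.pt e (T := Over.mk (Spec.map φ)) ((toG D).comp ch) ≫ u = 1 ↔
          I ≤ RingHom.ker (ev φ ch).hom) := by
  let R : CommRingCat.{u} := CommRingCat.of (MonoidAlgebra A (Multiplicative M))
  let T₁ : Over (Spec A) := Over.mk (Spec.map (CommRingCat.ofHom MonoidAlgebra.singleOneRingHom : A ⟶ R))
  let γ₁ : (Over.map g).obj T₁ ⟶ H :=
    Rigid.pt e ((toG R).comp (MonoidAlgebra.of A (Multiplicative M)))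
  let γl : Spec R ⟶ H.left := γ₁.left
  let K := pullback.fst u.left η[G].left
  let P := pullback.fst γl K
  have : IsClosedImmersion P := inferInstance
  have hlfp : LocallyOfFinitePresentation P := inferInstance
  obtain ⟨I, i, hi⟩ := IsClosedImmersion.Spec_iff.mp ‹IsClosedImmersion P›
  refine ⟨I, ?_, fun D φ ch => ?_⟩
  · have : LocallyOfFinitePresentation (i.inv ≫ P) := inferInstance
    rw [hi, Iso.inv_hom_id_assoc, HasRingHomProperty.Spec_iff (P := @LocallyOfFinitePresentation)] at this
    replace hlfp := this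
    have h : Algebra.FinitePresentation R (R ⧸ I) := RingHom.finitePresentation_algebraMap.mp hlfp
    simpa using Algebra.FinitePresentation.ker_fG_of_surjective (Algebra.ofId R (R ⧸ I))
      Ideal.Quotient.mk_surjective
  · let h : Over.mk (Spec.map φ) ⟶ T₁ := Over.homMk (Spec.map (ev φ ch)) (by
      show Spec.map (ev φ ch) ≫ Spec.map _ = Spec.map φ
      rw [← Spec.map_comp, inc_ev])
    have hχ : (RingHom.toMonoidHom h.left.appTop.hom).comp
        ((toG R).comp (MonoidAlgebra.of A (Multiplicative M))) =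
        ((toG D).comp ch : Multiplicative M →* Γ((Over.mk (Spec.map φ)).left, ⊤)) := by
      ext m
      show (Spec.map (ev φ ch)).appTop ((Scheme.ΓSpecIso _).inv (MonoidAlgebra.single m 1)) = _
      rw [← CommRingCat.comp_apply, ← Scheme.ΓSpecIso_inv_naturality, CommRingCat.comp_apply]
      exact congrArg (fun z => (Scheme.ΓSpecIso D).inv z) (ev_single φ ch m)
    have hpt : (Over.map g).map h ≫ γ₁ = Rigid.pt e ((toG D).comp ch) :=
      (Rigid.map_pt e h _).trans (congrArg (Rigid.pt e) hχ)
    rw [← hpt]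
    have hone : (1 : (Over.map g).obj (Over.mk (Spec.map φ)) ⟶ G).left =
        (Spec.map φ ≫ g) ≫ η[G].left := by
      rw [Hom.one_def, Over.comp_left]
      congr 1
    constructor
    · intro he
      have he' : (Spec.map (ev φ ch) ≫ γl) ≫ u.left = (Spec.map φ ≫ g) ≫ η[G].left :=
        (congr(($he).left)).trans hone
      let q : Spec D ⟶ pullback γl K :=
        pullback.lift (Spec.map (ev φ ch)) (pullback.lift _ _ he') (pullback.lift_fst _ _ _).symm
      obtain ⟨ψ, hψ⟩ := Spec.map_surjective (q ≫ i.hom)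
      have hev : CommRingCat.ofHom (Ideal.Quotient.mk I) ≫ ψ = ev φ ch := by
        apply Spec.map_injective
        rw [Spec.map_comp, hψ, Category.assoc, ← hi]
        exact pullback.lift_fst _ _ _
      intro z hz
      rw [RingHom.mem_ker, ← hev]
      show ψ.hom (Ideal.Quotient.mk I z) = 0
      rw [Ideal.Quotient.eq_zero_iff_mem.mpr hz, map_zero]
    · intro hI
      let ψ : R ⧸ I →+* D := Ideal.Quotient.lift I (ev φ ch).hom hI
      let q : Spec D ⟶ pullback γl K := Spec.map (CommRingCat.ofHom ψ) ≫ i.inv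
      have hq : q ≫ P = Spec.map (ev φ ch) := by
        rw [Category.assoc, hi, Iso.inv_hom_id_assoc, ← Spec.map_comp]
        congr 1
      apply Over.OverMorphism.ext
      rw [hone]
      have h1 : Spec.map (ev φ ch) ≫ γl = (q ≫ pullback.snd γl K) ≫ K := by
        rw [← hq, Category.assoc]
        show q ≫ pullback.fst γl K ≫ γl = _
        rw [pullback.condition]
        simp only [q, Category.assoc]
      have h2 : (Spec.map (ev φ ch) ≫ γl) ≫ u.left =
          ((q ≫ pullback.snd γl K) ≫ pullback.snd u.left η[G].left) ≫ η[G].left := by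
        rw [h1]
        simp only [Category.assoc, K, pullback.condition]
      refine Eq.trans h2 (congrArg (· ≫ η[G].left) ?_)
      have h3 := congrArg (· ≫ G.hom) h2
      have hu : u.left ≫ G.hom = H.hom := Over.w u
      have hη : η[G].left ≫ G.hom = 𝟙 S := Over.w η[G]
      have hγ : (Spec.map (ev φ ch) ≫ γl) ≫ H.hom = Spec.map φ ≫ g :=
        Over.w ((Over.map g).map h ≫ γ₁)
      simp only [Category.assoc, hu, hη] at h3
      rw [← hγ]
      simp only [Category.assoc]
      erw [Category.comp_id] at h3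
      exact h3.symm

include e in
theorem exists_coeff_ideal [IsSeparated G.hom] [LocallyOfFinitePresentation (pullback.fst u.left η[G].left)] :
    ∃ J : Ideal A, J.FG ∧
      ∀ (D : CommRingCat.{u}) (φ : A ⟶ D), (Kills u (Spec.map φ ≫ g) ↔ J ≤ RingHom.ker φ.hom) := by
  classical
  have : IsClosedImmersion η[G].left := Groth.Agent.Lib.GrpSch.isClosedImmersion_η G
  obtain ⟨I, hfg, hI⟩ := exists_ideal u e
  obtain ⟨F, hF⟩ := hfg
  let C : Set A := ⋃ x ∈ F, Set.range fun m => x.coeff m
  refine ⟨Ideal.span C, ?_, fun D φ => ?_⟩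
  · let C' : Finset A := F.biUnion fun x => x.coeff.support.image x.coeff
    refine ⟨C', le_antisymm (Ideal.span_mono ?_) (Ideal.span_le.mpr ?_)⟩
    · intro c hc
      simp only [C', Finset.coe_biUnion, Finset.coe_image, Set.mem_iUnion] at hc
      obtain ⟨x, hx, m, -, rfl⟩ := hc
      exact Set.mem_biUnion hx ⟨m, rfl⟩
    · intro c hc
      simp only [C, Set.mem_iUnion] at hc
      obtain ⟨x, hx, m, rfl⟩ := hc
      by_cases h0 : x.coeff m = 0
      · simp only [h0]; exact Ideal.zero_mem _
      · refine Ideal.subset_span ?_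
        simp only [C', Finset.coe_biUnion, Finset.coe_image, Set.mem_iUnion]
        exact ⟨x, hx, m, Finsupp.mem_support_iff.mpr h0, rfl⟩
  have hmap : ∀ z : MonoidAlgebra A (Multiplicative M), (ev (φ ≫ CommRingCat.ofHom MonoidAlgebra.singleOneRingHom)
      (show Multiplicative M →* CommRingCat.of (MonoidAlgebra D (Multiplicative M)) from
        MonoidAlgebra.of D (Multiplicative M))).hom z = MonoidAlgebra.mapRingHom _ φ.hom z := by
    intro z
    induction z using MonoidAlgebra.induction_linear with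
    | zero => rw [map_zero, map_zero]
    | add z z' hz hz' => rw [map_add, map_add, hz, hz']
    | single n r =>
      refine (MonoidAlgebra.liftNCRingHom_single _ _ (fun _ _ => Commute.all _ _) n r).trans ?_
      show (MonoidAlgebra.single (1 : Multiplicative M) (φ.hom r) * MonoidAlgebra.single n 1 :
        MonoidAlgebra D (Multiplicative M)) = _
      simp
  constructor
  · intro hk
    let D₁ : CommRingCat.{u} := CommRingCat.of (MonoidAlgebra D (Multiplicative M))
    let inc : D ⟶ D₁ := CommRingCat.ofHom MonoidAlgebra.singleOneRingHom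
    let p : (Over.map g).obj (Over.mk (Spec.map (φ ≫ inc))) ⟶ Over.mk (Spec.map φ ≫ g) :=
      Over.homMk (Spec.map inc) (by
        show Spec.map inc ≫ Spec.map φ ≫ g = Spec.map (φ ≫ inc) ≫ g
        rw [Spec.map_comp, Category.assoc])
    have h := (hI D₁ (φ ≫ inc) (MonoidAlgebra.of D (Multiplicative M))).mp (hk _ p _)
    rw [Ideal.span_le]
    intro c hc
    simp only [C, Set.mem_iUnion] at hc
    obtain ⟨x, hx, m, rfl⟩ := hc
    have hx' := h (show x ∈ I from hF ▸ Ideal.subset_span hx)
    rw [RingHom.mem_ker, hmap] at hx'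
    have := congrArg (fun z : MonoidAlgebra D (Multiplicative M) => z.coeff m) hx'
    simpa [RingHom.mem_ker] using this
  · intro hJ Y p γ
    apply Over.OverMorphism.ext
    refine ext_affine fun O hO => ?_
    let D' : CommRingCat.{u} := Γ(Y.left, O)
    obtain ⟨ψ, hψ⟩ := Spec.map_surjective (hO.fromSpec ≫ p.left)
    have hY : hO.fromSpec ≫ Y.hom = Spec.map (φ ≫ ψ) ≫ g := by
      rw [Spec.map_comp, hψ, ← Over.w p]
      simp
    let k : (Over.map g).obj (Over.mk (Spec.map (φ ≫ ψ))) ⟶ Y := Over.homMk hO.fromSpec hY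
    obtain ⟨χ, hχ⟩ := Rigid.pt_surjective e (k ≫ γ)
    have hχ' : χ = ((toG D').comp (((Scheme.ΓSpecIso D').hom.hom : Γ(Spec D', ⊤) →* D').comp χ) :
        Multiplicative M →* Γ((Over.mk (Spec.map (φ ≫ ψ))).left, ⊤)) := by
      ext m
      simp
    rw [hχ'] at hχ
    have h : (k ≫ γ) ≫ u = 1 := by
      rw [← hχ, hI D' (φ ≫ ψ) _, ← hF, Ideal.span_le]
      intro x hx
      rw [SetLike.mem_coe, RingHom.mem_ker, ← MonoidAlgebra.sum_coeff_single x, map_finsuppSum]
      refine Finset.sum_eq_zero fun m _ => ?_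
      refine (MonoidAlgebra.liftNCRingHom_single _ _ (fun _ _ => Commute.all _ _) m _).trans ?_
      have : φ.hom (x.coeff m) = 0 := hJ (Ideal.subset_span (Set.mem_biUnion hx ⟨m, rfl⟩))
      show ψ.hom (φ.hom (x.coeff m)) * _ = 0
      rw [this, map_zero, zero_mul]
    rw [← MonObj.comp_one k, Category.assoc] at h
    exact congr(($h).left)

end Chart

/-- The translation action attached to a homomorphism. -/
noncomputable def transAction [IsMonHom u] : AlgGrp.Action H G where
  act := (fst H G ≫ u) * snd H G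
  one_act := by
    rw [comp_mul, whiskerRight_fst_assoc, whiskerRight_snd, IsMonHom.one_hom u, leftUnitor_hom]
    have h1 : fst (𝟙_ (Over S)) G ≫ η[G] = 1 := by
      rw [Hom.one_def, toUnit_unique (fst (𝟙_ (Over S)) G) (toUnit _)]
    rw [h1, _root_.one_mul]
  mul_act := by
    simp only [comp_mul, whiskerLeft_fst_assoc, whiskerLeft_snd, associator_hom_fst_assoc,
      associator_hom_snd_fst_assoc, associator_hom_snd_snd, whiskerRight_fst_assoc, whiskerRight_snd]
    have hμ : μ[H] ≫ u = (fst H H ≫ u) * (snd H H ≫ u) := by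
      rw [IsMonHom.mul_hom u, Hom.mul_def]
      ext <;> simp
    rw [hμ, comp_mul]
    group

theorem transAction_act [IsMonHom u] {Y : Over S} (h : Y ⟶ H) (x : Y ⟶ G) :
    lift h x ≫ (transAction u).act = (h ≫ u) * x := by
  simp [transAction, comp_mul]

section Chart

variable [IsMonHom u] {A : CommRingCat.{u}} {g : Spec A ⟶ S} {M : Type} [AddCommGroup M]
  (e : Grp.mk (Red.bc g H) ≅ Grp.mk (Red.DS (Spec A) M))

include e in
/-- On a chart the trivial locus is cut out by an idempotent. -/
theorem exists_idempotent [IsSeparated G.hom] [LocallyOfFinitePresentation (pullback.fst u.left η[G].left)] :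
    ∃ ε : A, IsIdempotentElem ε ∧
      ∀ (D : CommRingCat.{u}) (φ : A ⟶ D), (Kills u (Spec.map φ ≫ g) ↔ φ.hom ε = 0) := by
  obtain ⟨J, hfg, hJ⟩ := exists_coeff_ideal u e
  let A₂ : CommRingCat.{u} := CommRingCat.of (A ⧸ J ^ 2)
  let φ₂ : A ⟶ A₂ := CommRingCat.ofHom (Ideal.Quotient.mk (J ^ 2))
  let S₂ := Spec A₂
  let q : S₂ ⟶ S := Spec.map φ₂ ≫ g
  let J₂ : Ideal A₂ := J.map φ₂.hom
  let A₁ : CommRingCat.{u} := CommRingCat.of (A₂ ⧸ J₂)
  let i₀ : Spec A₁ ⟶ S₂ := Spec.map (CommRingCat.ofHom (Ideal.Quotient.mk J₂))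
  have : IsClosedImmersion i₀ := IsClosedImmersion.spec_of_surjective _ Ideal.Quotient.mk_surjective
  let u₂ : Red.bc q H ⟶ Red.bc q G := (Over.pullback q).map u
  have : IsMonHom u₂ := inferInstance
  let e₂ : Grp.mk (Red.bc (𝟙 S₂) (Red.bc q H)) ≅ Grp.mk (Red.DS S₂ M) :=
    BaseChange.bcId _ ≪≫ BaseChange.bcComp (Spec.map φ₂) g H ≪≫ BaseChange.bcMapIso _ e ≪≫ DS.dsBC M _
  have h0 : ∀ (Y : Over S₂) (p : Y ⟶ Over.mk i₀) (γ : Y ⟶ Red.bc q H) (x : Y ⟶ Red.bc q G),
      lift γ x ≫ (transAction u₂).act = x := by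
    intro Y p γ x
    rw [transAction_act]
    suffices γ ≫ u₂ = 1 by rw [this, _root_.one_mul]
    apply BC.down_injective
    rw [BC.down_map, BC.down_one]
    have hk : Kills u (Spec.map (φ₂ ≫ CommRingCat.ofHom (Ideal.Quotient.mk J₂)) ≫ g) := by
      rw [hJ]
      intro z hz
      exact Ideal.Quotient.eq_zero_iff_mem.mpr (Ideal.mem_map_of_mem _ hz)
    refine hk _ (Over.homMk p.left ?_) _
    show p.left ≫ _ = Y.hom ≫ q
    rw [Spec.map_comp, ← Over.w p]
    simp [q, i₀]
  have hnil : ∀ x : S₂, ∃ U : S₂.affineOpens, x ∈ (U : S₂.Opens) ∧ IsNilpotent (i₀.ker.ideal U) := by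
    intro x
    refine ⟨⟨⊤, isAffineOpen_top _⟩, trivial, 2, ?_⟩
    rw [Scheme.Hom.ker_apply, Ideal.zero_eq_bot, eq_bot_iff, pow_two, Ideal.mul_le]
    have key : ∀ z, z ∈ RingHom.ker (i₀.app ⊤).hom → (Scheme.ΓSpecIso A₂).hom z ∈ J₂ := by
      intro z hz
      rw [← Ideal.Quotient.eq_zero_iff_mem]
      have := congr($(Scheme.ΓSpecIso_naturality (CommRingCat.ofHom (Ideal.Quotient.mk J₂))) z)
      simp only [CommRingCat.comp_apply] at this
      refine this.symm.trans ?_
      show (Scheme.ΓSpecIso (CommRingCat.of (A₂ ⧸ J₂))).hom ((Spec.map (CommRingCat.ofHom (Ideal.Quotient.mk J₂))).appTop z) = 0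
      rw [show (Spec.map (CommRingCat.ofHom (Ideal.Quotient.mk J₂))).appTop z = 0 from hz, map_zero]
    intro a ha b hb
    rw [Ideal.mem_bot]
    apply (ConcreteCategory.isIso_iff_bijective (Scheme.ΓSpecIso A₂).hom).mp inferInstance |>.1
    rw [map_mul, map_zero]
    have h2 := Ideal.mul_mem_mul (key a ha) (key b hb)
    rw [← Ideal.map_mul, ← pow_two] at h2
    have h3 : (J ^ 2).map φ₂.hom = ⊥ := by
      show Ideal.map (Ideal.Quotient.mk (J ^ 2)) (J ^ 2) = ⊥
      exact Ideal.map_quotient_self _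
    rw [h3] at h2
    exact (Ideal.mem_bot).mp h2
  have htriv := fun (T : Over S₂) (γ : (Over.map (𝟙 S₂)).obj T ⟶ Red.bc q H) (x) =>
    Rigid.trivial_pt_of_nilpotent e₂ (transAction u₂) i₀ h0 hnil γ x
  have hkill : Kills u q := by
    rw [kills_iff_map_eq_one]
    let φ : (Over.map (𝟙 S₂)).obj (Red.bc q H) ≅ Red.bc q H := Over.isoMk (Iso.refl _)
    have := htriv _ φ.hom 1
    rw [transAction_act, _root_.mul_one] at this
    rw [← cancel_epi φ.hom, this, MonObj.comp_one]
  have hJ2 : J ≤ J ^ 2 := fun z hz => by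
    have := (hJ A₂ φ₂).mp hkill hz
    rwa [RingHom.mem_ker, CommRingCat.hom_ofHom, Ideal.Quotient.eq_zero_iff_mem] at this
  have hid : IsIdempotentElem J := by
    refine le_antisymm Ideal.mul_le_right ?_
    rwa [← pow_two]
  obtain ⟨ε, hε, hJε⟩ := (Ideal.isIdempotentElem_iff_of_fg J hfg).mp hid
  refine ⟨ε, hε, fun D φ => (hJ D φ).trans ?_⟩
  rw [hJε, Ideal.submodule_span_eq, Ideal.span_le, Set.singleton_subset_iff]
  rfl

end Chart

/-- The trivial locus, as a set. -/
def killSet : Set S := {s | Kills u (S.fromSpecResidueField s)}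

theorem kills_point_iff {K : Type u} [Field K] (k : Spec (CommRingCat.of K) ⟶ S) :
    Kills u k ↔ k (IsLocalRing.closedPoint K) ∈ killSet u := by
  let q : Spec (CommRingCat.of K) ⟶ Spec (S.residueField (k (IsLocalRing.closedPoint K))) :=
    Spec.map (S.descResidueField (Scheme.stalkClosedPointTo k))
  have hk : q ≫ S.fromSpecResidueField (k (IsLocalRing.closedPoint K)) = k :=
    Scheme.descResidueField_stalkClosedPointTo_fromSpecResidueField K S k
  have : Flat q := by
    letI := (S.descResidueField (Scheme.stalkClosedPointTo k)).hom.toAlgebra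
    rw [HasRingHomProperty.Spec_iff (P := @Flat)]
    exact (RingHom.flat_algebraMap_iff.mpr
      (inferInstanceAs (Module.Flat (S.residueField (k (IsLocalRing.closedPoint K))) K)))
  have : Nonempty ↥(Spec (CommRingCat.of K)) := inferInstanceAs (Nonempty (PrimeSpectrum K))
  have : Subsingleton ↥(Spec (S.residueField (k (IsLocalRing.closedPoint K)))) :=
    inferInstanceAs (Subsingleton (PrimeSpectrum (S.residueField (k (IsLocalRing.closedPoint K)))))
  have : Surjective q := ⟨fun y => ⟨Classical.arbitrary _, Subsingleton.elim _ _⟩⟩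
  exact ⟨fun h => kills_of_comp u q (kills_congr u hk.symm h), fun h => kills_congr u hk (kills_comp u q h)⟩

variable [IsMonHom u]

/-- The main theorem: the locus where `u` is trivial is open and closed, and `u` is trivial over it. -/
theorem exists_trivial_locus (hH : SGA3x.IsMultTypeFT H) [IsSeparated G.hom]
    (hG : IsLocallyNoetherian S ∨ LocallyOfFinitePresentation G.hom) :
    ∃ U : S.Opens, IsClosed (U : Set S) ∧ (U : Set S) = killSet u ∧ Kills u U.ι := by
  have hK : LocallyOfFinitePresentation (pullback.fst u.left η[G].left) := by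
    rcases hG with hG | hG
    · have := MT.locallyOfFinitePresentation hH
      have := LocallyOfFiniteType.isLocallyNoetherian H.hom
      have : IsClosedImmersion η[G].left := Groth.Agent.Lib.GrpSch.isClosedImmersion_η G
      infer_instance
    · have : LocallyOfFinitePresentation (η[G].left ≫ G.hom) := by
        rw [show η[G].left ≫ G.hom = 𝟙 S from Over.w η[G]]
        exact locallyOfFinitePresentation_of_isOpenImmersion (f := 𝟙 S)
      have : LocallyOfFiniteType G.hom := inferInstance
      have : LocallyOfFinitePresentation η[G].left :=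
        Groth.Agent.Lib.Lim.OpenImm.lfp_of_comp η[G].left G.hom
      infer_instance
  obtain ⟨S', f, hf, hs, hc, hloc⟩ := hH
  choose O hO M iM _ he using hloc
  -- affine charts
  have chart : ∀ s' : S', ∃ (V : S'.Opens) (hV : IsAffineOpen V) (ε : Γ(S', V)), s' ∈ V ∧
      IsIdempotentElem ε ∧ ∀ (D : CommRingCat.{u}) (φ : Γ(S', V) ⟶ D),
        (Kills u (Spec.map φ ≫ hV.fromSpec ≫ f) ↔ φ.hom ε = 0) := by
    intro s'
    obtain ⟨V, hV, hVs, hVO⟩ := exists_isAffineOpen_mem_and_subset (X := S') (x := s') (U := O s') (hO s')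
    let k : Spec Γ(S', V) ⟶ (O s' : Scheme.{u}) :=
      IsOpenImmersion.lift (O s').ι hV.fromSpec (by rw [hV.range_fromSpec, Scheme.Opens.range_ι]; exact hVO)
    have hk : k ≫ (O s').ι ≫ f = hV.fromSpec ≫ f := by
      rw [← Category.assoc, IsOpenImmersion.lift_fac]
    let e : Grp.mk (Red.bc (hV.fromSpec ≫ f) H) ≅ Grp.mk (Red.DS (Spec Γ(S', V)) (M s')) :=
      BaseChange.bcCongr hk.symm H ≪≫ BaseChange.bcComp k ((O s').ι ≫ f) H ≪≫
        BaseChange.bcMapIso _ (he s').some ≪≫ DS.dsBC (M s') k
    obtain ⟨ε, hε, h⟩ := exists_idempotent u e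
    exact ⟨V, hV, ε, hVs, hε, h⟩
  choose V hV ε hVs hε hcrit using chart
  have hmem : ∀ (s' : S') (p : Spec Γ(S', V s')),
      f ((hV s').fromSpec p) ∈ killSet u ↔ ε s' ∈ (show PrimeSpectrum Γ(S', V s') from p).asIdeal := by
    intro s' p
    let P : PrimeSpectrum Γ(S', V s') := p
    let φ : Γ(S', V s') ⟶ CommRingCat.of P.asIdeal.ResidueField := CommRingCat.ofHom (algebraMap _ _)
    have hp : Spec.map φ (IsLocalRing.closedPoint P.asIdeal.ResidueField) = p := by
      apply PrimeSpectrum.ext
      show Ideal.comap (algebraMap _ P.asIdeal.ResidueField) (IsLocalRing.maximalIdeal _) = P.asIdeal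
      rw [IsLocalRing.maximalIdeal_eq_bot]
      exact Ideal.ker_algebraMap_residueField P.asIdeal
    have h := (kills_point_iff u (Spec.map φ ≫ (hV s').fromSpec ≫ f)).symm.trans (hcrit s' _ φ)
    have h' : (Spec.map φ ≫ (hV s').fromSpec ≫ f) (IsLocalRing.closedPoint P.asIdeal.ResidueField) =
        f ((hV s').fromSpec p) := by
      show f ((hV s').fromSpec (Spec.map φ _)) = _
      exact congrArg (fun x => f ((hV s').fromSpec x)) hp
    rw [h'] at h
    exact h.trans Ideal.algebraMap_residueField_eq_zero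
  have hopen : ∀ s' : S', IsOpen (f.base ⁻¹' killSet u ∩ V s') ∧ IsOpen ((f.base ⁻¹' killSet u)ᶜ ∩ V s') := by
    intro s'
    have hrange : (V s' : Set S') = Set.range (hV s').fromSpec := (hV s').range_fromSpec.symm
    constructor
    · have : f.base ⁻¹' killSet u ∩ V s' = (hV s').fromSpec '' (show Set ↥(Spec Γ(S', V s')) from (PrimeSpectrum.basicOpen (1 - ε s')).carrier) := by
        ext x
        rw [hrange]
        constructor
        · rintro ⟨hx, p, rfl⟩
          refine ⟨p, fun h1 => ?_, rfl⟩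
          exact (show PrimeSpectrum _ from p).2.ne_top ((Ideal.eq_top_iff_one _).mpr
            (by simpa using add_mem h1 ((hmem s' p).mp hx)))
        · rintro ⟨p, hp, rfl⟩
          refine ⟨(hmem s' p).mpr ?_, p, rfl⟩
          have h0 : (1 - ε s') * ε s' = 0 := by rw [sub_mul, _root_.one_mul, (hε s').eq, sub_self]
          exact ((show PrimeSpectrum _ from p).2.mem_or_mem (h0 ▸ Ideal.zero_mem _)).resolve_left hp
      rw [this]
      exact (hV s').fromSpec.isOpenEmbedding.isOpenMap _ (PrimeSpectrum.basicOpen _).2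
    · have : (f.base ⁻¹' killSet u)ᶜ ∩ V s' = (hV s').fromSpec '' (show Set ↥(Spec Γ(S', V s')) from (PrimeSpectrum.basicOpen (ε s')).carrier) := by
        ext x
        rw [hrange]
        constructor
        · rintro ⟨hx, p, rfl⟩
          exact ⟨p, fun h1 => hx ((hmem s' p).mpr h1), rfl⟩
        · rintro ⟨p, hp, rfl⟩
          exact ⟨fun hx => hp ((hmem s' p).mp hx), p, rfl⟩
      rw [this]
      exact (hV s').fromSpec.isOpenEmbedding.isOpenMap _ (PrimeSpectrum.basicOpen _).2
  have hclopen : IsOpen (killSet u) ∧ IsClosed (killSet u) := by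
    refine ⟨MT.isOpen_of_preimage f hc ?_, MT.isClosed_of_preimage f hc ⟨?_⟩⟩
    · refine isOpen_iff_forall_mem_open.mpr fun x hx => ⟨_, Set.inter_subset_left, (hopen x).1, hx, hVs x⟩
    · refine isOpen_iff_forall_mem_open.mpr fun x hx => ⟨_, Set.inter_subset_left, (hopen x).2, hx, hVs x⟩
  let U : S.Opens := ⟨killSet u, hclopen.1⟩
  refine ⟨U, hclopen.2, rfl, ?_⟩
  apply kills_of_comp u (pullback.fst U.ι f)
  intro Y p γ
  apply Over.OverMorphism.ext
  let π : Y.left ⟶ S' := p.left ≫ pullback.snd U.ι f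
  have hπ : π ≫ f = Y.hom := by
    rw [← Over.w p, Category.assoc, ← pullback.condition]
    rfl
  let W : S' → Y.left.Opens := fun s' => π ⁻¹ᵁ V s'
  refine Scheme.Cover.hom_ext (Y.left.openCoverOfIsOpenCover W (TopologicalSpace.IsOpenCover.mk
    (eq_top_iff.mpr fun y _ => TopologicalSpace.Opens.mem_iSup.mpr ⟨π y, hVs _⟩))) _ _ fun s' => ?_
  refine ext_affine fun O' hO' => ?_
  let z := hO'.fromSpec ≫ (W s').ι
  obtain ⟨φ, hφ⟩ := Spec.map_surjective (IsOpenImmersion.lift (hV s').fromSpec (z ≫ π) (by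
    rw [(hV s').range_fromSpec]
    rintro _ ⟨a, rfl⟩
    exact (hO'.fromSpec a).2))
  have hz : z ≫ Y.hom = Spec.map φ ≫ (hV s').fromSpec ≫ f := by
    rw [← hπ, hφ, IsOpenImmersion.lift_fac_assoc]
    simp only [π, Category.assoc]
  have hu : IsUnit (φ.hom (1 - ε s')) := by
    by_contra h
    obtain ⟨m, hm, hmem'⟩ := exists_max_ideal_of_mem_nonunits h
    let a : PrimeSpectrum Γ((W s' : Scheme.{u}), O') := ⟨m, hm.isPrime⟩
    have hmemU : f ((hV s').fromSpec (Spec.map φ a)) ∈ killSet u := by
      have h1 : f ((hV s').fromSpec (Spec.map φ a)) = U.ι ((p.left ≫ pullback.fst U.ι f) (z a)) := by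
        show (Spec.map φ ≫ (hV s').fromSpec ≫ f) a = _
        rw [← hz, ← Over.w p]
        rfl
      rw [h1]
      exact ((p.left ≫ pullback.fst U.ι f) (z a)).2
    have h2 : φ.hom (ε s') ∈ m := (hmem s' (Spec.map φ a)).mp hmemU
    exact hm.ne_top ((Ideal.eq_top_iff_one _).mpr (by simpa using add_mem hmem' h2))
  have hker : φ.hom (ε s') = 0 := by
    refine hu.mul_left_cancel ?_
    rw [← map_mul, sub_mul, _root_.one_mul, (hε s').eq, sub_self, map_zero, mul_zero]
  have hk := (hcrit s' _ φ).mpr hker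
  let Y' : Over S := Over.mk (z ≫ Y.hom)
  let k : Y' ⟶ Y := Over.homMk z
  let p' : Y' ⟶ Over.mk (Spec.map φ ≫ (hV s').fromSpec ≫ f) := Over.homMk (𝟙 _) ((Category.id_comp _).trans hz.symm)
  have hres := hk Y' p' (k ≫ γ)
  rw [← MonObj.comp_one k, Category.assoc] at hres
  exact (Category.assoc _ _ _).symm.trans ((congr(($hres).left)).trans (Category.assoc _ _ _))

end Groth.Agent.H87.Locus
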