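import Groth.Agent.H87.HomDS
import Groth.Agent.H87.MT
import Groth.Agent.Lib.Tori.Basic
import Mathlib.AlgebraicGeometry.Morphisms.FlatDescent
import Mathlib.AlgebraicGeometry.Morphisms.IsIso

/-!
# Clopen loci for homomorphisms of groups of multiplicative type
-/

set_option autoImplicit false
universe u

open CategoryTheory MonoidalCategory CartesianMonoidalCategory MonObj GrpObj AlgebraicGeometry
open CategoryTheory.Limits
open Groth.Agent.Lib.RedPts Groth.Agent.Lib.Tori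

namespace Groth.Agent.H87.Charts

variable {S : Scheme.{u}}

theorem isQCCover_comp {S' S'' : Scheme.{u}} {g : S'' ⟶ S'} {f : S' ⟶ S} (hg : Basic.IsQCCover g)
    (hf : Basic.IsQCCover f) : Basic.IsQCCover (g ≫ f) := by
  classical
  intro V hV
  obtain ⟨W, hW, hWV⟩ := hf V hV
  have hcov : ∀ w : (W : Set S'), ∃ (O : S'.Opens) (W' : S''.Opens), w.1 ∈ O ∧ (O : Set S') ⊆ W ∧
      IsCompact (W' : Set S'') ∧ g.base '' (W' : Set S'') = (O : Set S') := by
    intro w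
    obtain ⟨O, hO, hwO, hOW⟩ := exists_isAffineOpen_mem_and_subset (X := S') (x := w.1) (U := W) w.2
    obtain ⟨W', hW', he⟩ := hg O hO
    exact ⟨O, W', hwO, hOW, hW', he⟩
  choose O W' hmem hOW hW' he using hcov
  obtain ⟨t, ht⟩ := hW.elim_finite_subcover (fun w => (O w : Set S')) (fun w => (O w).2)
    (fun w hw => Set.mem_iUnion.mpr ⟨⟨w, hw⟩, hmem ⟨w, hw⟩⟩)
  refine ⟨⟨⋃ w ∈ t, (W' w : Set S''), isOpen_biUnion fun w _ => (W' w).2⟩,
    t.isCompact_biUnion fun w _ => hW' w, ?_⟩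
  show (g ≫ f).base '' (⋃ w ∈ t, (W' w : Set S'')) = _
  refine Eq.trans ?_ hWV
  have h1 : g.base '' (⋃ w ∈ t, (W' w : Set S'')) = (W : Set S') := by
    simp only [Set.image_iUnion, he]
    exact Set.Subset.antisymm (Set.iUnion₂_subset fun w _ => hOW w) ht
  refine Eq.trans ?_ (congrArg (f.base '' ·) h1)
  rw [Set.image_image]
  rfl

/-- Restriction of a chart. -/
noncomputable def resChart {H : Over S} [GrpObj H] {M : Type} [AddCommGroup M] {U T : Scheme.{u}} {g : U ⟶ S}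
    (e : Grp.mk (Red.bc g H) ≅ Grp.mk (Red.DS U M)) (h : T ⟶ U) :
    Grp.mk (Red.bc (h ≫ g) H) ≅ Grp.mk (Red.DS T M) :=
  BaseChange.bcComp h g H ≪≫ BaseChange.bcMapIso h e ≪≫ DS.dsBC M h

/-- Two groups of multiplicative type are split by a common cover. -/
theorem exists_common_charts {G H : Over S} [GrpObj G] [GrpObj H] (hG : SGA3x.IsMultTypeFT G)
    (hH : SGA3x.IsMultTypeFT H) :
    ∃ (S' : Scheme.{u}) (f : S' ⟶ S), Flat f ∧ Surjective f ∧ Basic.IsQCCover f ∧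
      ∀ s' : S', ∃ U : S'.Opens, s' ∈ U ∧ ∃ (M N : Type) (_ : AddCommGroup M) (_ : AddCommGroup N),
        AddGroup.FG M ∧ AddGroup.FG N ∧
        Nonempty (Grp.mk (Red.bc (U.ι ≫ f) G) ≅ Grp.mk (Red.DS (U : Scheme.{u}) M)) ∧
        Nonempty (Grp.mk (Red.bc (U.ι ≫ f) H) ≅ Grp.mk (Red.DS (U : Scheme.{u}) N)) := by
  obtain ⟨S₁, f₁, hf₁, hs₁, hc₁, hl₁⟩ := hG
  obtain ⟨S₂, f₂, hf₂, hs₂, hc₂, hl₂⟩ := hH
  let p := pullback.fst f₁ f₂
  let q := pullback.snd f₁ f₂
  refine ⟨pullback f₁ f₂, p ≫ f₁, inferInstance, inferInstance,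
    isQCCover_comp (Basic.isQCCover_pullback_snd hc₂ f₁) hc₁, fun s' => ?_⟩
  obtain ⟨U₁, hU₁, M, iM, hM, ⟨e₁⟩⟩ := hl₁ (p s')
  obtain ⟨U₂, hU₂, N, iN, hN, ⟨e₂⟩⟩ := hl₂ (q s')
  let U := p ⁻¹ᵁ U₁ ⊓ q ⁻¹ᵁ U₂
  let r₁ : (U : Scheme.{u}) ⟶ U₁ := (pullback f₁ f₂).homOfLE inf_le_left ≫ p ∣_ U₁
  let r₂ : (U : Scheme.{u}) ⟶ U₂ := (pullback f₁ f₂).homOfLE inf_le_right ≫ q ∣_ U₂
  refine ⟨U, ⟨hU₁, hU₂⟩, M, N, iM, iN, hM, hN,
    ⟨BaseChange.bcCongr ?_ G ≪≫ resChart e₁ r₁⟩, ⟨BaseChange.bcCongr ?_ H ≪≫ resChart e₂ r₂⟩⟩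
  · simp [r₁, p, U]
  · simp [r₂, q, p, U, pullback.condition]

section Fib

variable (P : MorphismProperty Scheme.{u}) {G H : Over S} {T : Scheme.{u}}

/-- `P` holds for `u` after base change along `t`. -/
def Fib (t : T ⟶ S) (u : G ⟶ H) : Prop := P ((Over.pullback t).map u).left

theorem isPullback_map (t : T ⟶ S) (u : G ⟶ H) :
    IsPullback (pullback.fst G.hom t) ((Over.pullback t).map u).left u.left (pullback.fst H.hom t) := by
  have hw : ((Over.pullback t).map u).left ≫ pullback.snd H.hom t = pullback.snd G.hom t :=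
    Over.w ((Over.pullback t).map u)
  refine IsPullback.of_bot ?_ ?_ (IsPullback.of_hasPullback H.hom t)
  · rw [hw, Over.w u]
    exact IsPullback.of_hasPullback G.hom t
  · exact (pullback.lift_fst _ _ _).symm

theorem iff_natIso [P.RespectsIso] {F F' : Over S ⥤ Over T} (α : F ≅ F') (u : G ⟶ H) :
    P (F.map u).left ↔ P (F'.map u).left :=
  P.arrow_mk_iso_iff (Arrow.isoMk ((Over.forget _).mapIso (α.app G)) ((Over.forget _).mapIso (α.app H))
    (congr($(α.hom.naturality u).left)).symm)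

theorem fib_comp [P.RespectsIso] {T' : Scheme.{u}} (h : T' ⟶ T) (t : T ⟶ S) (u : G ⟶ H) :
    Fib P (h ≫ t) u ↔ Fib P h ((Over.pullback t).map u) :=
  iff_natIso P (Over.pullbackComp h t) u

theorem fib_congr {t t' : T ⟶ S} (e : t = t') (u : G ⟶ H) (h : Fib P t u) : Fib P t' u := e ▸ h

variable [P.IsStableUnderBaseChange]

theorem fib_of (t : T ⟶ S) (u : G ⟶ H) (h : P u.left) : Fib P t u :=
  P.of_isPullback (isPullback_map t u) h

theorem fib_base {T' : Scheme.{u}} (h : T' ⟶ T) {t : T ⟶ S} {u : G ⟶ H} (hu : Fib P t u) :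
    Fib P (h ≫ t) u :=
  (fib_comp P h t u).mpr (fib_of P h _ hu)

theorem fib_descend [P.DescendsAlong (@Surjective ⊓ @Flat ⊓ @QuasiCompact)] {T' : Scheme.{u}} (h : T' ⟶ T)
    [Flat h] [Surjective h] [QuasiCompact h] {t : T ⟶ S} {u : G ⟶ H} (hu : Fib P (h ≫ t) u) : Fib P t u :=
  MorphismProperty.of_isPullback_of_descendsAlong (P := P) (Q := @Surjective ⊓ @Flat ⊓ @QuasiCompact)
    (isPullback_map h ((Over.pullback t).map u)).flip ⟨⟨inferInstance, inferInstance⟩, inferInstance⟩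
    ((fib_comp P h t u).mp hu)

theorem fib_of_cover [IsZariskiLocalAtTarget P] {t : T ⟶ S} {u : G ⟶ H}
    (h : ∀ x : T, ∃ O : T.Opens, x ∈ O ∧ Fib P (O.ι ≫ t) u) : Fib P t u := by
  choose O hO hP using h
  let v := (Over.pullback t).map u
  let H' := (Over.pullback t).obj H
  let 𝒰 : H'.left.OpenCover := (T.openCoverOfIsOpenCover O (TopologicalSpace.IsOpenCover.mk
    (eq_top_iff.mpr fun y _ => TopologicalSpace.Opens.mem_iSup.mpr ⟨y, hO y⟩))).pullback₁ H'.hom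
  refine IsZariskiLocalAtTarget.of_openCover (P := P) (f := v.left) 𝒰 fun x => ?_
  have h1 : P ((Over.pullback (O x).ι).map v).left := (fib_comp P (O x).ι t u).mp (hP x)
  rw [← (isPullback_map (O x).ι v).isoPullback_hom_snd] at h1
  exact (P.cancel_left_of_respectsIso (isPullback_map (O x).ι v).isoPullback.hom _).mp h1

end Fib

section Locus

variable (P : MorphismProperty Scheme.{u}) [P.IsStableUnderBaseChange] [IsZariskiLocalAtTarget P]
  [P.DescendsAlong (@Surjective ⊓ @Flat ⊓ @QuasiCompact)] {G H : Over S}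

/-- Pullback of `DS` is `DS`, as functors. -/
noncomputable def dsFunctorIso {T T' : Scheme.{u}} (g : T' ⟶ T) :
    Over.pullback (specULiftZIsTerminal.from T) ⋙ Over.pullback g ≅ Over.pullback (specULiftZIsTerminal.from T') :=
  (Over.pullbackComp g (specULiftZIsTerminal.from T)).symm ≪≫
    eqToIso (congrArg (fun k => Over.pullback k) (specULiftZIsTerminal.hom_ext (g ≫ specULiftZIsTerminal.from T) _))

theorem fib_DSmap {T T' : Scheme.{u}} {M N : Type} [AddCommGroup M] [AddCommGroup N] (g : T' ⟶ T) (φ : N →+ M) :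
    Fib P g (Red.DSmap T φ) ↔ P (Red.DSmap T' φ).left :=
  iff_natIso P (dsFunctorIso g) _

theorem fib_point_iff {K : Type u} [Field K] (k : Spec (CommRingCat.of K) ⟶ S) (u : G ⟶ H) :
    Fib P k u ↔ Fib P (S.fromSpecResidueField (k (IsLocalRing.closedPoint K))) u := by
  let q : Spec (CommRingCat.of K) ⟶ Spec (S.residueField (k (IsLocalRing.closedPoint K))) :=
    Spec.map (S.descResidueField (Scheme.stalkClosedPointTo k))
  have hk : q ≫ S.fromSpecResidueField (k (IsLocalRing.closedPoint K)) = k :=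
    Scheme.descResidueField_stalkClosedPointTo_fromSpecResidueField K S k
  have : Flat q := by
    letI := (S.descResidueField (Scheme.stalkClosedPointTo k)).hom.toAlgebra
    rw [HasRingHomProperty.Spec_iff (P := @Flat)]
    exact (RingHom.flat_algebraMap_iff.mpr
      (inferInstanceAs (Module.Flat (S.residueField (k (IsLocalRing.closedPoint K))) K)))
  have : Nonempty ↥(Spec (CommRingCat.of K)) := inferInstanceAs (Nonempty (PrimeSpectrum K))
  have : Subsingleton ↥(Spec (S.residueField (k (IsLocalRing.closedPoint K)))) :=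
    inferInstanceAs (Subsingleton (PrimeSpectrum (S.residueField (k (IsLocalRing.closedPoint K)))))
  have : Surjective q := ⟨fun y => ⟨Classical.arbitrary _, Subsingleton.elim _ _⟩⟩
  exact ⟨fun h => fib_descend P q (fib_congr P hk.symm u h), fun h => fib_congr P hk u (fib_base P q h)⟩

theorem fib_residue_iff {T : Scheme.{u}} (t : T ⟶ S) (x : T) (u : G ⟶ H) :
    Fib P (T.fromSpecResidueField x ≫ t) u ↔ Fib P (S.fromSpecResidueField (t x)) u := by
  refine (fib_point_iff P (K := T.residueField x) (T.fromSpecResidueField x ≫ t) u).trans ?_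
  rw [show (T.fromSpecResidueField x ≫ t) (IsLocalRing.closedPoint (T.residueField x)) = t x from
    congrArg t (T.fromSpecResidueField_apply x _)]

theorem fib_arrow_iso {T : Scheme.{u}} (g : T ⟶ S) {G' H' : Over S} {v : G' ⟶ H'} {w : G ⟶ H}
    (e : Arrow.mk v ≅ Arrow.mk w) : Fib P g v ↔ Fib P g w :=
  P.arrow_mk_iso_iff ((Over.pullback g ⋙ Over.forget T).mapArrow.mapIso e)

variable [GrpObj G] [GrpObj H]

/-- The locus where `P` holds on the fibre is open and closed, and `P` holds over it. -/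
theorem exists_clopen_locus
    (hP : ∀ (M N : Type) [AddCommGroup M] [AddCommGroup N] [AddGroup.FG M] [AddGroup.FG N] (φ : N →+ M)
      (X : Scheme.{u}) (x : X), P (Red.DSmap (Spec (X.residueField x)) φ).left →
        ∀ T : Scheme.{u}, P (Red.DSmap T φ).left)
    (hG : SGA3x.IsMultTypeFT G) (hH : SGA3x.IsMultTypeFT H) (u : G ⟶ H) [IsMonHom u] :
    ∃ U : S.Opens, IsClosed (U : Set S) ∧ (∀ s : S, s ∈ U ↔ Fib P (S.fromSpecResidueField s) u) ∧
      Fib P U.ι u := by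
  obtain ⟨S', f, hf, hs, hc, hloc⟩ := exists_common_charts hG hH
  let Z : Set S := {s | Fib P (S.fromSpecResidueField s) u}
  have key : ∀ s' : S', ∃ W : S'.Opens, s' ∈ W ∧ (∀ x ∈ W, f x ∈ Z ↔ f s' ∈ Z) ∧
      (f s' ∈ Z → Fib P (W.ι ≫ f) u) := by
    intro s'
    obtain ⟨U, hU, M, N, iM, iN, hM, hN, ⟨eG⟩, ⟨eH⟩⟩ := hloc s'
    let v : Red.DS (U : Scheme.{u}) M ⟶ Red.DS (U : Scheme.{u}) N :=
      (BaseChange.overIso eG.symm).hom ≫ (Over.pullback (U.ι ≫ f)).map u ≫ (BaseChange.overIso eH).hom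
    have : IsMonHom v := inferInstance
    have hMT : SGA3x.IsMultTypeFT (Red.DS (U : Scheme.{u}) M) :=
      ⟨U, 𝟙 _, inferInstance, inferInstance, fun V hV => ⟨V, hV.isCompact, by simp⟩, fun x =>
        ⟨⊤, trivial, M, iM, hM, ⟨DS.dsBC M _⟩⟩⟩
    obtain ⟨φ, U', hx₀, -, hφ⟩ := HomDS.exists_local_form (hN := hN) hMT v ⟨s', hU⟩
    have hv : ∀ {T : Scheme.{u}} (g : T ⟶ U), Fib P g v ↔ Fib P (g ≫ U.ι ≫ f) u := by
      intro T g
      refine Iff.trans ?_ (fib_comp P g (U.ι ≫ f) u).symm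
      let a := BaseChange.overIso eG.symm
      let b := (BaseChange.overIso eH).symm
      exact fib_arrow_iso P g (Arrow.isoMk (f := Arrow.mk v) (g := Arrow.mk ((Over.pullback (U.ι ≫ f)).map u)) a b
        (by simp [v, a, b]))
    have hloc' : ∀ {T : Scheme.{u}} (g : T ⟶ U'), Fib P (g ≫ U'.ι) v ↔ P (Red.DSmap T φ).left := by
      intro T g
      have he : (Over.pullback (g ≫ U'.ι)).map v = (Over.pullback (g ≫ U'.ι)).map (Red.DSmap _ φ) := by
        apply BC.down_injective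
        rw [← Category.id_comp ((Over.pullback (g ≫ U'.ι)).map v),
          ← Category.id_comp ((Over.pullback (g ≫ U'.ι)).map (Red.DSmap _ φ))]
        erw [BC.down_map, BC.down_map]
        exact hφ _ (Over.homMk ((Red.bc (g ≫ U'.ι) (Red.DS (U : Scheme.{u}) M)).hom ≫ g) (by
          show _ = _
          simp)) _
      show P ((Over.pullback (g ≫ U'.ι)).map v).left ↔ _
      rw [he]
      exact fib_DSmap P (g ≫ U'.ι) φ
    have hpt : ∀ x : (U' : Scheme.{u}), f (U'.ι x).1 ∈ Z ↔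
        P (Red.DSmap (Spec ((U' : Scheme.{u}).residueField x)) φ).left := by
      intro x
      rw [← hloc' ((U' : Scheme.{u}).fromSpecResidueField x), hv]
      rw [Category.assoc, fib_residue_iff]
      simp only [Scheme.Hom.comp_apply]
      rfl
    have hconst : ∀ x y : (U' : Scheme.{u}), f (U'.ι x).1 ∈ Z → f (U'.ι y).1 ∈ Z := fun x y h =>
      (hpt y).mpr (hP M N φ (U' : Scheme.{u}) x ((hpt x).mp h) _)
    refine ⟨U.ι ''ᵁ U', ⟨⟨s', hU⟩, hx₀, rfl⟩, ?_, ?_⟩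
    · rintro _ ⟨x, hx, rfl⟩
      exact ⟨hconst ⟨x, hx⟩ ⟨⟨s', hU⟩, hx₀⟩, hconst ⟨⟨s', hU⟩, hx₀⟩ ⟨x, hx⟩⟩
    · intro h
      let g : ((U.ι ''ᵁ U' : S'.Opens) : Scheme.{u}) ⟶ U' := (U.ι.isoImage U').inv
      have h1 := hP M N φ (U' : Scheme.{u}) ⟨⟨s', hU⟩, hx₀⟩ ((hpt ⟨⟨s', hU⟩, hx₀⟩).mp h)
      refine fib_congr P ?_ u ((hv (g ≫ U'.ι)).mp ((hloc' g).mpr (h1 _)))
      simp [g]
  choose W hW hconst hfib using key
  have hop : ∀ Y : Set S, (Y = Z ∨ Y = Zᶜ) → IsOpen Y := by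
    intro Y hY
    refine MT.isOpen_of_preimage f hc (isOpen_iff_forall_mem_open.mpr fun s' hs' => ⟨W s', ?_, (W s').2, hW s'⟩)
    intro x hx
    rcases hY with rfl | rfl
    · exact (hconst s' x hx).mpr hs'
    · exact fun h => hs' ((hconst s' x hx).mp h)
  let U₀ : S.Opens := ⟨Z, hop Z (Or.inl rfl)⟩
  refine ⟨U₀, ⟨hop _ (Or.inr rfl)⟩, fun s => Iff.rfl, ?_⟩
  have hV : Fib P ((f ⁻¹ᵁ U₀).ι ≫ f) u := by
    refine fib_of_cover P fun x => ⟨(f ⁻¹ᵁ U₀).ι ⁻¹ᵁ W x.1, hW x.1, ?_⟩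
    refine fib_congr P ?_ u (fib_base P ((f ⁻¹ᵁ U₀).ι ∣_ W x.1) (hfib x.1 x.2))
    simp
  refine fib_of_cover P fun x => ?_
  obtain ⟨O, hO, hxO, -⟩ := exists_isAffineOpen_mem_and_subset (X := (U₀ : Scheme.{u})) (x := x) (U := ⊤) trivial
  refine ⟨O, hxO, ?_⟩
  obtain ⟨Wc, hWc, hWe⟩ := Basic.isQCCover_pullback_snd hc (O.ι ≫ U₀.ι) ⊤
    (@isAffineOpen_top (O : Scheme.{u}) hO)
  let r : (Wc : Scheme.{u}) ⟶ O := Wc.ι ≫ pullback.fst _ _
  have : CompactSpace (Wc : Scheme.{u}) := isCompact_iff_compactSpace.1 hWc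
  have : IsAffine (O : Scheme.{u}) := hO
  have : QuasiCompact r := (quasiCompact_iff_compactSpace r).2 inferInstance
  have : Surjective r := ⟨fun o => by
    obtain ⟨w, hw, hwo⟩ := (Set.ext_iff.1 hWe o).2 trivial
    exact ⟨⟨w, hw⟩, hwo⟩⟩
  have : Flat r := inferInstance
  refine fib_descend P r ?_
  let l : (Wc : Scheme.{u}) ⟶ (f ⁻¹ᵁ U₀ : Scheme.{u}) :=
    IsOpenImmersion.lift (f ⁻¹ᵁ U₀).ι (Wc.ι ≫ pullback.snd _ _) (by
      rw [Scheme.Opens.range_ι]
      rintro _ ⟨w, rfl⟩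
      show f _ ∈ (U₀ : Set S)
      rw [← Scheme.Hom.comp_apply, Category.assoc, ← pullback.condition]
      simp only [Scheme.Hom.comp_apply]
      exact ((O.ι _) : U₀).2)
  refine fib_congr P ?_ u (fib_base P l hV)
  rw [← Category.assoc, IsOpenImmersion.lift_fac]
  simp [r, pullback.condition]

end Locus

end Groth.Agent.H87.Charts
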