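import Groth.Agent.H87.Locus
import Groth.Agent.H87.Charts
import Mathlib.AlgebraicGeometry.PullbackCarrier

/-!
# Normal subgroups of multiplicative type in groups with connected fibres
-/

set_option autoImplicit false
universe u

open CategoryTheory MonoidalCategory CartesianMonoidalCategory MonObj GrpObj AlgebraicGeometry
open CategoryTheory.Limits
open Groth.Agent.Lib.RedPts Groth.Agent.Lib.Tori

namespace Groth.Agent.H87.Normal

variable {S : Scheme.{u}}

theorem multTypeFT_bc {H : Over S} [GrpObj H] (h : SGA3x.IsMultTypeFT H) {X : Scheme.{u}} (g : X ⟶ S) :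
    SGA3x.IsMultTypeFT (Red.bc g H) := by
  obtain ⟨S', f, hf, hs, hc, hloc⟩ := h
  refine ⟨pullback g f, pullback.fst g f, inferInstance, inferInstance, Basic.isQCCover_pullback_snd hc g, fun p => ?_⟩
  obtain ⟨U, hU, M, iM, hM, ⟨e⟩⟩ := hloc ((pullback.snd g f).base p)
  refine ⟨(pullback.snd g f) ⁻¹ᵁ U, hU, M, iM, hM,
    ⟨(BaseChange.bcComp _ g H).symm ≪≫ BaseChange.bcCongr ?_ H ≪≫ Charts.resChart e ((pullback.snd g f) ∣_ U)⟩⟩
  rw [Category.assoc, pullback.condition, morphismRestrict_ι_assoc]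

theorem comm_of_locally_DS {H : Over S} [GrpObj H] {S' : Scheme.{u}} (f : S' ⟶ S) [Flat f] [Surjective f]
    (hloc : ∀ s' : S', ∃ U : S'.Opens, s' ∈ U ∧ ∃ (M : Type) (_ : AddCommGroup M),
      Nonempty (Grp.mk (Red.bc (U.ι ≫ f) H) ≅ Grp.mk (Red.DS (U : Scheme.{u}) M)))
    {Y : Over S} (a b : Y ⟶ H) : a * b = b * a := by
  choose U hU M iM he using hloc
  refine LocalEq.ext_of_local f _ _ U hU fun s' => ?_
  let g := (U s').ι ≫ f
  let e := BaseChange.overIso (he s').some
  rw [comp_mul, comp_mul]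
  let x : Red.bc g Y ⟶ Red.bc g H := BC.up g (BC.down g (𝟙 (Red.bc g Y)) ≫ a)
  let y : Red.bc g Y ⟶ Red.bc g H := BC.up g (BC.down g (𝟙 (Red.bc g Y)) ≫ b)
  have hxy : x * y = y * x := by
    rw [← cancel_mono e.hom, MonObj.mul_comp x y e.hom, MonObj.mul_comp y x e.hom]
    exact Gm.dsFn_ext fun m => by rw [Gm.dsFn_mul, Gm.dsFn_mul, _root_.mul_comm]
  have h := congrArg (BC.down g) hxy
  rw [BC.down_mul, BC.down_mul, BC.down_up, BC.down_up] at h
  exact h

theorem comm {H : Over S} [GrpObj H] (hH : SGA3x.IsMultTypeFT H) {Y : Over S} (a b : Y ⟶ H) : a * b = b * a := by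
  obtain ⟨S', f, hf, hs, -, hloc⟩ := hH
  refine comm_of_locally_DS f (fun s' => ?_) a b
  obtain ⟨U, hU, M, iM, -, he⟩ := hloc s'
  exact ⟨U, hU, M, iM, he⟩

variable {K H : Over S} [GrpObj K] [GrpObj H] (i : H ⟶ K)

/-- The tautological point of `K` on schemes over `K`. -/
noncomputable def tautPt (Y : Over K.left) : (Over.map K.hom).obj Y ⟶ K := Over.homMk Y.hom

/-- `H` is centralised over `t : T ⟶ K`. -/
def Cent {T : Scheme.{u}} (t : T ⟶ K.left) : Prop :=
  ∀ (Y : Over K.left) (_ : Y ⟶ Over.mk t) (h : (Over.map K.hom).obj Y ⟶ H),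
    tautPt Y * (h ≫ i) = (h ≫ i) * tautPt Y

theorem group_conj {G : Type*} [Group G] {k a b : G} (h : k * a * k⁻¹ = b) : k * a = a * k ↔ b = a := by
  subst h
  exact ⟨fun h => by rw [h, mul_inv_cancel_right], fun h => by rw [← inv_mul_cancel_right (k * a) k, h]⟩

variable [IsMonHom i] [Mono i]

/-- The centraliser locus of a normal subgroup of multiplicative type is open and closed. -/
theorem exists_cent_locus (hH : SGA3x.IsMultTypeFT H) (hn : AlgGrp.IsNormalHom i) :
    ∃ U : K.left.Opens, IsClosed (U : Set K.left) ∧ Cent i U.ι ∧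
      ∀ {F : Type u} [Field F] (k : Spec (CommRingCat.of F) ⟶ K.left),
        Cent i k ↔ k (IsLocalRing.closedPoint F) ∈ U := by
  let g := K.hom
  let T' := Red.bc g H
  obtain ⟨n, hn'⟩ := hn ((Over.map g).obj T') (tautPt T') (BC.down g (𝟙 T'))
  let w₁ : T' ⟶ T' := BC.up g n
  have hw₁ : ∀ {Y : Over K.left} (a : Y ⟶ T'),
      BC.down g (a ≫ w₁) ≫ i = tautPt Y * (BC.down g a ≫ i) * (tautPt Y)⁻¹ := by
    intro Y a
    have ht : (Over.map g).map a ≫ tautPt T' = tautPt Y := Over.OverMorphism.ext (Over.w a)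
    have ha : (Over.map g).map a ≫ BC.down g (𝟙 T') = BC.down g a := by rw [← BC.down_comp, Category.comp_id]
    rw [BC.down_comp, BC.down_up, Category.assoc, ← hn', comp_mul, comp_mul, comp_inv, ht, ← Category.assoc, ha]
  have hHT := multTypeFT_bc hH g
  have hw₁mul : ∀ (Y : Over K.left) (a b : Y ⟶ T'), (a * b) ≫ w₁ = (a ≫ w₁) * (b ≫ w₁) := by
    intro Y a b
    apply BC.down_injective
    rw [BC.down_mul, ← cancel_mono i, MonObj.mul_comp _ _ i, hw₁, hw₁, hw₁, BC.down_mul, MonObj.mul_comp _ _ i]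
    group
  let w : T' ⟶ T' := w₁ * (𝟙 T')⁻¹
  have : IsMonHom w := HomDS.isMonHom_of_points w fun Y a b => by
    show (a * b) ≫ (w₁ * (𝟙 T')⁻¹) = (a ≫ (w₁ * (𝟙 T')⁻¹)) * (b ≫ (w₁ * (𝟙 T')⁻¹))
    rw [comp_mul, comp_mul, comp_mul, comp_inv, comp_inv, comp_inv, hw₁mul, Category.comp_id, Category.comp_id,
      Category.comp_id]
    exact HomDS.group_aux (G := Y ⟶ T') (comm hHT) _ _ _ _
  have hcent : ∀ {T : Scheme.{u}} (t : T ⟶ K.left), Cent i t ↔ Locus.Kills w t := by
    intro T t
    have hkey : ∀ {Y : Over K.left} (a : Y ⟶ T'),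
        a ≫ w = 1 ↔ tautPt Y * (BC.down g a ≫ i) = (BC.down g a ≫ i) * tautPt Y := by
      intro Y a
      rw [comp_mul, comp_inv, Category.comp_id, mul_inv_eq_one, group_conj (hw₁ a).symm]
      exact ⟨fun h => by rw [h], fun h => BC.down_injective ((cancel_mono i).mp h)⟩
    exact ⟨fun h Y p a => (hkey a).mpr (h Y p _), fun h Y p x => by
      have := (hkey (BC.up g x)).mp (h Y p _)
      rwa [BC.down_up] at this⟩
  have := MT.isAffineHom hHT
  have hs : IsSeparated T'.hom := inferInstance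
  obtain ⟨U, hUc, hUe, hk⟩ :=
    Locus.exists_trivial_locus w hHT (Or.inr (MT.locallyOfFinitePresentation hHT))
  refine ⟨U, hUc, (hcent _).mpr hk, fun {F} _ k => (hcent k).trans ((Locus.kills_point_iff w k).trans ?_)⟩
  rw [← SetLike.mem_coe, hUe]

omit [IsMonHom i] [Mono i] in
/-- The unit section centralises. -/
theorem cent_one {T : Scheme.{u}} (t : T ⟶ S) : Cent i (t ≫ η[K].left) := by
  intro Y p h
  have : tautPt Y = 1 := by
    apply Over.OverMorphism.ext
    rw [Hom.one_def]
    show Y.hom = (Y.hom ≫ K.hom) ≫ η[K].left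
    rw [← Over.w p]
    simp only [Over.mk_hom, Category.assoc]
    erw [reassoc_of% (Over.w η[K] : η[K].left ≫ K.hom = _)]
    simp
  rw [this, _root_.one_mul, _root_.mul_one]

omit [IsMonHom i] [Mono i] in
/-- If the whole of `K` centralises then `H` is central. -/
theorem central_of_cent (U : K.left.Opens) (hU : (U : Set K.left) = Set.univ) (hc : Cent i U.ι)
    {X : Over S} (k : X ⟶ K) (h : X ⟶ H) : k * (h ≫ i) = (h ≫ i) * k := by
  let Y : Over K.left := Over.mk k.left
  let e : (Over.map K.hom).obj Y ≅ X := Over.isoMk (Iso.refl _) ((Category.id_comp _).trans (Over.w k).symm)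
  have hk : e.hom ≫ k = tautPt Y := Over.OverMorphism.ext (Category.id_comp _)
  have h1 := hc Y (Over.homMk (IsOpenImmersion.lift U.ι Y.hom (by rw [Scheme.Opens.range_ι, hU]; exact Set.subset_univ _))
    (IsOpenImmersion.lift_fac _ _ _)) (e.hom ≫ h)
  rw [← hk, Category.assoc, ← comp_mul, ← comp_mul] at h1
  exact (cancel_epi e.hom).mp h1

/-- A normal subgroup of multiplicative type of a group with connected fibres is central. -/
theorem central_of_connected (hH : SGA3x.IsMultTypeFT H) (hn : AlgGrp.IsNormalHom i)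
    (hconn : ∀ s : S, ConnectedSpace ↥(Limits.pullback K.hom (S.fromSpecResidueField s)))
    {X : Over S} (k : X ⟶ K) (h : X ⟶ H) : k * (h ≫ i) = (h ≫ i) * k := by
  obtain ⟨U, hUc, hc, hpt⟩ := exists_cent_locus i hH hn
  refine central_of_cent i U (Set.eq_univ_of_forall fun x => ?_) hc k h
  let s := K.hom x
  let q := pullback.fst K.hom (S.fromSpecResidueField s)
  let e : Spec (S.residueField s) ⟶ pullback K.hom (S.fromSpecResidueField s) :=
    pullback.lift (S.fromSpecResidueField s ≫ η[K].left) (𝟙 _) (by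
      rw [Category.assoc, Category.id_comp]
      erw [Over.w η[K]]
      exact Category.comp_id _)
  have hne : (q.base ⁻¹' (U : Set K.left)).Nonempty := by
    refine ⟨e (IsLocalRing.closedPoint (S.residueField s) : Spec (S.residueField s)), ?_⟩
    have h1 := (hpt (F := S.residueField s) (S.fromSpecResidueField s ≫ η[K].left)).mp (cent_one i _)
    show q (e (IsLocalRing.closedPoint (S.residueField s) : Spec (S.residueField s))) ∈ U
    have he : e ≫ q = S.fromSpecResidueField s ≫ η[K].left := pullback.lift_fst _ _ _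
    exact (congr($he (IsLocalRing.closedPoint (S.residueField s) : Spec (S.residueField s)))).symm ▸ h1
  have huniv := IsClopen.eq_univ ⟨hUc.preimage q.continuous, U.2.preimage q.continuous⟩ hne
  obtain ⟨z, hz⟩ : x ∈ Set.range q.base := by
    rw [Scheme.Pullback.range_fst, Scheme.range_fromSpecResidueField]
    rfl
  exact hz ▸ (Set.ext_iff.mp huniv z).mpr trivial

/-- A kernel of multiplicative type is central if the quotient has connected fibres. -/
theorem central_of_kernel {Q : Over S} [GrpObj Q] (p : K ⟶ Q) [IsMonHom p] [Surjective p.left] [Flat p.left]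
    [QuasiCompact p.left] (hker : AlgGrp.IsKernel i p) (hH : SGA3x.IsMultTypeFT H)
    (hQ : ∀ s : S, _root_.IsConnected (Q.hom.base ⁻¹' {s}))
    {X : Over S} (k : X ⟶ K) (h : X ⟶ H) : k * (h ≫ i) = (h ≫ i) * k := by
  have hn : AlgGrp.IsNormalHom i := by
    intro T g n
    have hn1 : (n ≫ i) ≫ p = 1 := by
      rw [Category.assoc, hker.w, ← Category.assoc, Hom.one_def, toUnit_unique (n ≫ toUnit H) (toUnit T)]
    refine ⟨hker.lift (g * (n ≫ i) * g⁻¹) (toUnit T) ?_, (hker.lift_fst _ _ _).symm⟩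
    rw [MonObj.mul_comp _ _ p, MonObj.mul_comp _ _ p, hn1, _root_.mul_one, ← MonObj.mul_comp _ _ p, mul_inv_cancel,
      MonObj.one_comp p, Hom.one_def]
  obtain ⟨U, hUc, hc, hpt⟩ := exists_cent_locus i hH hn
  refine central_of_cent i U (Set.eq_univ_of_forall fun x => ?_) hc k h
  have hsat : ∀ x y : K.left, p.left x = p.left y → x ∈ U → y ∈ U := by
    intro x y hxy hx
    obtain ⟨z, hz₁, hz₂⟩ := Scheme.Pullback.exists_preimage_pullback (f := p.left) (g := p.left) x y hxy
    let P := pullback p.left p.left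
    let k₁ : Spec (P.residueField z) ⟶ K.left := P.fromSpecResidueField z ≫ pullback.fst p.left p.left
    let k₂ : Spec (P.residueField z) ⟶ K.left := P.fromSpecResidueField z ≫ pullback.snd p.left p.left
    have hp : k₁ ≫ p.left = k₂ ≫ p.left := by
      simp only [k₁, k₂, Category.assoc, pullback.condition]
    have hK : k₁ ≫ K.hom = k₂ ≫ K.hom := by
      rw [← Over.w p, ← Category.assoc, hp, Category.assoc]
    have e₁ : k₁ (IsLocalRing.closedPoint (P.residueField z) : Spec (P.residueField z)) = x :=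
      (congrArg (pullback.fst p.left p.left) (P.fromSpecResidueField_apply z _)).trans hz₁
    have e₂ : k₂ (IsLocalRing.closedPoint (P.residueField z) : Spec (P.residueField z)) = y :=
      (congrArg (pullback.snd p.left p.left) (P.fromSpecResidueField_apply z _)).trans hz₂
    have h1 : Cent i k₁ := (hpt (F := P.residueField z) k₁).mpr (e₁.symm ▸ hx)
    suffices Cent i k₂ from e₂ ▸ (hpt (F := P.residueField z) k₂).mp this
    intro Y q a
    let Y₁ : Over K.left := Over.mk (q.left ≫ k₁)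
    let e : (Over.map K.hom).obj Y ≅ (Over.map K.hom).obj Y₁ := Over.isoMk (Iso.refl _) (by
      show 𝟙 _ ≫ (q.left ≫ k₁) ≫ K.hom = Y.hom ≫ K.hom
      rw [Category.id_comp, ← Over.w q, Category.assoc, hK]
      simp)
    let t₁ := e.hom ≫ tautPt Y₁
    let t₂ := tautPt Y
    have ht : t₁ ≫ p = t₂ ≫ p := by
      apply Over.OverMorphism.ext
      show (𝟙 _ ≫ q.left ≫ k₁) ≫ p.left = Y.hom ≫ p.left
      rw [Category.id_comp, Category.assoc, hp, ← Over.w q]
      simp
    have hd : (t₂ * t₁⁻¹) ≫ p = 1 := by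
      rw [MonObj.mul_comp _ _ p, GrpObj.inv_comp _ p, ht, mul_inv_cancel]
    let d := hker.lift (t₂ * t₁⁻¹) (toUnit _) (hd.trans Hom.one_def)
    have hd' : d ≫ i = t₂ * t₁⁻¹ := hker.lift_fst _ _ _
    have h2 : t₁ * (a ≫ i) = (a ≫ i) * t₁ := by
      have h3 := congrArg (e.hom ≫ ·) (h1 Y₁ (Over.homMk q.left rfl) (e.inv ≫ a))
      simp only [comp_mul, Category.assoc, Iso.hom_inv_id_assoc] at h3
      exact h3
    have h4 : (d ≫ i) * (a ≫ i) = (a ≫ i) * (d ≫ i) := by
      rw [← MonObj.mul_comp _ _ i, ← MonObj.mul_comp _ _ i, comm hH]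
    show t₂ * (a ≫ i) = (a ≫ i) * t₂
    rw [show t₂ = (d ≫ i) * t₁ by rw [hd', inv_mul_cancel_right], _root_.mul_assoc, h2, ← _root_.mul_assoc, h4,
      _root_.mul_assoc]
  have hq : Topology.IsQuotientMap p.left.base := Flat.isQuotientMap_of_surjective _
  let V : Set Q.left := p.left.base '' (U : Set K.left)
  have hpre : p.left.base ⁻¹' V = U :=
    Set.Subset.antisymm (fun y ⟨x, hx, hxy⟩ => hsat x y hxy hx) (Set.subset_preimage_image _ _)
  have hV : IsClopen V :=
    ⟨hq.isClosed_preimage.mp (hpre ▸ hUc), hq.isOpen_preimage.mp (hpre ▸ U.2)⟩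
  let s := K.hom x
  have h1 : η[K].left s ∈ U := by
    have := (hpt (F := S.residueField s) (S.fromSpecResidueField s ≫ η[K].left)).mp (cent_one i _)
    exact congrArg η[K].left (S.fromSpecResidueField_apply s _) ▸ this
  have hmem : ∀ y : K.left, K.hom y = s → p.left y ∈ Q.hom.base ⁻¹' {s} := fun y hy => by
    show Q.hom (p.left y) = s
    rw [← Scheme.Hom.comp_apply, Over.w p, hy]
  have hη : K.hom (η[K].left s) = s := congr($(Over.w η[K]) s)
  have := (hQ s).isPreconnected.subset_isClopen hV ⟨_, hmem _ hη, _, h1, rfl⟩ (hmem x rfl)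
  exact hpre ▸ this

end Groth.Agent.H87.Normal
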