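import Groth.Agent.H87.HomFam
import Groth.Agent.H87.Locus
import Groth.Agent.H87.Normal
import Groth.Agent.H83.ClopenEq

/-!
# Descent of central homomorphisms from groups of multiplicative type along covers with connected fibres
-/

set_option autoImplicit false
universe u

open CategoryTheory CategoryTheory.Limits MonoidalCategory CartesianMonoidalCategory MonObj GrpObj
open AlgebraicGeometry
open Groth.Agent.Lib.RedPts Groth.Agent.H87.HomFam

namespace Groth.Agent.H87.CentralDescent

set_option linter.style.haveILetI false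

variable {S : Scheme.{u}} {H G : Over S} [GrpObj H] [GrpObj G]

theorem grp_aux {M : Type*} [Group M] (a b c d : M) (hc : ∀ z : M, z * c = c * z) :
    a * b * (c * d)⁻¹ = a * c⁻¹ * (b * d⁻¹) := by
  have h : (b * d⁻¹) * c⁻¹ = c⁻¹ * (b * d⁻¹) := (Commute.inv_right (hc (b * d⁻¹))).eq
  rw [_root_.mul_inv_rev, ← _root_.mul_assoc, _root_.mul_assoc a b, _root_.mul_assoc a, h, ← _root_.mul_assoc]

section Conv

variable {T : Scheme.{u}} {t : T ⟶ S}

/-- A point over `T`, seen over the base. -/
noncomputable def inn {Y : Over S} (y : Y.left ⟶ T) (hy : y ≫ t = Y.hom) : (Over.map t).obj (Over.mk y) ⟶ Y :=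
  Over.homMk (U := (Over.map t).obj (Over.mk y)) (𝟙 Y.left) ((Category.id_comp _).trans hy.symm)

/-- The inverse of `inn`. -/
noncomputable def out {Y : Over S} (y : Y.left ⟶ T) (hy : y ≫ t = Y.hom) : Y ⟶ (Over.map t).obj (Over.mk y) :=
  Over.homMk (V := (Over.map t).obj (Over.mk y)) (𝟙 Y.left) ((Category.id_comp _).trans hy)

theorem out_inn {Y : Over S} (y : Y.left ⟶ T) (hy : y ≫ t = Y.hom) : out y hy ≫ inn y hy = 𝟙 Y :=
  Over.OverMorphism.ext (Category.id_comp _)

/-- The family of a homomorphism over `T`. -/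
noncomputable def famOf (v : Red.bc t H ⟶ Red.bc t G) [IsMonHom v] : Fam H G t where
  app Y y hy x := out y hy ≫ BC.down t (BC.up t (inn y hy ≫ x) ≫ v)
  natural {Y Y'} r y hy y' hy' x e := by
    let r' : Over.mk y' ⟶ Over.mk y := Over.homMk r.left e
    have e1 : inn y' hy' ≫ r = (Over.map t).map r' ≫ inn y hy :=
      Over.OverMorphism.ext ((Category.id_comp _).trans (Category.comp_id _).symm)
    have e2 : out y' hy' ≫ (Over.map t).map r' = r ≫ out y hy :=
      Over.OverMorphism.ext ((Category.id_comp _).trans (Category.comp_id _).symm)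
    have e3 : BC.up t (inn y' hy' ≫ r ≫ x) = r' ≫ BC.up t (inn y hy ≫ x) := by
      apply BC.down_injective
      rw [BC.down_comp, BC.down_up, BC.down_up, ← Category.assoc, e1, Category.assoc]
    rw [e3, Category.assoc r', BC.down_comp, ← Category.assoc, e2, Category.assoc]
  mul Y y hy x x' := by
    rw [comp_mul, BC.up_mul, MonObj.mul_comp, BC.down_mul, comp_mul]

/-- The homomorphism over `T` of a family. -/
noncomputable def toHom (F : Fam H G t) : Red.bc t H ⟶ Red.bc t G :=
  BC.up t (F.app ((Over.map t).obj (Red.bc t H)) (Red.bc t H).hom rfl (BC.down t (𝟙 (Red.bc t H))))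

theorem down_comp_toHom (F : Fam H G t) {Z : Over T} (z : Z ⟶ Red.bc t H) :
    BC.down t (z ≫ toHom F) = F.app ((Over.map t).obj Z) Z.hom rfl (BC.down t z) := by
  rw [BC.down_comp, toHom, BC.down_up]
  rw [← F.natural ((Over.map t).map z) (Red.bc t H).hom rfl Z.hom rfl (BC.down t (𝟙 (Red.bc t H))) (Over.w z),
    ← BC.down_comp, Category.comp_id]

theorem isMonHom_toHom (F : Fam H G t) : IsMonHom (toHom F) :=
  HomDS.isMonHom_of_points _ fun X a b => BC.down_injective (by
    rw [down_comp_toHom, BC.down_mul, BC.down_mul, F.mul, down_comp_toHom, down_comp_toHom])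

theorem eq_of_toHom (F F' : Fam H G t) (h : toHom F = toHom F') : F = F' := by
  refine Fam.ext (funext fun Y => funext fun y => funext fun hy => funext fun x => ?_)
  have key : ∀ K : Fam H G t, K.app Y y hy x = out y hy ≫ BC.down t (BC.up t (inn y hy ≫ x) ≫ toHom K) := by
    intro K
    rw [down_comp_toHom, BC.down_up]
    rw [← K.natural (out y hy) (Over.mk y).hom rfl y hy (inn y hy ≫ x) (Category.id_comp _),
      ← Category.assoc, out_inn, Category.id_comp]
  rw [key F, key F', h]

end Conv

variable {S' : Scheme.{u}} {π : S' ⟶ S}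

set_option backward.isDefEq.respectTransparency false in
/-- **Central homomorphisms descend along covers with geometrically connected fibres.** -/
theorem existsUnique_desc (hH : SGA3x.IsMultTypeFT H) [IsSeparated G.hom] [LocallyOfFinitePresentation G.hom]
    [Flat π] [Surjective π]
    (hcov : ∀ V : S.Opens, IsAffineOpen V → ∃ W : S'.Opens, IsCompact (W : Set S') ∧ π.base '' (W : Set S') = (V : Set S))
    (hconn : ∀ s : S, ConnectedSpace ↥(Limits.pullback π (Red.geomPt s)))
    (u' : Red.bc π H ⟶ Red.bc π G) [IsMonHom u']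
    (hc : ∀ (X : Over S') (g : X ⟶ Red.bc π G) (h : X ⟶ Red.bc π H), g * (h ≫ u') = (h ≫ u') * g) :
    ∃! u : H ⟶ G, IsMonHom u ∧ (Over.pullback π).map u = u' := by
  let p₁ := pullback.fst π π
  let p₂ := pullback.snd π π
  let t := p₁ ≫ π
  let F := famOf u'
  let F₁ : Fam H G t := F.res p₁ rfl
  let F₂ : Fam H G t := F.res p₂ pullback.condition.symm
  have hcentral : ∀ (Y : Over S) (y : Y.left ⟶ S') (hy : y ≫ π = Y.hom) (x : Y ⟶ H) (g : Y ⟶ G),
      g * F.app Y y hy x = F.app Y y hy x * g := by
    intro Y y hy x g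
    show g * (out y hy ≫ _) = (out y hy ≫ _) * g
    have hg : g = out y hy ≫ BC.down π (BC.up π (inn y hy ≫ g)) := by
      rw [BC.down_up, ← Category.assoc, out_inn, Category.id_comp]
    conv_lhs => rw [hg]
    conv_rhs => rw [hg]
    rw [← comp_mul, ← comp_mul, ← BC.down_mul, ← BC.down_mul, hc]
  haveI := isMonHom_toHom F₁
  haveI := isMonHom_toHom F₂
  let w : Red.bc t H ⟶ Red.bc t G := toHom F₁ * (toHom F₂)⁻¹
  haveI hw : IsMonHom w := HomDS.isMonHom_of_points w fun X a b => by
    simp only [w, comp_mul, GrpObj.comp_inv, MonObj.mul_comp]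
    have hz : ∀ z : X ⟶ Red.bc t G, z * (a ≫ toHom F₂) = (a ≫ toHom F₂) * z := fun z => BC.down_injective (by
      rw [BC.down_mul, BC.down_mul, down_comp_toHom]
      exact hcentral _ _ _ _ _)
    exact grp_aux _ _ _ _ hz
  haveI : IsSeparated (Red.bc t G).hom := MorphismProperty.pullback_snd (P := @IsSeparated) _ _ inferInstance
  haveI : LocallyOfFinitePresentation (Red.bc t G).hom :=
    MorphismProperty.pullback_snd (P := @LocallyOfFinitePresentation) _ _ inferInstance
  obtain ⟨U, hUc, hUk, hU⟩ := Locus.exists_trivial_locus w (Normal.multTypeFT_bc hH t) (Or.inr inferInstance)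
  -- triviality on the diagonal
  have hd : Locus.Kills w (pullback.diagonal π) := by
    intro Y p γ
    show γ ≫ (toHom F₁ * (toHom F₂)⁻¹) = 1
    rw [comp_mul, GrpObj.comp_inv, mul_inv_eq_one]
    refine BC.down_injective ?_
    rw [down_comp_toHom, down_comp_toHom]
    refine F.app_congr ?_ _ _ _
    have hY : p.left ≫ pullback.diagonal π = Y.hom := Over.w p
    rw [← hY, Category.assoc, Category.assoc, pullback.diagonal_fst, pullback.diagonal_snd]
  have hdiag : ∀ s' : S', pullback.diagonal π s' ∈ U := by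
    intro s'
    rw [← SetLike.mem_coe, hUk]
    have h1 := Locus.kills_comp w (S'.fromSpecResidueField s') hd
    have h2 := (Locus.kills_point_iff (K := S'.residueField s') w (S'.fromSpecResidueField s' ≫ pullback.diagonal π)).1 h1
    rw [Scheme.Hom.comp_apply] at h2
    exact Set.mem_of_eq_of_mem
      (congrArg (pullback.diagonal π) (S'.fromSpecResidueField_apply s' (IsLocalRing.closedPoint _))).symm h2
  -- the fibres of the first projection are connected
  haveI : GeometricallyConnected π := Groth.Agent.H83.ClopenEq.geometricallyConnected_of_geomFibre π hconn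
  have htop : ∀ x : ↥(pullback π π), x ∈ U := by
    intro x
    let s' := p₁ x
    let c := S'.fromSpecResidueField s'
    haveI : ConnectedSpace ↥(pullback π (c ≫ π)) :=
      GeometricallyConnected.geometrically_connectedSpace (f := π) (K := S'.residueField s') (c ≫ π) _ _
        (IsPullback.of_hasPullback π (c ≫ π))
    let e := pullbackSymmetry (pullback.fst π π) c ≪≫ pullbackRightPullbackFstIso π π c ≪≫ pullbackSymmetry _ _
    haveI : ConnectedSpace ↥(pullback (pullback.fst π π) c) :=
      e.inv.homeomorph.surjective.connectedSpace e.inv.homeomorph.continuous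
    let q := pullback.fst (pullback.fst π π) c
    obtain ⟨z, hz⟩ : x ∈ Set.range q := by
      rw [Scheme.Pullback.range_fst, S'.range_fromSpecResidueField]
      exact rfl
    obtain ⟨z₀, hz₀⟩ : pullback.diagonal π s' ∈ Set.range q := by
      rw [Scheme.Pullback.range_fst, S'.range_fromSpecResidueField]
      exact (Scheme.Hom.comp_apply _ _ _).symm.trans (congrArg (fun f : S' ⟶ S' => f s') (pullback.diagonal_fst π))
    have huniv : (q ⁻¹ᵁ U : Set ↥(pullback (pullback.fst π π) c)) = Set.univ :=
      IsClopen.eq_univ ⟨hUc.preimage q.continuous, (q ⁻¹ᵁ U).isOpen⟩ ⟨z₀, by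
        show q z₀ ∈ U
        rw [hz₀]; exact hdiag s'⟩
    have : z ∈ (q ⁻¹ᵁ U : Set ↥(pullback (pullback.fst π π) c)) := huniv ▸ Set.mem_univ z
    rw [← hz]
    exact this
  haveI : IsIso U.ι := isIso_of_isOpenImmersion_of_opensRange_eq_top _ (by
    rw [Scheme.Opens.opensRange_ι]; exact eq_top_iff.2 fun x _ => htop x)
  have hk : Locus.Kills w (𝟙 (pullback π π)) := Locus.kills_congr w (IsIso.inv_hom_id U.ι) (Locus.kills_comp w (inv U.ι) hU)
  have heq : F₁ = F₂ := by
    refine eq_of_toHom _ _ (mul_inv_eq_one.1 ?_)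
    have := hk (Red.bc t H) (Over.homMk (Red.bc t H).hom (Category.comp_id _)) (𝟙 _)
    rwa [Category.id_comp] at this
  -- descend
  have hcover : Presieve.ofArrows (fun _ : PUnit.{u + 1} => S') (fun _ => π) ∈ Scheme.fpqcPrecoverage S := by
    have h0 := mem_fpqc π hcov (κ := PUnit.{u + 1}) (fun _ => ⊤) fun x => ⟨⟨⟩, trivial⟩
    have h1 := Precoverage.comp_mem_coverings (J := Scheme.fpqcPrecoverage.{u}) _ h0
      (σ := fun _ => PUnit.{u + 1}) (Y := fun _ _ => S') (fun _ _ => S'.topIso.inv) fun _ =>
        Scheme.zariskiPrecoverage_le_fpqcPrecoverage _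
          (Scheme.coverOfIsIso (P := @IsOpenImmersion) S'.topIso.inv).mem₀
    refine Eq.subst (motive := fun R => R ∈ Scheme.fpqcPrecoverage S) ?_ h1
    refine le_antisymm ?_ ?_
    · rintro Z g ⟨i⟩
      convert Presieve.ofArrows.mk (Y := fun _ : PUnit.{u + 1} => S') (f := fun _ => π) PUnit.unit
      simp
    · rintro Z g ⟨i⟩
      convert Presieve.ofArrows.mk (Y := fun _ : Σ _ : PUnit.{u + 1}, PUnit.{u + 1} => S')
        (f := fun _ => S'.topIso.inv ≫ (⊤ : S'.Opens).ι ≫ π) ⟨⟨⟩, ⟨⟩⟩
      simp
  obtain ⟨F₀, hF₀, huniq⟩ := exists_glue (G := H) (H := G) (t := 𝟙 S) hcover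
    (fun _ => F.res (𝟙 S') (by rw [Category.id_comp, Category.comp_id]))
    fun W i j a b e => by
      simp only [Fam.res_res]
      let l : W ⟶ pullback π π := pullback.lift a b e
      have := congrArg (fun K : Fam H G t => K.res (t' := a ≫ π ≫ 𝟙 S) l (by
        rw [Category.comp_id, pullback.lift_fst_assoc])) heq
      simp only [F₁, F₂, Fam.res_res] at this
      refine ((F.res_congr ?_ _).trans this).trans (F.res_congr ?_ _)
      · rw [Category.comp_id, pullback.lift_fst]
      · rw [Category.comp_id, pullback.lift_snd]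
  let u : H ⟶ G := F₀.app H H.hom (Category.comp_id _) (𝟙 H)
  have happ : ∀ (Y : Over S) (y : Y.left ⟶ S) (hy : y ≫ 𝟙 S = Y.hom) (x : Y ⟶ H),
      F₀.app Y y hy x = x ≫ u := by
    intro Y y hy x
    have hy' : x.left ≫ H.hom = y := by rw [Over.w x, ← hy, Category.comp_id]
    have := F₀.natural x H.hom (Category.comp_id _) y hy (𝟙 H) hy'
    rwa [Category.comp_id] at this
  haveI hu : IsMonHom u := HomDS.isMonHom_of_points u fun X a b => by
    rw [← happ X X.hom (Category.comp_id _), ← happ X X.hom (Category.comp_id _), ← happ X X.hom (Category.comp_id _), F₀.mul]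
  refine ⟨u, ⟨hu, ?_⟩, fun v hv => ?_⟩
  · refine BC.down_injective ?_
    have h := congr(($(hF₀ PUnit.unit)).app ((Over.map π).obj (Red.bc π H)) (Red.bc π H).hom
      (by rw [Category.comp_id]; rfl) (BC.down π (𝟙 (Red.bc π H))))
    simp only [Fam.res] at h
    rw [happ] at h
    rw [← Category.id_comp ((Over.pullback π).map u), BC.down_map, h]
    have hh0 : ((Red.bc π H).hom ≫ 𝟙 S') ≫ π = ((Over.map π).obj (Red.bc π H)).hom := by
      rw [Category.comp_id]; rfl
    show out _ hh0 ≫ BC.down π (BC.up π (inn _ hh0 ≫ BC.down π (𝟙 _)) ≫ u') = BC.down π u'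
    have hi : ∀ hh, inn (t := π) (Y := (Over.map π).obj (Red.bc π H)) ((Red.bc π H).hom ≫ 𝟙 S') hh =
        (Over.map π).map (Over.homMk (U := Over.mk ((Red.bc π H).hom ≫ 𝟙 S')) (V := Red.bc π H) (𝟙 _)
          ((Category.id_comp _).trans (Category.comp_id _).symm)) := fun hh => Over.OverMorphism.ext rfl
    rw [hi, ← BC.down_comp, BC.up_down, Category.assoc, Category.id_comp u', BC.down_comp, ← hi hh0, ← Category.assoc,
      out_inn, Category.id_comp]
  · let K : Fam H G (𝟙 S) :=
      { app := fun Y y hy x => x ≫ v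
        natural := fun r y hy y' hy' x e => Category.assoc _ _ _
        mul := fun Y y hy x x' => haveI := hv.1; MonObj.mul_comp x x' v }
    have hK : K = F₀ := huniq K fun i => by
      refine Fam.ext (funext fun Y => funext fun y => funext fun hy => funext fun x => ?_)
      show x ≫ v = out _ _ ≫ BC.down π (BC.up π (inn _ _ ≫ x) ≫ u')
      rw [← hv.2, BC.down_map, BC.down_up, ← Category.assoc, ← Category.assoc, out_inn, Category.id_comp]
    have := happ H H.hom (Category.comp_id _) (𝟙 H)
    rw [← hK, Category.id_comp] at this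
    exact (Category.id_comp v).symm.trans this

end Groth.Agent.H87.CentralDescent
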