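import Groth.Prelude.Def_AutFam
import Groth.Prelude.Def_DescFam
import Groth.Agent.Lib.DescAlg.DDFam.Cover
import Groth.Agent.Lib.DescAlg.IndQA.Effective

/-!
# Families of homomorphisms of group schemes and descent of their representing schemes

`HomFam G H t` is the set of `T`-points of `Hom_{S-gr}(G, H)` for `t : T ⟶ S`, given by its action
on points.  If the functor is represented over the members of an fpqc cover by schemes forming an
effective descent datum, it is representable.
-/

set_option autoImplicit false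
universe u

open CategoryTheory MonoidalCategory CartesianMonoidalCategory MonObj GrpObj AlgebraicGeometry
open CategoryTheory.Limits

namespace Groth.Agent.H87.HomFam

variable {S : Scheme.{u}} (G H : Over S) [GrpObj G] [GrpObj H]

/-- A family of homomorphisms `G ⟶ H` over `t`. -/
@[ext]
structure Fam {T : Scheme.{u}} (t : T ⟶ S) where
  /-- the action on points -/
  app : ∀ (Y : Over S) (y : Y.left ⟶ T), y ≫ t = Y.hom → (Y ⟶ G) → (Y ⟶ H)
  natural : ∀ {Y Y' : Over S} (r : Y' ⟶ Y) (y : Y.left ⟶ T) (hy : y ≫ t = Y.hom) (y' : Y'.left ⟶ T)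
    (hy' : y' ≫ t = Y'.hom) (g : Y ⟶ G), r.left ≫ y = y' → app Y' y' hy' (r ≫ g) = r ≫ app Y y hy g
  mul : ∀ (Y : Over S) (y : Y.left ⟶ T) (hy : y ≫ t = Y.hom) (g g' : Y ⟶ G),
    app Y y hy (g * g') = app Y y hy g * app Y y hy g'

variable {G H}

namespace Fam

variable {T T' T'' : Scheme.{u}} {t : T ⟶ S} {t' : T' ⟶ S} {t'' : T'' ⟶ S}

theorem app_congr (F : Fam G H t) {Y : Over S} {y y' : Y.left ⟶ T} (e : y = y') (hy : y ≫ t = Y.hom)
    (hy' : y' ≫ t = Y.hom) (g : Y ⟶ G) : F.app Y y hy g = F.app Y y' hy' g := by subst e; rfl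

/-- Restriction of a family. -/
def res (F : Fam G H t) (a : T' ⟶ T) (w : a ≫ t = t') : Fam G H t' where
  app Y y hy g := F.app Y (y ≫ a) (by rw [Category.assoc, w, hy]) g
  natural r y hy y' hy' g e := F.natural r _ _ _ _ g (by rw [← e, Category.assoc])
  mul Y y hy g g' := F.mul Y _ _ g g'

theorem res_res (F : Fam G H t) (a : T' ⟶ T) (w : a ≫ t = t') (b : T'' ⟶ T') (w' : b ≫ t' = t'') :
    (F.res a w).res b w' = F.res (b ≫ a) (by rw [Category.assoc, w, w']) := by
  refine Fam.ext (funext fun Y => funext fun y => funext fun hy => funext fun g => ?_)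
  exact F.app_congr (Category.assoc _ _ _) _ _ _

theorem res_congr (F : Fam G H t) {a a' : T' ⟶ T} (e : a = a') (w : a ≫ t = t') :
    F.res a w = F.res a' (e ▸ w) := by subst e; rfl

theorem res_one (F : Fam G H t) (a : T' ⟶ T) (w : a ≫ t = t') {s : T' ⟶ S} (w' : 𝟙 T' ≫ t' = s) :
    (F.res a w).res (𝟙 T') w' = F.res a (by rw [w, ← w', Category.id_comp]) := by
  refine Fam.ext (funext fun Y => funext fun y => funext fun hy => funext fun g => ?_)
  exact F.app_congr (by rw [Category.comp_id]) _ _ _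

theorem res_id (F : Fam G H t) : F.res (𝟙 T) (Category.id_comp t) = F := by
  refine Fam.ext (funext fun Y => funext fun y => funext fun hy => funext fun g => ?_)
  exact F.app_congr (Category.comp_id _) _ _ _

/-- The morphism of a family. -/
noncomputable def toMor (F : Fam G H t) : G ⊗ Over.mk t ⟶ H :=
  F.app _ (snd G (Over.mk t)).left (Over.w (snd G (Over.mk t))) (fst G (Over.mk t))

theorem lift_toMor (F : Fam G H t) {Y : Over S} (g : Y ⟶ G) (p : Y ⟶ Over.mk t) :
    lift g p ≫ F.toMor = F.app Y p.left (Over.w p) g := by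
  rw [toMor, ← F.natural (lift g p) _ _ p.left (Over.w p) (fst G (Over.mk t))
    (congrArg CommaMorphism.left (lift_snd g p)), lift_fst]

theorem isHomFamily_toMor (F : Fam G H t) : AutFam.IsHomFamily G H F.toMor := fun X g g' p => by
  rw [lift_toMor, lift_toMor, lift_toMor, F.mul]

/-- The family of a morphism. -/
noncomputable def ofMor (φ : G ⊗ Over.mk t ⟶ H) (hφ : AutFam.IsHomFamily G H φ) : Fam G H t where
  app Y y hy g := lift g (Over.homMk y hy) ≫ φ
  natural {Y Y'} r y hy y' hy' g e := by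
    have key : ∀ (p : Y ⟶ Over.mk t) (p' : Y' ⟶ Over.mk t), p' = r ≫ p →
        lift (r ≫ g) p' ≫ φ = r ≫ lift g p ≫ φ := fun p p' hp => by
      subst hp
      rw [← comp_lift, Category.assoc]
    exact key (Over.homMk y hy) (Over.homMk y' hy') (Over.OverMorphism.ext e.symm)
  mul Y y hy g g' := by
    have key : ∀ (p : Y ⟶ Over.mk t),
        lift (g * g') p ≫ φ = (lift g p ≫ φ) * (lift g' p ≫ φ) := fun p => hφ Y g g' p
    exact key (Over.homMk y hy)

theorem toMor_ofMor (φ : G ⊗ Over.mk t ⟶ H) (hφ : AutFam.IsHomFamily G H φ) :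
    (ofMor φ hφ).toMor = φ := by
  show lift (fst G (Over.mk t)) (Over.homMk (snd G (Over.mk t)).left (Over.w _)) ≫ φ = φ
  rw [show (Over.homMk (snd G (Over.mk t)).left (Over.w _) : G ⊗ Over.mk t ⟶ Over.mk t) =
    snd G (Over.mk t) from Over.OverMorphism.ext rfl, lift_fst_snd, Category.id_comp]

theorem ofMor_toMor (F : Fam G H t) : ofMor F.toMor F.isHomFamily_toMor = F := by
  refine Fam.ext (funext fun Y => funext fun y => funext fun hy => funext fun g => ?_)
  exact lift_toMor F g _

end Fam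

/-- `A` with `U` represents the families on the schemes over `X`. -/
def RepsOn {X : Scheme.{u}} (f : X ⟶ S) (A : Over X) (U : Fam G H (A.hom ≫ f)) : Prop :=
  ∀ (T : Scheme.{u}) (x : T ⟶ X) (F : Fam G H (x ≫ f)),
    ∃! a : T ⟶ A.left, ∃ w : a ≫ A.hom = x, U.res a (by rw [← Category.assoc, w]) = F

/-- `A` with `U` represents the families. -/
def Reps (A : Over S) (U : Fam G H A.hom) : Prop :=
  ∀ (T : Scheme.{u}) (t : T ⟶ S) (F : Fam G H t),
    ∃! a : T ⟶ A.left, ∃ w : a ≫ A.hom = t, U.res a w = F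

theorem representsHom (A : Over S) (U : Fam G H A.hom) (h : Reps A U) :
    AutFam.RepresentsHom G H A (U.toMor : G ⊗ A ⟶ H) := by
  refine ⟨U.isHomFamily_toMor, fun T φ hφ => ?_⟩
  let F : Fam G H T.hom := Fam.ofMor (t := T.hom) φ hφ
  obtain ⟨a, ⟨w, hF⟩, ha⟩ := h T.left T.hom F
  have key : ∀ (b : T ⟶ A), (G ◁ b) ≫ U.toMor = (U.res b.left (Over.w b)).toMor := fun b => by
    rw [show (G ◁ b) = lift (fst G T) (snd G T ≫ b) from CartesianMonoidalCategory.hom_ext _ _ (by simp) (by simp)]
    erw [Fam.lift_toMor]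
    rfl
  refine ⟨Over.homMk a w, ?_, fun b hb => ?_⟩
  · show (G ◁ _) ≫ _ = φ
    rw [key]
    exact (congrArg Fam.toMor hF).trans (Fam.toMor_ofMor (t := T.hom) φ hφ)
  · refine Over.OverMorphism.ext (ha b.left ⟨Over.w b, ?_⟩)
    rw [← Fam.ofMor_toMor (U.res b.left (Over.w b))]
    simp only [F]
    congr 1
    exact (key b).symm.trans hb

section Glue

variable {κ : Type u} {T : Scheme.{u}} {X : κ → Scheme.{u}} {a : ∀ i, X i ⟶ T} {t : T ⟶ S}

/-- Families glue along fpqc covers. -/
theorem exists_glue (hcov : Presieve.ofArrows X a ∈ Scheme.fpqcPrecoverage T)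
    (F : ∀ i, Fam G H (a i ≫ t))
    (hF : ∀ (W : Scheme.{u}) (i j : κ) (w : W ⟶ X i) (v : W ⟶ X j) (e : w ≫ a i = v ≫ a j),
      (F i).res w rfl = (F j).res v (by rw [← Category.assoc, ← e, Category.assoc])) :
    ∃! F₀ : Fam G H t, ∀ i, F₀.res (a i) rfl = F i := by
  have hpb : ∀ (Y : Over S) (y : Y.left ⟶ T),
      Presieve.ofArrows (fun i => pullback y (a i)) (fun i => pullback.fst y (a i)) ∈
        Scheme.fpqcPrecoverage Y.left := fun Y y =>
    Precoverage.mem_coverings_of_isPullback _ hcov y _ (fun _ ↦ pullback.snd _ _)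
      fun _ ↦ IsPullback.of_hasPullback _ _
  have sheaf : ∀ (Y : Over S) (y : Y.left ⟶ T) (Z : Scheme.{u}),
      (Presieve.ofArrows (fun i => pullback y (a i)) (fun i => pullback.fst y (a i))).IsSheafFor
        (yoneda.obj Z) := fun Y y Z =>
    Groth.Agent.Lib.DescAlg.DDFam.Cover.isSheafFor_yoneda (hpb Y y) Z
  -- morphisms out of `Y` are determined on the pieces
  have epi : ∀ (Y : Over S) (y : Y.left ⟶ T) (h h' : Y ⟶ H),
      (∀ i, pullback.fst y (a i) ≫ h.left = pullback.fst y (a i) ≫ h'.left) → h = h' :=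
    fun Y y h h' e => Over.OverMorphism.ext
      (((sheaf Y y H.left).isSeparatedFor.ext fun Z b hb => by
        obtain ⟨i⟩ := hb
        exact e i))
  let piece : ∀ (Y : Over S) (y : Y.left ⟶ T) (i : κ), Over S := fun Y y i =>
    Over.mk (pullback.fst y (a i) ≫ Y.hom)
  let inY : ∀ (Y : Over S) (y : Y.left ⟶ T) (i : κ), piece Y y i ⟶ Y := fun Y y i =>
    Over.homMk (pullback.fst y (a i)) rfl
  have hw : ∀ (Y : Over S) (y : Y.left ⟶ T) (_ : y ≫ t = Y.hom) (i : κ),
      pullback.snd y (a i) ≫ a i ≫ t = (piece Y y i).hom := fun Y y hy i => by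
    rw [← pullback.condition_assoc, hy]
    rfl
  have hex : ∀ (Y : Over S) (y : Y.left ⟶ T) (hy : y ≫ t = Y.hom) (g : Y ⟶ G),
      ∃ h : Y ⟶ H, ∀ (W : Over S) (r : W ⟶ Y) (i : κ) (w : W.left ⟶ X i) (hwW : w ≫ a i ≫ t = W.hom),
        w ≫ a i = r.left ≫ y → r ≫ h = (F i).app W w hwW (r ≫ g) := fun Y y hy g => by
    let h : ∀ i, piece Y y i ⟶ H := fun i => (F i).app _ _ (hw Y y hy i) (inY Y y i ≫ g)
    obtain ⟨l, hl, -⟩ := (Presieve.isSheafFor_arrows_iff _ _).1 (sheaf Y y H.left)
      (fun i => (h i).left) (fun i j Z b c hbc => by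
        let W : Over S := Over.mk (b ≫ pullback.fst y (a i) ≫ Y.hom)
        let rb : W ⟶ piece Y y i := Over.homMk b rfl
        let rc : W ⟶ piece Y y j := Over.homMk c (by
          show c ≫ pullback.fst y (a j) ≫ Y.hom = b ≫ pullback.fst y (a i) ≫ Y.hom
          rw [← Category.assoc, ← Category.assoc]
          exact congrArg (· ≫ Y.hom) hbc.symm)
        have e1 : rb ≫ inY Y y i = rc ≫ inY Y y j := Over.OverMorphism.ext hbc
        have e2 : (b ≫ pullback.snd y (a i)) ≫ a i = (c ≫ pullback.snd y (a j)) ≫ a j := by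
          rw [Category.assoc, Category.assoc, ← pullback.condition, ← pullback.condition,
            ← Category.assoc, ← Category.assoc]
          exact congrArg (· ≫ y) hbc
        show (rb ≫ h i).left = (rc ≫ h j).left
        rw [← (F i).natural rb _ _ (b ≫ pullback.snd y (a i)) (by
            show _ = b ≫ pullback.fst y (a i) ≫ Y.hom
            rw [Category.assoc, hw Y y hy i]
            rfl) _ rfl,
          ← (F j).natural rc _ _ (c ≫ pullback.snd y (a j)) (by
            show _ = W.hom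
            rw [← Over.w rc, Category.assoc, hw Y y hy j]
            rfl) _ rfl]
        simp only [← Category.assoc rb, e1]
        simp only [Category.assoc]
        refine congrArg CommaMorphism.left ?_
        have := congrArg (fun K => K.app W (𝟙 _) (by
          rw [Category.id_comp, Category.assoc, hw Y y hy i]
          rfl) ((rc ≫ inY Y y j) ≫ g))
          (hF _ i j (b ≫ pullback.snd y (a i)) (c ≫ pullback.snd y (a j)) e2)
        simp [Fam.res, Category.assoc] at this
        exact this)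
    have hlY' : ∀ i, pullback.fst y (a i) ≫ l ≫ H.hom = pullback.fst y (a i) ≫ Y.hom := fun i => by
      have h2 : pullback.fst y (a i) ≫ l = (h i).left := hl i
      exact ((Category.assoc _ _ _).symm.trans (congrArg (· ≫ H.hom) h2)).trans (Over.w (h i))
    have hlY : l ≫ H.hom = Y.hom := (sheaf Y y S).isSeparatedFor.ext fun Z b hb => by
      obtain ⟨i⟩ := hb
      exact hlY' i
    refine ⟨Over.homMk l hlY, fun W r i w hwW e => ?_⟩
    let q : W.left ⟶ pullback y (a i) := pullback.lift r.left w e.symm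
    let rq : W ⟶ piece Y y i := Over.homMk q (by
      show q ≫ pullback.fst y (a i) ≫ Y.hom = W.hom
      rw [pullback.lift_fst_assoc, Over.w r])
    have hr : rq ≫ inY Y y i = r := Over.OverMorphism.ext (pullback.lift_fst _ _ _)
    have h1 : r ≫ Over.homMk l hlY = rq ≫ h i := Over.OverMorphism.ext (by
      show r.left ≫ l = q ≫ (h i).left
      rw [← hl i]
      exact (congrArg (· ≫ l) (pullback.lift_fst r.left w e.symm).symm).trans (Category.assoc _ _ _))
    rw [h1, ← (F i).natural rq _ _ w hwW _ (pullback.lift_snd _ _ _), ← Category.assoc, hr]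
  choose h hh using hex
  have huniq : ∀ (Y : Over S) (y : Y.left ⟶ T) (hy : y ≫ t = Y.hom) (g : Y ⟶ G) (k : Y ⟶ H),
      (∀ i, inY Y y i ≫ k = (F i).app _ _ (hw Y y hy i) (inY Y y i ≫ g)) → k = h Y y hy g :=
    fun Y y hy g k hk => epi Y y _ _ fun i => congrArg CommaMorphism.left
      ((hk i).trans (hh Y y hy g _ (inY Y y i) i _ (hw Y y hy i) pullback.condition.symm).symm)
  refine ⟨⟨h, fun {Y Y'} r y hy y' hy' g e => (huniq Y' y' hy' (r ≫ g) _ fun i => ?_).symm,
    fun Y y hy g g' => (huniq Y y hy (g * g') _ fun i => ?_).symm⟩, fun i => ?_, fun F₁ hF₁ => ?_⟩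
  · rw [← Category.assoc, hh Y y hy g _ (inY Y' y' i ≫ r) i _ (hw Y' y' hy' i) (by
      rw [← pullback.condition, ← e]
      exact (Category.assoc _ _ _).symm), Category.assoc]
  · rw [MonObj.comp_mul, hh Y y hy g _ (inY Y y i) i _ (hw Y y hy i) pullback.condition.symm,
      hh Y y hy g' _ (inY Y y i) i _ (hw Y y hy i) pullback.condition.symm, MonObj.comp_mul, (F i).mul]
  · refine Fam.ext (funext fun Y => funext fun y => funext fun hy => funext fun g => ?_)
    show h Y (y ≫ a i) _ g = (F i).app Y y hy g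
    rw [← Category.id_comp (h Y (y ≫ a i) _ g), hh Y _ _ g Y (𝟙 Y) i y hy (Category.id_comp _).symm,
      Category.id_comp]
  · refine Fam.ext (funext fun Y => funext fun y => funext fun hy => funext fun g => ?_)
    refine huniq Y y hy g _ fun i => ?_
    rw [← F₁.natural (inY Y y i) y hy (pullback.snd y (a i) ≫ a i) (by
      rw [Category.assoc]; exact hw Y y hy i) g pullback.condition]
    exact congr(($(hF₁ i)).app _ (pullback.snd y (a i)) (hw Y y hy i) _)

end Glue

open Desc in
/-- **Descent of the representing scheme.** -/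
theorem exists_reps {κ : Type u} {X : κ → Scheme.{u}} (f : ∀ i, X i ⟶ S)
    (hcov : Presieve.ofArrows X f ∈ Scheme.fpqcPrecoverage S)
    (A : ∀ i, Over (X i)) (U : ∀ i, Fam G H ((A i).hom ≫ f i)) (hU : ∀ i, RepsOn (f i) (A i) (U i))
    (heff : ∀ D : SchDDFam f, (∀ i, D.obj i = A i) → D.IsEffective) :
    ∃ (R : Over S) (V : Fam G H R.hom), Reps R V ∧
      ∀ i, Nonempty ((Over.mk (pullback.fst (f i) R.hom) : Over (X i)) ≅ A i) := by
  classical
  -- the family of a point
  let fam : ∀ {T : Scheme.{u}} (i : κ) {x : T ⟶ X i} {t : T ⟶ S} (_ : x ≫ f i = t) (_ : Lifts (A i) x),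
      Fam G H t := fun {T} i {x} {t} hx v => (U i).res v.1 (by rw [← Category.assoc, v.2, hx])
  have fam_eq : ∀ {T : Scheme.{u}} (i : κ) {x : T ⟶ X i} {t : T ⟶ S} (hx : x ≫ f i = t)
      (F : Fam G H t), ∃! v : Lifts (A i) x, fam i hx v = F := fun {T} i {x} {t} hx F => by
    subst hx
    obtain ⟨b, ⟨w, hb⟩, hb'⟩ := hU i T x F
    exact ⟨⟨b, w⟩, hb, fun v hv => Subtype.ext (hb' v.1 ⟨v.2, hv⟩)⟩
  let e : ∀ {T : Scheme.{u}} (i : κ) {x : T ⟶ X i} {t : T ⟶ S} (_ : x ≫ f i = t),
      Lifts (A i) x ≃ Fam G H t := fun {T} i {x} {t} hx =>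
    Equiv.ofBijective (fam i hx) (Function.bijective_iff_existsUnique _ |>.2 (fam_eq i hx))
  have e_apply : ∀ {T : Scheme.{u}} (i : κ) {x : T ⟶ X i} {t : T ⟶ S} (hx : x ≫ f i = t) (v : Lifts (A i) x),
      e i hx v = fam i hx v := fun {_} _ {_} {_} _ _ => rfl
  let D : SchDDFam f :=
    { obj := A
      φ := fun T i j x₀ x₁ h => (e i h).trans (e j (rfl : x₁ ≫ f j = x₁ ≫ f j)).symm
      φ_natural := fun T T' g i j x₀ x₁ h y₀ y₁ hy₀ hy₁ h' v v' hv' => by
        subst hy₀ hy₁
        let d := ((e i h).trans (e j (rfl : x₁ ≫ f j = x₁ ≫ f j)).symm) v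
        have hd : e j (rfl : x₁ ≫ f j = x₁ ≫ f j) d = e i h v := by simp [d]
        let d' : Lifts (A j) (g ≫ x₁) := ⟨g ≫ d.1, by rw [Category.assoc, d.2]⟩
        have : ((e i h').trans (e j (rfl : (g ≫ x₁) ≫ f j = _)).symm) v' = d' := by
          rw [Equiv.trans_apply, Equiv.symm_apply_eq]
          simp only [e_apply]
          have := congrArg (fun F => Fam.res (t' := (g ≫ x₁) ≫ f j) F g (Category.assoc _ _ _).symm) hd
          simp only [e_apply, fam, Fam.res_res] at this
          simp only [fam, d', Fam.res_congr _ hv', this]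
        exact congrArg Subtype.val this
      φ_self := fun T i x v => by simp
      φ_comp := fun T i j k x₀ x₁ x₂ h₀₁ h₁₂ v => by
        simp only [Equiv.trans_apply, e_apply, EmbeddingLike.apply_eq_iff_eq]
        have hm := (e j (rfl : x₁ ≫ f j = x₁ ≫ f j)).apply_symm_apply (fam i h₀₁ v)
        simp only [e_apply] at hm
        have := congrArg (fun F => Fam.res (t' := x₂ ≫ f k) F (𝟙 T) (by rw [Category.id_comp, h₁₂])) hm
        simp only [fam, Fam.res_one, Fam.res_res, Category.id_comp] at this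
        exact this }
  obtain ⟨R, ⟨θ⟩⟩ := heff D fun i => rfl
  let P : κ → Scheme.{u} := fun i => pullback (f i) R.hom
  let toA : ∀ i, P i ⟶ (A i).left := fun i => (θ.hom.hom i).left
  have toA_hom : ∀ i, toA i ≫ (A i).hom = pullback.fst (f i) R.hom := fun i => Over.w (θ.hom.hom i)
  have hiso : ∀ i, IsIso (θ.hom.hom i) := fun i =>
    ⟨θ.inv.hom i, congr(($(θ.hom_inv_id)).hom i), congr(($(θ.inv_hom_id)).hom i)⟩
  have : ∀ i, IsIso (toA i) := fun i => by
    have := hiso i
    exact inferInstanceAs (IsIso ((Over.forget _).map (θ.hom.hom i)))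
  -- the family of a point of a piece
  let famP : ∀ {T : Scheme.{u}} (i : κ) (v : T ⟶ P i), Fam G H (v ≫ pullback.fst (f i) R.hom ≫ f i) :=
    fun i v => (U i).res (v ≫ toA i) (by simp only [Category.assoc, reassoc_of% (toA_hom i)])
  have hkey : ∀ {T : Scheme.{u}} (i j : κ) (v : T ⟶ P i) (v' : T ⟶ P j)
      (h : v' ≫ pullback.fst (f j) R.hom ≫ f j = v ≫ pullback.fst (f i) R.hom ≫ f i),
      v ≫ pullback.snd (f i) R.hom = v' ≫ pullback.snd (f j) R.hom ↔
        famP i v = (famP j v').res (𝟙 T) (by rw [Category.id_comp, h]) := by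
    intro T i j v v' h
    let x₀ := v ≫ pullback.fst (f i) R.hom
    let x₁ := v' ≫ pullback.fst (f j) R.hom
    have hx : x₀ ≫ f i = x₁ ≫ f j := by simp [x₀, x₁, h]
    let w : Lifts ((toDDFam f).obj R |>.obj i) x₀ := ⟨v, rfl⟩
    let c := ((toDDFam f).obj R).φ x₀ x₁ hx w
    let wA : Lifts (A i) x₀ := ⟨v ≫ toA i, by rw [Category.assoc, toA_hom]⟩
    have hc := θ.hom.comm x₀ x₁ hx w wA rfl
    have hc1 : fam i hx wA = fam j (rfl : x₁ ≫ f j = x₁ ≫ f j) (D.φ x₀ x₁ hx wA) :=
      ((e j (rfl : x₁ ≫ f j = x₁ ≫ f j)).apply_symm_apply (fam i hx wA)).symm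
    have hcv : v ≫ pullback.snd (f i) R.hom = v' ≫ pullback.snd (f j) R.hom ↔ c.1 = v' := by
      constructor
      · intro h2
        exact pullback.hom_ext (pullback.lift_fst _ _ _) ((pullback.lift_snd _ _ _).trans h2)
      · intro h2
        rw [← h2]
        exact (pullback.lift_snd _ _ _).symm
    rw [hcv]
    let v'A : Lifts (A j) x₁ := ⟨v' ≫ toA j, by rw [Category.assoc, toA_hom]⟩
    have h3 : c.1 = v' ↔ D.φ x₀ x₁ hx wA = v'A := by
      rw [Subtype.ext_iff, hc]
      exact (cancel_mono (toA j)).symm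
    rw [h3, ← (e j (rfl : x₁ ≫ f j = x₁ ≫ f j)).injective.eq_iff]
    simp only [e_apply, ← hc1]
    simp only [fam, famP, Fam.res_one, Fam.res_res, Category.id_comp, wA, v'A]
    constructor
    · intro h4
      have := congrArg (fun F => Fam.res (t' := v ≫ pullback.fst (f i) R.hom ≫ f i) F (𝟙 T)
        (by rw [Category.id_comp, ← h]; simp [x₁])) h4
      simpa only [Fam.res_one, Fam.res_res, Category.id_comp] using this
    · intro h4
      have := congrArg (fun F => Fam.res (t' := x₁ ≫ f j) F (𝟙 T)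
        (by rw [Category.id_comp, ← h]; simp [x₁])) h4
      simpa only [Fam.res_one, Fam.res_res, Category.id_comp] using this
  -- glue the universal family
  have hcovR : Presieve.ofArrows P (fun i => pullback.snd (f i) R.hom) ∈ Scheme.fpqcPrecoverage R.left :=
    Precoverage.mem_coverings_of_isPullback _ hcov R.hom _ (fun i ↦ pullback.fst (f i) R.hom)
      fun i ↦ (IsPullback.of_hasPullback _ _).flip
  obtain ⟨V, hV, -⟩ := exists_glue (G := G) (H := H) (t := R.hom) hcovR
    (fun i => (U i).res (toA i) (by rw [← pullback.condition, ← Category.assoc, toA_hom]))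
    (fun W i j w v hwv => by
      have h0 : v ≫ pullback.fst (f j) R.hom ≫ f j = w ≫ pullback.fst (f i) R.hom ≫ f i := by
        rw [pullback.condition, pullback.condition, ← Category.assoc, ← Category.assoc]
        exact congrArg (· ≫ R.hom) hwv.symm
      have := congrArg (fun F => Fam.res (t' := w ≫ pullback.snd (f i) R.hom ≫ R.hom) F (𝟙 W)
        (by rw [Category.id_comp, pullback.condition])) ((hkey i j w v h0).1 hwv)
      simpa only [famP, Fam.res_one, Fam.res_res, Category.id_comp] using this)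
  refine ⟨R, V, fun T t F => ?_, fun i => ⟨@asIso _ _ _ _ (θ.hom.hom i) (hiso i)⟩⟩
  -- the classifying morphism
  let Q : κ → Scheme.{u} := fun i => pullback (f i) t
  have hcovT : Presieve.ofArrows Q (fun i => pullback.snd (f i) t) ∈ Scheme.fpqcPrecoverage T :=
    Precoverage.mem_coverings_of_isPullback _ hcov t _ (fun i ↦ pullback.fst (f i) t)
      fun i ↦ (IsPullback.of_hasPullback _ _).flip
  have hsheaf := fun Z => Groth.Agent.Lib.DescAlg.DDFam.Cover.isSheafFor_yoneda hcovT Z
  have hq : ∀ i, ∃ v : Q i ⟶ P i, v ≫ pullback.fst (f i) R.hom = pullback.fst (f i) t ∧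
      ∀ (h : v ≫ pullback.fst (f i) R.hom ≫ f i = pullback.snd (f i) t ≫ t),
        (famP i v).res (𝟙 _) (by rw [Category.id_comp, h]) = F.res (pullback.snd (f i) t) rfl := fun i => by
    obtain ⟨b, ⟨w, hb⟩, -⟩ := hU i (Q i) (pullback.fst (f i) t)
      (F.res (pullback.snd (f i) t) pullback.condition.symm)
    refine ⟨b ≫ inv (toA i), by rw [Category.assoc, ← toA_hom i, IsIso.inv_hom_id_assoc, w], fun h => ?_⟩
    have := congrArg (fun F => Fam.res (t' := pullback.snd (f i) t ≫ t) F (𝟙 (Q i))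
      (by rw [Category.id_comp, pullback.condition])) hb
    refine Eq.trans ?_ (this.trans (Fam.res_one F _ _ _))
    refine Eq.trans ?_ (Fam.res_one (U i) b _ _).symm
    refine (Fam.res_one (U i) _ _ _).trans ?_
    exact (U i).res_congr (by simp) _
  choose v hv hvF using hq
  have hv' : ∀ i, v i ≫ pullback.fst (f i) R.hom ≫ f i = pullback.snd (f i) t ≫ t := fun i => by
    rw [← Category.assoc, hv, pullback.condition]
  obtain ⟨a, ha, -⟩ := (Presieve.isSheafFor_arrows_iff _ _).1 (hsheaf R.left)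
    (fun i => v i ≫ pullback.snd (f i) R.hom) (fun i j W b c hbc => by
      show b ≫ v i ≫ _ = c ≫ v j ≫ _
      have h0 : (c ≫ v j) ≫ pullback.fst (f j) R.hom ≫ f j = (b ≫ v i) ≫ pullback.fst (f i) R.hom ≫ f i := by
        simp only [Category.assoc, hv']
        rw [← Category.assoc, ← Category.assoc]
        exact congrArg (· ≫ t) hbc.symm
      rw [← Category.assoc, ← Category.assoc, hkey i j _ _ h0]
      have h1 := congrArg (fun F => Fam.res (t' := (b ≫ v i) ≫ pullback.fst (f i) R.hom ≫ f i) F b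
        (by rw [Category.assoc, hv' i])) (hvF i (hv' i))
      have h2 := congrArg (fun F => Fam.res (t' := (b ≫ v i) ≫ pullback.fst (f i) R.hom ≫ f i) F c
        (by rw [← h0, Category.assoc, hv' j])) (hvF j (hv' j))
      simp only [famP, Fam.res_one, Fam.res_res, Category.comp_id, Category.assoc] at h1 h2 ⊢
      exact h1.trans ((F.res_congr hbc _).trans h2.symm))
  have haw : a ≫ R.hom = t := (hsheaf S).isSeparatedFor.ext fun Z b hb => by
    obtain ⟨i⟩ := hb
    show pullback.snd (f i) t ≫ a ≫ R.hom = pullback.snd (f i) t ≫ t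
    rw [← hv' i, pullback.condition, ← Category.assoc (v i), ← ha i]
    exact (Category.assoc _ _ _).symm
  refine ⟨a, ⟨haw, ?_⟩, fun a' => ?_⟩
  · refine (exists_glue hcovT (fun i => F.res (pullback.snd (f i) t) rfl) (fun W i j w v e => by
      simp only [Fam.res_res]; exact F.res_congr e _)).unique (fun i => ?_) fun i => rfl
    rw [← hvF i (hv' i)]
    have := congrArg (fun K => Fam.res (t' := pullback.snd (f i) t ≫ t) K (v i)
      (by rw [← pullback.condition, hv' i])) (hV i)
    simp only [famP, Fam.res_one, Fam.res_res, Category.id_comp] at this ⊢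
    rw [← this]
    exact V.res_congr (ha i) _
  · rintro ⟨hw', ha'⟩
    refine (hsheaf R.left).isSeparatedFor.ext fun Z b hb => ?_
    obtain ⟨i⟩ := hb
    show pullback.snd (f i) t ≫ a' = pullback.snd (f i) t ≫ a
    rw [show pullback.snd (f i) t ≫ a = v i ≫ pullback.snd (f i) R.hom from ha i]
    let v' : Q i ⟶ P i := pullback.lift (pullback.fst (f i) t) (pullback.snd (f i) t ≫ a')
      (by rw [Category.assoc, hw', pullback.condition])
    have h0 : v i ≫ pullback.fst (f i) R.hom ≫ f i = v' ≫ pullback.fst (f i) R.hom ≫ f i := by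
      rw [pullback.lift_fst_assoc, ← Category.assoc, hv]
    rw [← pullback.lift_snd (pullback.fst (f i) t) (pullback.snd (f i) t ≫ a')
      (by rw [Category.assoc, hw', pullback.condition] : _ = (pullback.snd (f i) t ≫ a') ≫ R.hom),
      hkey i i v' (v i) h0]
    have h1 := congrArg (fun K => Fam.res (t' := v' ≫ pullback.fst (f i) R.hom ≫ f i) K v'
      (by rw [pullback.condition])) (hV i)
    have h2 := congrArg (fun K => Fam.res (t' := v' ≫ pullback.fst (f i) R.hom ≫ f i) K (𝟙 _)
      (by rw [Category.id_comp, ← h0, hv' i])) (hvF i (hv' i))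
    simp only [famP, Fam.res_one, Fam.res_res, Category.id_comp, Category.comp_id] at h1 h2 ⊢
    rw [← h1, h2]
    have := congrArg (fun K => Fam.res (t' := v' ≫ pullback.fst (f i) R.hom ≫ f i) K (pullback.snd (f i) t)
      (by rw [← h0, hv' i])) ha'
    simp only [Fam.res_res] at this
    exact (V.res_congr (pullback.lift_snd _ _ _) _).trans this

/-- An fpqc covering in the sense of `TwC.Locally`, refined by opens of the source, is an fpqc family. -/
theorem mem_fpqc {S' : Scheme.{u}} (f : S' ⟶ S) [Flat f] [Surjective f]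
    (hc : ∀ W : S.Opens, IsAffineOpen W → ∃ W' : S'.Opens, IsCompact (W' : Set S') ∧ f.base '' (W' : Set S') = (W : Set S))
    {κ : Type u} (V : κ → S'.Opens) (hV : ∀ x : S', ∃ k, x ∈ V k) :
    Presieve.ofArrows (fun k => (V k : Scheme.{u})) (fun k => (V k).ι ≫ f) ∈ Scheme.fpqcPrecoverage S := by
  classical
  refine ⟨?_, (Scheme.ofArrows_mem_precoverage_iff (P := @Flat)).2 ⟨fun s => ?_, fun k => inferInstance⟩⟩
  · show (PreZeroHypercover.mk κ (fun k => (V k : Scheme.{u})) fun k => (V k).ι ≫ f).presieve₀ ∈ _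
    rw [Scheme.presieve₀_mem_qcPrecoverage_iff]
    refine ⟨fun {W} hW => ?_⟩
    obtain ⟨W', hW'c, hW'⟩ := hc W hW
    choose k hk using hV
    have hO : ∀ x : (W' : Set S'), ∃ O : S'.Opens, IsAffineOpen O ∧ x.1 ∈ O ∧ O ≤ W' ⊓ V (k x.1) := fun x => by
      obtain ⟨O, hO, hxO, hle⟩ := exists_isAffineOpen_mem_and_subset
        (X := S') (x := x.1) (U := W' ⊓ V (k x.1)) ⟨x.2, hk x.1⟩
      exact ⟨O, hO, hxO, hle⟩
    choose O hOa hOm hOle using hO
    obtain ⟨F, hF⟩ := hW'c.elim_finite_subcover (fun x => (O x : Set S')) (fun x => (O x).2)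
      (fun x hx => Set.mem_iUnion.2 ⟨⟨x, hx⟩, hOm _⟩)
    refine IsCompactOpenCovered.of_finite (κ := F) (fun x => k x.1.1)
      (fun x => (V (k x.1.1)).ι ⁻¹ᵁ O x.1) (fun x => ?_) ?_
    · exact ((hOa x.1).preimage_of_isOpenImmersion _
        (fun y hy => by rw [Scheme.Opens.opensRange_ι]; exact (hOle x.1 hy).2)).isCompact
    · rw [← hW']
      refine Set.Subset.antisymm ?_ ?_
      · intro s hs
        obtain ⟨x, y, hy, rfl⟩ := Set.mem_iUnion.1 hs
        exact ⟨_, (hOle x.1 hy).1, (Scheme.Hom.comp_apply _ _ _).symm⟩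
      · rintro _ ⟨x, hx, rfl⟩
        obtain ⟨z, hz, hxz⟩ := Set.mem_iUnion₂.1 (hF hx)
        exact Set.mem_iUnion.2 ⟨⟨z, hz⟩, ⟨x, (hOle z hxz).2⟩, hxz, Scheme.Hom.comp_apply _ _ _⟩
  · obtain ⟨x, rfl⟩ := f.surjective s
    obtain ⟨k, hk⟩ := hV x
    exact ⟨k, ⟨x, hk⟩, Scheme.Hom.comp_apply _ _ _⟩

/-- A property which descends is inherited from the pieces. -/
theorem prop_of_pieces {κ : Type u} {X : κ → Scheme.{u}} (f : ∀ i, X i ⟶ S)
    (hcov : Presieve.ofArrows X f ∈ Scheme.fpqcPrecoverage S) (Q : MorphismProperty Scheme.{u})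
    [IsZariskiLocalAtTarget Q]
    (hQ : Q.DescendsAlong (@Surjective ⊓ @Flat ⊓ @QuasiCompact : MorphismProperty Scheme.{u}))
    (R : Over S) (A : ∀ i, Over (X i))
    (hR : ∀ i, Nonempty ((Over.mk (pullback.fst (f i) R.hom) : Over (X i)) ≅ A i))
    (h : ∀ i, Q (A i).hom) : Q R.hom := by
  have := Groth.Agent.Lib.DescAlg.Effective.Fpqc.quasiCompactCover hcov
  refine Groth.Agent.Lib.DescAlg.FpqcCover.of_fpqcCover Q hQ R.hom (PreZeroHypercover.mk κ X f)
    (Groth.Agent.Lib.DescAlg.Effective.Fpqc.flat_member hcov) fun i => ?_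
  obtain ⟨e⟩ := hR i
  show Q (pullback.snd R.hom (f i))
  rw [← pullbackSymmetry_hom_comp_fst, Q.cancel_left_of_respectsIso]
  have : IsIso e.hom.left := inferInstanceAs (IsIso ((Over.forget _).map e.hom))
  have h1 : e.hom.left ≫ (A i).hom = pullback.fst (f i) R.hom := Over.w e.hom
  rw [← h1, Q.cancel_left_of_respectsIso]
  exact h i

/-- **Representability is fpqc local**, for separated locally quasi-finite or affine pieces. -/
theorem exists_reps_of_indQA {κ : Type u} {X : κ → Scheme.{u}} (f : ∀ i, X i ⟶ S)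
    (hcov : Presieve.ofArrows X f ∈ Scheme.fpqcPrecoverage S)
    (A : ∀ i, Over (X i)) (U : ∀ i, Fam G H ((A i).hom ≫ f i)) (hU : ∀ i, RepsOn (f i) (A i) (U i))
    (hA : ∀ i, MoreMor.IsIndQuasiAffineHom (A i).hom) :
    ∃ (R : Over S) (V : Fam G H R.hom), Reps R V ∧
      ∀ i, Nonempty ((Over.mk (pullback.fst (f i) R.hom) : Over (X i)) ≅ A i) :=
  exists_reps f hcov A U hU fun D hD =>
    Groth.Agent.Lib.DescAlg.IndQA.Effective.effective hcov D fun i => by rw [hD i]; exact hA i

end Groth.Agent.H87.HomFam
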