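import Groth.Agent.H87.MultBridge
import Groth.Agent.H87.CentralDescent
import Groth.Agent.Lib.MultAvg.HomSmooth
import Groth.Agent.Lib.ActSep.ThickNil
import Groth.Agent.Lib.GrpSch.BaseChange
import Groth.Agent.S2973
import Groth.Agent.S2979

/-!
Groups of multiplicative type and their homomorphisms into smooth groups lift along nilpotent ideals.
-/

set_option autoImplicit false
universe u

open CategoryTheory MonoidalCategory CartesianMonoidalCategory MonObj GrpObj AlgebraicGeometry
open CategoryTheory.Limits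
open WithConv
open scoped TensorProduct
open Groth.Agent.Lib Groth.Agent.Lib.RedPts Groth.Agent.Lib.Tori

attribute [local instance] Points.baseAlgebra
attribute [local instance 50] Groth.Agent.H87.Bridge.algR

namespace Groth.Agent.H87.Bridge

set_option linter.style.haveILetI false

/-- An isomorphism of groups from a natural identification of their points. -/
theorem exists_grpIso {S : Scheme.{u}} {P Q : Over S} [GrpObj P] [GrpObj Q] (Φ : ∀ X : Over S, (X ⟶ P) ≃* (X ⟶ Q))
    (hnat : ∀ {X X' : Over S} (h : X' ⟶ X) (g : X ⟶ P), Φ X' (h ≫ g) = h ≫ Φ X g) :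
    Nonempty (Grp.mk P ≅ Grp.mk Q) := by
  have hnat' : ∀ {X X' : Over S} (h : X' ⟶ X) (g : X ⟶ Q), (Φ X').symm (h ≫ g) = h ≫ (Φ X).symm g := by
    intro X X' h g
    rw [MulEquiv.symm_apply_eq, hnat, MulEquiv.apply_symm_apply]
  let a := Φ _ (𝟙 P)
  let b := (Φ _).symm (𝟙 Q)
  have ha : ∀ {X : Over S} (g : X ⟶ P), g ≫ a = Φ X g := fun g => by rw [← hnat, Category.comp_id]
  have hb : ∀ {X : Over S} (g : X ⟶ Q), g ≫ b = (Φ X).symm g := fun g => by rw [← hnat', Category.comp_id]
  have : IsMonHom a := HomDS.isMonHom_of_points a fun X x y => by rw [ha, ha, ha, map_mul]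
  let i : P ≅ Q :=
    { hom := a
      inv := b
      hom_inv_id := by rw [hb]; exact MulEquiv.symm_apply_apply _ _
      inv_hom_id := by rw [ha]; exact MulEquiv.apply_symm_apply _ _ }
  exact ⟨Grp.mkIso' i⟩

variable {R : Type u} [CommRing R] {A : Type u} [CommRing A] [HopfAlgebra R A]
  {L : Type u} [CommRing L] [Algebra R L] {A₀ : Type u} [CommRing A₀] [HopfAlgebra L A₀]

theorem lift_convMul {B : Type u} [CommRing B] [Algebra R B] [Algebra L B] [IsScalarTower R L B]
    (q₁ q₂ : WithConv (A →ₐ[R] B)) :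
    toConv (Algebra.TensorProduct.lift (Algebra.ofId L B) (q₁ * q₂).ofConv (fun _ _ => Commute.all _ _)) =
      toConv (Algebra.TensorProduct.lift (Algebra.ofId L B) q₁.ofConv (fun _ _ => Commute.all _ _)) *
      toConv (Algebra.TensorProduct.lift (Algebra.ofId L B) q₂.ofConv (fun _ _ => Commute.all _ _)) := by
  refine WithConv.ofConv_injective (Algebra.TensorProduct.ext (by ext) (AlgHom.ext fun a => ?_))
  simp only [AlgHom.comp_apply, AlgHom.restrictScalars_apply, Algebra.TensorProduct.includeRight_apply,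
    AlgHom.convMul_apply, Algebra.TensorProduct.lift_tmul, map_one, _root_.one_mul]
  rw [TensorProduct.comul_tmul, CommSemiring.comul_apply]
  generalize Coalgebra.comul (R := R) a = z
  induction z using TensorProduct.induction_on with
  | zero => simp
  | tmul x y => simp
  | add x y hx hy => simp only [map_add, TensorProduct.tmul_add, hx, hy]

/-- Points of the base change in Hopf-algebra form. -/
noncomputable def extEquiv (φ : (L ⊗[R] A) ≃ₐc[L] A₀) (B : Type u) [CommRing B] [Algebra R B] [Algebra L B]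
    [IsScalarTower R L B] : WithConv (A →ₐ[R] B) ≃* WithConv (A₀ →ₐ[L] B) where
  toFun q := toConv ((Algebra.TensorProduct.lift (Algebra.ofId L B) q.ofConv (fun _ _ => Commute.all _ _)).comp
    (φ.symm : A₀ →ₐ[L] L ⊗[R] A))
  invFun p := toConv (((p.ofConv.comp (φ : L ⊗[R] A →ₐ[L] A₀)).restrictScalars R).comp
    Algebra.TensorProduct.includeRight)
  left_inv q := WithConv.ofConv_injective (AlgHom.ext fun a => by simp)
  right_inv p := by
    refine WithConv.ofConv_injective ?_
    simp only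
    rw [show Algebra.TensorProduct.lift (Algebra.ofId L B) ((((p.ofConv.comp (φ : L ⊗[R] A →ₐ[L] A₀))).restrictScalars R).comp
        Algebra.TensorProduct.includeRight) (fun _ _ => Commute.all _ _) = p.ofConv.comp (φ : L ⊗[R] A →ₐ[L] A₀) from
      Algebra.TensorProduct.ext (by ext) (AlgHom.ext fun a => by simp)]
    exact AlgHom.ext fun a => by simp
  map_mul' q₁ q₂ := by
    refine WithConv.ofConv_injective ?_
    refine (congrArg (fun f : WithConv (L ⊗[R] A →ₐ[L] B) => f.ofConv.comp (φ.symm : A₀ →ₐ[L] L ⊗[R] A))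
      (lift_convMul q₁ q₂)).trans ?_
    exact AlgHom.convMul_comp_bialgHom_distrib _ _ (φ.symm : A₀ →ₐc[L] L ⊗[R] A)

variable {T : Over (Spec (CommRingCat.of R))} [GrpObj T]
  (e : T ≅ (Spec (CommRingCat.of A)).asOver (Spec (CommRingCat.of R))) [IsMonHom e.hom]
  {T₀ : Over (Spec (CommRingCat.of L))} [GrpObj T₀]
  (e₀ : T₀ ≅ (Spec (CommRingCat.of A₀)).asOver (Spec (CommRingCat.of L))) [IsMonHom e₀.hom]

include e e₀ in
theorem exists_bcIso (φ : (L ⊗[R] A) ≃ₐc[L] A₀) : Nonempty (Grp.mk (Red.bc (sp R L) T) ≅ Grp.mk T₀) := by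
  let Φ : ∀ X : Over (Spec (CommRingCat.of L)), (X ⟶ Red.bc (sp R L) T) ≃* (X ⟶ T₀) :=
    fun X => ((ptsL e X).trans (extEquiv φ Γ(X.left, ⊤))).trans (pts e₀ X).symm
  refine exists_grpIso Φ fun {X X'} h g => ?_
  apply (pts e₀ X').injective
  refine WithConv.ofConv_injective ?_
  simp only [Φ, MulEquiv.trans_apply, MulEquiv.apply_symm_apply]
  rw [show pts e₀ X' (h ≫ (pts e₀ X).symm (extEquiv φ Γ(X.left, ⊤) (ptsL e X g))) =
    toConv ((pullΓ h).comp (extEquiv φ Γ(X.left, ⊤) (ptsL e X g)).ofConv) from ?_]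
  · refine AlgHom.ext fun a => ?_
    simp only [extEquiv, MulEquiv.coe_mk, Equiv.coe_fn_mk, AlgHom.comp_apply]
    rw [show Algebra.TensorProduct.lift (Algebra.ofId L Γ(X'.left, ⊤)) (ptsL e X' (h ≫ g)).ofConv (fun _ _ => Commute.all _ _) =
      (pullΓ h).comp (Algebra.TensorProduct.lift (Algebra.ofId L Γ(X.left, ⊤)) (ptsL e X g).ofConv (fun _ _ => Commute.all _ _)) from
      Algebra.TensorProduct.ext (by ext) (by
        refine AlgHom.ext fun b => ?_
        rw [ptsL_comp]
        simp)]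
    rfl
  · refine WithConv.ofConv_injective (AlgHom.ext fun a => ?_)
    have h1 := (pts e₀ X).apply_symm_apply (extEquiv φ Γ(X.left, ⊤) (ptsL e X g))
    generalize (pts e₀ X).symm (extEquiv φ Γ(X.left, ⊤) (ptsL e X g)) = y at h1
    rw [← h1]
    change Points.ringHomOf ((h ≫ y) ≫ e₀.hom).left a = h.left.appTop (Points.ringHomOf (y ≫ e₀.hom).left a)
    rw [Category.assoc, Over.comp_left]
    exact Points.ringHomOf_comp _ _ _

omit [HopfAlgebra L A₀] in
/-- Finite type lifts along nilpotent thickenings. -/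
theorem finiteType_of_mod {J : Ideal R} (hJ : IsNilpotent J) (h : Algebra.FiniteType (R ⧸ J) ((R ⧸ J) ⊗[R] A)) :
    Algebra.FiniteType R A := by
  obtain ⟨n, π₀, hπ₀⟩ := Algebra.FiniteType.iff_quotient_mvPolynomial''.1 h
  have hsurj : Function.Surjective (Algebra.TensorProduct.includeRight : A →ₐ[R] (R ⧸ J) ⊗[R] A) := by
    intro z
    induction z using TensorProduct.induction_on with
    | zero => exact ⟨0, map_zero _⟩
    | add x y hx hy =>
      obtain ⟨a, rfl⟩ := hx
      obtain ⟨b, rfl⟩ := hy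
      exact ⟨a + b, map_add _ _ _⟩
    | tmul l a =>
      obtain ⟨r, rfl⟩ := Ideal.Quotient.mk_surjective l
      refine ⟨r • a, ?_⟩
      rw [map_smul]
      simp [Algebra.smul_def]
  choose g hg using fun i : Fin n => hsurj (π₀ (MvPolynomial.X i))
  let π : MvPolynomial (Fin n) R →ₐ[R] A := MvPolynomial.aeval g
  refine Algebra.FiniteType.iff_quotient_mvPolynomial''.2 ⟨n, π, ?_⟩
  letI : Algebra (MvPolynomial (Fin n) R) A := π.toRingHom.toAlgebra
  refine ActSep.surjective_of_nilpotent (R := MvPolynomial (Fin n) R) (B := A) (I := J.map MvPolynomial.C)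
    (by obtain ⟨k, hk⟩ := hJ; exact ⟨k, by rw [← Ideal.map_pow, hk]; simp⟩) fun b => ?_
  obtain ⟨q, hq⟩ := hπ₀ ((1 : R ⧸ J) ⊗ₜ[R] b)
  obtain ⟨q', rfl⟩ := MvPolynomial.map_surjective (Ideal.Quotient.mk J) Ideal.Quotient.mk_surjective q
  refine ⟨q', ?_⟩
  rw [Ideal.map_map, show (algebraMap (MvPolynomial (Fin n) R) A).comp MvPolynomial.C = algebraMap R A from
    π.comp_algebraMap]
  have hcomp : (π₀.toRingHom.comp (MvPolynomial.map (Ideal.Quotient.mk J))) q' =
      (Algebra.TensorProduct.includeRight : A →ₐ[R] (R ⧸ J) ⊗[R] A).toRingHom.comp π.toRingHom q' := by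
    congr 1
    refine MvPolynomial.ringHom_ext (fun r => ?_) fun i => ?_
    · simp [Algebra.TensorProduct.algebraMap_apply]
    · simpa [π] using (hg i).symm
  have hz : (1 : R ⧸ J) ⊗ₜ[R] (b - π q') = 0 := by
    rw [TensorProduct.tmul_sub, sub_eq_zero]
    exact hq.symm.trans hcomp
  have h1 := congrArg (TensorProduct.quotTensorEquivQuotSMul A J) hz
  rw [map_zero] at h1
  have h2 : b - π q' ∈ J • (⊤ : Submodule R A) := by
    rw [← Submodule.Quotient.mk_eq_zero]
    rwa [← map_one (Ideal.Quotient.mk J), TensorProduct.quotTensorEquivQuotSMul_mk_tmul, _root_.one_smul] at h1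
  rw [Ideal.smul_top_eq_map] at h2
  exact h2

variable (J : Ideal R)

/-- The thickening. -/
noncomputable abbrev mq : Spec (CommRingCat.of (R ⧸ J)) ⟶ Spec (CommRingCat.of R) :=
  Spec.map (CommRingCat.ofHom (Ideal.Quotient.mk J))

variable {J}

theorem isNilpotent_ker_appTop (hJ : IsNilpotent J) : IsNilpotent (RingHom.ker ((mq J).app ⊤).hom) := by
  obtain ⟨n, hn⟩ := hJ
  refine ⟨n, le_bot_iff.mp ?_⟩
  have hle : RingHom.ker ((mq J).app ⊤).hom ≤ J.map (Scheme.ΓSpecIso (CommRingCat.of R)).inv.hom := fun x hx => by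
    have h := congr(($(Scheme.ΓSpecIso_naturality (CommRingCat.ofHom (Ideal.Quotient.mk J)))).hom x)
    rw [← (Scheme.ΓSpecIso (CommRingCat.of R)).hom_inv_id_apply x]
    refine Ideal.mem_map_of_mem _ (Ideal.Quotient.eq_zero_iff_mem.mp ?_)
    refine h.symm.trans ?_
    exact (congrArg (Scheme.ΓSpecIso (CommRingCat.of (R ⧸ J))).hom (RingHom.mem_ker.mp hx)).trans (map_zero _)
  refine (Ideal.pow_right_mono hle n).trans ?_
  rw [← Ideal.map_pow, hn]
  simp

theorem isImmersion_of_mod (hJ : IsNilpotent J) {H G : Over (Spec (CommRingCat.of R))} (j : H ⟶ G)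
    [IsImmersion ((Over.pullback (mq J)).map j).left] : IsImmersion j.left := by
  have : IsClosedImmersion (mq J) := IsClosedImmersion.spec_of_surjective _ Ideal.Quotient.mk_surjective
  have : Surjective (mq J) := ⟨fun x => ⟨⟨((x : PrimeSpectrum R).asIdeal).map (Ideal.Quotient.mk J),
    Ideal.map_isPrime_of_surjective Ideal.Quotient.mk_surjective (by
      rw [Ideal.mk_ker]
      intro r hr
      obtain ⟨n, hn⟩ := hJ
      exact (x : PrimeSpectrum R).isPrime.mem_of_pow_mem n (by
        have := Ideal.pow_mem_pow hr n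
        rw [hn] at this
        simp only [Ideal.zero_eq_bot, Ideal.mem_bot] at this
        rw [this]
        exact zero_mem _))⟩,
    PrimeSpectrum.ext (by
      show Ideal.comap _ (Ideal.map _ _) = _
      refine (Ideal.comap_map_of_surjective (Ideal.Quotient.mk J) Ideal.Quotient.mk_surjective _).trans
        (sup_eq_left.mpr fun r hr => ?_)
      obtain ⟨n, hn⟩ := hJ
      refine (x : PrimeSpectrum R).isPrime.mem_of_pow_mem n ?_
      have h1 : r ∈ J := Ideal.Quotient.eq_zero_iff_mem.mp hr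
      have := Ideal.pow_mem_pow h1 n
      rw [hn] at this
      simp only [Ideal.zero_eq_bot, Ideal.mem_bot] at this
      rw [this]
      exact zero_mem _)⟩⟩
  exact ActSep.isImmersion_of_nilpotent_base (isNilpotent_ker_appTop hJ) (GrpSch.isPullback_bc (mq J) G)
    (GrpSch.isPullback_bc_map (mq J) j).flip

theorem famOf_app_self {S T : Scheme.{u}} {t : T ⟶ S} {H G : Over S} [GrpObj H] [GrpObj G]
    (v : Red.bc t H ⟶ Red.bc t G) [IsMonHom v] {Z : Over T} (z : Z ⟶ Red.bc t H)
    (w : Z.hom ≫ t = ((Over.map t).obj Z).hom) :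
    (CentralDescent.famOf v).app ((Over.map t).obj Z) Z.hom w (BC.down t z) = BC.down t (z ≫ v) := by
  let k : Over.mk Z.hom ⟶ Z := Over.homMk (𝟙 Z.left) (Category.id_comp _)
  have e1 : CentralDescent.inn (t := t) (Y := (Over.map t).obj Z) Z.hom w = (Over.map t).map k :=
    Over.OverMorphism.ext rfl
  have e2 : CentralDescent.out (t := t) (Y := (Over.map t).obj Z) Z.hom w ≫ (Over.map t).map k = 𝟙 _ :=
    Over.OverMorphism.ext (Category.id_comp _)
  simp only [CentralDescent.famOf]
  rw [e1, ← BC.down_comp, BC.up_down, Category.assoc, BC.down_comp, ← Category.assoc, e2, Category.id_comp]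

/-- Homomorphisms lift. -/
theorem exists_hom_lift (hJ : IsNilpotent J) {H G : Over (Spec (CommRingCat.of R))} [GrpObj H] [GrpObj G]
    (hH : MultAvg.LocSplit H) [Smooth G.hom] (v : Red.bc (mq J) H ⟶ Red.bc (mq J) G) [IsMonHom v] :
    ∃ j : H ⟶ G, IsMonHom j ∧ (Over.pullback (mq J)).map j = v := by
  obtain ⟨F, hF⟩ := MultAvg.exists_fam_lift (A := CommRingCat.of R) hH (K := G) (𝟙 (Spec (CommRingCat.of R))) J hJ
    ((CentralDescent.famOf v).res (𝟙 _) (by rw [Category.id_comp, Category.comp_id]))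
  let j : H ⟶ G := F.app H H.hom (Category.comp_id _) (𝟙 H)
  have hj : ∀ {X : Over (Spec (CommRingCat.of R))} (x : X ⟶ H), x ≫ j = F.app X X.hom (Category.comp_id _) x := by
    intro X x
    rw [← F.natural x H.hom (Category.comp_id _) X.hom (Category.comp_id _) (𝟙 H) (Over.w x), Category.comp_id]
  refine ⟨j, HomDS.isMonHom_of_points j fun X a b => by rw [hj, hj, hj, F.mul], ?_⟩
  apply BC.down_injective
  rw [← Category.id_comp ((Over.pullback (mq J)).map j), BC.down_map, hj]
  let Z := Red.bc (mq J) H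
  let x := BC.down (mq J) (𝟙 Z)
  have hy : Z.hom ≫ Spec.map (MultAvg.mkA (A := CommRingCat.of R) J) ≫ 𝟙 _ = ((Over.map (mq J)).obj Z).hom := by
    rw [Category.comp_id]; rfl
  have h1 := congr(($hF).app ((Over.map (mq J)).obj Z) Z.hom hy x)
  refine ((F.app_congr rfl _ _ x).trans h1).trans ?_
  have hv : ∀ (y : ((Over.map (mq J)).obj Z).left ⟶ Spec (CommRingCat.of (R ⧸ J))) (_ : y = Z.hom)
      (w : y ≫ mq J = ((Over.map (mq J)).obj Z).hom),
      (CentralDescent.famOf v).app ((Over.map (mq J)).obj Z) y w x = BC.down (mq J) v := by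
    intro y e w
    subst e
    exact (famOf_app_self v (𝟙 Z) w).trans (congrArg (BC.down (mq J)) (Category.id_comp v))
  exact hv _ (Category.comp_id _) _

/-- Groups of multiplicative type and of finite type lift. -/
theorem exists_lift (hJ : IsNilpotent J) (H₀ : Over (Spec (CommRingCat.of (R ⧸ J)))) [GrpObj H₀]
    (hH₀ : MultAvg.LocSplit H₀) (hlft : LocallyOfFiniteType H₀.hom) :
    ∃ (H : Over (Spec (CommRingCat.of R))) (_ : GrpObj H), SGA3x.IsMultTypeFT H ∧
      Nonempty (Grp.mk (Red.bc (mq J) H) ≅ Grp.mk H₀) := by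
  haveI := MultAvg.isAffineHom_of_locSplit hH₀
  haveI : IsAffine H₀.left := isAffine_of_isAffineHom H₀.hom
  obtain ⟨A₀, _, _, e₀, he₀⟩ := H1.Hopf.exists_iso H₀
  haveI := he₀
  have hlft' : LocallyOfFiniteType ((Spec (CommRingCat.of A₀)).asOver (Spec (CommRingCat.of (R ⧸ J)))).hom := by
    have : IsIso e₀.inv.left := inferInstanceAs (IsIso ((Over.forget _).map e₀.inv))
    haveI := hlft
    rw [← Over.w e₀.inv]
    infer_instance
  have hft₀ := H1.Hopf.finiteType_of_locallyOfFiniteType hlft'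
  obtain ⟨n, hn⟩ := hJ
  obtain ⟨A, _, _, hq, ⟨φ⟩⟩ := S2979.result R J (fun x hx => ⟨n, by
    have := Ideal.pow_mem_pow hx n
    rw [hn] at this
    exact this⟩) A₀ (S2973.result (R ⧸ J) A₀ hft₀ (isMultType_of_locSplit e₀ hH₀))
  have hft : Algebra.FiniteType R A := finiteType_of_mod ⟨n, hn⟩
    (hft₀.equiv (AlgEquiv.ofBijective (φ.symm : A₀ →ₐ[R ⧸ J] (R ⧸ J) ⊗[R] A) φ.symm.bijective))
  let H := (Spec (CommRingCat.of A)).asOver (Spec (CommRingCat.of R))
  haveI : IsMonHom (Iso.refl H).hom := inferInstanceAs (IsMonHom (𝟙 H))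
  exact ⟨H, inferInstance, isMultTypeFT_of_quasi (Iso.refl H) hft hq,
    exists_bcIso (Iso.refl H) e₀ φ⟩

end Groth.Agent.H87.Bridge
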