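import Groth.Agent.H87.HomLoc
import Groth.Agent.Lib.AlgSpMor.Cancel
import Groth.Agent.Lib.DescAlg.IndQA.Effective

/-!
# The scheme of homomorphisms from a finite locally free group scheme to an affine one
-/

set_option autoImplicit false
universe u

open CategoryTheory CategoryTheory.Limits MonoidalCategory CartesianMonoidalCategory MonObj
open AlgebraicGeometry
open Groth.Agent.H87.HomFam

namespace Groth.Agent.H87.HomSch

set_option linter.style.haveILetI false

variable {S : Scheme.{u}}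

/-- The product of a finite locally free scheme with itself is finite locally free. -/
theorem isFinLocFree_tensor (G : Over S) [IsFinite G.hom] [Flat G.hom]
    [LocallyOfFinitePresentation G.hom] : Mor2.IsFinLocFree (G ⊗ G).hom :=
  ⟨inferInstanceAs (IsFinite (pullback.fst G.hom G.hom ≫ G.hom)),
    inferInstanceAs (Flat (pullback.fst G.hom G.hom ≫ G.hom)),
    inferInstanceAs (LocallyOfFinitePresentation (pullback.fst G.hom G.hom ≫ G.hom))⟩

/-- Affine morphisms are ind-quasi-affine. -/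
theorem indQA_of_isAffineHom {X Y : Scheme.{u}} (f : X ⟶ Y) [hf : IsAffineHom f] :
    MoreMor.IsIndQuasiAffineHom f :=
  Groth.Agent.H54.IndQAff.of_isQuasiAffineHom ⟨inferInstance, fun V hV => by
    have : IsAffine (f ⁻¹ᵁ V : Scheme.{u}) := hV.preimage f
    infer_instance⟩

/-- The closed equalizer transporter, with finite presentation. -/
theorem exists_closed_eq {X P W : Over S} (hX : SGA3x.IsEssentiallyFree X.hom) (hXqc : QuasiCompact X.hom)
    [IsSeparated W.hom] (u v : P ⊗ X ⟶ W) :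
    ∃ (C : Over S) (c : C ⟶ P), IsClosedImmersion c.left ∧
      (∀ {T : Over S} (g : T ⟶ P), (∃ z, z ≫ c = g) ↔ (g ▷ X) ≫ u = (g ▷ X) ≫ v) ∧
      (LocallyOfFiniteType W.hom → LocallyOfFinitePresentation c.left) := by
  let Δ : W ⟶ W ⊗ W := lift (𝟙 W) (𝟙 W)
  have hΔ : Δ.left = pullback.diagonal W.hom := pullback.hom_ext
      ((congrArg CommaMorphism.left (lift_fst (𝟙 W) (𝟙 W))).trans
        (pullback.diagonal_fst W.hom).symm)
      ((congrArg CommaMorphism.left (lift_snd (𝟙 W) (𝟙 W))).trans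
        (pullback.diagonal_snd W.hom).symm)
  haveI : IsClosedImmersion Δ.left := hΔ ▸ inferInstance
  obtain ⟨C, c, hc, hC, hfp⟩ := Groth.Agent.Lib.FreeRes.exists_closed_factor hX (lift u v) Δ
  refine ⟨C, c, hc, fun g => (hC g).trans ⟨?_, fun h => ⟨(g ▷ X) ≫ u, ?_⟩⟩, fun hW => hfp hXqc ?_⟩
  · rintro ⟨l, hl⟩
    have h1 := congrArg (· ≫ fst W W) hl
    have h2 := congrArg (· ≫ snd W W) hl
    simp only [Δ, Category.assoc, lift_fst, lift_snd, Category.comp_id] at h1 h2
    exact h1.symm.trans h2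
  · apply CartesianMonoidalCategory.hom_ext <;> simp [Δ, h]
  · rw [hΔ]
    exact Groth.Agent.Lib.AlgSpMor.Cancel.locallyOfFinitePresentation_of_comp
      (g := pullback.fst W.hom W.hom) (by rw [pullback.diagonal_fst]; infer_instance) inferInstance

theorem lift_whiskerLeft (G : Over S) {X M M' : Over S} (a : X ⟶ G) (m : X ⟶ M) (f : M ⟶ M') :
    lift a m ≫ (G ◁ f) = lift a (m ≫ f) := by
  apply CartesianMonoidalCategory.hom_ext <;> simp

/-- **Homomorphisms over an affine piece.** -/
theorem exists_repsOn (G H : Over S) [GrpObj G] [GrpObj H] [IsFinite G.hom] [Flat G.hom]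
    [LocallyOfFinitePresentation G.hom] [IsAffineHom H.hom] {A : Type u} [CommRing A]
    (j : Spec (.of A) ⟶ S) :
    ∃ (N : Over (Spec (.of A))) (U : Fam G H (N.hom ≫ j)), RepsOn j N U ∧ IsAffineHom N.hom ∧
      (LocallyOfFiniteType H.hom → LocallyOfFiniteType N.hom) ∧
      (LocallyOfFinitePresentation H.hom → LocallyOfFinitePresentation N.hom) := by
  obtain ⟨M, ev, hev, hMa, hMft, hMfp⟩ := HomLoc.exists_mapsOn G H j
  haveI : IsSeparated H.hom := inferInstance
  let P : Over S := Over.mk (M.hom ≫ j)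
  let g₁ : P ⊗ (G ⊗ G) ⟶ G := snd P (G ⊗ G) ≫ fst G G
  let g₂ : P ⊗ (G ⊗ G) ⟶ G := snd P (G ⊗ G) ≫ snd G G
  let p : P ⊗ (G ⊗ G) ⟶ P := fst P (G ⊗ G)
  let u : P ⊗ (G ⊗ G) ⟶ H := lift (g₁ * g₂) p ≫ ev
  let v : P ⊗ (G ⊗ G) ⟶ H := (lift g₁ p ≫ ev) * (lift g₂ p ≫ ev)
  have hGG := isFinLocFree_tensor G
  obtain ⟨C, c, hc, hC, hCfp⟩ := exists_closed_eq
    (Groth.Agent.Lib.FreeRes.isEssentiallyFree_of_isFinLocFree _ hGG)
    (by haveI := hGG.1; infer_instance) u v
  -- the points of the closed subscheme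
  have hpt : ∀ {X : Over S} (g : X ⟶ P) (a b : X ⟶ G),
      lift g (lift a b) ≫ u = lift (a * b) g ≫ ev ∧
        lift g (lift a b) ≫ v = (lift a g ≫ ev) * (lift b g ≫ ev) := fun {X} g a b => by
    have e0 : lift g (lift a b) ≫ p = g := lift_fst _ _
    have e1 : lift g (lift a b) ≫ g₁ = a := by simp [g₁]
    have e2 : lift g (lift a b) ≫ g₂ = b := by simp [g₂]
    constructor
    · simp only [u]
      rw [comp_lift_assoc, MonObj.comp_mul, e0, e1, e2]
    · simp only [v]
      rw [MonObj.comp_mul, comp_lift_assoc, comp_lift_assoc, e0, e1, e2]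
  have hmem : ∀ {T : Over S} (g : T ⟶ P), (∃ z, z ≫ c = g) ↔
      ∀ (X : Over S) (s : X ⟶ T) (a b : X ⟶ G),
        lift (a * b) (s ≫ g) ≫ ev = (lift a (s ≫ g) ≫ ev) * (lift b (s ≫ g) ≫ ev) := fun {T} g => by
    rw [hC, Groth.Agent.Lib.FreeRes.forall_pair_iff]
    constructor
    · intro h X s a b
      rw [← (hpt (s ≫ g) a b).1, ← (hpt (s ≫ g) a b).2]
      exact h X s (lift a b)
    · intro h X s x
      have := h X s (x ≫ fst G G) (x ≫ snd G G)
      rwa [← (hpt (s ≫ g) _ _).1, ← (hpt (s ≫ g) _ _).2, show lift (x ≫ fst G G) (x ≫ snd G G) = x by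
        rw [← comp_lift, lift_fst_snd, Category.comp_id]] at this
  let N : Over (Spec (.of A)) := Over.mk (c.left ≫ M.hom)
  have hcw : c.left ≫ M.hom ≫ j = C.hom := Over.w c
  let toC : Over.mk (N.hom ≫ j) ⟶ C := Over.homMk (𝟙 C.left)
    (by show 𝟙 _ ≫ C.hom = (c.left ≫ M.hom) ≫ j; rw [Category.id_comp, Category.assoc, hcw])
  let c' : Over.mk (N.hom ≫ j) ⟶ P := toC ≫ c
  have hc' : c'.left = c.left := Category.id_comp _
  let φ : G ⊗ Over.mk (N.hom ≫ j) ⟶ H := (G ◁ c') ≫ ev
  have hφ : AutFam.IsHomFamily G H φ := fun X a b m => by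
    simp only [φ, ← Category.assoc, lift_whiskerLeft]
    have := (hmem c').1 ⟨toC, rfl⟩ X m a b
    simpa only [Category.assoc] using this
  let U : Fam G H (N.hom ≫ j) := Fam.ofMor φ hφ
  have hres : ∀ {T : Scheme.{u}} {x : T ⟶ Spec (.of A)} (b : T ⟶ C.left) (w : b ≫ N.hom = x)
      (w' : b ≫ N.hom ≫ j = x ≫ j) (w'' : (b ≫ c.left) ≫ M.hom = x),
      (U.res b w').toMor = HomLoc.wh G j M (b ≫ c.left) w'' ≫ ev := by
    intro T x b w w' w''
    let bb : Over.mk (x ≫ j) ⟶ Over.mk (N.hom ≫ j) := Over.homMk b w'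
    have h1 : (U.res b w').toMor = (G ◁ bb) ≫ U.toMor := by
      rw [show (G ◁ bb) = lift (fst G _) (snd G _ ≫ bb) from
        CartesianMonoidalCategory.hom_ext _ _ (by simp) (by simp)]
      erw [Fam.lift_toMor]
      rfl
    rw [h1, show U.toMor = φ from Fam.toMor_ofMor φ hφ]
    simp only [φ, ← Category.assoc, ← MonoidalCategory.whiskerLeft_comp]
    congr 2
  refine ⟨N, U, fun T x F => ?_, inferInstanceAs (IsAffineHom (c.left ≫ M.hom)), fun h => ?_, fun h => ?_⟩
  · obtain ⟨a, ⟨w, ha⟩, hu⟩ := hev T x F.toMor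
    let g : Over.mk (x ≫ j) ⟶ P := Over.homMk a (by show a ≫ M.hom ≫ j = x ≫ j; rw [← Category.assoc, w])
    obtain ⟨z, hz⟩ := (hmem g).2 fun X s a b => by
      have := F.isHomFamily_toMor X a b s
      rw [← ha] at this
      simpa only [← Category.assoc, lift_whiskerLeft, g] using this
    have hzl : z.left ≫ c.left = a := congrArg CommaMorphism.left hz
    have hzw : z.left ≫ N.hom = x := by
      show z.left ≫ c.left ≫ M.hom = x
      rw [← Category.assoc, hzl, w]
    have hzw' : z.left ≫ N.hom ≫ j = x ≫ j := by rw [← Category.assoc, hzw]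
    refine ⟨z.left, ⟨hzw, ?_⟩, fun b hb => ?_⟩
    · rw [← Fam.ofMor_toMor (U.res z.left hzw'), ← Fam.ofMor_toMor F]
      congr 1
      rw [hres z.left hzw hzw' (by rw [hzl, w]), ← ha]
      congr 2
    · obtain ⟨wb, hb⟩ := hb
      have w'' : (b ≫ c.left) ≫ M.hom = x := by rw [Category.assoc]; exact wb
      have := hu (b ≫ c.left) ⟨w'', by
        rw [← hres b wb (by rw [← Category.assoc, wb]) w'']
        exact congrArg Fam.toMor hb⟩
      exact (cancel_mono c.left).1 (this.trans hzl.symm)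
  · haveI := hMft h
    exact inferInstanceAs (LocallyOfFiniteType (c.left ≫ M.hom))
  · haveI := hMfp h
    haveI := hCfp inferInstance
    exact inferInstanceAs (LocallyOfFinitePresentation (c.left ≫ M.hom))

/-- **The scheme of homomorphisms from a finite locally free group scheme to an affine one.** -/
theorem exists_representsHom (G H : Over S) [GrpObj G] [GrpObj H] [IsFinite G.hom] [Flat G.hom]
    [LocallyOfFinitePresentation G.hom] [IsAffineHom H.hom] :
    ∃ (A : Over S) (υ : G ⊗ A ⟶ H), AutFam.RepresentsHom G H A υ ∧ IsAffineHom A.hom ∧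
      (LocallyOfFiniteType H.hom → LocallyOfFiniteType A.hom) ∧
      (LocallyOfFinitePresentation H.hom → LocallyOfFinitePresentation A.hom) := by
  choose N U hU hNa hNft hNfp using fun i => exists_repsOn G H (S.affineCover.f i)
  have hcov : Presieve.ofArrows S.affineCover.X S.affineCover.f ∈ Scheme.fpqcPrecoverage S :=
    Scheme.zariskiPrecoverage_le_fpqcPrecoverage _ S.affineCover.mem₀
  obtain ⟨R, V, hV, hR⟩ := exists_reps_of_indQA S.affineCover.f hcov N U hU
    fun i => indQA_of_isAffineHom (hf := hNa i) (N i).hom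
  refine ⟨R, V.toMor, representsHom R V hV, ?_, fun h => ?_, fun h => ?_⟩
  · exact IsZariskiLocalAtTarget.of_openCover (P := @IsAffineHom) S.affineCover fun i =>
      piece S.affineCover.f R N hR hNa i
  · exact IsZariskiLocalAtTarget.of_openCover (P := @LocallyOfFiniteType) S.affineCover fun i =>
      piece S.affineCover.f R N hR (fun i => hNft i h) i
  · exact IsZariskiLocalAtTarget.of_openCover (P := @LocallyOfFinitePresentation) S.affineCover fun i =>
      piece S.affineCover.f R N hR (fun i => hNfp i h) i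
where
  piece {Q : MorphismProperty Scheme.{u}} [Q.RespectsIso] {κ : Type u} {X : κ → Scheme.{u}}
      (f : ∀ i, X i ⟶ S) (R : Over S) (N : ∀ i, Over (X i))
      (hR : ∀ i, Nonempty ((Over.mk (pullback.fst (f i) R.hom) : Over (X i)) ≅ N i))
      (h : ∀ i, Q (N i).hom) (i : κ) : Q (pullback.snd R.hom (f i)) := by
    obtain ⟨e⟩ := hR i
    rw [← pullbackSymmetry_hom_comp_fst, Q.cancel_left_of_respectsIso]
    have : IsIso e.hom.left := inferInstanceAs (IsIso ((Over.forget _).map e.hom))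
    have h1 : e.hom.left ≫ (N i).hom = pullback.fst (f i) R.hom := Over.w e.hom
    rw [← h1, Q.cancel_left_of_respectsIso]
    exact h i

end Groth.Agent.H87.HomSch
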