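import Groth.Agent.H87.HomFam
import Groth.Agent.H87.HomSch
import Groth.Agent.H87.Charts
import Groth.Agent.H54.IndQAff
import Groth.Agent.Lib.AlgSpFpqc.ImmersionDescent

/-!
# fpqc descent of affine monomorphisms of group schemes
-/

set_option autoImplicit false
universe u

open CategoryTheory CategoryTheory.Limits MonoidalCategory CartesianMonoidalCategory MonObj GrpObj
open AlgebraicGeometry Desc
open Groth.Agent.Lib.RedPts Groth.Agent.Lib.Tori

namespace Groth.Agent.H87.SubgroupDescent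

set_option linter.style.haveILetI false

variable {S S' : Scheme.{u}} {π : S' ⟶ S}

/-- A one member fpqc covering. -/
theorem cover_mem [Flat π] [Surjective π]
    (hcov : ∀ V : S.Opens, IsAffineOpen V → ∃ W : S'.Opens, IsCompact (W : Set S') ∧ π.base '' (W : Set S') = (V : Set S)) :
    Presieve.ofArrows (fun _ : PUnit.{u + 1} => S') (fun _ => π) ∈ Scheme.fpqcPrecoverage S := by
  have h0 := HomFam.mem_fpqc π hcov (κ := PUnit.{u + 1}) (fun _ => ⊤) fun x => ⟨⟨⟩, trivial⟩
  have h1 := Precoverage.comp_mem_coverings (J := Scheme.fpqcPrecoverage.{u}) _ h0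
    (σ := fun _ => PUnit.{u + 1}) (Y := fun _ _ => S') (fun _ _ => S'.topIso.inv) fun _ =>
      Scheme.zariskiPrecoverage_le_fpqcPrecoverage _
        (Scheme.coverOfIsIso (P := @IsOpenImmersion) S'.topIso.inv).mem₀
  refine Eq.subst (motive := fun R => R ∈ Scheme.fpqcPrecoverage S) ?_ h1
  refine le_antisymm ?_ ?_
  · rintro Z g ⟨i⟩
    convert Presieve.ofArrows.mk (Y := fun _ : PUnit.{u + 1} => S') (f := fun _ => π) PUnit.unit
    simp
  · rintro Z g ⟨i⟩
    convert Presieve.ofArrows.mk (Y := fun _ : Σ _ : PUnit.{u + 1}, PUnit.{u + 1} => S')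
      (f := fun _ => S'.topIso.inv ≫ (⊤ : S'.Opens).ι ≫ π) ⟨⟨⟩, ⟨⟩⟩
    simp

variable {G : Over S} {Z' : Over S'} (z' : Z' ⟶ Red.bc π G)

/-- The map of `Z'` to `G`. -/
noncomputable def toG : Z'.left ⟶ G.left := z'.left ≫ pullback.fst G.hom π

theorem toG_hom : toG z' ≫ G.hom = Z'.hom ≫ π := by
  rw [toG, Category.assoc, pullback.condition, ← Over.w z', Category.assoc]
  rfl

theorem toG_ext [Mono z'] {W : Scheme.{u}} {a b : W ⟶ Z'.left} (h₁ : a ≫ Z'.hom = b ≫ Z'.hom)
    (h₂ : a ≫ toG z' = b ≫ toG z') : a = b := by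
  let a' : Over.mk (a ≫ Z'.hom) ⟶ Z' := Over.homMk a
  let b' : Over.mk (a ≫ Z'.hom) ⟶ Z' := Over.homMk b h₁.symm
  refine congrArg CommaMorphism.left (show a' = b' from ?_)
  rw [← cancel_mono z']
  refine Over.OverMorphism.ext (pullback.hom_ext ?_ ?_)
  · simpa [toG, a', b'] using h₂
  · exact ((Category.assoc _ _ _).trans ((congrArg (a ≫ ·) (Over.w z')).trans h₁)).trans
      ((congrArg (b ≫ ·) (Over.w z').symm).trans (Category.assoc _ _ _).symm)

/-- The two pullbacks to `S' ×_S S'` coincide. -/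
def Invariant : Prop :=
  ∀ (T : Scheme.{u}) (v : T ⟶ Z'.left) (x : T ⟶ S'), x ≫ π = v ≫ Z'.hom ≫ π →
    ∃ w : T ⟶ Z'.left, w ≫ Z'.hom = x ∧ w ≫ toG z' = v ≫ toG z'

variable {z'}

/-- Transport of a point. -/
noncomputable def move (hinv : Invariant z') {T : Scheme.{u}} {x₀ x₁ : T ⟶ S'} (h : x₀ ≫ π = x₁ ≫ π)
    (v : Lifts Z' x₀) : Lifts Z' x₁ :=
  ⟨(hinv T v.1 x₁ (h.symm.trans ((congrArg (· ≫ π) v.2.symm).trans (Category.assoc _ _ _)))).choose,
    (hinv T v.1 x₁ (h.symm.trans ((congrArg (· ≫ π) v.2.symm).trans (Category.assoc _ _ _)))).choose_spec.1⟩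

theorem move_toG (hinv : Invariant z') {T : Scheme.{u}} {x₀ x₁ : T ⟶ S'} (h : x₀ ≫ π = x₁ ≫ π)
    (v : Lifts Z' x₀) : (move hinv h v).1 ≫ toG z' = v.1 ≫ toG z' :=
  (hinv T v.1 x₁ (h.symm.trans ((congrArg (· ≫ π) v.2.symm).trans (Category.assoc _ _ _)))).choose_spec.2

theorem lifts_ext [Mono z'] {T : Scheme.{u}} {x : T ⟶ S'} {v w : Lifts Z' x}
    (h : v.1 ≫ toG z' = w.1 ≫ toG z') : v = w :=
  Subtype.ext (toG_ext z' (v.2.trans w.2.symm) h)

variable (z') in
/-- The descent datum of an invariant monomorphism. -/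
noncomputable def datum [Mono z'] (hinv : Invariant z') : SchDDFam (fun _ : PUnit.{u + 1} => π) where
  obj _ := Z'
  φ T i j x₀ x₁ h :=
    { toFun := move hinv h
      invFun := move hinv h.symm
      left_inv := fun v => lifts_ext (z' := z') (by rw [move_toG, move_toG])
      right_inv := fun v => lifts_ext (z' := z') (by rw [move_toG, move_toG]) }
  φ_natural T T' g i j x₀ x₁ h y₀ y₁ hy₀ hy₁ h' v v' hv' := by
    refine toG_ext z' ?_ ?_
    · exact (move hinv h' v').2.trans (hy₁.symm.trans ((congrArg (g ≫ ·) (move hinv h v).2.symm).trans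
        (Category.assoc _ _ _).symm))
    · show (move hinv h' v').1 ≫ toG z' = (g ≫ (move hinv h v).1) ≫ toG z'
      rw [move_toG, Category.assoc, move_toG, hv', Category.assoc]
  φ_self T i x v := lifts_ext (z' := z') (move_toG hinv rfl v)
  φ_comp T i j k x₀ x₁ x₂ h₀₁ h₁₂ v := lifts_ext (z' := z') (by
    show (move hinv h₁₂ (move hinv h₀₁ v)).1 ≫ _ = (move hinv (h₀₁.trans h₁₂) v).1 ≫ _
    rw [move_toG, move_toG, move_toG])

/-- The criterion for a point of `G` to lie in the descended subobject. -/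
def Crit (z' : Z' ⟶ Red.bc π G) {X : Over S} (g : X ⟶ G) : Prop :=
  ∀ (Y : Over S') (y : (Over.map π).obj Y ⟶ X), ∃ h : Y ⟶ Z', h ≫ z' = BC.up π (y ≫ g)

set_option backward.isDefEq.respectTransparency false in
/-- **Descent of an affine monomorphism along an fpqc cover.** -/
theorem exists_descent_obj [Flat π] [Surjective π]
    (hcov : ∀ V : S.Opens, IsAffineOpen V → ∃ W : S'.Opens, IsCompact (W : Set S') ∧ π.base '' (W : Set S') = (V : Set S))
    (z' : Z' ⟶ Red.bc π G) [Mono z'] [IsAffineHom Z'.hom] (hinv : Invariant z') :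
    ∃ (Z : Over S) (z : Z ⟶ G), Mono z ∧ (∃ φ : Red.bc π Z ≅ Z', φ.hom ≫ z' = (Over.pullback π).map z) ∧
      ∀ {X : Over S} (g : X ⟶ G), (∃ r, r ≫ z = g) ↔ Crit z' g := by
  let f : PUnit.{u + 1} → (S' ⟶ S) := fun _ => π
  have hmem := cover_mem (π := π) hcov
  obtain ⟨R, ⟨θ⟩⟩ := Groth.Agent.Lib.DescAlg.IndQA.Effective.effective hmem (datum z' hinv) fun _ =>
    HomSch.indQA_of_isAffineHom Z'.hom
  let P := pullback π R.hom
  let toA : P ⟶ Z'.left := (θ.hom.hom PUnit.unit).left
  have toA_hom : toA ≫ Z'.hom = pullback.fst π R.hom := Over.w (θ.hom.hom PUnit.unit)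
  haveI hθ : IsIso (θ.hom.hom PUnit.unit) :=
    ⟨θ.inv.hom _, congr(($(θ.hom_inv_id)).hom _), congr(($(θ.inv_hom_id)).hom _)⟩
  haveI : IsIso toA := inferInstanceAs (IsIso ((Over.forget _).map (θ.hom.hom PUnit.unit)))
  let q : P ⟶ G.left := toA ≫ toG z'
  have hsh : ∀ {W : Scheme.{u}} (k : W ⟶ S) (Y : Scheme.{u}),
      (Presieve.ofArrows (fun _ : PUnit.{u + 1} => pullback π k) (fun _ => pullback.snd π k)).IsSheafFor (yoneda.obj Y) :=
    fun {W} k Y => Groth.Agent.Lib.DescAlg.DDFam.Cover.isSheafFor_yoneda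
      (Precoverage.mem_coverings_of_isPullback _ hmem k _ (fun _ ↦ pullback.fst π k)
        fun _ ↦ (IsPullback.of_hasPullback _ _).flip) Y
  -- points with the same image in `R` have the same image in `G`
  have hq : ∀ {W : Scheme.{u}} (b c : W ⟶ P), b ≫ pullback.snd π R.hom = c ≫ pullback.snd π R.hom → b ≫ q = c ≫ q := by
    intro W b c hbc
    let x₀ := b ≫ pullback.fst π R.hom
    let x₁ := c ≫ pullback.fst π R.hom
    have hx : x₀ ≫ π = x₁ ≫ π := by
      simp only [x₀, x₁, Category.assoc, pullback.condition]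
      exact (Category.assoc _ _ _).symm.trans ((congrArg (· ≫ R.hom) hbc).trans (Category.assoc _ _ _))
    let w : Lifts ((toDDFam f).obj R |>.obj PUnit.unit) x₀ := ⟨b, rfl⟩
    let wA : Lifts Z' x₀ := ⟨b ≫ toA, by rw [Category.assoc, toA_hom]⟩
    have hc := θ.hom.comm (i := PUnit.unit) (j := PUnit.unit) x₀ x₁ hx w wA rfl
    have hcan : (((toDDFam f).obj R).φ (i := PUnit.unit) (j := PUnit.unit) x₀ x₁ hx w).1 = c :=
      pullback.hom_ext (pullback.lift_fst _ _ _) ((pullback.lift_snd _ _ _).trans hbc)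
    rw [hcan] at hc
    have hm := move_toG hinv hx wA
    have hc' : (move hinv hx wA).1 = c ≫ toA := hc
    rw [hc'] at hm
    simpa [q, wA, Category.assoc] using hm.symm
  obtain ⟨zl, hzl, -⟩ := (Presieve.isSheafFor_arrows_iff _ _).1 (hsh R.hom G.left) (fun _ => q)
    (fun i j W b c hbc => hq b c hbc)
  have hzl' : pullback.snd π R.hom ≫ zl = q := hzl PUnit.unit
  have hzw : zl ≫ G.hom = R.hom := (hsh R.hom S).isSeparatedFor.ext fun W b hb => by
    obtain ⟨i⟩ := hb
    show pullback.snd π R.hom ≫ zl ≫ G.hom = pullback.snd π R.hom ≫ R.hom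
    rw [← Category.assoc, hzl', Category.assoc, toG_hom, ← Category.assoc, toA_hom, pullback.condition]
  let z : R ⟶ G := Over.homMk zl hzw
  haveI hz : Mono z := ⟨fun {X} a b hab => Over.OverMorphism.ext ((hsh X.hom R.left).isSeparatedFor.ext fun W k hk => by
    obtain ⟨i⟩ := hk
    show pullback.snd π X.hom ≫ a.left = pullback.snd π X.hom ≫ b.left
    let a' : pullback π X.hom ⟶ P := pullback.lift (pullback.fst π X.hom) (pullback.snd π X.hom ≫ a.left)
      (by rw [Category.assoc, Over.w a, pullback.condition])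
    let b' : pullback π X.hom ⟶ P := pullback.lift (pullback.fst π X.hom) (pullback.snd π X.hom ≫ b.left)
      (by rw [Category.assoc, Over.w b, pullback.condition])
    have hab' : a' ≫ q = b' ≫ q := by
      rw [← hzl', pullback.lift_snd_assoc, pullback.lift_snd_assoc, Category.assoc, Category.assoc]
      exact congrArg (fun e : X ⟶ G => pullback.snd π X.hom ≫ e.left) hab
    have : a' ≫ toA = b' ≫ toA := toG_ext z'
      (by simp only [Category.assoc, toA_hom, a', b', pullback.lift_fst])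
      (by simpa only [Category.assoc] using hab')
    rw [cancel_mono toA] at this
    exact (pullback.lift_snd _ _ _).symm.trans ((congrArg (· ≫ pullback.snd π R.hom) this).trans (pullback.lift_snd _ _ _)))⟩
  let φl : pullback R.hom π ⟶ Z'.left := (pullbackSymmetry R.hom π).hom ≫ toA
  have hφl : φl ≫ Z'.hom = pullback.snd R.hom π := by
    rw [Category.assoc, toA_hom]; exact pullbackSymmetry_hom_comp_fst _ _
  let φ : Red.bc π R ≅ Z' := Over.isoMk (asIso φl) hφl
  have hφ : φ.hom ≫ z' = (Over.pullback π).map z := by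
    apply BC.down_injective
    rw [← Category.id_comp ((Over.pullback π).map z), BC.down_map]
    refine Over.OverMorphism.ext ?_
    rw [BC.down_left, Over.comp_left, Category.assoc, Over.comp_left, BC.down_left]
    show φl ≫ toG z' = (𝟙 (pullback R.hom π) ≫ pullback.fst R.hom π) ≫ zl
    rw [Category.id_comp, Category.assoc]
    show _ ≫ q = _
    rw [← hzl', ← Category.assoc, pullbackSymmetry_hom_comp_snd]
  refine ⟨R, z, hz, ⟨φ, hφ⟩, fun {X} g => ⟨?_, fun hg => ?_⟩⟩
  · rintro ⟨r, rfl⟩ Y y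
    refine ⟨BC.up π (y ≫ r) ≫ φ.hom, BC.down_injective ?_⟩
    rw [Category.assoc, hφ, BC.down_map, BC.down_up, BC.down_up, Category.assoc]
  · let Y : Over S' := Over.mk (pullback.fst π X.hom)
    let y : (Over.map π).obj Y ⟶ X := Over.homMk (U := (Over.map π).obj Y) (pullback.snd π X.hom) pullback.condition.symm
    obtain ⟨h, hh⟩ := hg Y y
    have hhG : h.left ≫ toG z' = pullback.snd π X.hom ≫ g.left := by
      have := congr((BC.down π $hh).left)
      rw [BC.down_up, BC.down_left, Over.comp_left, Category.assoc] at this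
      exact this
    let c : pullback π X.hom ⟶ P := h.left ≫ inv toA
    have hc1 : c ≫ pullback.fst π R.hom = pullback.fst π X.hom := by
      rw [← toA_hom, Category.assoc, IsIso.inv_hom_id_assoc]
      exact Over.w h
    have hcS : c ≫ pullback.snd π R.hom ≫ R.hom = pullback.snd π X.hom ≫ X.hom := by
      rw [← pullback.condition, ← pullback.condition, ← Category.assoc, hc1]
    have hcG : (c ≫ pullback.snd π R.hom) ≫ zl = pullback.snd π X.hom ≫ g.left := by
      rw [Category.assoc, hzl', ← hhG, Category.assoc, IsIso.inv_hom_id_assoc]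
    obtain ⟨rl, hrl, -⟩ := (Presieve.isSheafFor_arrows_iff _ _).1 (hsh X.hom R.left)
      (fun _ => c ≫ pullback.snd π R.hom) (fun i j W b d hbd => by
        show b ≫ c ≫ pullback.snd π R.hom = d ≫ c ≫ pullback.snd π R.hom
        have hbd' : b ≫ pullback.snd π X.hom = d ≫ pullback.snd π X.hom := hbd
        let b' : Over.mk (b ≫ pullback.snd π X.hom ≫ X.hom) ⟶ R :=
          Over.homMk (b ≫ c ≫ pullback.snd π R.hom) (by simp only [Category.assoc, hcS]; rfl)
        let d' : Over.mk (b ≫ pullback.snd π X.hom ≫ X.hom) ⟶ R :=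
          Over.homMk (d ≫ c ≫ pullback.snd π R.hom) (by
            simp only [Category.assoc, hcS]
            exact (Category.assoc _ _ _).symm.trans ((congrArg (· ≫ X.hom) hbd'.symm).trans (Category.assoc _ _ _)))
        refine congrArg CommaMorphism.left (show b' = d' from ?_)
        rw [← cancel_mono z]
        refine Over.OverMorphism.ext ?_
        show (b ≫ c ≫ pullback.snd π R.hom) ≫ zl = (d ≫ c ≫ pullback.snd π R.hom) ≫ zl
        refine (Category.assoc _ _ _).trans (Eq.trans ?_ (Category.assoc _ _ _).symm)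
        rw [hcG, ← Category.assoc, hbd', Category.assoc])
    have hrl' : pullback.snd π X.hom ≫ rl = c ≫ pullback.snd π R.hom := hrl PUnit.unit
    have hrw : rl ≫ R.hom = X.hom := (hsh X.hom S).isSeparatedFor.ext fun W b hb => by
      obtain ⟨i⟩ := hb
      show pullback.snd π X.hom ≫ rl ≫ R.hom = pullback.snd π X.hom ≫ X.hom
      rw [← Category.assoc, hrl', Category.assoc, hcS]
    refine ⟨Over.homMk rl hrw, Over.OverMorphism.ext ((hsh X.hom G.left).isSeparatedFor.ext fun W b hb => ?_)⟩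
    obtain ⟨i⟩ := hb
    show pullback.snd π X.hom ≫ rl ≫ zl = pullback.snd π X.hom ≫ g.left
    rw [← Category.assoc, hrl', hcG]

section Grp

variable {Z : Over S} [GrpObj G] (z : Z ⟶ G) [Mono z]

/-- A monomorphism whose points are closed under the operations is a subgroup. -/
theorem exists_grpObj (h1 : ∀ X : Over S, ∃ r : X ⟶ Z, r ≫ z = 1)
    (hmul : ∀ (X : Over S) (a b : X ⟶ Z), ∃ r : X ⟶ Z, r ≫ z = (a ≫ z) * (b ≫ z))
    (hinv : ∀ (X : Over S) (a : X ⟶ Z), ∃ r : X ⟶ Z, r ≫ z = (a ≫ z)⁻¹) :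
    ∃ _ : GrpObj Z, IsMonHom z := by
  obtain ⟨e, he⟩ := h1 (𝟙_ _)
  obtain ⟨m, hm⟩ := hmul _ (fst Z Z) (snd Z Z)
  obtain ⟨i, hi⟩ := hinv _ (𝟙 Z)
  have hpt : ∀ (X : Over S) (a b : X ⟶ Z), lift a b ≫ m ≫ z = (a ≫ z) * (b ≫ z) := fun X a b => by
    rw [hm, comp_mul, lift_fst_assoc, lift_snd_assoc]
  have he' : ∀ X : Over S, toUnit X ≫ e ≫ z = 1 := fun X => by rw [he, comp_one]
  letI mon : MonObj Z :=
    { one := e
      mul := m
      one_mul := by
        rw [← cancel_mono z, Category.assoc]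
        rw [show e ▷ Z = lift (toUnit _ ≫ e) (snd _ _) from CartesianMonoidalCategory.hom_ext _ _ (by simp [Subsingleton.elim (fst (𝟙_ (Over S)) Z) (toUnit _)]) (by simp), hpt,
          Category.assoc, he', _root_.one_mul, leftUnitor_hom]
      mul_one := by
        rw [← cancel_mono z, Category.assoc]
        rw [show Z ◁ e = lift (fst _ _) (toUnit _ ≫ e) from CartesianMonoidalCategory.hom_ext _ _ (by simp) (by simp [Subsingleton.elim (snd Z (𝟙_ (Over S))) (toUnit _)]), hpt,
          Category.assoc, he', _root_.mul_one, rightUnitor_hom]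
      mul_assoc := by
        rw [← cancel_mono z, Category.assoc, Category.assoc, Category.assoc]
        rw [show m ▷ Z = lift (fst _ _ ≫ m) (snd _ _) from CartesianMonoidalCategory.hom_ext _ _ (by simp) (by simp), hpt,
          show Z ◁ m = lift (fst _ _) (snd _ _ ≫ m) from CartesianMonoidalCategory.hom_ext _ _ (by simp) (by simp), hpt,
          comp_mul, Category.assoc, Category.assoc, hm, comp_mul, comp_mul, comp_mul, _root_.mul_assoc]
        simp }
  haveI hz : IsMonHom z :=
    { one_hom := he.trans (one_eq_one (M := G)).symm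
      mul_hom := by
        show m ≫ z = (z ⊗ₘ z) ≫ μ
        rw [hm, show (z ⊗ₘ z) = lift (fst _ _ ≫ z) (snd _ _ ≫ z) from CartesianMonoidalCategory.hom_ext _ _ (by simp) (by simp),
          ← Hom.mul_def] }
  exact ⟨{ mon with
    inv := i
    left_inv := by
      rw [← cancel_mono z, Category.assoc]
      show lift i (𝟙 Z) ≫ m ≫ z = _
      rw [hpt, hi, inv_mul_cancel, Category.assoc]
      exact (he' Z).symm
    right_inv := by
      rw [← cancel_mono z, Category.assoc]
      show lift (𝟙 Z) i ≫ m ≫ z = _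
      rw [hpt, hi, mul_inv_cancel, Category.assoc]
      exact (he' Z).symm }, hz⟩

end Grp

set_option backward.isDefEq.respectTransparency false in
/-- **Descent of an affine subgroup along an fpqc cover.** -/
theorem exists_descent [GrpObj G] [GrpObj Z'] [Flat π] [Surjective π]
    (hcov : ∀ V : S.Opens, IsAffineOpen V → ∃ W : S'.Opens, IsCompact (W : Set S') ∧ π.base '' (W : Set S') = (V : Set S))
    (z' : Z' ⟶ Red.bc π G) [IsMonHom z'] [Mono z'] [IsAffineHom Z'.hom] (hinv : Invariant z') :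
    ∃ (Z : Over S) (_ : GrpObj Z) (z : Z ⟶ G), IsMonHom z ∧ Mono z ∧
      (∃ φ : Red.bc π Z ≅ Z', IsMonHom φ.hom ∧ φ.hom ≫ z' = (Over.pullback π).map z) ∧
      ∀ {X : Over S} (g : X ⟶ G), (∃ r, r ≫ z = g) ↔ Crit z' g := by
  obtain ⟨Z, z, hz, ⟨φ, hφ⟩, hcrit⟩ := exists_descent_obj hcov z' hinv
  obtain ⟨gz, hzm⟩ := exists_grpObj z
    (fun X => (hcrit 1).2 fun Y y => ⟨1, by
      rw [MonObj.one_comp]
      exact BC.down_injective (by rw [BC.down_one, BC.down_up, comp_one])⟩)
    (fun X a b => (hcrit _).2 fun Y y => by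
      obtain ⟨h, hh⟩ := (hcrit (a ≫ z)).1 ⟨a, rfl⟩ Y y
      obtain ⟨k, hk⟩ := (hcrit (b ≫ z)).1 ⟨b, rfl⟩ Y y
      exact ⟨h * k, by rw [MonObj.mul_comp, hh, hk, ← BC.up_mul, comp_mul]⟩)
    (fun X a => (hcrit _).2 fun Y y => by
      obtain ⟨h, hh⟩ := (hcrit (a ≫ z)).1 ⟨a, rfl⟩ Y y
      refine ⟨h⁻¹, BC.down_injective ?_⟩
      rw [GrpObj.inv_comp, hh, BC.down_inv, BC.down_up, BC.down_up, GrpObj.comp_inv])
  refine ⟨Z, gz, z, hzm, hz, ⟨φ, ?_, hφ⟩, hcrit⟩
  refine HomDS.isMonHom_of_points φ.hom fun X a b => ?_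
  rw [← cancel_mono z', Category.assoc, hφ, MonObj.mul_comp, MonObj.mul_comp, Category.assoc, Category.assoc, hφ]

/-- Multiplicative type descends along fpqc covers. -/
theorem isMultTypeFT_of_bc {Z : Over S} [GrpObj Z] [Flat π] [Surjective π] [GrpObj Z']
    (hcov : ∀ V : S.Opens, IsAffineOpen V → ∃ W : S'.Opens, IsCompact (W : Set S') ∧ π.base '' (W : Set S') = (V : Set S))
    (φ : Red.bc π Z ≅ Z') [IsMonHom φ.hom] (hZ' : SGA3x.IsMultTypeFT Z') : SGA3x.IsMultTypeFT Z := by
  obtain ⟨S'', f, hf, hs, hc, hloc⟩ := hZ'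
  refine ⟨S'', f ≫ π, inferInstance, inferInstance, Charts.isQCCover_comp hc hcov, fun s => ?_⟩
  obtain ⟨U, hU, M, iM, hM, ⟨e⟩⟩ := hloc s
  exact ⟨U, hU, M, iM, hM, ⟨BaseChange.bcCongr (Category.assoc _ _ _).symm Z ≪≫
    BaseChange.bcComp (U.ι ≫ f) π Z ≪≫ BaseChange.bcMapIso (U.ι ≫ f) (BaseChange.grpIso φ) ≪≫ e⟩⟩

set_option backward.isDefEq.respectTransparency false in
/-- Immersions of affine schemes into separated ones descend. -/
theorem isImmersion_of_bc {Z : Over S} [Flat π] [Surjective π] [IsSeparated G.hom]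
    (hcov : ∀ V : S.Opens, IsAffineOpen V → ∃ W : S'.Opens, IsCompact (W : Set S') ∧ π.base '' (W : Set S') = (V : Set S))
    (z' : Z' ⟶ Red.bc π G) [IsImmersion z'.left] [IsAffineHom Z'.hom] (φ : Red.bc π Z ≅ Z') (z : Z ⟶ G)
    (h : φ.hom ≫ z' = (Over.pullback π).map z) : IsImmersion z.left := by
  let P : MorphismProperty Scheme.{u} := @IsImmersion ⊓ @QuasiCompact
  haveI : IsIso φ.hom.left := inferInstanceAs (IsIso ((Over.forget _).map φ.hom))
  haveI : IsSeparated (Red.bc π G).hom := MorphismProperty.pullback_snd (P := @IsSeparated) _ _ inferInstance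
  haveI : QuasiCompact (z'.left ≫ (Red.bc π G).hom) := by rw [Over.w z']; infer_instance
  haveI : QuasiCompact z'.left := .of_comp z'.left (Red.bc π G).hom
  have h1 : Charts.Fib P π z := by
    show P ((Over.pullback π).map z).left
    rw [← h, Over.comp_left]
    exact (P.cancel_left_of_respectsIso _ _).2 ⟨inferInstance, inferInstance⟩
  have h2 : Charts.Fib P (𝟙 S) z := Charts.fib_of_cover P fun x => by
    obtain ⟨O, hO, hxO, -⟩ := exists_isAffineOpen_mem_and_subset (X := S) (x := x) (U := ⊤) trivial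
    obtain ⟨W, hle, hqc, hsj⟩ := MT.exists_qc_res π hcov hO
    refine ⟨O, hxO, Charts.fib_descend P (π.resLE O W hle) ?_⟩
    refine Charts.fib_congr P ?_ z (Charts.fib_base P W.ι h1)
    simp
  exact ((Charts.iff_natIso P Over.pullbackId z).mp h2).1

end Groth.Agent.H87.SubgroupDescent
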