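import Groth.Agent.H87.MultLift
import Groth.Agent.H87.Normal
import Groth.Agent.H87.SubgroupDescent
import Groth.Agent.Lib.MultAvg.Hom
import Groth.Agent.Lib.MultAvg.Points
import Groth.Agent.Lib.MultAvg.Conj

/-!
Torsion subgroups of groups of multiplicative type.
-/

set_option autoImplicit false
universe u

open CategoryTheory MonoidalCategory CartesianMonoidalCategory MonObj GrpObj AlgebraicGeometry
open Groth.Agent.Lib Groth.Agent.Lib.RedPts Groth.Agent.Lib.Tori

namespace Groth.Agent.H87.MultTorsion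

set_option linter.style.haveILetI false

/-- Subgroups with the same points are isomorphic. -/
theorem exists_grpIso_of_mono {S : Scheme.{u}} {P Q D : Over S} [GrpObj P] [GrpObj Q] [GrpObj D] (a : P ⟶ D) (b : Q ⟶ D)
    [IsMonHom a] [IsMonHom b] [Mono a] [Mono b]
    (h : ∀ (X : Over S) (d : X ⟶ D), (∃ x, x ≫ a = d) ↔ ∃ y, y ≫ b = d) :
    Nonempty (Grp.mk P ≅ Grp.mk Q) := by
  obtain ⟨r, hr⟩ := (h P a).1 ⟨𝟙 P, Category.id_comp a⟩
  obtain ⟨s, hs⟩ := (h Q b).2 ⟨𝟙 Q, Category.id_comp b⟩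
  let i : P ≅ Q :=
    { hom := r
      inv := s
      hom_inv_id := by rw [← cancel_mono a, Category.assoc, hs, hr, Category.id_comp]
      inv_hom_id := by rw [← cancel_mono b, Category.assoc, hr, hs, Category.id_comp] }
  have : IsMonHom i.hom := HomDS.isMonHom_of_points r fun X x y => by
    rw [← cancel_mono b, Category.assoc, hr, MonObj.mul_comp, MonObj.mul_comp, Category.assoc, Category.assoc, hr]
  exact ⟨Grp.mkIso' i⟩

variable {S : Scheme.{u}}

/-- The `n`-torsion of a group with commutative points. -/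
theorem exists_torsion (H : Over S) [GrpObj H] (hc : ∀ (X : Over S) (a b : X ⟶ H), a * b = b * a) (n : ℕ) :
    ∃ (K : Over S) (_ : GrpObj K) (z : K ⟶ H), IsMonHom z ∧ Mono z ∧
      ∀ (X : Over S) (a : X ⟶ H), (∃ r, r ≫ z = a) ↔ a ^ n = 1 := by
  let p : H ⟶ H := (𝟙 H) ^ n
  let z : Limits.pullback p η[H] ⟶ H := Limits.pullback.fst p η[H]
  have hmz : Mono z := by
    refine ⟨fun a b hab => Limits.pullback.hom_ext hab (Subsingleton.elim (α := _ ⟶ 𝟙_ (Over S)) _ _)⟩
  have hiff : ∀ (X : Over S) (a : X ⟶ H), (∃ r, r ≫ z = a) ↔ a ^ n = 1 := by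
    intro X a
    have hp : a ≫ p = a ^ n := by
      simp only [p, MonObj.comp_pow, Category.comp_id]
    constructor
    · rintro ⟨r, rfl⟩
      rw [← hp, Category.assoc, Limits.pullback.condition]
      exact (congrArg (fun t => r ≫ Limits.pullback.snd p η[H] ≫ t) (Gm.η_eq_one H)).trans (by rw [comp_one, comp_one])
    · intro h
      exact ⟨Limits.pullback.lift a (toUnit X) (by rw [hp, h, Gm.η_eq_one, comp_one]), Limits.pullback.lift_fst _ _ _⟩
  haveI := hmz
  obtain ⟨gK, hzm⟩ := SubgroupDescent.exists_grpObj z (fun X => (hiff X 1).2 (one_pow n))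
    (fun X a b => (hiff X _).2 (by
      rw [Commute.mul_pow (hc X _ _), (hiff X _).1 ⟨a, rfl⟩, (hiff X _).1 ⟨b, rfl⟩, _root_.one_mul]))
    (fun X a => (hiff X _).2 (by rw [inv_pow, (hiff X _).1 ⟨a, rfl⟩, inv_one]))
  exact ⟨_, gK, z, hzm, hmz, hiff⟩

/-- The torsion of a group of multiplicative type is of multiplicative type. -/
theorem locSplit_torsion {H K : Over S} [GrpObj H] [GrpObj K] (z : K ⟶ H) [IsMonHom z] [Mono z] (n : ℕ)
    (hz : ∀ (X : Over S) (a : X ⟶ H), (∃ r, r ≫ z = a) ↔ a ^ n = 1)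
    (hH : MultAvg.LocSplit H) : MultAvg.LocSplit K := by
  obtain ⟨S', f, h1, h2, h3, h4⟩ := hH
  refine ⟨S', f, h1, h2, h3, fun s' => ?_⟩
  obtain ⟨U, hU, M, iM, ⟨ε⟩⟩ := h4 s'
  refine ⟨U, hU, M ⧸ (nsmulAddMonoidHom n : M →+ M).range, inferInstance, ?_⟩
  let g := U.ι ≫ f
  obtain ⟨i, hih, hii⟩ : ∃ i : Red.bc g H ≅ Red.DS (U : Scheme.{u}) M, IsMonHom i.hom ∧ IsMonHom i.inv :=
    ⟨BaseChange.overIso ε, BaseChange.isMonHom_overIso ε, BaseChange.isMonHom_overIso ε.symm⟩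
  haveI := hih
  haveI := hii
  let zg := (Over.pullback g).map z
  haveI : Mono zg := inferInstanceAs (Mono ((Over.pullback g).map z))
  let a : Red.bc g K ⟶ Red.DS (U : Scheme.{u}) M := zg ≫ i.hom
  haveI : IsMonHom zg := inferInstance
  haveI : IsMonHom a := inferInstanceAs (IsMonHom (zg ≫ i.hom))
  haveI : Mono a := mono_comp zg i.hom
  let proj : M →+ M ⧸ (nsmulAddMonoidHom n : M →+ M).range := QuotientAddGroup.mk' _
  let q := Red.DSmap (U : Scheme.{u}) proj
  have hqm : Mono q := ⟨fun x y hxy => Gm.dsFn_ext fun m => by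
    obtain ⟨m, rfl⟩ := QuotientAddGroup.mk'_surjective _ m
    have := congrArg (fun w => Gm.dsFn w m) hxy
    simp only [q, Gm.dsFn_DSmap] at this
    exact this⟩
  haveI : IsMonHom q := HomDS.isMonHom_of_points q fun X x y => Gm.dsFn_ext fun m => by
    simp [q, Gm.dsFn_mul, Gm.dsFn_DSmap]
  haveI := hqm
  refine exists_grpIso_of_mono a q fun X d => ?_
  have h1 : (∃ x, x ≫ a = d) ↔ d ^ n = 1 := by
    constructor
    · rintro ⟨x, rfl⟩
      have hx : (BC.down g (x ≫ zg)) ^ n = 1 := (hz _ _).1 ⟨BC.down g x, (BC.down_map x z).symm⟩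
      have hx' : (x ≫ zg) ^ n = 1 := (BC.downMulEquiv g X H).injective (by rw [map_pow, map_one]; exact hx)
      rw [show x ≫ a = (x ≫ zg) ≫ i.hom from (Category.assoc _ _ _).symm]
      exact (@MonObj.pow_comp _ _ _ _ _ _ _ _ (x ≫ zg) n i.hom hih).symm.trans (by rw [hx']; exact @MonObj.one_comp _ _ _ _ _ _ _ _ i.hom hih)
    · intro hd
      have hw : (d ≫ i.inv) ^ n = 1 := (@MonObj.pow_comp _ _ _ _ _ _ _ _ d n i.inv hii).symm.trans (by rw [hd]; exact @MonObj.one_comp _ _ _ _ _ _ _ _ i.inv hii)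
      obtain ⟨r, hr⟩ := (hz _ (BC.down g (d ≫ i.inv))).2 (by
        rw [show BC.down g (d ≫ i.inv) = BC.downMulEquiv g X H (d ≫ i.inv) from rfl, ← map_pow, hw, map_one])
      refine ⟨BC.up g r, ?_⟩
      have : BC.up g r ≫ zg = d ≫ i.inv := BC.down_injective (by rw [BC.down_map, BC.down_up, hr])
      show BC.up g r ≫ zg ≫ i.hom = d
      rw [← Category.assoc, this, Category.assoc, Iso.inv_hom_id, Category.comp_id]
  rw [h1]
  constructor
  · intro hd
    let χ : Multiplicative M →* Γ(X.left, ⊤) :=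
      { toFun := fun m => Gm.dsFn d m.toAdd
        map_one' := Gm.dsFn_zero d
        map_mul' := fun m₁ m₂ => Gm.dsFn_add d _ _ }
    let χu := χ.toHomUnits
    have hker : (nsmulAddMonoidHom n : M →+ M).range ≤ (MonoidHom.toAdditiveRight χu).ker := by
      rintro _ ⟨m, rfl⟩
      refine Units.ext ?_
      show Gm.dsFn d (n • m) = 1
      rw [Gm.dsFn_nsmul, ← Gm.dsFn_pow, hd, Gm.dsFn_one]
    let ψ := QuotientAddGroup.lift _ (MonoidHom.toAdditiveRight χu) hker
    refine ⟨Gm.dsPt ((Units.coeHom _).comp (AddMonoidHom.toMultiplicativeLeft ψ)), Gm.dsFn_ext fun m => ?_⟩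
    rw [Gm.dsFn_DSmap, Gm.dsFn_dsPt]
    rfl
  · rintro ⟨y, rfl⟩
    refine Gm.dsFn_ext fun m => ?_
    rw [Gm.dsFn_pow, ← Gm.dsFn_nsmul, Gm.dsFn_DSmap, Gm.dsFn_one,
      show proj (n • m) = 0 from (QuotientAddGroup.eq_zero_iff _).2 ⟨m, rfl⟩, Gm.dsFn_zero]

end Groth.Agent.H87.MultTorsion
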