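import Groth.Agent.H87.CentralEq

/-!
# Local form of homomorphisms to a diagonalisable group of finite type; clopen loci
-/

set_option autoImplicit false
universe u

open CategoryTheory MonoidalCategory CartesianMonoidalCategory MonObj GrpObj AlgebraicGeometry
open CategoryTheory.Limits
open Groth.Agent.Lib.RedPts Groth.Agent.Lib.Tori Groth.Agent.H87.Charts
open Groth.Agent.H87.Locus (toG)

namespace Groth.Agent.H87.LocalForm

theorem exists_local_form_spec {A : CommRingCat.{u}} {M N : Type} [AddCommGroup M] [AddCommGroup N]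
    [hN : AddGroup.FG N] (v : Red.DS (Spec A) M ⟶ Red.DS (Spec A) N) [IsMonHom v] (s : Spec A) :
    ∃ (φ : N →+ M) (U : (Spec A).Opens), s ∈ U ∧
      ∀ (X : Over (Spec A)) (_ : X ⟶ Over.mk U.ι) (x : X ⟶ Red.DS (Spec A) M), x ≫ v = x ≫ Red.DSmap _ φ := by
  classical
  let p : PrimeSpectrum A := s
  let c : N → MonoidAlgebra A (Multiplicative M) := fun n =>
    (Scheme.ΓSpecIso (HomDS.ring M)).hom (Red.gmFn (HomDS.univPt (𝟙 (Spec A)) M ≫ v ≫ Red.chi (Spec A) n))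
  have hc : ∀ n, GroupLike.IsGL (c n) := fun n => CentralEq.isGL_of_hom (v ≫ Red.chi (Spec A) n)
  have hone : ∀ n, ∃ m : Multiplicative M, (c n).coeff m ∉ p.asIdeal := by
    intro n
    by_contra h
    push Not at h
    refine p.isPrime.ne_top ((Ideal.eq_top_iff_one _).mpr ?_)
    rw [← (hc n).sum]
    exact Ideal.sum_mem _ fun m _ => h m
  choose m hm using hone
  let ρ : A →+* p.asIdeal.ResidueField := algebraMap A p.asIdeal.ResidueField
  have hred : ∀ n, MonoidAlgebra.mapRingHom (Multiplicative M) ρ (c n) = MonoidAlgebra.single (m n) 1 := by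
    intro n
    have hone' : ρ ((c n).coeff (m n)) = 1 := by
      have h1 : ρ ((c n).coeff (m n)) ≠ 0 := fun h => hm n (Ideal.algebraMap_residueField_eq_zero.mp h)
      have h2 := congrArg ρ ((hc n).idem (m n)).eq
      rw [map_mul] at h2
      exact (mul_eq_left₀ h1).mp h2
    refine MonoidAlgebra.coeff_injective (Finsupp.ext fun q => ?_)
    simp only [MonoidAlgebra.coeff_single, Finsupp.single_apply]
    show ρ ((c n).coeff q) = _
    split_ifs with h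
    · rw [← h, hone']
    · have h3 := congrArg ρ ((hc n).ortho (m n) q h)
      rwa [map_mul, map_zero, hone', _root_.one_mul] at h3
  have hc_add : ∀ a b, c (a + b) = c a * c b := fun a b => by
    dsimp only [c]
    rw [← Category.assoc, Gm.chi_add, Gm.gmFn_mul, Category.assoc, Category.assoc]
    exact map_mul (Scheme.ΓSpecIso (HomDS.ring M)).hom.hom _ _
  have hmadd : ∀ a b, m (a + b) = m a * m b := fun a b => by
    have h := congrArg (MonoidAlgebra.mapRingHom (Multiplicative M) ρ) (hc_add a b)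
    rw [map_mul, hred, hred, hred, MonoidAlgebra.single_mul_single, _root_.one_mul] at h
    exact MonoidAlgebra.of_injective h
  let φ : N →+ M := AddMonoidHom.mk' (fun n => (m n).toAdd) (fun a b => by rw [hmadd, toAdd_mul])
  obtain ⟨F, hF⟩ := hN.out
  let ε : A := ∏ n ∈ F, (c n).coeff (m n)
  refine ⟨φ, PrimeSpectrum.basicOpen ε, ?_, fun X q x => Gm.dsFn_ext fun n => ?_⟩
  · show ε ∉ p.asIdeal
    rw [Ideal.IsPrime.prod_mem_iff]
    rintro ⟨n, -, h⟩
    exact hm n h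
  have hu : IsUnit (CentralEq.rho X ε) := by
    refine X.left.toLocallyRingedSpace.toRingedSpace.isUnit_of_isUnit_germ ⊤ _ fun y hy => ?_
    have h1 : y ∈ X.left.basicOpen (X.hom.appTop ((Scheme.ΓSpecIso A).inv ε)) := by
      rw [← Scheme.preimage_basicOpen_top, basicOpen_eq_of_affine]
      show X.hom y ∈ (PrimeSpectrum.basicOpen ε : TopologicalSpace.Opens (PrimeSpectrum A))
      rw [← Over.w q]
      exact (q.left y).2
    exact (Scheme.mem_basicOpen _ _ y hy).mp h1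
  rw [Gm.dsFn_DSmap, ← Gm.gmFn_chi, ← Gm.gmFn_chi]
  refine congrArg Red.gmFn ?_
  have hn : n ∈ AddSubgroup.closure (F : Set N) := hF ▸ AddSubgroup.mem_top n
  induction hn using AddSubgroup.closure_induction with
  | mem n hn =>
    apply Gm.gmFn_injective
    rw [Category.assoc, CentralEq.gmFn_eq_evalAt, Gm.gmFn_chi]
    show CentralEq.evalAt X (CentralEq.charOf x) (c n) = _
    let e := (c n).coeff (m n)
    have he : CentralEq.rho X e = 1 := by
      have h1 : IsUnit (CentralEq.rho X e) := isUnit_of_dvd_unit (map_dvd _ (Finset.dvd_prod_of_mem (fun n => (c n).coeff (m n)) hn)) hu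
      have h2 := congrArg (CentralEq.rho X) ((hc n).idem (m n)).eq
      rw [map_mul] at h2
      exact h1.mul_eq_left.mp h2
    conv_lhs => rw [← MonoidAlgebra.sum_coeff_single (c n)]
    rw [map_finsuppSum, Finsupp.sum, Finset.sum_eq_single (m n)]
    · rw [CentralEq.evalAt_single, he, _root_.one_mul]
      rfl
    · intro q _ hq
      have h3 := congrArg (CentralEq.rho X) ((hc n).ortho (m n) q (Ne.symm hq))
      rw [map_mul, map_zero, he, _root_.one_mul] at h3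
      rw [CentralEq.evalAt_single, h3, zero_mul]
    · intro h
      rw [Finsupp.notMem_support_iff] at h
      exact absurd (h ▸ Ideal.zero_mem _) (hm n)
  | zero => rw [map_zero, Gm.chi_zero, Gm.chi_zero]
  | add a b _ _ ha hb => rw [map_add, Gm.chi_add, Gm.chi_add, ha, hb]
  | neg a _ ha =>
    have h1 := Gm.chi_add (x ≫ v) a (-a)
    have h2 := Gm.chi_add x (φ a) (φ (-a))
    rw [add_neg_cancel, Gm.chi_zero] at h1
    rw [← map_add, add_neg_cancel, map_zero, Gm.chi_zero, ← ha] at h2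
    exact HomDS.group_cancel (G := X ⟶ Red.Gm (Spec A)) (h1.symm.trans h2)

section Locus

variable {S : Scheme.{u}} (P : MorphismProperty Scheme.{u}) [P.IsStableUnderBaseChange] [IsZariskiLocalAtTarget P]
  [P.DescendsAlong (@Surjective ⊓ @Flat ⊓ @QuasiCompact)] {G H : Over S} [GrpObj G] [GrpObj H]

theorem key_chart {S' : Scheme.{u}} (f : S' ⟶ S) {T₀ : Scheme.{u}} (j : T₀ ⟶ S') [IsOpenImmersion j]
    {M N : Type} [AddCommGroup M] [AddCommGroup N]
    (eG : Grp.mk (Red.bc (j ≫ f) G) ≅ Grp.mk (Red.DS T₀ M)) (eH : Grp.mk (Red.bc (j ≫ f) H) ≅ Grp.mk (Red.DS T₀ N))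
    (u : G ⟶ H) (v : Red.DS T₀ M ⟶ Red.DS T₀ N)
    (hvdef : v = (BaseChange.overIso eG.symm).hom ≫ (Over.pullback (j ≫ f)).map u ≫ (BaseChange.overIso eH).hom)
    (φ : N →+ M)
    (hP : ∀ (X : Scheme.{u}) (x : X), P (Red.DSmap (Spec (X.residueField x)) φ).left →
        ∀ T : Scheme.{u}, P (Red.DSmap T φ).left)
    (U' : T₀.Opens) (x₀ : T₀) (hx₀ : x₀ ∈ U')
    (hφ : ∀ (X : Over T₀) (_ : X ⟶ Over.mk U'.ι) (x : X ⟶ Red.DS T₀ M), x ≫ v = x ≫ Red.DSmap _ φ) :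
    let Z : Set S := {s | Fib P (S.fromSpecResidueField s) u}
    ∃ W : S'.Opens, j x₀ ∈ W ∧ (∀ x ∈ W, f x ∈ Z ↔ f (j x₀) ∈ Z) ∧ (f (j x₀) ∈ Z → Fib P (W.ι ≫ f) u) := by
  intro Z
  have hv : ∀ {T : Scheme.{u}} (g : T ⟶ T₀), Fib P g v ↔ Fib P (g ≫ j ≫ f) u := by
    intro T g
    refine Iff.trans ?_ (fib_comp P g (j ≫ f) u).symm
    let a := BaseChange.overIso eG.symm
    let b := (BaseChange.overIso eH).symm
    exact fib_arrow_iso P g (Arrow.isoMk (f := Arrow.mk v) (g := Arrow.mk ((Over.pullback (j ≫ f)).map u)) a b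
      (by simp [hvdef, a, b]))
  have hloc' : ∀ {T : Scheme.{u}} (g : T ⟶ U'), Fib P (g ≫ U'.ι) v ↔ P (Red.DSmap T φ).left := by
    intro T g
    have he : (Over.pullback (g ≫ U'.ι)).map v = (Over.pullback (g ≫ U'.ι)).map (Red.DSmap _ φ) := by
      apply BC.down_injective
      rw [← Category.id_comp ((Over.pullback (g ≫ U'.ι)).map v),
        ← Category.id_comp ((Over.pullback (g ≫ U'.ι)).map (Red.DSmap _ φ))]
      erw [BC.down_map, BC.down_map]
      exact hφ _ (Over.homMk ((Red.bc (g ≫ U'.ι) (Red.DS T₀ M)).hom ≫ g) (by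
        show _ = _
        simp)) _
    show P ((Over.pullback (g ≫ U'.ι)).map v).left ↔ _
    rw [he]
    exact fib_DSmap P (g ≫ U'.ι) φ
  have hpt : ∀ x : (U' : Scheme.{u}), f (j (U'.ι x)) ∈ Z ↔
      P (Red.DSmap (Spec ((U' : Scheme.{u}).residueField x)) φ).left := by
    intro x
    rw [← hloc' ((U' : Scheme.{u}).fromSpecResidueField x), hv]
    rw [Category.assoc, fib_residue_iff]
    simp only [Scheme.Hom.comp_apply]
    rfl
  have hconst : ∀ x y : (U' : Scheme.{u}), f (j (U'.ι x)) ∈ Z → f (j (U'.ι y)) ∈ Z := fun x y h =>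
    (hpt y).mpr (hP (U' : Scheme.{u}) x ((hpt x).mp h) _)
  refine ⟨j ''ᵁ U', ⟨x₀, hx₀, rfl⟩, ?_, ?_⟩
  · rintro _ ⟨x, hx, rfl⟩
    exact ⟨hconst ⟨x, hx⟩ ⟨x₀, hx₀⟩, hconst ⟨x₀, hx₀⟩ ⟨x, hx⟩⟩
  · intro h
    let g : ((j ''ᵁ U' : S'.Opens) : Scheme.{u}) ⟶ U' := (j.isoImage U').inv
    have h1 := hP (U' : Scheme.{u}) ⟨x₀, hx₀⟩ ((hpt ⟨x₀, hx₀⟩).mp h)
    refine fib_congr P ?_ u ((hv (g ≫ U'.ι)).mp ((hloc' g).mpr (h1 _)))
    simp [g]

theorem key_spec
    (hP : ∀ (M N : Type) [AddCommGroup M] [AddCommGroup N] [AddGroup.FG N] (φ : N →+ M)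
      (X : Scheme.{u}) (x : X), P (Red.DSmap (Spec (X.residueField x)) φ).left →
        ∀ T : Scheme.{u}, P (Red.DSmap T φ).left)
    {S' : Scheme.{u}} (f : S' ⟶ S) {A : CommRingCat.{u}} (j : Spec A ⟶ S') [IsOpenImmersion j]
    {M N : Type} [AddCommGroup M] [AddCommGroup N] [AddGroup.FG N] {T₁ : Scheme.{u}} (g₁ : T₁ ⟶ S) (k : Spec A ⟶ T₁)
    (hk : k ≫ g₁ = j ≫ f) (eG₁ : Grp.mk (Red.bc g₁ G) ≅ Grp.mk (Red.DS T₁ M))
    (eH₁ : Grp.mk (Red.bc g₁ H) ≅ Grp.mk (Red.DS T₁ N)) (u : G ⟶ H) [IsMonHom u] (x₀ : Spec A) :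
    let Z : Set S := {s | Fib P (S.fromSpecResidueField s) u}
    ∃ W : S'.Opens, j x₀ ∈ W ∧ (∀ x ∈ W, f x ∈ Z ↔ f (j x₀) ∈ Z) ∧ (f (j x₀) ∈ Z → Fib P (W.ι ≫ f) u) := by
  let eG : Grp.mk (Red.bc (j ≫ f) G) ≅ Grp.mk (Red.DS (Spec A) M) := BaseChange.bcCongr hk.symm G ≪≫ resChart eG₁ k
  let eH : Grp.mk (Red.bc (j ≫ f) H) ≅ Grp.mk (Red.DS (Spec A) N) := BaseChange.bcCongr hk.symm H ≪≫ resChart eH₁ k
  let v : Red.DS (Spec A) M ⟶ Red.DS (Spec A) N :=
    (BaseChange.overIso eG.symm).hom ≫ (Over.pullback (j ≫ f)).map u ≫ (BaseChange.overIso eH).hom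
  have : IsMonHom v := inferInstance
  obtain ⟨φ, U', hx₀, hφ⟩ := exists_local_form_spec v x₀
  exact key_chart P f j eG eH u v rfl φ (hP M N φ) U' x₀ hx₀ hφ

/-- The locus where `P` holds on the fibre is open and closed, and `P` holds over it. -/
theorem exists_clopen_locus_charts
    (hP : ∀ (M N : Type) [AddCommGroup M] [AddCommGroup N] [AddGroup.FG N] (φ : N →+ M)
      (X : Scheme.{u}) (x : X), P (Red.DSmap (Spec (X.residueField x)) φ).left →
        ∀ T : Scheme.{u}, P (Red.DSmap T φ).left)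
    {S' : Scheme.{u}} (f : S' ⟶ S) [Flat f] (hc : Basic.IsQCCover f)
    (hloc : ∀ s' : S', ∃ U : S'.Opens, s' ∈ U ∧ ∃ (M N : Type) (_ : AddCommGroup M) (_ : AddCommGroup N),
        AddGroup.FG N ∧ Nonempty (Grp.mk (Red.bc (U.ι ≫ f) G) ≅ Grp.mk (Red.DS (U : Scheme.{u}) M)) ∧
        Nonempty (Grp.mk (Red.bc (U.ι ≫ f) H) ≅ Grp.mk (Red.DS (U : Scheme.{u}) N)))
    (u : G ⟶ H) [IsMonHom u] :
    ∃ U : S.Opens, IsClosed (U : Set S) ∧ (∀ s : S, s ∈ U ↔ Fib P (S.fromSpecResidueField s) u) ∧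
      Fib P U.ι u := by
  let Z : Set S := {s | Fib P (S.fromSpecResidueField s) u}
  have key : ∀ s' : S', ∃ W : S'.Opens, s' ∈ W ∧ (∀ x ∈ W, f x ∈ Z ↔ f s' ∈ Z) ∧
      (f s' ∈ Z → Fib P (W.ι ≫ f) u) := by
    intro s'
    obtain ⟨U₁, hU₁, M, N, iM, iN, hN, ⟨eG₁⟩, ⟨eH₁⟩⟩ := hloc s'
    obtain ⟨V, hVaff, hV, hVU₁⟩ := exists_isAffineOpen_mem_and_subset (X := S') (x := s') (U := U₁) hU₁
    obtain ⟨x₀, rfl⟩ : s' ∈ Set.range hVaff.fromSpec := by
      rw [hVaff.range_fromSpec]; exact hV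
    exact key_spec P hP f hVaff.fromSpec (U₁.ι ≫ f)
      (IsOpenImmersion.lift U₁.ι hVaff.fromSpec (by rw [hVaff.range_fromSpec, Scheme.Opens.range_ι]; exact hVU₁))
      (by rw [← Category.assoc, IsOpenImmersion.lift_fac]) eG₁ eH₁ u x₀
  choose W hW hconst hfib using key
  have hop : ∀ Y : Set S, (Y = Z ∨ Y = Zᶜ) → IsOpen Y := by
    intro Y hY
    refine MT.isOpen_of_preimage f hc (isOpen_iff_forall_mem_open.mpr fun s' hs' => ⟨W s', ?_, (W s').2, hW s'⟩)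
    intro x hx
    rcases hY with rfl | rfl
    · exact (hconst s' x hx).mpr hs'
    · exact fun h => hs' ((hconst s' x hx).mp h)
  let U₀ : S.Opens := ⟨Z, hop Z (Or.inl rfl)⟩
  refine ⟨U₀, ⟨hop _ (Or.inr rfl)⟩, fun s => Iff.rfl, ?_⟩
  have hV : Fib P ((f ⁻¹ᵁ U₀).ι ≫ f) u := by
    refine fib_of_cover P fun x => ⟨(f ⁻¹ᵁ U₀).ι ⁻¹ᵁ W x.1, hW x.1, ?_⟩
    refine fib_congr P ?_ u (fib_base P ((f ⁻¹ᵁ U₀).ι ∣_ W x.1) (hfib x.1 x.2))
    simp
  refine fib_of_cover P fun x => ?_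
  obtain ⟨O, hO, hxO, -⟩ := exists_isAffineOpen_mem_and_subset (X := (U₀ : Scheme.{u})) (x := x) (U := ⊤) trivial
  refine ⟨O, hxO, ?_⟩
  obtain ⟨Wc, hWc, hWe⟩ := Basic.isQCCover_pullback_snd hc (O.ι ≫ U₀.ι) ⊤
    (@isAffineOpen_top (O : Scheme.{u}) hO)
  let r : (Wc : Scheme.{u}) ⟶ O := Wc.ι ≫ pullback.fst _ _
  have : CompactSpace (Wc : Scheme.{u}) := isCompact_iff_compactSpace.1 hWc
  have : IsAffine (O : Scheme.{u}) := hO
  have : QuasiCompact r := (quasiCompact_iff_compactSpace r).2 inferInstance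
  have : Surjective r := ⟨fun o => by
    obtain ⟨w, hw, hwo⟩ := (Set.ext_iff.1 hWe o).2 trivial
    exact ⟨⟨w, hw⟩, hwo⟩⟩
  have : Flat r := inferInstance
  refine fib_descend P r ?_
  let l : (Wc : Scheme.{u}) ⟶ (f ⁻¹ᵁ U₀ : Scheme.{u}) :=
    IsOpenImmersion.lift (f ⁻¹ᵁ U₀).ι (Wc.ι ≫ pullback.snd _ _) (by
      rw [Scheme.Opens.range_ι]
      rintro _ ⟨w, rfl⟩
      show f _ ∈ (U₀ : Set S)
      rw [← Scheme.Hom.comp_apply, Category.assoc, ← pullback.condition]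
      simp only [Scheme.Hom.comp_apply]
      exact ((O.ι _) : U₀).2)
  refine fib_congr P ?_ u (fib_base P l hV)
  rw [← Category.assoc, IsOpenImmersion.lift_fac]
  simp [r, pullback.condition]

end Locus

end Groth.Agent.H87.LocalForm
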