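import Groth.Agent.H87.Mono
import Groth.Agent.H87.LocalForm
import Groth.Agent.Lib.Tori.Character
import Mathlib.AlgebraicGeometry.Sites.Fpqc

/-!
# Images of homomorphisms from diagonalisable groups to groups of multiplicative type
-/

set_option autoImplicit false
universe u

open CategoryTheory MonoidalCategory CartesianMonoidalCategory MonObj GrpObj AlgebraicGeometry
open CategoryTheory.Limits
open Groth.Agent.Lib.RedPts Groth.Agent.Lib.Tori
open Groth.Agent.H87.Locus (toG Kills)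
open Groth.Agent.H87.CentralEq (lo)

namespace Groth.Agent.H87.Factor

variable {S : Scheme.{u}} {M N P : Type} [AddCommGroup M] [AddCommGroup N] [AddCommGroup P]

theorem DSmap_comp (φ : M →+ N) (ψ : N →+ P) : Red.DSmap S ψ ≫ Red.DSmap S φ = Red.DSmap S (ψ.comp φ) :=
  Gm.dsFn_ext fun m => by
    rw [Gm.dsFn_DSmap, DS.dsFn_DSmap_self, DS.dsFn_DSmap_self]
    rfl

theorem DSmap_zero : Red.DSmap S (0 : M →+ N) = 1 :=
  Gm.dsFn_ext fun m => by
    rw [DS.dsFn_DSmap_self, Gm.dsFn_one, AddMonoidHom.zero_apply, Gm.dsFn_zero]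

theorem eq_of_DSmap_eq {A : CommRingCat.{u}} [IsDomain A] {φ ψ : M →+ N}
    (h : Red.DSmap (Spec A) φ = Red.DSmap (Spec A) ψ) : φ = ψ := by
  refine AddMonoidHom.ext fun m => HomDS.chi_injective (𝟙 (Spec A)) ?_
  apply Gm.gmFn_injective
  rw [Gm.gmFn_chi, Gm.gmFn_chi, ← Gm.dsFn_DSmap, ← Gm.dsFn_DSmap, h]

theorem lo_DSmap {T : Scheme.{u}} (π : T ⟶ S) {X : Over T} (x : X ⟶ Red.DS T N) (φ : M →+ N) :
    lo π (x ≫ Red.DSmap T φ) = lo π x ≫ Red.DSmap S φ :=
  Gm.dsFn_ext fun m => by rw [CentralEq.dsFn_lo, Gm.dsFn_DSmap, Gm.dsFn_DSmap, CentralEq.dsFn_lo]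

variable {G : Over S} [GrpObj G]

/-- A homomorphism trivial on the kernel of `D(inc)` factors through it. -/
theorem exists_factor {inc : N →+ M} (hι : Function.Injective inc) (f : Red.DS S M ⟶ G) [IsMonHom f]
    (hker : Red.DSmap S (QuotientAddGroup.mk' inc.range) ≫ f = 1) :
    ∃ j : Red.DS S N ⟶ G, IsMonHom j ∧ Red.DSmap S inc ≫ j = f := by
  have : IsMonHom (Red.DSmap S inc) := Gm.isMonHom_DSmap _
  have hpt : ∀ {X : Over S} (x : X ⟶ Red.DS S M), x ≫ Red.DSmap S inc = 1 → x ≫ f = 1 := by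
    intro X x hx
    have h0 : ∀ n, Gm.dsFn x (inc n) = 1 := fun n => by rw [← Gm.dsFn_DSmap, hx, Gm.dsFn_one]
    let χ' : Multiplicative (M ⧸ inc.range) →* Γ(X.left, ⊤) :=
        { toFun := fun q => Quotient.liftOn' q.toAdd (fun m => Gm.dsFn x m) (fun a b hab => by
            obtain ⟨n, hn⟩ := QuotientAddGroup.leftRel_apply.mp hab
            show Gm.dsFn x a = Gm.dsFn x b
            rw [show b = a + inc n by rw [hn, add_neg_cancel_left], Gm.dsFn_add, h0, _root_.mul_one])
          map_one' := Gm.dsFn_zero x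
          map_mul' := fun p q => by
            induction p using Quotient.inductionOn' with
            | h a =>
              induction q using Quotient.inductionOn' with
              | h b => exact Gm.dsFn_add x a b }
    have : x = Gm.dsPt χ' ≫ Red.DSmap S (QuotientAddGroup.mk' inc.range) := Gm.dsFn_ext fun m => by
      rw [Gm.dsFn_DSmap, Gm.dsFn_dsPt]
      rfl
    rw [this, Category.assoc, hker, MonObj.comp_one]
  let q := (Red.DSmap S inc).left
  obtain ⟨hfl, hsj⟩ := Loci.ff_DSmap S hι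
  have : IsAffineHom (Red.DS S M).hom := DS.isAffineHom S M
  have : IsAffineHom (Red.DS S N).hom := DS.isAffineHom S N
  have : QuasiCompact q := by
    have : QuasiCompact (q ≫ (Red.DS S N).hom) := by
      rw [show q ≫ (Red.DS S N).hom = (Red.DS S M).hom from Over.w (Red.DSmap S inc)]
      infer_instance
    exact QuasiCompact.of_comp q (Red.DS S N).hom
  have : EffectiveEpi q := inferInstance
  have hkey : ∀ {Z : Scheme.{u}} (g₁ g₂ : Z ⟶ (Red.DS S M).left), g₁ ≫ q = g₂ ≫ q → g₁ ≫ f.left = g₂ ≫ f.left := by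
    intro Z g₁ g₂ hg
    let Y : Over S := Over.mk (g₁ ≫ (Red.DS S M).hom)
    let a : Y ⟶ Red.DS S M := Over.homMk g₁
    let b : Y ⟶ Red.DS S M := Over.homMk g₂ (by
      show g₂ ≫ (Red.DS S M).hom = g₁ ≫ (Red.DS S M).hom
      rw [← Over.w (Red.DSmap S inc), ← Category.assoc, ← Category.assoc]
      exact congrArg (· ≫ (Red.DS S N).hom) hg.symm)
    have hab : a ≫ Red.DSmap S inc = b ≫ Red.DSmap S inc := Over.OverMorphism.ext hg
    have h1 := hpt (a * b⁻¹) (by
      rw [MonObj.mul_comp a b⁻¹ (Red.DSmap S inc), GrpObj.inv_comp b (Red.DSmap S inc), hab, mul_inv_cancel])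
    rw [MonObj.mul_comp a b⁻¹ f, GrpObj.inv_comp b f, mul_inv_eq_one] at h1
    exact congr(($h1).left)
  let jl := EffectiveEpi.desc q f.left hkey
  have hjl : q ≫ jl = f.left := EffectiveEpi.fac q f.left hkey
  have : Epi q := inferInstance
  let j : Red.DS S N ⟶ G := Over.homMk jl (by
    rw [← cancel_epi q, ← Category.assoc, hjl, Over.w f]
    exact (Over.w (Red.DSmap S inc)).symm)
  have hj : Red.DSmap S inc ≫ j = f := Over.OverMorphism.ext hjl
  refine ⟨j, HomDS.isMonHom_of_points j fun X a b => ?_, hj⟩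
  let p₁ := pullback.fst a.left q
  let X₁ : Over S := Over.mk (p₁ ≫ X.hom)
  let π₁ : X₁ ⟶ X := Over.homMk p₁
  let a' : X₁ ⟶ Red.DS S M := Over.homMk (pullback.snd a.left q) (by
    show pullback.snd a.left q ≫ (Red.DS S M).hom = p₁ ≫ X.hom
    rw [← Over.w (Red.DSmap S inc), ← Category.assoc]
    change (pullback.snd a.left q ≫ q) ≫ _ = _
    rw [← pullback.condition, Category.assoc]
    exact congrArg _ (Over.w a))
  let p₂ := pullback.fst (π₁ ≫ b).left q
  let X₂ : Over S := Over.mk (p₂ ≫ X₁.hom)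
  let π₂ : X₂ ⟶ X₁ := Over.homMk p₂
  let b' : X₂ ⟶ Red.DS S M := Over.homMk (pullback.snd (π₁ ≫ b).left q) (by
    show pullback.snd (π₁ ≫ b).left q ≫ (Red.DS S M).hom = p₂ ≫ X₁.hom
    rw [← Over.w (Red.DSmap S inc), ← Category.assoc]
    change (pullback.snd (π₁ ≫ b).left q ≫ q) ≫ _ = _
    rw [← pullback.condition, Category.assoc]
    exact congrArg _ (Over.w (π₁ ≫ b)))
  have ha : (π₂ ≫ a') ≫ Red.DSmap S inc = (π₂ ≫ π₁) ≫ a := by
    rw [Category.assoc, Category.assoc]
    refine congrArg (π₂ ≫ ·) (Over.OverMorphism.ext ?_)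
    exact pullback.condition.symm
  have hb : b' ≫ Red.DSmap S inc = (π₂ ≫ π₁) ≫ b := by
    rw [Category.assoc]
    exact Over.OverMorphism.ext pullback.condition.symm
  have : Epi p₁ := Flat.epi_of_flat_of_surjective _
  have : Epi p₂ := Flat.epi_of_flat_of_surjective _
  have : Epi π₁ := by
    have : Epi π₁.left := ‹Epi p₁›
    exact Over.epi_of_epi_left _
  have : Epi π₂ := by
    have : Epi π₂.left := ‹Epi p₂›
    exact Over.epi_of_epi_left _
  rw [← cancel_epi (π₂ ≫ π₁), comp_mul, ← Category.assoc, ← Category.assoc (π₂ ≫ π₁) b j, comp_mul,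
    ← Category.assoc (π₂ ≫ π₁) a j, ← ha, ← hb, ← MonObj.mul_comp _ _ (Red.DSmap S inc)]
  simp only [Category.assoc, hj]
  rw [MonObj.mul_comp _ _ f, Category.assoc]

section Point

variable {H : Over S} [GrpObj H] (f : Red.DS S M ⟶ H) {K : CommRingCat.{u}} {k : Spec K ⟶ S}
  (e : Grp.mk (Red.bc k H) ≅ Grp.mk (Red.DS (Spec K) N))

/-- The homomorphism in a chart. -/
noncomputable def chartHom : Red.DS (Spec K) M ⟶ Red.DS (Spec K) N :=
  BC.up k (lo k (𝟙 (Red.DS (Spec K) M)) ≫ f) ≫ (BaseChange.overIso e).hom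

theorem down_comp_chartHom {X : Over (Spec K)} (x : X ⟶ Red.DS (Spec K) M) :
    BC.down k ((x ≫ chartHom f e) ≫ (BaseChange.overIso e).inv) = lo k x ≫ f := by
  rw [chartHom, Category.assoc, Category.assoc, Iso.hom_inv_id, Category.comp_id, BC.down_comp, BC.down_up,
    ← Category.assoc, ← CentralEq.lo_comp, Category.comp_id]

theorem isMonHom_chartHom [IsMonHom f] : IsMonHom (chartHom f e) := by
  refine HomDS.isMonHom_of_points _ fun X a b => ?_
  rw [← cancel_mono (BaseChange.overIso e).inv]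
  have : IsMonHom (BaseChange.overIso e).inv := inferInstanceAs (IsMonHom (BaseChange.overIso e.symm).hom)
  rw [MonObj.mul_comp _ _ (BaseChange.overIso e).inv]
  apply BC.down_injective
  rw [BC.down_mul, down_comp_chartHom, down_comp_chartHom, down_comp_chartHom, CentralEq.lo_mul,
    MonObj.mul_comp _ _ f]

theorem chartHom_DSmap (φ : M →+ P) :
    chartHom (Red.DSmap S φ ≫ f) e = Red.DSmap (Spec K) φ ≫ chartHom f e := by
  rw [← cancel_mono (BaseChange.overIso e).inv]
  apply BC.down_injective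
  rw [down_comp_chartHom, ← Category.id_comp (chartHom (Red.DSmap S φ ≫ f) e), down_comp_chartHom,
    ← Category.assoc, ← lo_DSmap, Category.id_comp]

/-- Over a point, `f` is trivial exactly if its chart is. -/
theorem kills_iff : Kills f k ↔ chartHom f e = 1 := by
  have : IsMonHom (BaseChange.overIso e).inv := inferInstanceAs (IsMonHom (BaseChange.overIso e.symm).hom)
  constructor
  · intro h
    rw [← cancel_mono (BaseChange.overIso e).inv, MonObj.one_comp]
    apply BC.down_injective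
    rw [← Category.id_comp (chartHom f e), down_comp_chartHom, BC.down_one]
    exact h _ (Over.homMk (Red.DS (Spec K) M).hom) _
  · intro h Y p γ
    let ε : (Over.map k).obj (Over.mk p.left) ≅ Y :=
      Over.isoMk (Iso.refl _) ((Category.id_comp _).trans (Over.w p).symm)
    obtain ⟨x, hx⟩ := CentralEq.lo_surjective k (ε.hom ≫ γ)
    rw [← cancel_epi ε.hom, MonObj.comp_one, ← Category.assoc, ← hx, ← down_comp_chartHom f e, h,
      MonObj.comp_one, MonObj.one_comp, BC.down_one]

end Point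

/-- A group of multiplicative type is split at a point. -/
theorem exists_point_chart {H : Over S} [GrpObj H] (hH : SGA3x.IsMultTypeFT H) (s : S) :
    ∃ (K : CommRingCat.{u}) (_ : IsDomain K) (k : Spec K ⟶ S),
      ∃ (N : Type) (_ : AddCommGroup N) (_ : AddGroup.FG N)
        (_ : Grp.mk (Red.bc k H) ≅ Grp.mk (Red.DS (Spec K) N)),
        Subsingleton ↥(Spec K) ∧ Nonempty ↥(Spec K) ∧
        (∀ {G' : Over S} [GrpObj G'] (w : G' ⟶ H), Kills w k ↔ s ∈ Locus.killSet w) ∧
        ∀ (Q : MorphismProperty Scheme.{u}) [Q.IsStableUnderBaseChange] [IsZariskiLocalAtTarget Q]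
          [Q.DescendsAlong (@Surjective ⊓ @Flat ⊓ @QuasiCompact)] {A B : Over S} (w : A ⟶ B),
          Charts.Fib Q k w ↔ Charts.Fib Q (S.fromSpecResidueField s) w := by
  obtain ⟨S', g, hg, hs, hc, hloc⟩ := hH
  obtain ⟨s', rfl⟩ := g.surjective s
  obtain ⟨U, hU, N, iN, hN, ⟨e⟩⟩ := hloc s'
  let K := (U : Scheme.{u}).residueField ⟨s', hU⟩
  let k₀ := (U : Scheme.{u}).fromSpecResidueField ⟨s', hU⟩
  have hk : ∀ x, (k₀ ≫ U.ι ≫ g) x = g s' := fun x =>
    congrArg (fun z => g (U.ι z)) ((U : Scheme.{u}).fromSpecResidueField_apply ⟨s', hU⟩ x)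
  refine ⟨K, inferInstance, k₀ ≫ U.ι ≫ g, N, iN, hN, Charts.resChart e k₀,
    inferInstanceAs (Subsingleton (PrimeSpectrum K)), inferInstanceAs (Nonempty (PrimeSpectrum K)),
    fun w => ?_, fun Q _ _ _ _ _ w => ?_⟩
  · exact (Locus.kills_point_iff w (K := K) (k₀ ≫ U.ι ≫ g)).trans (by rw [hk])
  · exact (Charts.fib_point_iff Q (K := K) (k₀ ≫ U.ι ≫ g) w).trans (by rw [hk])

/-- Over a one-point base, a homomorphism to a split group is given by characters. -/
theorem exists_phi {H : Over S} [GrpObj H] (f : Red.DS S M ⟶ H) [IsMonHom f] {K : CommRingCat.{u}}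
    [Subsingleton ↥(Spec K)] [Nonempty ↥(Spec K)] {k : Spec K ⟶ S} [AddGroup.FG N]
    (e : Grp.mk (Red.bc k H) ≅ Grp.mk (Red.DS (Spec K) N)) :
    ∃ φ : N →+ M, chartHom f e = Red.DSmap (Spec K) φ := by
  have := isMonHom_chartHom f e
  obtain ⟨φ, U', hx, hφ⟩ := LocalForm.exists_local_form_spec (chartHom f e) (Classical.arbitrary ↥(Spec K))
  refine ⟨φ, ?_⟩
  have hU' : ∀ y, y ∈ U' := fun y => Subsingleton.elim (Classical.arbitrary ↥(Spec K)) y ▸ hx
  refine (Category.id_comp _).symm.trans ((hφ _ (Over.homMk (IsOpenImmersion.lift U'.ι (Red.DS _ _).hom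
    (by rw [Scheme.Opens.range_ι]; exact fun y _ => hU' y)) (IsOpenImmersion.lift_fac _ _ _)) _).trans
    (Category.id_comp _))

/-- Over a connected base a homomorphism from a diagonalisable group to a group of multiplicative type
has a diagonalisable image. -/
theorem exists_image [ConnectedSpace ↥S] {H : Over S} [GrpObj H] (hH : SGA3x.IsMultTypeFT H) [AddGroup.FG M]
    (f : Red.DS S M ⟶ H) [IsMonHom f] :
    ∃ (Λ : AddSubgroup M) (_ : AddGroup.FG Λ) (j : Red.DS S Λ ⟶ H),
      IsMonHom j ∧ Mono j ∧ Red.DSmap S Λ.subtype ≫ j = f := by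
  obtain ⟨s₀⟩ := (inferInstance : Nonempty ↥S)
  obtain ⟨K, hK, k, N, iN, hN, e, _, _, hkill, -⟩ := exists_point_chart hH s₀
  obtain ⟨φ, hφ⟩ := exists_phi f e
  let Λ := φ.range
  have hΛ : AddGroup.FG Λ := AddGroup.fg_of_surjective φ.rangeRestrict_surjective
  have := MT.isAffineHom hH
  have := MT.locallyOfFinitePresentation hH
  have hker : Red.DSmap S (QuotientAddGroup.mk' Λ.subtype.range) ≫ f = 1 := by
    let w := Red.DSmap S (QuotientAddGroup.mk' Λ.subtype.range) ≫ f
    have : IsMonHom (Red.DSmap S (QuotientAddGroup.mk' Λ.subtype.range)) := Gm.isMonHom_DSmap _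
    have : IsMonHom w := inferInstance
    obtain ⟨U, hUc, hUe, hUk⟩ := Locus.exists_trivial_locus w (Character.isMultTypeFT_DS S _) (Or.inr inferInstance)
    have hs : s₀ ∈ U := by
      show s₀ ∈ (U : Set S)
      rw [hUe, ← hkill w, kills_iff w e]
      show chartHom (Red.DSmap S _ ≫ f) e = 1
      rw [chartHom_DSmap, hφ, DSmap_comp]
      refine (congrArg (Red.DSmap (Spec K)) (AddMonoidHom.ext fun n => ?_)).trans DSmap_zero
      exact (QuotientAddGroup.eq_zero_iff _).mpr ⟨⟨φ n, n, rfl⟩, rfl⟩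
    have htop : (U : Set S) = Set.univ := IsClopen.eq_univ ⟨hUc, U.2⟩ ⟨s₀, hs⟩
    have hU : U = ⊤ := TopologicalSpace.Opens.ext htop
    subst hU
    exact (Category.id_comp w).symm.trans (hUk _ (Over.homMk (IsOpenImmersion.lift (⊤ : S.Opens).ι
      (Red.DS S _).hom (by rw [Scheme.Opens.range_ι, htop]; exact Set.subset_univ _))
      (IsOpenImmersion.lift_fac _ _ _)) (𝟙 _))
  obtain ⟨j, hj, hjf⟩ := exists_factor Λ.subtype_injective f hker
  refine ⟨Λ, hΛ, j, hj, ?_, hjf⟩
  have : Mono j.left := by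
    refine Mono.mono_of_fibres j (Character.isMultTypeFT_DS S Λ) (Or.inr inferInstance) fun s => ?_
    obtain ⟨K', hK', k', N', iN', hN', e', _, _, hkill', hfib⟩ := exists_point_chart hH s
    obtain ⟨ψ, hψ⟩ := exists_phi f e'
    rw [← hfib]
    let Λ' := ψ.range
    have hle : Λ' ≤ Λ := by
      rintro _ ⟨n, rfl⟩
      have hw : Kills (Red.DSmap S (QuotientAddGroup.mk' Λ.subtype.range) ≫ f) k' := fun Y p γ => by
        rw [hker, MonObj.comp_one]
      rw [kills_iff _ e', chartHom_DSmap, hψ, DSmap_comp, ← DSmap_zero (S := Spec K') (M := N')] at hw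
      obtain ⟨l, hl⟩ := (QuotientAddGroup.eq_zero_iff _).mp (DFunLike.congr_fun (eq_of_DSmap_eq hw) n)
      exact hl ▸ l.2
    have hge : Λ ≤ Λ' := by
      let w := Red.DSmap S (QuotientAddGroup.mk' Λ') ≫ f
      have : IsMonHom (Red.DSmap S (QuotientAddGroup.mk' Λ')) := Gm.isMonHom_DSmap _
      have : IsMonHom w := inferInstance
      obtain ⟨U, hUc, hUe, -⟩ := Locus.exists_trivial_locus w (Character.isMultTypeFT_DS S _) (Or.inr inferInstance)
      have hs : s ∈ U := by
        show s ∈ (U : Set S)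
        rw [hUe, ← hkill' w, kills_iff w e']
        show chartHom (Red.DSmap S _ ≫ f) e' = 1
        rw [chartHom_DSmap, hψ, DSmap_comp]
        refine (congrArg (Red.DSmap (Spec K')) (AddMonoidHom.ext fun n => ?_)).trans DSmap_zero
        exact (QuotientAddGroup.eq_zero_iff _).mpr ⟨n, rfl⟩
      have htop : (U : Set S) = Set.univ := IsClopen.eq_univ ⟨hUc, U.2⟩ ⟨s, hs⟩
      have hw : Kills w k := (hkill w).mpr (show s₀ ∈ Locus.killSet w by rw [← hUe, htop]; trivial)
      rw [kills_iff _ e, chartHom_DSmap, hφ, DSmap_comp, ← DSmap_zero (S := Spec K) (M := N)] at hw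
      rintro _ ⟨n, rfl⟩
      exact (QuotientAddGroup.eq_zero_iff _).mp (DFunLike.congr_fun (eq_of_DSmap_eq hw) n)
    let ψ' : N' →+ Λ := AddMonoidHom.mk' (fun n => ⟨ψ n, hle ⟨n, rfl⟩⟩) (fun a b => Subtype.ext (map_add ψ a b))
    have hsurj : Function.Surjective ψ' := fun l => by
      obtain ⟨n, hn⟩ := hge l.2
      exact ⟨n, Subtype.ext hn⟩
    have hjc : chartHom j e' = Red.DSmap (Spec K') ψ' := by
      obtain ⟨hfl, hsj⟩ := Loci.ff_DSmap (Spec K') (φ := Λ.subtype) Λ.subtype_injective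
      have : Epi (Red.DSmap (Spec K') Λ.subtype).left := Flat.epi_of_flat_of_surjective _
      have : Epi (Red.DSmap (Spec K') Λ.subtype) := Over.epi_of_epi_left _
      rw [← cancel_epi (Red.DSmap (Spec K') Λ.subtype), ← chartHom_DSmap, hjf, hψ, DSmap_comp]
      rfl
    refine Mono.fib_of_kerTriv j k' fun Y p γ hγ => ?_
    let ε : (Over.map k').obj (Over.mk p.left) ≅ Y :=
      Over.isoMk (Iso.refl _) ((Category.id_comp _).trans (Over.w p).symm)
    obtain ⟨x, hx⟩ := CentralEq.lo_surjective k' (ε.hom ≫ γ)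
    have h1 : x ≫ Red.DSmap (Spec K') ψ' = 1 := by
      have : IsMonHom (BaseChange.overIso e').inv := inferInstanceAs (IsMonHom (BaseChange.overIso e'.symm).hom)
      rw [← hjc, ← cancel_mono (BaseChange.overIso e').inv, MonObj.one_comp]
      apply BC.down_injective
      rw [down_comp_chartHom, hx, Category.assoc, hγ, MonObj.comp_one, BC.down_one]
    have : Mono (Red.DSmap (Spec K') ψ') := Loci.mono_DSmap_of_surjective _ hsurj
    have hone : (1 : Over.mk p.left ⟶ Red.DS (Spec K') Λ) ≫ Red.DSmap (Spec K') ψ' = 1 :=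
      Gm.dsFn_ext fun m => ((Gm.dsFn_DSmap _ _ _).trans (Gm.dsFn_one _)).trans (Gm.dsFn_one _).symm
    have h2 : x = 1 := by rwa [← cancel_mono (Red.DSmap (Spec K') ψ'), hone]
    rw [← cancel_epi ε.hom, MonObj.comp_one, ← hx, h2]
    exact Gm.dsFn_ext fun m => by rw [CentralEq.dsFn_lo, Gm.dsFn_one, Gm.dsFn_one]
  exact Over.mono_of_mono_left j

/-- The rank of a split subgroup is at most the rank of a chart. -/
theorem rank_le_of_chart {H : Over S} [GrpObj H] {K : CommRingCat.{u}} [IsDomain K]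
    [Subsingleton ↥(Spec K)] [Nonempty ↥(Spec K)] {k : Spec K ⟶ S} [AddGroup.FG N]
    (e : Grp.mk (Red.bc k H) ≅ Grp.mk (Red.DS (Spec K) N)) {r : ℕ} (j : Red.DS S (Fin r → ℤ) ⟶ H)
    [IsMonHom j] [Mono j] : r ≤ Module.finrank ℤ N := by
  obtain ⟨φ, hφ⟩ := exists_phi j e
  have hm : Mono (Red.DSmap (Spec K) φ) := ⟨fun {X} a b hab => by
    apply CentralEq.lo_injective k
    rw [← cancel_mono j, ← down_comp_chartHom j e, ← down_comp_chartHom j e, hφ, hab]⟩
  have hs := Loci.surjective_of_mono hm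
  have : Module.Finite ℤ N := Module.Finite.iff_addGroup_fg.mpr inferInstance
  have h1 := LinearMap.finrank_range_le φ.toIntLinearMap
  rw [LinearMap.range_eq_top.mpr hs, finrank_top, Module.finrank_fin_fun] at h1
  exact h1

/-- The rank of a split subgroup is bounded. -/
theorem exists_rank_bound {H : Over S} [GrpObj H] (hH : SGA3x.IsMultTypeFT H) (s : S) :
    ∃ b : ℕ, ∀ (r : ℕ) (j : Red.DS S (Fin r → ℤ) ⟶ H), IsMonHom j → Mono j → r ≤ b := by
  obtain ⟨K, hK, k, N, iN, hN, e, _, _, -, -⟩ := exists_point_chart hH s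
  exact ⟨Module.finrank ℤ N, fun r j hj hjm => rank_le_of_chart e j⟩

/-- Monomorphisms of split tori do not decrease the rank. -/
theorem rank_le {r r' : ℕ} (g : Red.DS S (Fin r → ℤ) ⟶ Red.DS S (Fin r' → ℤ)) [IsMonHom g] [Mono g] (s : S) :
    r ≤ r' := by
  let K := S.residueField s
  have : Subsingleton ↥(Spec K) := inferInstanceAs (Subsingleton (PrimeSpectrum K))
  have : Nonempty ↥(Spec K) := inferInstanceAs (Nonempty (PrimeSpectrum K))
  exact (rank_le_of_chart (DS.dsBC (Fin r' → ℤ) (S.fromSpecResidueField s)) g).trans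
    (le_of_eq (Module.finrank_fin_fun ℤ))

end Groth.Agent.H87.Factor
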