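import Groth.Agent.H87.Mono
import Groth.Agent.H87.Factor
import Groth.Agent.Lib.GrpSch.Basic

/-!
# Kernels and images of homomorphisms from diagonalisable groups over a field
-/

set_option autoImplicit false
universe u

open CategoryTheory MonoidalCategory CartesianMonoidalCategory MonObj GrpObj AlgebraicGeometry
open CategoryTheory.Limits
open Groth.Agent.Lib.RedPts Groth.Agent.Lib.Tori
open Groth.Agent.H87.Locus (toG)

namespace Groth.Agent.H87.KerField

set_option linter.style.haveILetI false

/-- A closed subgroup of `D_k(M)` is `D_k(M/H)`. -/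
theorem kill_iff {k : Type u} [Field k] {M : Type} [CommGroup M] [Monoid.FG M] {I : Ideal (MonoidAlgebra k M)}
    (hS : SubDS.IsSubgroup I) {D : Type u} [CommRing D] [Algebra k D] (ch : M →* D) :
    SubDS.Kill I ch ↔ ∀ g ∈ (SubDS.uch I).ker, ch g = 1 := by
  refine ⟨fun h g hg => ?_, fun h x hx => ?_⟩
  · have h2 := congrArg (Ideal.Quotient.liftₐ I (MonoidAlgebra.lift k D M ch) h)
      (show SubDS.uch I g = 1 from hg)
    rw [SubDS.desc_uch] at h2
    simpa using h2
  · let B := MonoidAlgebra k M ⧸ I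
    let v : M →* B := SubDS.uch I
    have hlift : MonoidAlgebra.lift k B M v = Ideal.Quotient.mkₐ k I :=
      MonoidAlgebra.algHom_ext (fun m => by simp [v]; rfl) (by ext)
    have hI : SubDS.Kill I v := fun x hx => by
      rw [hlift]; exact Ideal.Quotient.eq_zero_iff_mem.mpr hx
    haveI : Nontrivial B := Ideal.Quotient.nontrivial_iff.mpr fun htop => by
      have := hS.one 1 (htop ▸ Submodule.mem_top)
      simp at this
    let H := v.ker
    let vl : M ⧸ H →* B := QuotientGroup.lift H v le_rfl
    have hw : Function.Injective vl := fun q q' hq => by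
      obtain ⟨g, rfl⟩ := QuotientGroup.mk_surjective q
      obtain ⟨g', rfl⟩ := QuotientGroup.mk_surjective q'
      rw [QuotientGroup.eq]
      show v (g⁻¹ * g') = 1
      rw [map_mul, ← show v g = v g' from hq, ← map_mul, inv_mul_cancel, map_one]
    let Δ : B →ₐ[k] TensorProduct k B B :=
      Ideal.Quotient.liftₐ I (MonoidAlgebra.lift k _ M (SubDS.tch v)) (SubDS.kill_tch hS hI)
    have hind : LinearIndependent k (vl : M ⧸ H → B) := by
      refine SubDS.linearIndependent_groupLike _ hw (fun q => ?_) Δ.toLinearMap (fun q => ?_)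
      · obtain ⟨g, rfl⟩ := QuotientGroup.mk_surjective q
        exact ((Group.isUnit g).map v).ne_zero
      · obtain ⟨g, rfl⟩ := QuotientGroup.mk_surjective q
        exact SubDS.desc_uch I _ (SubDS.kill_tch hS hI) g
    let π : MonoidAlgebra k M →ₐ[k] MonoidAlgebra k (M ⧸ H) :=
      MonoidAlgebra.mapDomainAlgHom k k (QuotientGroup.mk' H)
    let ψ : MonoidAlgebra k (M ⧸ H) →ₐ[k] B := MonoidAlgebra.lift k B _ vl
    have hψ : Function.Injective ψ := by
      have hlc : ∀ y, ψ y = Finsupp.linearCombination k (vl : M ⧸ H → B) y.coeff := fun y => by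
        induction y using MonoidAlgebra.induction_linear with
        | zero => simp
        | add a b ha hb => simp [ha, hb]
        | single m r => simp [ψ, MonoidAlgebra.lift_single]
      rw [← AlgHom.coe_toLinearMap, ← LinearMap.ker_eq_bot, LinearMap.ker_eq_bot']
      intro y hy
      have : Finsupp.linearCombination k (vl : M ⧸ H → B) y.coeff = 0 := (hlc y).symm.trans hy
      exact MonoidAlgebra.coeff_injective ((linearIndependent_iff.mp hind y.coeff this).trans MonoidAlgebra.coeff_zero.symm)
    have hπ : π x = 0 := by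
      apply hψ
      rw [map_zero, ← AlgHom.comp_apply, show ψ.comp π = MonoidAlgebra.lift k B M v from
        MonoidAlgebra.algHom_ext (fun m => by simp [ψ, π, vl]) (by ext)]
      exact hI x hx
    let chl : M ⧸ H →* D := QuotientGroup.lift H ch (fun g hg => h g hg)
    rw [show MonoidAlgebra.lift k D M ch = (MonoidAlgebra.lift k D _ chl).comp π from
      MonoidAlgebra.algHom_ext (fun m => by simp [π, chl]) (by ext), AlgHom.comp_apply, hπ, map_zero]

variable {K : Type u} [Field K] {G : Over (Spec (CommRingCat.of K))} [GrpObj G]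
  [LocallyOfFiniteType G.hom] {M : Type} [AddCommGroup M] [AddGroup.FG M]
  (f : Red.DS (Spec (CommRingCat.of K)) M ⟶ G) [IsMonHom f]

set_option backward.isDefEq.respectTransparency false in
/-- **The kernel of a homomorphism from a diagonalisable group over a field is diagonalisable.** -/
theorem exists_ker : ∃ N : AddSubgroup M, ∀ {X : Over (Spec (CommRingCat.of K))} (x : X ⟶ Red.DS (Spec (CommRingCat.of K)) M),
    x ≫ f = 1 ↔ ∀ m ∈ N, Gm.dsFn x m = 1 := by
  let A : CommRingCat.{u} := CommRingCat.of K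
  let H := Red.DS (Spec A) M
  let e : Grp.mk (Red.bc (𝟙 (Spec A)) H) ≅ Grp.mk (Red.DS (Spec A) M) := BaseChange.bcId H
  haveI : IsSeparated G.hom := Groth.Agent.Lib.GrpSch.isSeparated_of_field G
  haveI : IsClosedImmersion η[G].left := Groth.Agent.Lib.GrpSch.isClosedImmersion_η G
  haveI : IsClosedImmersion (pullback.fst f.left η[G].left) := inferInstance
  haveI : LocallyOfFiniteType H.hom := by
    have := DS.locallyOfFinitePresentation (Spec A) M
    infer_instance
  haveI : IsLocallyNoetherian H.left := LocallyOfFiniteType.isLocallyNoetherian H.hom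
  haveI : LocallyOfFinitePresentation (pullback.fst f.left η[G].left) := inferInstance
  obtain ⟨I, -, hI⟩ := Locus.exists_ideal f e
  have hlift : ∀ (D : Type u) [CommRing D] [Algebra A D] (ch : Multiplicative M →* D) (x : MonoidAlgebra A (Multiplicative M)),
      MonoidAlgebra.lift A D _ ch x = (Locus.ev (D := CommRingCat.of D) (CommRingCat.ofHom (algebraMap A D)) ch).hom x := by
    intro D _ _ ch x
    induction x using MonoidAlgebra.induction_linear with
    | zero => simp
    | add a b ha hb => rw [map_add, map_add, ha, hb]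
    | single m r => simp [MonoidAlgebra.lift_single, Algebra.smul_def]
  have hkill : ∀ (D : Type u) [CommRing D] [Algebra A D] (ch : Multiplicative M →* D),
      SubDS.Kill I ch ↔ Rigid.pt e (T := Over.mk (Spec.map (CommRingCat.ofHom (algebraMap A D))))
        ((toG (CommRingCat.of D)).comp ch) ≫ f = 1 := by
    intro D _ _ ch
    rw [hI]
    exact ⟨fun h x hx => (hlift D ch x).symm.trans (h x hx), fun h x hx => (hlift D ch x).trans (h hx)⟩
  have hone : ∀ (D : CommRingCat.{u}), (toG D).comp (1 : Multiplicative M →* D) = 1 := fun D => MonoidHom.comp_one _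
  have hS : SubDS.IsSubgroup I :=
    { one := (hkill A 1).mpr (by rw [hone, Rigid.pt_one, MonObj.one_comp f])
      mul := fun D _ _ c₁ c₂ h₁ h₂ => (hkill D _).mpr (by
        rw [MonoidHom.comp_mul, Rigid.pt_mul, MonObj.mul_comp _ _ f, (hkill D _).mp h₁, (hkill D _).mp h₂,
          _root_.one_mul]) }
  haveI : Monoid.FG (Multiplicative M) := Group.fg_iff_monoid_fg.mp inferInstance
  let N₀ : Subgroup (Multiplicative M) := (SubDS.uch I).ker
  refine ⟨Subgroup.toAddSubgroup' N₀, fun {X} x => ?_⟩
  -- the affine case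
  have key : ∀ (D : CommRingCat.{u}) (φ : A ⟶ D) (y : Over.mk (Spec.map φ) ⟶ H),
      y ≫ f = 1 ↔ ∀ m ∈ Subgroup.toAddSubgroup' N₀, Gm.dsFn y m = 1 := by
    intro D φ y
    letI : Algebra K D := φ.hom.toAlgebra
    let ch : Multiplicative M →* D := ((Scheme.ΓSpecIso D).hom.hom : Γ(Spec D, ⊤) →* D).comp
      { toFun := fun m => Gm.dsFn y m.toAdd
        map_one' := Gm.dsFn_zero y
        map_mul' := fun m n => Gm.dsFn_add y _ _ }
    let ε : Over.mk (Spec.map φ) ⟶ (Over.map (𝟙 (Spec A))).obj (Over.mk (Spec.map φ)) :=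
      Over.homMk (V := (Over.map (𝟙 (Spec A))).obj (Over.mk (Spec.map φ))) (𝟙 _) (by
        show 𝟙 _ ≫ Spec.map φ ≫ 𝟙 _ = Spec.map φ
        simp)
    let ε' : (Over.map (𝟙 (Spec A))).obj (Over.mk (Spec.map φ)) ⟶ Over.mk (Spec.map φ) :=
      Over.homMk (U := (Over.map (𝟙 (Spec A))).obj (Over.mk (Spec.map φ))) (𝟙 _) (by
        show 𝟙 _ ≫ Spec.map φ = Spec.map φ ≫ 𝟙 _
        simp)
    have hp : Rigid.pt e (T := Over.mk (Spec.map φ)) ((toG D).comp ch) = ε' ≫ y := by
      have hy : (Gm.dsPt ((toG D).comp ch) : Over.mk (Spec.map φ) ⟶ H) = y := Gm.dsFn_ext fun m => by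
        rw [Gm.dsFn_dsPt]
        simp [ch]
      rw [Rigid.pt, hy]
      refine Over.OverMorphism.ext ?_
      rw [BC.down_left]
      show (y.left ≫ e.inv.hom.hom.left) ≫ pullback.fst H.hom (𝟙 (Spec A)) = 𝟙 _ ≫ y.left
      have he : e.inv.hom.hom.left ≫ pullback.fst H.hom (𝟙 (Spec A)) = 𝟙 H.left := by
        have h2 : e.hom.hom.hom.left = pullback.fst H.hom (𝟙 (Spec A)) := by
          simp [e, BaseChange.bcId, Over.pullbackId]
        rw [← h2]
        exact congrArg CommaMorphism.left (BaseChange.overIso e).inv_hom_id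
      rw [Category.assoc, he, Category.comp_id, Category.id_comp]
    have hε : ε ≫ ε' = 𝟙 _ := Over.OverMorphism.ext (Category.id_comp _)
    have h1 : y ≫ f = 1 ↔ Rigid.pt e (T := Over.mk (Spec.map φ)) ((toG D).comp ch) ≫ f = 1 := by
      rw [hp, Category.assoc]
      refine ⟨fun h => by rw [h, MonObj.comp_one], fun h => ?_⟩
      have := congrArg (ε ≫ ·) h
      simpa only [reassoc_of% hε, MonObj.comp_one] using this
    refine h1.trans ((hkill D ch).symm.trans ((kill_iff hS ch).trans ⟨fun h m hm => ?_, fun h g hg => ?_⟩))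
    · refine (Scheme.ΓSpecIso D).commRingCatIsoToRingEquiv.injective ?_
      rw [map_one]
      exact h (Multiplicative.ofAdd m) hm
    · show (Scheme.ΓSpecIso D).hom.hom (Gm.dsFn y g.toAdd) = 1
      rw [h g.toAdd hg, map_one]
  let χ' : ∀ (O : X.left.Opens) (hO : IsAffineOpen O), ∃ φ : A ⟶ Γ(X.left, O), hO.fromSpec ≫ X.hom = Spec.map φ :=
    fun O hO => ⟨_, (Spec.map_preimage _).symm⟩
  constructor
  · intro hx m hm
    refine X.left.sheaf.eq_of_locally_eq' (fun O : X.left.affineOpens => O.1) ⊤ (fun O => homOfLE le_top)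
      (iSup_affineOpens_eq_top X.left).ge _ _ fun O => ?_
    obtain ⟨φ, hφ⟩ := χ' O.1 O.2
    let k : Over.mk (Spec.map φ) ⟶ X := Over.homMk O.2.fromSpec hφ
    have h1 := (key _ φ (k ≫ x)).1 (by rw [Category.assoc, hx, MonObj.comp_one]) m hm
    rw [Gm.dsFn_comp] at h1
    have h2 := congrArg (Scheme.ΓSpecIso Γ(X.left, O.1)).hom h1
    rw [map_one] at h2
    show X.left.presheaf.map _ (Gm.dsFn x m) = X.left.presheaf.map _ 1
    rw [map_one]
    refine Eq.trans ?_ h2
    show _ = (Scheme.ΓSpecIso Γ(X.left, O.1)).hom (O.2.fromSpec.appTop (Gm.dsFn x m))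
    rw [show O.2.fromSpec.appTop = X.left.presheaf.map (homOfLE le_top).op ≫ (Scheme.ΓSpecIso Γ(X.left, O.1)).inv ≫
        (Spec _).presheaf.map (homOfLE le_top).op from IsAffineOpen.fromSpec_app_of_le O.2 ⊤ le_top]
    simp only [CommRingCat.comp_apply]
    erw [CategoryTheory.Functor.map_id]
    erw [Iso.inv_hom_id_apply]
  · intro h
    apply Over.OverMorphism.ext
    refine Locus.ext_affine fun O hO => ?_
    obtain ⟨φ, hφ⟩ := χ' O hO
    let k : Over.mk (Spec.map φ) ⟶ X := Over.homMk hO.fromSpec hφ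
    have h1 := (key _ φ (k ≫ x)).2 fun m hm => by rw [Gm.dsFn_comp, h m hm, map_one]
    rw [Category.assoc, ← MonObj.comp_one k] at h1
    exact congrArg CommaMorphism.left h1

/-- **The image of a homomorphism from a diagonalisable group over a field.** -/
theorem exists_image : ∃ (N : AddSubgroup M) (j : Red.DS (Spec (CommRingCat.of K)) N ⟶ G),
    IsMonHom j ∧ Mono j ∧ Red.DSmap (Spec (CommRingCat.of K)) N.subtype ≫ j = f := by
  obtain ⟨N, hN⟩ := exists_ker f
  obtain ⟨j, hj, hfac⟩ := Factor.exists_factor (inc := N.subtype) Subtype.coe_injective f ((hN _).2 fun m hm => by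
    rw [← Category.id_comp (Red.DSmap _ (QuotientAddGroup.mk' N.subtype.range)), Gm.dsFn_DSmap,
      show QuotientAddGroup.mk' N.subtype.range m = 0 from
        (QuotientAddGroup.eq_zero_iff _).mpr ⟨⟨m, hm⟩, rfl⟩, Gm.dsFn_zero])
  refine ⟨N, j, hj, ⟨fun {X} a b hab => Mono.eq_of_kill j a b (fun c hc => ?_) hab⟩, hfac⟩
  let S := Spec (CommRingCat.of K)
  obtain ⟨hfl, hsj⟩ := Loci.ff_DSmap S (M := M) (N := N) (φ := N.subtype) Subtype.coe_injective
  let q := (Red.DSmap S N.subtype).left
  let p₁ := pullback.fst c.left q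
  let X₁ : Over S := Over.mk (p₁ ≫ X.hom)
  let π₁ : X₁ ⟶ X := Over.homMk p₁
  let c' : X₁ ⟶ Red.DS S M := Over.homMk (pullback.snd c.left q) (by
    show pullback.snd c.left q ≫ (Red.DS S M).hom = p₁ ≫ X.hom
    rw [← Over.w (Red.DSmap S N.subtype), ← Category.assoc]
    change (pullback.snd c.left q ≫ q) ≫ _ = _
    rw [← pullback.condition, Category.assoc]
    exact congrArg _ (Over.w c))
  have hc' : c' ≫ Red.DSmap S N.subtype = π₁ ≫ c := Over.OverMorphism.ext pullback.condition.symm
  haveI : Flat q := hfl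
  haveI : Surjective q := hsj
  haveI : Epi π₁ := by
    haveI : IsAffineHom (Red.DS S M).hom := DS.isAffineHom S M
    haveI : IsAffineHom (Red.DS S N).hom := DS.isAffineHom S N
    haveI : QuasiCompact q := by
      have : QuasiCompact (q ≫ (Red.DS S N).hom) := by
        rw [show q ≫ (Red.DS S N).hom = (Red.DS S M).hom from Over.w (Red.DSmap S N.subtype)]
        infer_instance
      exact QuasiCompact.of_comp q (Red.DS S N).hom
    haveI : Epi p₁ := Flat.epi_of_flat_of_surjective _
    haveI : Epi π₁.left := ‹Epi p₁›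
    exact Over.epi_of_epi_left _
  rw [← cancel_epi π₁, MonObj.comp_one, ← hc']
  have hker : c' ≫ f = 1 := by
    rw [← hfac, ← Category.assoc, hc', Category.assoc, hc, MonObj.comp_one]
  exact Gm.dsFn_ext fun n => by
    rw [Gm.dsFn_DSmap, Gm.dsFn_one]
    exact (hN c').1 hker _ n.2

end Groth.Agent.H87.KerField
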