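import Groth.Agent.H87.GroupLike
import Groth.Agent.H87.Normal
import Groth.Agent.H87.Loci

/-!
# Commuting subgroups of multiplicative type which agree modulo a nilpotent ideal agree
-/

set_option autoImplicit false
universe u

open CategoryTheory MonoidalCategory CartesianMonoidalCategory MonObj GrpObj AlgebraicGeometry
open CategoryTheory.Limits
open Groth.Agent.Lib.RedPts Groth.Agent.Lib.Tori
open Groth.Agent.H87.Locus (toG)

namespace Groth.Agent.H87.CentralEq

section GrpLike

variable {A : CommRingCat.{u}} {M : Type} [AddCommGroup M]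

/-- A homomorphism to `𝔾ₘ` is given by a group-like element. -/
theorem isGL_of_hom (v : Red.DS (Spec A) M ⟶ Red.Gm (Spec A)) [IsMonHom v] :
    GroupLike.IsGL (G := Multiplicative M) (A := A) ((Scheme.ΓSpecIso (HomDS.ring M)).hom
      (Red.gmFn (HomDS.univPt (𝟙 (Spec A)) M ≫ v))) := by
  let f : MonoidAlgebra A (Multiplicative M) :=
    (Scheme.ΓSpecIso (HomDS.ring M)).hom (Red.gmFn (HomDS.univPt (𝟙 (Spec A)) M ≫ v))
  let B := CommRingCat.of (MonoidAlgebra A (Multiplicative M × Multiplicative M))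
  let t := 𝟙 (Spec A)
  obtain ⟨r₁, r₂, r, hr, e₁, e₂, e⟩ := HomDS.univ_mul t M
  have hr₁ : r₁ = HomDS.evHom t M _ _ := Over.OverMorphism.ext e₁
  have hr₂ : r₂ = HomDS.evHom t M _ _ := Over.OverMorphism.ext e₂
  have hr₃ : r = HomDS.evHom t M _ _ := Over.OverMorphism.ext e
  have h1 := congrArg (fun z => Red.gmFn (z ≫ v)) hr
  rw [MonObj.mul_comp _ _ v, Gm.gmFn_mul] at h1
  rw [hr₁, hr₂, hr₃, HomDS.gmFn_evHom, HomDS.gmFn_evHom, HomDS.gmFn_evHom, ← map_mul] at h1
  have h0 := congrArg (fun z => Red.gmFn (z ≫ v)) (HomDS.evHom_one t M)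
  rw [MonObj.one_comp v, Gm.gmFn_one, HomDS.gmFn_evHom, ← map_one (toG A)] at h0
  rw [GroupLike.isGL_iff]
  have hd : ∀ (φ : Multiplicative M →* Multiplicative M × Multiplicative M) (z : MonoidAlgebra A (Multiplicative M)),
      MonoidAlgebra.mapDomainRingHom A φ z = (Locus.ev (D := B) (CommRingCat.ofHom MonoidAlgebra.singleOneRingHom)
        ((MonoidAlgebra.of A (Multiplicative M × Multiplicative M)).comp φ)).hom z := by
    intro φ z
    induction z using MonoidAlgebra.induction_linear with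
    | zero => rw [map_zero, map_zero]
    | add a b ha hb => rw [map_add, map_add, ha, hb]
    | single m a =>
      simp
      show _ = (MonoidAlgebra.single 1 a * MonoidAlgebra.single (φ m) 1 : MonoidAlgebra A _)
      simp
  constructor
  · exact (hd _ f).trans (((HomDS.toG_injective B h1).trans (congrArg₂ (fun a b => a * b) (hd _ f).symm (hd _ f).symm)))
  · refine Eq.trans ?_ (HomDS.toG_injective A h0)
    show MonoidAlgebra.lift A A _ 1 f = (Locus.ev (𝟙 A) 1).hom f
    induction f using MonoidAlgebra.induction_linear with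
    | zero => rw [map_zero, map_zero]
    | add a b ha hb => rw [map_add, map_add, ha, hb]
    | single m a => simp [MonoidAlgebra.lift_single]

/-- Structure map on global functions. -/
noncomputable def rho (X : Over (Spec A)) : A →+* Γ(X.left, ⊤) :=
  ((Scheme.ΓSpecIso A).inv ≫ X.hom.appTop).hom

/-- Evaluate an element of the group algebra at a character. -/
noncomputable def evalAt (X : Over (Spec A)) (χ : Multiplicative M →* Γ(X.left, ⊤)) :
    MonoidAlgebra A (Multiplicative M) →+* Γ(X.left, ⊤) :=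
  MonoidAlgebra.liftNCRingHom (rho X) χ (fun _ _ => Commute.all _ _)

theorem evalAt_single (X : Over (Spec A)) (χ : Multiplicative M →* Γ(X.left, ⊤)) (m : Multiplicative M) (a : A) :
    evalAt X χ (MonoidAlgebra.single m a) = rho X a * χ m :=
  MonoidAlgebra.liftNCRingHom_single _ _ _ _ _

theorem rho_comp {X X' : Over (Spec A)} (h : X' ⟶ X) (a : A) : h.left.appTop (rho X a) = rho X' a := by
  show h.left.appTop (X.hom.appTop ((Scheme.ΓSpecIso A).inv a)) = X'.hom.appTop ((Scheme.ΓSpecIso A).inv a)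
  rw [← CommRingCat.comp_apply, ← Scheme.Hom.comp_appTop, Over.w h]

/-- The character of a point. -/
noncomputable def charOf {X : Over (Spec A)} (x : X ⟶ Red.DS (Spec A) M) : Multiplicative M →* Γ(X.left, ⊤) where
  toFun m := Gm.dsFn x m.toAdd
  map_one' := Gm.dsFn_zero x
  map_mul' m n := Gm.dsFn_add x _ _

theorem evalAt_comp {X X' : Over (Spec A)} (h : X' ⟶ X) (x : X ⟶ Red.DS (Spec A) M)
    (z : MonoidAlgebra A (Multiplicative M)) :
    evalAt X' (charOf (h ≫ x)) z = h.left.appTop (evalAt X (charOf x) z) := by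
  induction z using MonoidAlgebra.induction_linear with
  | zero => simp
  | add a b ha hb => rw [map_add, map_add, map_add, ha, hb]
  | single m a =>
    rw [evalAt_single, evalAt_single, map_mul, rho_comp]
    exact congrArg (rho X' a * ·) (Gm.dsFn_comp h x _)

theorem evalAt_mul {X : Over (Spec A)} (x y : X ⟶ Red.DS (Spec A) M) {z : MonoidAlgebra A (Multiplicative M)}
    (hz : GroupLike.IsGL z) :
    evalAt X (charOf (x * y)) z = evalAt X (charOf x) z * evalAt X (charOf y) z := by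
  let E : MonoidAlgebra A (Multiplicative M × Multiplicative M) →+* Γ(X.left, ⊤) :=
    MonoidAlgebra.liftNCRingHom (rho X) ((charOf x).coprod (charOf y)) (fun _ _ => Commute.all _ _)
  have hd : ∀ z, E (GroupLike.diag z) = evalAt X (charOf (x * y)) z := fun z => by
    induction z using MonoidAlgebra.induction_linear with
    | zero => simp
    | add a b ha hb => rw [map_add, map_add, map_add, ha, hb]
    | single m a =>
      rw [evalAt_single]
      simp [E, charOf, Gm.dsFn_mul]
  have hl : ∀ z, E (GroupLike.inl z) = evalAt X (charOf x) z := fun z => by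
    induction z using MonoidAlgebra.induction_linear with
    | zero => simp
    | add a b ha hb => rw [map_add, map_add, map_add, ha, hb]
    | single m a =>
      rw [evalAt_single]
      simp [E]
  have hr : ∀ z, E (GroupLike.inr z) = evalAt X (charOf y) z := fun z => by
    induction z using MonoidAlgebra.induction_linear with
    | zero => simp
    | add a b ha hb => rw [map_add, map_add, map_add, ha, hb]
    | single m a =>
      rw [evalAt_single]
      simp [E]
  rw [← hd, ((GroupLike.isGL_iff z).mp hz).1, map_mul, hl, hr]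

theorem gmFn_eq_evalAt (v : Red.DS (Spec A) M ⟶ Red.Gm (Spec A)) {X : Over (Spec A)}
    (x : X ⟶ Red.DS (Spec A) M) :
    Red.gmFn (x ≫ v) = evalAt X (charOf x) ((Scheme.ΓSpecIso (HomDS.ring M)).hom
      (Red.gmFn (HomDS.univPt (𝟙 (Spec A)) M ≫ v))) := by
  obtain ⟨r, rfl⟩ := HomDS.exists_fac (𝟙 (Spec A)) M X.hom (Category.comp_id _) x
  rw [Category.assoc, Gm.gmFn_comp]
  let z := Red.gmFn (HomDS.univPt (𝟙 (Spec A)) M ≫ v)
  let R := HomDS.ring (A := A) M
  let F : MonoidAlgebra A (Multiplicative M) →+* Γ(X.left, ⊤) :=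
    r.left.appTop.hom.comp (Scheme.ΓSpecIso R).inv.hom
  have key : ∀ w : MonoidAlgebra A (Multiplicative M),
      F w = evalAt X (charOf (r ≫ HomDS.univPt (𝟙 (Spec A)) M)) w := by
    intro w
    induction w using MonoidAlgebra.induction_linear with
    | zero => rw [map_zero, map_zero]
    | add a b ha hb => rw [map_add, map_add, ha, hb]
    | single m a =>
      rw [evalAt_single]
      have hsplit : (MonoidAlgebra.single m a : MonoidAlgebra A (Multiplicative M)) =
          MonoidAlgebra.single 1 a * MonoidAlgebra.single m 1 := by simp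
      rw [hsplit]
      rw [map_mul]
      refine congrArg₂ (· * ·) ?_ ?_
      · have hw : r.left ≫ Spec.map (CommRingCat.ofHom MonoidAlgebra.singleOneRingHom : A ⟶ R) = X.hom := by
          simpa using Over.w r
        show r.left.appTop ((Scheme.ΓSpecIso R).inv ((CommRingCat.ofHom MonoidAlgebra.singleOneRingHom : A ⟶ R) a)) = rho X a
        rw [← CommRingCat.comp_apply (CommRingCat.ofHom MonoidAlgebra.singleOneRingHom : A ⟶ R),
          Scheme.ΓSpecIso_inv_naturality, CommRingCat.comp_apply, ← CommRingCat.comp_apply,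
          ← Scheme.Hom.comp_appTop, hw]
        rfl
      · show _ = Gm.dsFn (r ≫ HomDS.univPt (𝟙 (Spec A)) M) m.toAdd
        rw [Gm.dsFn_comp, HomDS.univPt, Gm.dsFn_dsPt]
        rfl
  refine Eq.trans ?_ (key _)
  exact congrArg r.left.appTop.hom (Iso.hom_inv_id_apply (Scheme.ΓSpecIso R) z).symm

end GrpLike

section Lo

variable {T T' : Scheme.{u}} (π : T' ⟶ T) {M : Type} [AddCommGroup M]

/-- The character of a point. -/
noncomputable def chr {T : Scheme.{u}} {X : Over T} (x : X ⟶ Red.DS T M) : Multiplicative M →* Γ(X.left, ⊤) where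
  toFun m := Gm.dsFn x m.toAdd
  map_one' := Gm.dsFn_zero x
  map_mul' m n := Gm.dsFn_add x _ _

/-- Regard a point of `D_{T'}(M)` as a point of `D_T(M)`. -/
noncomputable def lo {X : Over T'} (x : X ⟶ Red.DS T' M) : (Over.map π).obj X ⟶ Red.DS T M :=
  let χ : Multiplicative M →* Γ(X.left, ⊤) := chr x
  Gm.dsPt (X := (Over.map π).obj X) χ

theorem dsFn_lo {X : Over T'} (x : X ⟶ Red.DS T' M) (m : M) : Gm.dsFn (lo π x) m = Gm.dsFn x m :=
  Gm.dsFn_dsPt (X := (Over.map π).obj X) (chr (T := T') (X := X) x : Multiplicative M →* Γ(X.left, ⊤)) m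

theorem lo_injective {X : Over T'} : Function.Injective (lo π : (X ⟶ Red.DS T' M) → _) := fun x y h =>
  Gm.dsFn_ext fun m => (dsFn_lo π x m).symm.trans ((congrArg (Gm.dsFn · m) h).trans (dsFn_lo π y m))

theorem lo_surjective {X : Over T'} (x : (Over.map π).obj X ⟶ Red.DS T M) :
    ∃ y : X ⟶ Red.DS T' M, lo π y = x :=
  let χ : Multiplicative M →* Γ(((Over.map π).obj X).left, ⊤) := chr x
  ⟨Gm.dsPt (X := X) χ, Gm.dsFn_ext fun m => (dsFn_lo π _ m).trans (Gm.dsFn_dsPt (X := X) χ m)⟩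

theorem lo_mul {X : Over T'} (x y : X ⟶ Red.DS T' M) : lo π (x * y) = lo π x * lo π y :=
  Gm.dsFn_ext fun m => by rw [dsFn_lo, Gm.dsFn_mul, Gm.dsFn_mul, dsFn_lo, dsFn_lo]

theorem lo_comp {X X' : Over T'} (h : X' ⟶ X) (x : X ⟶ Red.DS T' M) :
    lo π (h ≫ x) = (Over.map π).map h ≫ lo π x :=
  Gm.dsFn_ext fun m => by rw [dsFn_lo, Gm.dsFn_comp, Gm.dsFn_comp, dsFn_lo]; rfl

end Lo

/-- A homomorphism between diagonalisable groups lifts along a nilpotent ideal. -/
theorem exists_lift {A A₀ : CommRingCat.{u}} (π : A ⟶ A₀) (hsurj : Function.Surjective π.hom)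
    (hnil : ∀ z ∈ RingHom.ker π.hom, IsNilpotent z) {M N : Type} [AddCommGroup M] [AddCommGroup N]
    (v₀ : Red.DS (Spec A₀) M ⟶ Red.DS (Spec A₀) N) [IsMonHom v₀] :
    ∃ v : Red.DS (Spec A) M ⟶ Red.DS (Spec A) N, IsMonHom v ∧
      ∀ (X : Over (Spec A₀)) (x : X ⟶ Red.DS (Spec A₀) M),
        lo (Spec.map π) x ≫ v = lo (Spec.map π) (x ≫ v₀) := by
  let c : N → MonoidAlgebra A₀ (Multiplicative M) := fun n =>
    (Scheme.ΓSpecIso (HomDS.ring M)).hom (Red.gmFn (HomDS.univPt (𝟙 (Spec A₀)) M ≫ v₀ ≫ Red.chi (Spec A₀) n))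
  have hc : ∀ n, GroupLike.IsGL (c n) := fun n => isGL_of_hom (v₀ ≫ Red.chi (Spec A₀) n)
  choose L hL hLc using fun n => GroupLike.exists_lift π.hom hnil hsurj (hc n)
  have hc_add : ∀ a b, c (a + b) = c a * c b := fun a b => by
    dsimp only [c]
    rw [← Category.assoc, Gm.chi_add, Gm.gmFn_mul, Category.assoc, Category.assoc]
    exact map_mul (Scheme.ΓSpecIso (HomDS.ring M)).hom.hom _ _
  have hc0 : c 0 = 1 := by
    dsimp only [c]
    rw [← Category.assoc, Gm.chi_zero, Gm.gmFn_one]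
    exact map_one (Scheme.ΓSpecIso (HomDS.ring M)).hom.hom
  have hLadd : ∀ a b, L (a + b) = L a * L b := fun a b =>
    GroupLike.eq_of_map_eq π.hom hnil (hL _) ((hL a).mul (hL b)) (by rw [map_mul, hLc, hLc, hLc, hc_add])
  have hL0 : L 0 = 1 :=
    GroupLike.eq_of_map_eq π.hom hnil (hL _) GroupLike.isGL_one (by rw [map_one, hLc, hc0])
  let D := Red.DS (Spec A) M
  let χ : Multiplicative N →* Γ(D.left, ⊤) :=
    { toFun := fun n => evalAt D (charOf (𝟙 D)) (L n.toAdd)
      map_one' := by rw [toAdd_one, hL0, map_one]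
      map_mul' := fun a b => by rw [toAdd_mul, hLadd, map_mul] }
  let v : D ⟶ Red.DS (Spec A) N := Gm.dsPt (X := D) χ
  have hv : ∀ {X : Over (Spec A)} (x : X ⟶ D) (n : N), Gm.dsFn (x ≫ v) n = evalAt X (charOf x) (L n) := by
    intro X x n
    rw [Gm.dsFn_comp, Gm.dsFn_dsPt]
    exact ((evalAt_comp x (𝟙 D) (L n)).symm.trans (by rw [Category.comp_id]))
  refine ⟨v, HomDS.isMonHom_of_points v fun X a b => Gm.dsFn_ext fun n => ?_, fun X x => Gm.dsFn_ext fun n => ?_⟩
  · rw [Gm.dsFn_mul, hv, hv, hv, evalAt_mul _ _ (hL n)]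
  · rw [hv, dsFn_lo, ← Gm.gmFn_chi, Category.assoc, gmFn_eq_evalAt]
    show _ = evalAt X (charOf x) (c n)
    rw [← hLc n]
    generalize L n = z
    induction z using MonoidAlgebra.induction_linear with
    | zero => rw [map_zero, map_zero, map_zero]
    | add a b ha hb => rw [map_add, map_add, map_add, ha, hb]
    | single m a =>
      rw [MonoidAlgebra.mapRingHom_single, evalAt_single, evalAt_single]
      refine congrArg₂ (fun p q => p * q) ?_ (dsFn_lo (Spec.map π) x m.toAdd)
      show (X.hom ≫ Spec.map π).appTop ((Scheme.ΓSpecIso A).inv a) = X.hom.appTop ((Scheme.ΓSpecIso A₀).inv (π.hom a))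
      rw [Scheme.Hom.comp_appTop, CommRingCat.comp_apply, ← CommRingCat.comp_apply (Scheme.ΓSpecIso A).inv,
        ← Scheme.ΓSpecIso_inv_naturality]
      rfl

theorem isNilpotent_ker {A : CommRingCat.{u}} (J : Ideal A) (hJ : IsNilpotent J) (x : Spec A) :
    ∃ U : (Spec A).affineOpens, x ∈ (U : (Spec A).Opens) ∧
      IsNilpotent ((Spec.map (CommRingCat.ofHom (Ideal.Quotient.mk J))).ker.ideal U) := by
  obtain ⟨n, hn⟩ := hJ
  refine ⟨⟨⊤, isAffineOpen_top _⟩, trivial, n, ?_⟩
  let i₀ := Spec.map (CommRingCat.ofHom (Ideal.Quotient.mk J))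
  have : IsClosedImmersion i₀ := IsClosedImmersion.spec_of_surjective _ Ideal.Quotient.mk_surjective
  rw [Scheme.Hom.ker_apply, Ideal.zero_eq_bot, eq_bot_iff]
  let κ : Γ(Spec A, ⊤) →+* A := (Scheme.ΓSpecIso A).hom.hom
  have hκ : Function.Injective κ :=
    (ConcreteCategory.isIso_iff_bijective (Scheme.ΓSpecIso A).hom).mp inferInstance |>.1
  have key : (RingHom.ker (i₀.app ⊤).hom).map κ ≤ J := by
    rw [Ideal.map_le_iff_le_comap]
    intro z hz
    rw [Ideal.mem_comap, ← Ideal.Quotient.eq_zero_iff_mem]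
    have := congr($(Scheme.ΓSpecIso_naturality (CommRingCat.ofHom (Ideal.Quotient.mk J))) z)
    simp only [CommRingCat.comp_apply] at this
    refine this.symm.trans ?_
    show (Scheme.ΓSpecIso (CommRingCat.of (A ⧸ J))).hom (i₀.appTop z) = 0
    rw [show i₀.appTop z = 0 from hz, map_zero]
  intro z hz
  rw [Ideal.mem_bot]
  apply hκ
  have h1 := Ideal.mem_map_of_mem κ hz
  rw [Ideal.map_pow] at h1
  have h2 := Ideal.pow_right_mono key n h1
  rw [hn] at h2
  rw [map_zero]
  exact h2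

section Fac

variable {S : Scheme.{u}} {G H H' : Over S} (i : H ⟶ G) (i' : H' ⟶ G)

/-- `i` factors through `i'` over `t`. -/
def Fac {T : Scheme.{u}} (t : T ⟶ S) : Prop :=
  ∀ (Y : Over S) (_ : Y ⟶ Over.mk t) (γ : Y ⟶ H), ∃ γ' : Y ⟶ H', γ' ≫ i' = γ ≫ i

/-- The projection of `H ×_G H'` to `H`. -/
noncomputable def proj : Over.mk (pullback.fst i.left i'.left ≫ H.hom) ⟶ H :=
  Over.homMk (pullback.fst i.left i'.left)

theorem fib_iso_iff [Mono i'] {T : Scheme.{u}} (t : T ⟶ S) :
    Charts.Fib (MorphismProperty.isomorphisms Scheme) t (proj i i') ↔ Fac i i' t := by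
  let q := (Over.pullback t).map (proj i i')
  constructor
  · intro h Y p γ
    have : IsIso ((Over.forget T).map q) := h
    have : IsIso q := isIso_of_reflects_iso q (Over.forget T)
    let e : (Over.map t).obj (Over.mk p.left) ≅ Y :=
      Over.isoMk (Iso.refl _) ((Category.id_comp _).trans (Over.w p).symm)
    let z := BC.down t (BC.up t (e.hom ≫ γ) ≫ inv q)
    have hz : z ≫ proj i i' = e.hom ≫ γ := by
      rw [← BC.down_map]
      simp [q]
    let snd' : Over.mk (pullback.fst i.left i'.left ≫ H.hom) ⟶ H' := Over.homMk (pullback.snd i.left i'.left) (by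
      show pullback.snd i.left i'.left ≫ H'.hom = pullback.fst i.left i'.left ≫ H.hom
      rw [← Over.w i, ← Over.w i', ← Category.assoc, ← pullback.condition, Category.assoc])
    have hsq : snd' ≫ i' = proj i i' ≫ i := Over.OverMorphism.ext pullback.condition.symm
    refine ⟨e.inv ≫ z ≫ snd', ?_⟩
    rw [Category.assoc, Category.assoc, hsq, ← Category.assoc z, hz]
    simp
  · intro h
    let X := (Over.pullback t).obj H
    let γ := BC.down t (𝟙 X)
    obtain ⟨γ', hγ'⟩ := h ((Over.map t).obj X) (Over.homMk X.hom) γ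
    let l : (Over.map t).obj X ⟶ Over.mk (pullback.fst i.left i'.left ≫ H.hom) :=
      Over.homMk (pullback.lift γ.left γ'.left congr(($hγ').left).symm)
        (by
          show pullback.lift _ _ _ ≫ pullback.fst i.left i'.left ≫ H.hom = _
          rw [pullback.lift_fst_assoc]
          exact Over.w γ)
    have hl : l ≫ proj i i' = γ := Over.OverMorphism.ext (pullback.lift_fst _ _ _)
    have hsec : BC.up t l ≫ q = 𝟙 X := BC.down_injective (by rw [BC.down_map, BC.down_up, hl])
    have : Mono i'.left := Over.mono_left_of_mono i'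
    have : Mono (proj i i') := by
      have : Mono (proj i i').left := inferInstanceAs (Mono (pullback.fst i.left i'.left))
      exact Over.mono_of_mono_left _
    have : Mono q := inferInstance
    have : IsSplitEpi q := ⟨⟨BC.up t l, hsec⟩⟩
    have : IsIso q := isIso_of_mono_of_isSplitEpi q
    exact inferInstanceAs (IsIso ((Over.forget T).map q))

end Fac

theorem fib_id_of_cover (P : MorphismProperty Scheme.{u}) [P.IsStableUnderBaseChange] [IsZariskiLocalAtTarget P]
    [P.DescendsAlong (@Surjective ⊓ @Flat ⊓ @QuasiCompact)] {S S' : Scheme.{u}} {G H : Over S} (f : S' ⟶ S)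
    [Flat f] (hc : Basic.IsQCCover f) (u : G ⟶ H) (h : Charts.Fib P f u) : Charts.Fib P (𝟙 S) u := by
  refine Charts.fib_of_cover P fun x => ?_
  obtain ⟨O, hO, hxO, -⟩ := exists_isAffineOpen_mem_and_subset (X := S) (x := x) (U := ⊤) trivial
  obtain ⟨W, hle, hqc, hsj⟩ := MT.exists_qc_res f hc hO
  refine ⟨O, hxO, Charts.fib_descend P (f.resLE O W hle) ?_⟩
  refine Charts.fib_congr P ?_ u (Charts.fib_base P W.ι h)
  simp

theorem group_aux' {G : Type*} [Group G] {a b c d : G} (h1 : b * c = c * b) (h2 : c * d = d * c) :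
    a * b * (c * d)⁻¹ = a * c⁻¹ * (b * d⁻¹) := by
  have hb : Commute b c⁻¹ := Commute.inv_right h1
  have hd : Commute d⁻¹ c⁻¹ := (Commute.inv_inv (h2 : Commute c d)).symm
  rw [_root_.mul_inv_rev, _root_.mul_assoc a, _root_.mul_assoc a, ← _root_.mul_assoc b]
  exact congrArg (a * ·) (Commute.mul_left hb hd).eq

variable {S : Scheme.{u}} {G H H' : Over S} [GrpObj G] [GrpObj H] [GrpObj H']
  (i : H ⟶ G) [IsMonHom i] (i' : H' ⟶ G) [IsMonHom i'] [Mono i']

/-- On a common chart, agreement modulo a nilpotent ideal implies agreement. -/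
theorem fac_chart (hcomm : ∀ (X : Over S) (h : X ⟶ H) (h' : X ⟶ H'), (h ≫ i) * (h' ≫ i') = (h' ≫ i') * (h ≫ i))
    {A : CommRingCat.{u}} {t : Spec A ⟶ S} {M N : Type} [AddCommGroup M] [AddCommGroup N]
    (e : Grp.mk (Red.bc t H) ≅ Grp.mk (Red.DS (Spec A) M))
    (e' : Grp.mk (Red.bc t H') ≅ Grp.mk (Red.DS (Spec A) N))
    (J : Ideal A) (hJ : IsNilpotent J)
    (h0 : Fac i i' (Spec.map (CommRingCat.ofHom (Ideal.Quotient.mk J)) ≫ t)) : Fac i i' t := by
  let π : A ⟶ CommRingCat.of (A ⧸ J) := CommRingCat.ofHom (Ideal.Quotient.mk J)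
  let π' := Spec.map π
  let E := BaseChange.overIso e
  let E' := BaseChange.overIso e'
  have : IsMonHom E.inv := inferInstanceAs (IsMonHom (BaseChange.overIso e.symm).hom)
  have : IsMonHom E'.inv := inferInstanceAs (IsMonHom (BaseChange.overIso e'.symm).hom)
  let D₀ := Red.DS (Spec (CommRingCat.of (A ⧸ J))) M
  obtain ⟨γ', hγ'⟩ := h0 ((Over.map t).obj ((Over.map π').obj D₀))
    (Over.homMk D₀.hom (Category.assoc _ _ _).symm) (BC.down t (lo π' (𝟙 D₀) ≫ E.inv))
  obtain ⟨v₀, hv₀⟩ := lo_surjective π' (BC.up t γ' ≫ E'.hom)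
  have key : ∀ {X : Over (Spec (CommRingCat.of (A ⧸ J)))} (x : X ⟶ D₀),
      BC.down t (lo π' (x ≫ v₀) ≫ E'.inv) ≫ i' = BC.down t (lo π' x ≫ E.inv) ≫ i := by
    intro X x
    rw [show lo π' x = lo π' (x ≫ 𝟙 D₀) by rw [Category.comp_id], lo_comp, lo_comp, hv₀, Category.assoc,
      Category.assoc, Category.assoc, Iso.hom_inv_id, Category.comp_id, BC.down_comp, BC.down_comp,
      BC.down_up, Category.assoc, Category.assoc, hγ']
  have : IsMonHom v₀ := HomDS.isMonHom_of_points v₀ fun X a b => by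
    apply lo_injective π'
    rw [lo_mul, ← cancel_mono E'.inv, MonObj.mul_comp _ _ E'.inv]
    apply BC.down_injective
    rw [BC.down_mul, ← cancel_mono i', MonObj.mul_comp _ _ i', key, key, key, lo_mul,
      MonObj.mul_comp _ _ E.inv, BC.down_mul, MonObj.mul_comp _ _ i]
  have hnilJ : ∀ z ∈ RingHom.ker π.hom, IsNilpotent z := fun z hz => by
    obtain ⟨n, hn⟩ := hJ
    refine ⟨n, ?_⟩
    have hz' : z ∈ J := Ideal.Quotient.eq_zero_iff_mem.mp hz
    have := Ideal.pow_mem_pow hz' n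
    rw [hn] at this
    exact this
  obtain ⟨v, hv, hvlo⟩ := exists_lift π Ideal.Quotient.mk_surjective hnilJ v₀
  let T' := Red.bc t H
  let Γ' := Red.bc t G
  let ψ : T' ⟶ Red.bc t H' := E.hom ≫ v ≫ E'.inv
  let f : T' ⟶ Γ' := (Over.pullback t).map i
  let g : T' ⟶ Γ' := ψ ≫ (Over.pullback t).map i'
  have : IsMonHom ψ := inferInstance
  have hcg : ∀ {Y : Over (Spec A)} (a : Y ⟶ T') (b : Y ⟶ Red.bc t H'),
      (a ≫ f) * (b ≫ (Over.pullback t).map i') = (b ≫ (Over.pullback t).map i') * (a ≫ f) := fun a b =>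
    BC.down_injective (by
      rw [BC.down_mul, BC.down_mul, BC.down_map, BC.down_map]
      exact hcomm _ _ _)
  have hmap : ∀ {Y : Over (Spec A)} (a b : Y ⟶ Red.bc t H'),
      (a * b) ≫ (Over.pullback t).map i' = (a ≫ (Over.pullback t).map i') * (b ≫ (Over.pullback t).map i') := fun a b =>
    BC.down_injective (by rw [BC.down_map, BC.down_mul, BC.down_mul, BC.down_map, BC.down_map, MonObj.mul_comp _ _ i'])
  let w : T' ⟶ Γ' := f * g⁻¹
  have : IsMonHom w := HomDS.isMonHom_of_points w fun Y a b => by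
    show (a * b) ≫ (f * g⁻¹) = (a ≫ (f * g⁻¹)) * (b ≫ (f * g⁻¹))
    rw [comp_mul, comp_mul, comp_mul, comp_inv, comp_inv, comp_inv]
    have hf : (a * b) ≫ f = (a ≫ f) * (b ≫ f) := BC.down_injective (by
      rw [BC.down_map, BC.down_mul, BC.down_mul, BC.down_map, BC.down_map, MonObj.mul_comp _ _ i])
    have hg : (a * b) ≫ g = (a ≫ g) * (b ≫ g) := by
      rw [← Category.assoc, MonObj.mul_comp a b ψ, hmap]
      simp only [g, Category.assoc]
    rw [hf, hg]
    refine group_aux' (G := Y ⟶ Γ') ?_ ?_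
    · rw [← Category.assoc a]
      exact hcg b (a ≫ ψ)
    · have hab : (a * b) = b * a := by
        rw [← cancel_mono E.hom, MonObj.mul_comp a b E.hom, MonObj.mul_comp b a E.hom]
        exact Gm.dsFn_ext fun m => by rw [Gm.dsFn_mul, Gm.dsFn_mul, _root_.mul_comm]
      rw [← hg, hab, ← Category.assoc, MonObj.mul_comp b a ψ, hmap]
      simp only [g, Category.assoc]
  have : IsClosedImmersion π' := IsClosedImmersion.spec_of_surjective _ Ideal.Quotient.mk_surjective
  have hred : ∀ (Y : Over (Spec A)) (p : Y ⟶ Over.mk π') (γ : Y ⟶ T') (x : Y ⟶ Γ'),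
      lift γ x ≫ (Locus.transAction w).act = x := by
    intro Y p γ x
    rw [Locus.transAction_act]
    suffices γ ≫ w = 1 by rw [this, _root_.one_mul]
    rw [comp_mul, comp_inv, mul_inv_eq_one]
    let X : Over (Spec (CommRingCat.of (A ⧸ J))) := Over.mk p.left
    let ε : (Over.map π').obj X ≅ Y := Over.isoMk (Iso.refl _) ((Category.id_comp _).trans (Over.w p).symm)
    obtain ⟨x₀, hx₀⟩ := lo_surjective π' (ε.hom ≫ γ ≫ E.hom)
    rw [← cancel_epi ε.hom]
    apply BC.down_injective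
    have h1 : ε.hom ≫ γ ≫ ψ = lo π' (x₀ ≫ v₀) ≫ E'.inv := by
      rw [← hvlo, hx₀]
      simp [ψ]
    rw [← Category.assoc, BC.down_map, ← Category.assoc γ, ← Category.assoc ε.hom, BC.down_map, h1, key, hx₀]
    simp
  have hid : Grp.mk (Red.bc (𝟙 (Spec A)) T') ≅ Grp.mk (Red.DS (Spec A) M) := BaseChange.bcId _ ≪≫ e
  intro Y p γ
  let X : Over (Spec A) := Over.mk p.left
  let ε : (Over.map t).obj X ≅ Y := Over.isoMk (Iso.refl _) ((Category.id_comp _).trans (Over.w p).symm)
  let a : X ⟶ T' := BC.up t (ε.hom ≫ γ)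
  let ε' : (Over.map (𝟙 (Spec A))).obj X ≅ X := Over.isoMk (Iso.refl _) (by simp)
  have htriv := Rigid.trivial_pt_of_nilpotent hid (Locus.transAction w) π' hred (isNilpotent_ker J hJ)
    (ε'.hom ≫ a) 1
  rw [Locus.transAction_act, _root_.mul_one] at htriv
  have ha : a ≫ f = a ≫ g := by
    have h1 : a ≫ w = 1 := by
      rw [← cancel_epi ε'.hom, MonObj.comp_one, ← Category.assoc]
      exact htriv
    rwa [comp_mul, comp_inv, mul_inv_eq_one] at h1
  refine ⟨ε.inv ≫ BC.down t (a ≫ ψ), ?_⟩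
  have h2 := congrArg (BC.down t) ha
  rw [← Category.assoc a ψ, BC.down_map, BC.down_map, BC.down_up] at h2
  rw [Category.assoc, ← h2]
  simp

/-- Commuting subgroups: if `i` factors through `i'` modulo a nilpotent ideal then it factors. -/
theorem fac_of_nilpotent {R : Type u} [CommRing R] (t : S ⟶ Spec (CommRingCat.of R)) (J : Ideal R) (hJ : IsNilpotent J)
    {S' : Scheme.{u}} (f : S' ⟶ S) [Flat f] (hc : Basic.IsQCCover f)
    (hloc : ∀ s' : S', ∃ U : S'.Opens, s' ∈ U ∧ ∃ (M N : Type) (_ : AddCommGroup M) (_ : AddCommGroup N),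
        Nonempty (Grp.mk (Red.bc (U.ι ≫ f) H) ≅ Grp.mk (Red.DS (U : Scheme.{u}) M)) ∧
        Nonempty (Grp.mk (Red.bc (U.ι ≫ f) H') ≅ Grp.mk (Red.DS (U : Scheme.{u}) N)))
    (hcomm : ∀ (X : Over S) (h : X ⟶ H) (h' : X ⟶ H'), (h ≫ i) * (h' ≫ i') = (h' ≫ i') * (h ≫ i))
    (h0 : ∀ (Y : Over S) (_ : ∃ q : Y.left ⟶ Spec (CommRingCat.of (R ⧸ J)),
      q ≫ Spec.map (CommRingCat.ofHom (Ideal.Quotient.mk J)) = Y.hom ≫ t) (γ : Y ⟶ H),
      ∃ γ' : Y ⟶ H', γ' ≫ i' = γ ≫ i) :
    ∃ φ : H ⟶ H', φ ≫ i' = i := by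
  let P := MorphismProperty.isomorphisms Scheme.{u}
  have h1 : Charts.Fib P f (proj i i') := by
    refine Charts.fib_of_cover P fun s' => ?_
    obtain ⟨U, hU, M, N, iM, iN, ⟨e⟩, ⟨e'⟩⟩ := hloc s'
    obtain ⟨V, hV, hVs, hVU⟩ := exists_isAffineOpen_mem_and_subset (X := S') (x := s') (U := U) hU
    refine ⟨V, hVs, ?_⟩
    let k : Spec Γ(S', V) ⟶ (U : Scheme.{u}) :=
      IsOpenImmersion.lift U.ι hV.fromSpec (by rw [hV.range_fromSpec, Scheme.Opens.range_ι]; exact hVU)
    have hk : k ≫ U.ι ≫ f = hV.fromSpec ≫ f := by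
      rw [← Category.assoc, IsOpenImmersion.lift_fac]
    obtain ⟨φ, hφ⟩ := Spec.map_surjective (hV.fromSpec ≫ f ≫ t)
    let JA := J.map φ.hom
    have hJA : IsNilpotent JA := by
      obtain ⟨n, hn⟩ := hJ
      exact ⟨n, by rw [← Ideal.map_pow, hn]; exact Ideal.map_bot⟩
    have hfac : Fac i i' (hV.fromSpec ≫ f) := by
      refine fac_chart i i' hcomm (BaseChange.bcCongr hk.symm H ≪≫ Charts.resChart e k)
        (BaseChange.bcCongr hk.symm H' ≪≫ Charts.resChart e' k) JA hJA fun Y p γ => h0 Y ?_ γ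
      let m : R ⧸ J →+* Γ(S', V) ⧸ JA := Ideal.quotientMap JA φ.hom Ideal.le_comap_map
      refine ⟨p.left ≫ Spec.map (CommRingCat.ofHom m), ?_⟩
      have hsq : CommRingCat.ofHom (Ideal.Quotient.mk J) ≫ CommRingCat.ofHom m =
          φ ≫ CommRingCat.ofHom (Ideal.Quotient.mk JA) := by
        ext z
        rfl
      rw [Category.assoc, ← Spec.map_comp, hsq, Spec.map_comp, hφ, ← Over.w p]
      simp
    refine Charts.fib_congr P ?_ _ (Charts.fib_base P hV.isoSpec.hom ((fib_iso_iff i i' _).mpr hfac))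
    rw [← Category.assoc]
    congr 1
    exact hV.isoSpec_hom_fromSpec
  have h2 := (fib_iso_iff i i' (𝟙 S)).mp (fib_id_of_cover P f hc _ h1)
  obtain ⟨φ, hφ⟩ := h2 H (Over.homMk H.hom) (𝟙 H)
  exact ⟨φ, hφ.trans (Category.id_comp i)⟩

end Groth.Agent.H87.CentralEq
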