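import Mathlib.Algebra.MonoidAlgebra.Basic
import Mathlib.RingTheory.Nakayama
import Mathlib.RingTheory.FiniteType
import Mathlib.RingTheory.Localization.AtPrime.Basic
import Mathlib.RingTheory.IntegralClosure.IsIntegralClosure.Basic
import Mathlib.RingTheory.TensorProduct.Maps
import Mathlib.RingTheory.LocalRing.ResidueField.Ideal
import Mathlib.LinearAlgebra.LinearIndependent.Lemmas
import Mathlib.LinearAlgebra.Basis.VectorSpace

/-!
# Closed subgroups of diagonalisable groups with one trivial fibre

`I : Ideal A[M]` stands for a closed subgroup of `D_A(M)`.  If its fibre at a prime `p` is trivial,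
then it is trivial over a neighbourhood of `p`.
-/

set_option autoImplicit false
universe u

open TensorProduct

namespace Groth.Agent.H87.SubDS

variable {A : Type u} [CommRing A] {M : Type} [CommGroup M]

/-- The character `ch` is a point of the closed subscheme defined by `I`. -/
def Kill (I : Ideal (MonoidAlgebra A M)) {D : Type u} [CommRing D] [Algebra A D] (ch : M →* D) : Prop :=
  ∀ x ∈ I, MonoidAlgebra.lift A D M ch x = 0

theorem Kill.map {I : Ideal (MonoidAlgebra A M)} {D D' : Type u} [CommRing D] [Algebra A D] [CommRing D']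
    [Algebra A D'] (f : D →ₐ[A] D') {ch : M →* D} (h : Kill I ch) :
    Kill I ((f : D →* D').comp ch) := by
  intro x hx
  have he : MonoidAlgebra.lift A D' M ((f : D →* D').comp ch) = f.comp (MonoidAlgebra.lift A D M ch) :=
    MonoidAlgebra.algHom_ext (fun m => by simp) (by ext)
  rw [he, AlgHom.comp_apply, h x hx, map_zero]

/-- `I` defines a subgroup. -/
structure IsSubgroup (I : Ideal (MonoidAlgebra A M)) : Prop where
  one : Kill I (1 : M →* A)
  mul : ∀ (D : Type u) [CommRing D] [Algebra A D] (c₁ c₂ : M →* D), Kill I c₁ → Kill I c₂ → Kill I (c₁ * c₂)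

theorem IsSubgroup.kill_one {I : Ideal (MonoidAlgebra A M)} (h : IsSubgroup I) (D : Type u) [CommRing D]
    [Algebra A D] : Kill I (1 : M →* D) := by
  have := h.one.map (Algebra.ofId A D)
  rwa [MonoidHom.comp_one] at this

/-- Distinct nonzero group-like elements are linearly independent. -/
theorem linearIndependent_groupLike {k B ι : Type*} [Field k] [CommRing B] [Algebra k B]
    (w : ι → B) (hinj : Function.Injective w) (hne : ∀ i, w i ≠ 0)
    (Δ : B →ₗ[k] B ⊗[k] B) (hΔ : ∀ i, Δ (w i) = w i ⊗ₜ w i) : LinearIndependent k w := by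
  classical
  rw [linearIndependent_iff_finset_linearIndependent]
  intro s
  change LinearIndepOn k w (s : Set ι)
  induction s using Finset.induction with
  | empty => simp
  | insert a s ha ih =>
    rw [Finset.coe_insert, linearIndepOn_insert (by simpa using ha)]
    refine ⟨ih, fun hmem => ?_⟩
    let lc : ((s : Set ι) →₀ k) →ₗ[k] B := Finsupp.linearCombination k (fun i : (s : Set ι) => w i)
    obtain ⟨g, hg⟩ := lc.exists_leftInverse_of_injective (LinearMap.ker_eq_bot.mpr ih)
    have hg' : ∀ c, g (lc c) = c := fun c => LinearMap.congr_fun hg c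
    rw [Set.image_eq_range, ← Finsupp.range_linearCombination] at hmem
    obtain ⟨c, hc⟩ := hmem
    have hcc : ∀ j l, c j * c l = if j = l then c j else 0 := by
      intro j l
      let Φ : B →ₗ[k] k := (LinearMap.mul' k k).comp
        ((TensorProduct.map ((Finsupp.lapply j).comp g) ((Finsupp.lapply l).comp g)).comp Δ)
      have h2 : Φ.comp lc = if j = l then Finsupp.lapply j else 0 := by
        refine Finsupp.lhom_ext fun i r => ?_
        have h1 : g (w i) = Finsupp.single i 1 := by
          have := hg' (Finsupp.single i 1)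
          simpa [lc] using this
        simp only [LinearMap.comp_apply, lc, Finsupp.linearCombination_single, map_smul, Φ]
        rw [hΔ, TensorProduct.map_tmul, LinearMap.mul'_apply]
        simp only [LinearMap.comp_apply, h1, Finsupp.lapply_apply, Finsupp.single_apply]
        split_ifs <;> simp_all
      have h3 := LinearMap.congr_fun h2 c
      rw [LinearMap.comp_apply, show lc c = w a from hc] at h3
      simp only [Φ, LinearMap.comp_apply] at h3
      rw [hΔ, TensorProduct.map_tmul, LinearMap.mul'_apply, LinearMap.comp_apply, LinearMap.comp_apply,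
        ← hc, show Finsupp.linearCombination k _ c = lc c from rfl, hg'] at h3
      rw [Finsupp.lapply_apply, Finsupp.lapply_apply] at h3
      rw [h3]
      split_ifs <;> simp
    obtain ⟨j, hj⟩ : ∃ j, c j ≠ 0 := by
      by_contra hh
      push Not at hh
      exact hne a (by rw [← hc, show c = 0 from Finsupp.ext hh, map_zero])
    have hcj : c = Finsupp.single j 1 := by
      have h1 : c j = 1 := (mul_eq_left₀ hj).mp ((hcc j j).trans (if_pos rfl))
      refine Finsupp.ext fun l => ?_
      by_cases h : j = l
      · subst h; simp [h1]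
      · have := hcc j l
        rw [if_neg h, h1, one_mul] at this
        simp [this, Ne.symm h]
    have : w a = w j := by rw [← hc, hcj]; simp
    exact ha (hinj this ▸ j.2)

/-- A finitely generated abelian group which is divisible is trivial. -/
theorem eq_one_of_divisible {Q : Type*} [CommGroup Q] [Monoid.FG Q]
    (h : ∀ n : ℕ, 0 < n → ∀ q : Q, ∃ r : Q, r ^ n = q) (q : Q) : q = 1 := by
  have : AddMonoid.FG (Additive Q) := inferInstance
  have : Module.Finite ℤ (Additive Q) := Module.Finite.iff_addGroup_fg.mpr (AddGroup.fg_iff_addMonoid_fg.mpr this)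
  have h2 : (⊤ : Submodule ℤ (Additive Q)) ≤ Ideal.span {(2 : ℤ)} • ⊤ := by
    intro x _
    obtain ⟨r, hr⟩ := h 2 two_pos x.toMul
    have hx : x = (2 : ℤ) • Additive.ofMul r := by
      apply Additive.toMul.injective
      simpa [zpow_ofNat] using hr.symm
    rw [hx]
    exact Submodule.smul_mem_smul (Ideal.mem_span_singleton_self _) trivial
  obtain ⟨z, hz, hz0⟩ := Submodule.exists_sub_one_mem_and_smul_eq_zero_of_fg_of_le_smul _ _ Module.Finite.fg_top h2
  have hne : z ≠ 0 := by
    rintro rfl
    rw [Ideal.mem_span_singleton] at hz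
    omega
  obtain ⟨r, hr⟩ := h z.natAbs (Int.natAbs_pos.mpr hne) q
  have h0 := hz0 (Additive.ofMul r) trivial
  have h1 : r ^ z = 1 := congrArg Additive.toMul h0
  rw [← hr]
  exact pow_natAbs_eq_one.mpr h1

variable {I : Ideal (MonoidAlgebra A M)} (p : Ideal A) [p.IsPrime]

/-- The fibre at `p` is trivial. -/
def FibTrivial (I : Ideal (MonoidAlgebra A M)) : Prop :=
  ∀ (D : Type u) [CommRing D] [Algebra A D] (ch : M →* D),
    (∀ a ∈ p, algebraMap A D a = 0) → (∀ a ∉ p, IsUnit (algebraMap A D a)) → Kill I ch → ch = 1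

section Local

local notation "L" => Localization.AtPrime p

theorem lift_map {D : Type u} [CommRing D] [Algebra A D] {k : Type u} [CommRing k] [Algebra A k] [Algebra k D]
    [IsScalarTower A k D] (ch : M →* D) (x : MonoidAlgebra A M) :
    MonoidAlgebra.lift k D M ch (MonoidAlgebra.mapRingHom M (algebraMap A k) x) =
      MonoidAlgebra.lift A D M ch x := by
  induction x using MonoidAlgebra.induction_linear with
  | zero => simp
  | add a b ha hb => simp [ha, hb]
  | single m r => simp [MonoidAlgebra.lift_single, algebraMap_smul]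

variable (I) in
/-- The equations over an `A`-algebra. -/
noncomputable abbrev ext (k : Type u) [CommRing k] [Algebra A k] : Ideal (MonoidAlgebra k M) :=
  I.map (MonoidAlgebra.mapRingHom M (algebraMap A k))

/-- The universal character of a quotient. -/
noncomputable abbrev uch {k : Type u} [CommRing k] (K : Ideal (MonoidAlgebra k M)) :
    M →* MonoidAlgebra k M ⧸ K :=
  ((Ideal.Quotient.mk K : MonoidAlgebra k M →+* _) : MonoidAlgebra k M →* _).comp (MonoidAlgebra.of k M)

theorem kill_uch {k : Type u} [CommRing k] [Algebra A k] (K : Ideal (MonoidAlgebra k M)) (hK : ext I k ≤ K) :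
    Kill I (uch K) := by
  intro x hx
  rw [← lift_map (k := k)]
  have : MonoidAlgebra.lift k (MonoidAlgebra k M ⧸ K) M (uch K) = Ideal.Quotient.mkₐ k K :=
    MonoidAlgebra.algHom_ext (fun m => by simp) (by ext)
  rw [this]
  exact Ideal.Quotient.eq_zero_iff_mem.mpr (hK (Ideal.mem_map_of_mem _ hx))

theorem le_ker_lift {k : Type u} [CommRing k] [Algebra A k] {D : Type u} [CommRing D] [Algebra A D] [Algebra k D]
    [IsScalarTower A k D] {ch : M →* D} (h : Kill I ch) :
    ext I k ≤ RingHom.ker (MonoidAlgebra.lift k D M ch) :=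
  Ideal.map_le_iff_le_comap.mpr fun x hx => (lift_map ch x).trans (h x hx)

theorem span_uch {k : Type u} [CommRing k] (K : Ideal (MonoidAlgebra k M)) :
    Submodule.span k (Set.range (uch K)) = ⊤ := by
  refine eq_top_iff.mpr fun y _ => ?_
  obtain ⟨x, rfl⟩ := Ideal.Quotient.mk_surjective y
  induction x using MonoidAlgebra.induction_linear with
  | zero => simp
  | add a b ha hb => rw [map_add]; exact add_mem (ha trivial) (hb trivial)
  | single m r =>
    have : Ideal.Quotient.mk K (MonoidAlgebra.single m r) = r • uch K m := by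
      rw [← Ideal.Quotient.mkₐ_eq_mk k K, show MonoidAlgebra.single m r = r • MonoidAlgebra.single m (1 : k) by simp,
        map_smul]
      simp
    rw [this]
    exact Submodule.smul_mem _ _ (Submodule.subset_span ⟨m, rfl⟩)

theorem desc_uch {k : Type u} [CommRing k] (K : Ideal (MonoidAlgebra k M)) {D : Type u} [CommRing D]
    [Algebra k D] (ch : M →* D) (h : ∀ x ∈ K, MonoidAlgebra.lift k D M ch x = 0) (g : M) :
    Ideal.Quotient.liftₐ K (MonoidAlgebra.lift k D M ch) h (uch K g) = ch g := by
  show MonoidAlgebra.lift k D M ch (MonoidAlgebra.of k M g) = ch g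
  simp

/-- Nakayama: a finite algebra over the local ring generated by a point is trivial. -/
theorem eq_one_of_finite (hfib : FibTrivial p I) {B : Type u} [CommRing B] [Algebra L B] [Algebra A B]
    [IsScalarTower A L B] [Module.Finite L B] (v : M →* B) (hgen : Submodule.span L (Set.range v) = ⊤)
    (hv : Kill I v) (ε : B →ₐ[L] L) (hε : ∀ g, ε (v g) = 1) : v = 1 := by
  let m : Ideal L := IsLocalRing.maximalIdeal L
  let K' : Ideal B := Ideal.map (algebraMap L B : L →+* B) m
  have h1 : ((Ideal.Quotient.mkₐ A K' : B →ₐ[A] B ⧸ K') : B →* B ⧸ K').comp v = 1 := by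
    refine hfib _ _ (fun a ha => ?_) (fun a ha => ?_) (hv.map _)
    · rw [IsScalarTower.algebraMap_apply A B (B ⧸ K'), IsScalarTower.algebraMap_apply A L B]
      refine Ideal.Quotient.eq_zero_iff_mem.mpr (Ideal.mem_map_of_mem _ ?_)
      exact ((IsLocalization.AtPrime.to_map_mem_maximal_iff L p a).mpr ha)
    · rw [IsScalarTower.algebraMap_apply A L (B ⧸ K')]
      exact (IsLocalization.map_units (M := p.primeCompl) L ⟨a, ha⟩).map _
  have h2 : (⊤ : Submodule L B) ≤ Submodule.span L {(1 : B)} ⊔ m • ⊤ := by
    conv_lhs => rw [← hgen]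
    rw [Submodule.span_le]
    rintro _ ⟨g, rfl⟩
    have hg : v g - 1 ∈ K' := by
      rw [← Ideal.Quotient.eq_zero_iff_mem, map_sub, map_one, sub_eq_zero]
      exact DFunLike.congr_fun h1 g
    rw [show v g = 1 + (v g - 1) by ring]
    refine Submodule.add_mem_sup (Submodule.mem_span_singleton_self _) ?_
    rw [Ideal.smul_top_eq_map]
    exact hg
  have h3 : (⊤ : Submodule L B) ≤ Submodule.span L {(1 : B)} :=
    Submodule.le_of_le_smul_of_le_jacobson_bot Module.Finite.fg_top (IsLocalRing.maximalIdeal_le_jacobson _) h2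
  refine MonoidHom.ext fun g => ?_
  obtain ⟨c, hc⟩ := Submodule.mem_span_singleton.mp (h3 (Submodule.mem_top (x := v g)))
  have h4 := congrArg ε hc
  rw [map_smul, map_one, hε, smul_eq_mul, mul_one] at h4
  rw [← hc, h4, one_smul, MonoidHom.one_apply]

/-- The augmentation of a quotient. -/
noncomputable def eps {k : Type u} [CommRing k] (K : Ideal (MonoidAlgebra k M))
    (h : K ≤ RingHom.ker (MonoidAlgebra.lift k k M 1)) : MonoidAlgebra k M ⧸ K →ₐ[k] k :=
  Ideal.Quotient.liftₐ K (MonoidAlgebra.lift k k M 1) (fun _ hx => h hx)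

theorem eps_uch {k : Type u} [CommRing k] (K : Ideal (MonoidAlgebra k M))
    (h : K ≤ RingHom.ker (MonoidAlgebra.lift k k M 1)) (g : M) : eps K h (uch K g) = 1 :=
  desc_uch K 1 _ g

variable [Monoid.FG M]

/-- Torsion points over the local ring are trivial. -/
theorem eq_one_of_pow (hS : IsSubgroup I) (hfib : FibTrivial p I) {D : Type u} [CommRing D] [Algebra A D]
    [Algebra L D] [IsScalarTower A L D] {ch : M →* D} (h : Kill I ch) {n : ℕ} (hn : 0 < n)
    (hpow : ∀ g, ch g ^ n = 1) : ch = 1 := by
  let E : Ideal (MonoidAlgebra L M) := Ideal.span (Set.range fun g => MonoidAlgebra.of L M g ^ n - 1)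
  let K := ext I L ⊔ E
  let B := MonoidAlgebra L M ⧸ K
  have hint : ∀ g, IsIntegral L (uch K g) := fun g => by
    refine IsIntegral.of_pow hn ?_
    have : uch K g ^ n = 1 := by
      rw [← sub_eq_zero]
      show Ideal.Quotient.mk K (MonoidAlgebra.of L M g) ^ n - 1 = 0
      rw [← map_pow, ← map_one (Ideal.Quotient.mk K), ← map_sub, Ideal.Quotient.eq_zero_iff_mem]
      exact le_sup_right (a := ext I L) (Ideal.subset_span ⟨g, rfl⟩)
    rw [this]
    exact isIntegral_one
  have : Algebra.IsIntegral L B := ⟨fun y => by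
    refine Submodule.span_induction (p := fun y _ => IsIntegral L y) ?_ isIntegral_zero
      (fun _ _ _ _ => IsIntegral.add) (fun r _ _ hy => hy.smul r)
      (span_uch K ▸ Submodule.mem_top : y ∈ Submodule.span L (Set.range (uch K)))
    rintro _ ⟨g, rfl⟩
    exact hint g⟩
  have : Module.Finite L B := Algebra.IsIntegral.finite
  have hu : uch K = 1 := by
    suffices h1 : K ≤ RingHom.ker (MonoidAlgebra.lift L L M 1) from
      eq_one_of_finite p hfib (uch K) (span_uch K) (kill_uch K le_sup_left) (eps K h1) (eps_uch K h1)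
    refine sup_le (le_ker_lift (hS.kill_one L)) ?_
    rw [Ideal.span_le]
    rintro _ ⟨g, rfl⟩
    simp
  have hKD : K ≤ RingHom.ker (MonoidAlgebra.lift L D M ch) := by
    refine sup_le (le_ker_lift h) ?_
    rw [Ideal.span_le]
    rintro _ ⟨g, rfl⟩
    simp [hpow g]
  ext g
  have := congrArg (Ideal.Quotient.liftₐ K (MonoidAlgebra.lift L D M ch) (fun x hx => hKD hx))
    (DFunLike.congr_fun hu g)
  refine (desc_uch K ch _ g).symm.trans (this.trans ?_)
  simp

/-- The diagonal character `g ↦ v g ⊗ v g`. -/
noncomputable def tch {k B : Type u} [CommRing k] [CommRing B] [Algebra k B] (v : M →* B) : M →* B ⊗[k] B where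
  toFun g := v g ⊗ₜ v g
  map_one' := by rw [map_one]; rfl
  map_mul' g g' := by rw [map_mul, Algebra.TensorProduct.tmul_mul_tmul]

theorem kill_tch (hS : IsSubgroup I) {k B : Type u} [CommRing k] [CommRing B] [Algebra k B] [Algebra A k]
    [Algebra A B] [IsScalarTower A k B] {v : M →* B} (hI : Kill I v) : Kill I (tch (k := k) v) := by
  let i₁ : B →ₐ[k] B ⊗[k] B := Algebra.TensorProduct.includeLeft
  let i₂ : B →ₐ[k] B ⊗[k] B := Algebra.TensorProduct.includeRight
  have h := hS.mul _ _ _ (hI.map (i₁.restrictScalars A)) (hI.map (i₂.restrictScalars A))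
  convert h using 1
  ext g
  simp [tch, i₁, i₂]

/-- A group-like point generating an algebra over a field is trivial. -/
theorem eq_one_of_groupLike (hS : IsSubgroup I) (hfib : FibTrivial p I) {k B : Type u} [Field k] [Algebra A k]
    [Algebra L k] [IsScalarTower A L k] [CommRing B] [Nontrivial B] [Algebra k B] [Algebra A B]
    [IsScalarTower A k B] (v : M →* B) (hI : Kill I v) (Δ : B →ₐ[k] B ⊗[k] B)
    (hΔ : ∀ g, Δ (v g) = v g ⊗ₜ v g) : v = 1 := by
  let H := v.ker
  let vl : M ⧸ H →* B := QuotientGroup.lift H v le_rfl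
  let w : M ⧸ H → B := vl
  have hw : Function.Injective w := fun q q' hq => by
    obtain ⟨g, rfl⟩ := QuotientGroup.mk_surjective q
    obtain ⟨g', rfl⟩ := QuotientGroup.mk_surjective q'
    rw [QuotientGroup.eq]
    show v (g⁻¹ * g') = 1
    rw [map_mul, ← show v g = v g' from hq, ← map_mul, inv_mul_cancel, map_one]
  have hind : LinearIndependent k w := by
    refine linearIndependent_groupLike w hw (fun q => ?_) Δ.toLinearMap (fun q => ?_)
    · obtain ⟨g, rfl⟩ := QuotientGroup.mk_surjective q
      exact ((Group.isUnit g).map v).ne_zero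
    · obtain ⟨g, rfl⟩ := QuotientGroup.mk_surjective q
      exact hΔ g
  have hdiv : ∀ n : ℕ, 0 < n → ∀ q : M ⧸ H, ∃ r : M ⧸ H, r ^ n = q := by
    intro n hn q
    obtain ⟨g, rfl⟩ := QuotientGroup.mk_surjective q
    let P : Subgroup (M ⧸ H) := (powMonoidHom n).range
    let ch : M →* MonoidAlgebra k ((M ⧸ H) ⧸ P) :=
      (MonoidAlgebra.of k _).comp ((QuotientGroup.mk' P).comp (QuotientGroup.mk' H))
    have hkill : Kill I ch := by
      intro x hx
      let π : MonoidAlgebra k M →ₐ[k] MonoidAlgebra k (M ⧸ H) := MonoidAlgebra.mapDomainAlgHom k k (QuotientGroup.mk' H)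
      let ψ : MonoidAlgebra k (M ⧸ H) →ₐ[k] B := MonoidAlgebra.lift k B _ vl
      have hψ : Function.Injective ψ := by
        have hlc : ∀ y, ψ y = Finsupp.linearCombination k w y.coeff := fun y => by
          induction y using MonoidAlgebra.induction_linear with
          | zero => simp
          | add a b ha hb => simp [ha, hb]
          | single m r => simp [ψ, w, MonoidAlgebra.lift_single]
        rw [← AlgHom.coe_toLinearMap, ← LinearMap.ker_eq_bot, LinearMap.ker_eq_bot']
        intro y hy
        have : Finsupp.linearCombination k w y.coeff = 0 := (hlc y).symm.trans hy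
        exact MonoidAlgebra.coeff_injective ((linearIndependent_iff.mp hind y.coeff this).trans MonoidAlgebra.coeff_zero.symm)
      have hcomp : ψ.comp π = MonoidAlgebra.lift k B M v :=
        MonoidAlgebra.algHom_ext (fun m => by simp [ψ, π, vl]) (by ext)
      have h0 : π (MonoidAlgebra.mapRingHom M (algebraMap A k) x) = 0 := by
        apply hψ
        rw [map_zero, ← AlgHom.comp_apply, hcomp, lift_map]
        exact hI x hx
      have hch : MonoidAlgebra.lift k _ M ch =
          (MonoidAlgebra.mapDomainAlgHom k k (QuotientGroup.mk' P)).comp π :=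
        MonoidAlgebra.algHom_ext (fun m => by simp [ch, π]) (by ext)
      rw [← lift_map (k := k), hch, AlgHom.comp_apply, h0, map_zero]
    have hpow : ∀ g, ch g ^ n = 1 := fun g => by
      have h1 : QuotientGroup.mk' P ((QuotientGroup.mk' H g) ^ n) = 1 :=
        (QuotientGroup.eq_one_iff _).mpr ⟨QuotientGroup.mk' H g, rfl⟩
      show MonoidAlgebra.of k _ (QuotientGroup.mk' P (QuotientGroup.mk' H g)) ^ n = 1
      rw [← map_pow, ← map_pow, h1, map_one]
    letI : Algebra L (MonoidAlgebra k ((M ⧸ H) ⧸ P)) :=
      ((algebraMap k (MonoidAlgebra k ((M ⧸ H) ⧸ P))).comp (algebraMap L k)).toAlgebra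
    haveI : IsScalarTower A L (MonoidAlgebra k ((M ⧸ H) ⧸ P)) := .of_algebraMap_eq fun a => by
      rw [RingHom.algebraMap_toAlgebra, RingHom.comp_apply, ← IsScalarTower.algebraMap_apply A L k,
        ← IsScalarTower.algebraMap_apply A k]
    have h2 := DFunLike.congr_fun (eq_one_of_pow p hS hfib hkill hn hpow) g
    have h3 : QuotientGroup.mk' P (QuotientGroup.mk' H g) = 1 :=
      MonoidAlgebra.of_injective (R := k) (h2.trans (map_one _).symm)
    exact (QuotientGroup.eq_one_iff _).mp h3
  have : Monoid.FG (M ⧸ H) := Monoid.fg_of_surjective (QuotientGroup.mk' H) (QuotientGroup.mk'_surjective H)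
  ext g
  exact (QuotientGroup.eq_one_iff g).mp (eq_one_of_divisible hdiv (QuotientGroup.mk g))

theorem eq_one_of_field (hS : IsSubgroup I) (hfib : FibTrivial p I) {k : Type u} [Field k] [Algebra A k]
    [Algebra L k] [IsScalarTower A L k] : uch (ext I k) = 1 := by
  have hI : Kill I (uch (ext I k)) := kill_uch _ le_rfl
  have hnt : Nontrivial (MonoidAlgebra k M ⧸ ext I k) := by
    refine Ideal.Quotient.nontrivial_iff.mpr fun htop => ?_
    have h1 : (1 : MonoidAlgebra k M) ∈ ext I k := htop ▸ Submodule.mem_top
    simpa using le_ker_lift (hS.kill_one k) h1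
  exact eq_one_of_groupLike p hS hfib _ hI
    (Ideal.Quotient.liftₐ (ext I k) (MonoidAlgebra.lift k _ M (tch (uch (ext I k))))
      (fun x hx => le_ker_lift (kill_tch hS hI) hx)) (fun g => desc_uch _ _ _ g)

/-- Points over the local ring are trivial. -/
theorem uch_eq_one (hS : IsSubgroup I) (hfib : FibTrivial p I) : uch (ext I L) = 1 := by
  let K := ext I L
  let B := MonoidAlgebra L M ⧸ K
  have hnil : ∀ g, IsNilpotent (uch K g - 1) := fun g => by
    rw [← mem_nilradical, nilradical_eq_sInf, Submodule.mem_sInf]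
    intro (q : Ideal B) (hq : q.IsPrime)
    let φ : B →ₐ[L] q.ResidueField := IsScalarTower.toAlgHom L B q.ResidueField
    have hk : Kill I ((φ : B →* q.ResidueField).comp (uch K)) := (kill_uch K le_rfl).map (φ.restrictScalars A)
    have h1 := eq_one_of_field p hS hfib (k := q.ResidueField)
    have h2 := congrArg (Ideal.Quotient.liftₐ (ext I q.ResidueField)
      (MonoidAlgebra.lift q.ResidueField q.ResidueField M _) (fun x hx => le_ker_lift hk hx)) (DFunLike.congr_fun h1 g)
    have h3 : φ (uch K g) = 1 := (desc_uch (ext I q.ResidueField) _ _ g).symm.trans (h2.trans (by simp))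
    rw [← Ideal.algebraMap_residueField_eq_zero, map_sub, map_one, sub_eq_zero]
    exact h3
  have : Algebra.IsIntegral L B := ⟨fun y => by
    refine Submodule.span_induction (p := fun y _ => IsIntegral L y) ?_ isIntegral_zero
      (fun _ _ _ _ => IsIntegral.add) (fun r _ _ hy => hy.smul r)
      (span_uch K ▸ Submodule.mem_top : y ∈ Submodule.span L (Set.range (uch K)))
    rintro _ ⟨g, rfl⟩
    obtain ⟨n, hn⟩ := hnil g
    have h := (IsIntegral.of_pow (R := L) n.succ_pos (x := uch K g - 1)
      (by rw [pow_succ, hn, zero_mul]; exact isIntegral_zero)).add isIntegral_one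
    rwa [sub_add_cancel] at h⟩
  have : Module.Finite L B := Algebra.IsIntegral.finite
  exact eq_one_of_finite p hfib (uch K) (span_uch K) (kill_uch K le_rfl) (eps K (le_ker_lift (hS.kill_one L))) (eps_uch K _)

theorem eq_one_of_units (hS : IsSubgroup I) (hfib : FibTrivial p I) {D : Type u} [CommRing D] [Algebra A D]
    (ch : M →* D) (hu : ∀ a : p.primeCompl, IsUnit (algebraMap A D a)) (hk : Kill I ch) : ch = 1 := by
  letI : Algebra L D := RingHom.toAlgebra (IsLocalization.lift (M := p.primeCompl) hu : L →+* D)
  haveI : IsScalarTower A L D := IsScalarTower.of_algebraMap_eq fun a => by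
    exact (IsLocalization.lift_eq (M := p.primeCompl) (S := L) hu a).symm
  ext g
  have := congrArg (Ideal.Quotient.liftₐ (ext I L) (MonoidAlgebra.lift L D M ch) (fun x hx => le_ker_lift hk hx))
    (DFunLike.congr_fun (uch_eq_one p hS hfib) g)
  exact (desc_uch (ext I L) _ _ g).symm.trans (this.trans (by simp))

theorem exists_mul_eq_zero (hS : IsSubgroup I) (hfib : FibTrivial p I) {B : Type u} [CommRing B] [Algebra A B]
    (v : M →* B) (hv : Kill I v) (g : M) : ∃ a : p.primeCompl, algebraMap A B a * (v g - 1) = 0 := by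
  let N := Algebra.algebraMapSubmonoid B p.primeCompl
  have hu : ∀ a : p.primeCompl, IsUnit (algebraMap A (Localization N) a) := fun a => by
    rw [IsScalarTower.algebraMap_apply A B (Localization N)]
    exact IsLocalization.map_units (Localization N) (⟨_, Algebra.mem_algebraMapSubmonoid_of_mem a⟩ : N)
  have h1 := eq_one_of_units p hS hfib _ hu (hv.map (IsScalarTower.toAlgHom A B (Localization N)))
  have h0 : algebraMap B (Localization N) (v g - 1) = 0 := by
    rw [map_sub, map_one, sub_eq_zero]
    exact DFunLike.congr_fun h1 g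
  obtain ⟨⟨_, a, ha, rfl⟩, he⟩ := (IsLocalization.map_eq_zero_iff N (Localization N) _).mp h0
  exact ⟨⟨a, ha⟩, he⟩

/-- If the fibre at `p` is trivial then the subgroup is trivial over a neighbourhood. -/
theorem exists_trivial_nhd (hS : IsSubgroup I) (hfib : FibTrivial p I) :
    ∃ a ∉ p, ∀ (D : Type u) [CommRing D] [Algebra A D] (ch : M →* D),
      IsUnit (algebraMap A D a) → Kill I ch → ch = 1 := by
  classical
  let B := MonoidAlgebra A M ⧸ I
  have h : Kill I (uch I) := by
    refine kill_uch I (Ideal.map_le_iff_le_comap.mpr fun x hx => ?_)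
    simpa [MonoidAlgebra.mapRingHom] using hx
  have h2 : ∀ g, ∃ a : p.primeCompl, algebraMap A B a * (uch I g - 1) = 0 :=
    fun g => exists_mul_eq_zero p hS hfib (uch I) h g
  obtain ⟨F, hF⟩ := Monoid.FG.fg_top (M := M)
  choose a ha using h2
  refine ⟨((∏ g ∈ F, a g : p.primeCompl) : A), (∏ g ∈ F, a g : p.primeCompl).2, fun D _ _ ch hD hch => ?_⟩
  let f : B →ₐ[A] D := Ideal.Quotient.liftₐ I (MonoidAlgebra.lift A D M ch) hch
  refine MonoidHom.eq_of_eqOn_denseM hF fun g hg => ?_
  have h3 := congrArg f (ha g)
  rw [map_mul, map_sub, map_one, map_zero, AlgHom.commutes] at h3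
  have h4 : f (uch I g) = ch g := by
    show MonoidAlgebra.lift A D M ch (MonoidAlgebra.of A M g) = ch g
    simp
  rw [h4] at h3
  have h5 : IsUnit (algebraMap A D (a g)) := by
    rw [← Finset.mul_prod_erase F a hg, Submonoid.coe_mul, map_mul] at hD
    exact isUnit_of_mul_isUnit_left hD
  rw [MonoidHom.one_apply, ← sub_eq_zero]
  exact h5.mul_right_eq_zero.mp h3

end Local

end Groth.Agent.H87.SubDS
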