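import Groth.Agent.H87.Loci
import Groth.Agent.H87.SubDS

/-!
# Monomorphy of a homomorphism from a group of multiplicative type is local
-/

set_option autoImplicit false
universe u

open CategoryTheory MonoidalCategory CartesianMonoidalCategory MonObj GrpObj AlgebraicGeometry
open CategoryTheory.Limits
open Groth.Agent.Lib.RedPts Groth.Agent.Lib.Tori
open Groth.Agent.H87.Locus (toG)

namespace Groth.Agent.H87.Mono

variable {S : Scheme.{u}} {H G : Over S} [GrpObj H] [GrpObj G] (u : H ⟶ G) [IsMonHom u]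

/-- Monomorphisms of schemes. -/
abbrev P : MorphismProperty Scheme.{u} := MorphismProperty.monomorphisms Scheme

theorem eq_of_kill {X : Over S} (a b : X ⟶ H) (h : ∀ c : X ⟶ H, c ≫ u = 1 → c = 1) (e : a ≫ u = b ≫ u) : a = b := by
  have h1 := h (a * b⁻¹) (by rw [MonObj.mul_comp a b⁻¹ u, GrpObj.inv_comp b u, e, mul_inv_cancel])
  exact mul_inv_eq_one.mp h1

theorem fib_of_kerTriv {T : Scheme.{u}} (t : T ⟶ S)
    (h : ∀ (Y : Over S) (_ : Y ⟶ Over.mk t) (γ : Y ⟶ H), γ ≫ u = 1 → γ = 1) : Charts.Fib P t u := by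
  have : Mono ((Over.pullback t).map u) := ⟨fun {Z} a b hab => by
    apply BC.down_injective
    have h1 := congrArg (BC.down t) hab
    have h2 : BC.down t a ≫ u = BC.down t b ≫ u := (BC.down_map a u).symm.trans (h1.trans (BC.down_map b u))
    exact eq_of_kill (X := (Over.map t).obj Z) u (BC.down t a) (BC.down t b)
      (fun c hc => h ((Over.map t).obj Z) (Over.homMk (U := (Over.map t).obj Z) (V := Over.mk t) Z.hom rfl) c hc) h2⟩
  exact MorphismProperty.monomorphisms.infer_property _

theorem kerTriv_of_fib {T : Scheme.{u}} {t : T ⟶ S} (h : Charts.Fib P t u) {Y : Over S} (p : Y ⟶ Over.mk t)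
    (γ : Y ⟶ H) (hγ : γ ≫ u = 1) : γ = 1 := by
  have : Mono ((Over.pullback t).map u).left := h
  have : Mono ((Over.pullback t).map u) := Over.mono_of_mono_left _
  let i : (Over.map t).obj (Over.mk p.left) ≅ Y := Over.isoMk (Iso.refl _) (by
    show 𝟙 _ ≫ Y.hom = p.left ≫ t
    rw [Category.id_comp]
    exact (Over.w p).symm)
  have h2 : BC.up t (i.hom ≫ γ) = 1 := by
    have e1 : (BC.down t (BC.up t (i.hom ≫ γ))) ≫ u = (BC.down t (1 : Over.mk p.left ⟶ Red.bc t H)) ≫ u := by
      rw [BC.down_up, Category.assoc, hγ, MonObj.comp_one, BC.down_one, MonObj.one_comp u]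
    rw [← cancel_mono ((Over.pullback t).map u)]
    exact BC.down_injective ((BC.down_map _ u).trans (e1.trans (BC.down_map (1 : Over.mk p.left ⟶ Red.bc t H) u).symm))
  have h3 := congrArg (BC.down t) h2
  rw [BC.down_up, BC.down_one] at h3
  rw [← cancel_epi i.hom, MonObj.comp_one, h3]

theorem lfp_kernel (hH : SGA3x.IsMultTypeFT H)
    (hG : IsLocallyNoetherian S ∨ LocallyOfFinitePresentation G.hom) :
    LocallyOfFinitePresentation (pullback.fst u.left η[G].left) := by
  have : IsImmersion (η[G].left ≫ G.hom) := by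
    rw [show η[G].left ≫ G.hom = 𝟙 S from Over.w η[G]]
    exact (inferInstance : IsImmersion (𝟙 S))
  have : IsImmersion η[G].left := IsImmersion.of_comp _ G.hom
  rcases hG with hG | hG
  · have := MT.locallyOfFinitePresentation hH
    have := LocallyOfFiniteType.isLocallyNoetherian H.hom
    infer_instance
  · have : LocallyOfFinitePresentation (η[G].left ≫ G.hom) := by
      rw [show η[G].left ≫ G.hom = 𝟙 S from Over.w η[G]]
      exact locallyOfFinitePresentation_of_isOpenImmersion (f := 𝟙 S)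
    have : LocallyOfFiniteType G.hom := inferInstance
    have : LocallyOfFinitePresentation η[G].left :=
      Groth.Agent.Lib.Lim.OpenImm.lfp_of_comp η[G].left G.hom
    infer_instance

/-- If all fibres are monomorphisms then the kernel is a closed subscheme. -/
theorem isClosedImmersion_kernel (hH : SGA3x.IsMultTypeFT H)
    (hfib : ∀ s : S, Charts.Fib P (S.fromSpecResidueField s) u) :
    IsClosedImmersion (pullback.fst u.left η[G].left) := by
  have : IsImmersion (η[G].left ≫ G.hom) := by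
    rw [show η[G].left ≫ G.hom = 𝟙 S from Over.w η[G]]
    exact (inferInstance : IsImmersion (𝟙 S))
  have : IsImmersion η[G].left := IsImmersion.of_comp _ G.hom
  have := MT.isAffineHom hH
  have : IsClosedImmersion η[H].left := Groth.Agent.Lib.GrpSch.isClosedImmersion_η H
  let K := pullback.fst u.left η[G].left
  have hη : η[H].left ≫ u.left = η[G].left := congr($(IsMonHom.one_hom u).left)
  refine IsClosedImmersion.of_isPreimmersion K ?_
  suffices Set.range K.base = Set.range η[H].left.base by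
    rw [this]
    exact η[H].left.isClosedEmbedding.isClosed_range
  refine Set.Subset.antisymm ?_ ?_
  · rintro _ ⟨z, rfl⟩
    let Q := pullback u.left η[G].left
    let k := Q.fromSpecResidueField z
    let Y : Over S := Over.mk (k ≫ K ≫ H.hom)
    let γ : Y ⟶ H := Over.homMk (k ≫ K) (Category.assoc _ _ _)
    have hK : K ≫ H.hom = pullback.snd u.left η[G].left := by
      rw [show K ≫ H.hom = (K ≫ u.left) ≫ G.hom by rw [Category.assoc, Over.w u]]
      show (pullback.fst u.left η[G].left ≫ u.left) ≫ G.hom = _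
      rw [pullback.condition, Category.assoc]
      erw [Over.w η[G]]
      exact Category.comp_id _
    have hγ : γ ≫ u = 1 := by
      rw [Hom.one_def]
      apply Over.OverMorphism.ext
      show (k ≫ K) ≫ u.left = (k ≫ K ≫ H.hom) ≫ η[G].left
      rw [hK, Category.assoc, Category.assoc]
      exact congrArg _ pullback.condition
    have hfib' : Charts.Fib P Y.hom u :=
      (Charts.fib_point_iff P (K := Q.residueField z) Y.hom u).mpr (hfib _)
    have h1 : γ = 1 := kerTriv_of_fib u hfib' (Over.homMk (𝟙 _)) γ hγ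
    have h2 : γ.left = Y.hom ≫ η[H].left := by rw [h1, Hom.one_def]; rfl
    refine ⟨Y.hom (IsLocalRing.closedPoint (Q.residueField z) : Spec (Q.residueField z)), ?_⟩
    refine (congr($h2 (IsLocalRing.closedPoint (Q.residueField z) : Spec (Q.residueField z)))).symm.trans ?_
    exact congrArg K (Q.fromSpecResidueField_apply z _)
  · rintro _ ⟨s, rfl⟩
    exact ⟨pullback.lift η[H].left (𝟙 S) (hη.trans (Category.id_comp _).symm) s,
      congr($(pullback.lift_fst (f := u.left) (g := η[G].left) η[H].left (𝟙 S) _) s)⟩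

section Chart

variable {A : CommRingCat.{u}} {g : Spec A ⟶ S} {M : Type} [AddCommGroup M]
  (e : Grp.mk (Red.bc g H) ≅ Grp.mk (Red.DS (Spec A) M))

omit [IsMonHom u] [GrpObj G] in
theorem pt_injective {T : Over (Spec A)} : Function.Injective (Rigid.pt e (T := T)) := by
  intro χ χ' h
  have h1 : Gm.dsPt χ = Gm.dsPt χ' := (cancel_mono e.inv.hom.hom).mp (BC.down_injective h)
  refine MonoidHom.ext fun m => ?_
  have h2 := congrArg (fun z => Gm.dsFn z m.toAdd) h1
  simpa using h2

include e in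
/-- On a chart, a monomorphic fibre propagates to a neighbourhood. -/
theorem exists_nhd_chart [AddGroup.FG M] [IsClosedImmersion (pullback.fst u.left η[G].left)]
    [LocallyOfFinitePresentation (pullback.fst u.left η[G].left)] (p : Ideal A) [p.IsPrime]
    (hp : Charts.Fib P (Spec.map (CommRingCat.ofHom (algebraMap A p.ResidueField)) ≫ g) u) :
    ∃ a ∉ p, Charts.Fib P (Spec.map (CommRingCat.ofHom (algebraMap A (Localization.Away a))) ≫ g) u := by
  obtain ⟨I, -, hI⟩ := Locus.exists_ideal u e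
  have hlift : ∀ (D : Type u) [CommRing D] [Algebra A D] (ch : Multiplicative M →* D) (x : MonoidAlgebra A (Multiplicative M)),
      MonoidAlgebra.lift A D _ ch x = (Locus.ev (D := CommRingCat.of D) (CommRingCat.ofHom (algebraMap A D)) ch).hom x := by
    intro D _ _ ch x
    induction x using MonoidAlgebra.induction_linear with
    | zero => simp
    | add a b ha hb => rw [map_add, map_add, ha, hb]
    | single m r => simp [MonoidAlgebra.lift_single, Algebra.smul_def]
  have hkill : ∀ (D : Type u) [CommRing D] [Algebra A D] (ch : Multiplicative M →* D),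
      SubDS.Kill I ch ↔ Rigid.pt e (T := Over.mk (Spec.map (CommRingCat.ofHom (algebraMap A D))))
        ((toG (CommRingCat.of D)).comp ch) ≫ u = 1 := by
    intro D _ _ ch
    rw [hI]
    exact ⟨fun h x hx => (hlift D ch x).symm.trans (h x hx), fun h x hx => (hlift D ch x).trans (h hx)⟩
  have hone : ∀ (D : CommRingCat.{u}), (toG D).comp (1 : Multiplicative M →* D) = 1 := fun D => MonoidHom.comp_one _
  have hS : SubDS.IsSubgroup I :=
    { one := (hkill A 1).mpr (by rw [hone, Rigid.pt_one, MonObj.one_comp u])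
      mul := fun D _ _ c₁ c₂ h₁ h₂ => (hkill D _).mpr (by
        rw [MonoidHom.comp_mul, Rigid.pt_mul, MonObj.mul_comp _ _ u, (hkill D _).mp h₁, (hkill D _).mp h₂,
          _root_.one_mul]) }
  have hfib : SubDS.FibTrivial p I := by
    intro D _ _ ch h0 h1 hk
    have hlift' : ∀ x : p.primeCompl, IsUnit (algebraMap A D x) := fun x => h1 x x.2
    let ψ : p.ResidueField →+* D := Ideal.ResidueField.lift p (algebraMap A D) (fun a ha => h0 a ha)
      (fun a ha => hlift' ⟨a, ha⟩)
    let T : Over (Spec A) := Over.mk (Spec.map (CommRingCat.ofHom (algebraMap A D)))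
    have hψ : (CommRingCat.ofHom (algebraMap A p.ResidueField)) ≫ CommRingCat.ofHom ψ = CommRingCat.ofHom (algebraMap A D) := by
      refine CommRingCat.hom_ext (RingHom.ext fun a => ?_)
      exact Ideal.ResidueField.lift_algebraMap (I := p) (algebraMap A D) (fun a ha => h0 a ha) (fun a ha => hlift' ⟨a, ha⟩) a
    have h2 := kerTriv_of_fib u hp (Y := (Over.map g).obj T)
      (Over.homMk (Spec.map (CommRingCat.ofHom ψ)) (by
        show Spec.map _ ≫ Spec.map _ ≫ g = _
        rw [← Category.assoc, ← Spec.map_comp, hψ]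
        rfl)) _ ((hkill D ch).mp hk)
    have h3 := pt_injective e (h2.trans (Rigid.pt_one e _).symm)
    ext m
    exact HomDS.toG_injective (CommRingCat.of D) ((DFunLike.congr_fun h3 m).trans (map_one _).symm)
  obtain ⟨a, ha, htriv⟩ := SubDS.exists_trivial_nhd p hS hfib
  refine ⟨a, ha, fib_of_kerTriv u _ fun Y q γ hγ => ?_⟩
  apply Over.OverMorphism.ext
  refine Locus.ext_affine fun O hO => ?_
  let D' : CommRingCat.{u} := Γ(Y.left, O)
  let L := CommRingCat.of (Localization.Away a)
  obtain ⟨ψ, hψ⟩ := Spec.map_surjective (R := L) (hO.fromSpec ≫ q.left)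
  let φ : A ⟶ D' := CommRingCat.ofHom (algebraMap A (Localization.Away a)) ≫ ψ
  have hY : hO.fromSpec ≫ Y.hom = Spec.map φ ≫ g := by
    rw [Spec.map_comp, hψ, ← Over.w q]
    simp [L]
  let k : (Over.map g).obj (Over.mk (Spec.map φ)) ⟶ Y := Over.homMk hO.fromSpec hY
  obtain ⟨χ, hχ⟩ := Rigid.pt_surjective e (k ≫ γ)
  letI : Algebra A D' := φ.hom.toAlgebra
  let ch : Multiplicative M →* D' := ((Scheme.ΓSpecIso D').hom.hom : Γ(Spec D', ⊤) →* D').comp χ
  have hχ' : χ = ((toG D').comp ch : Multiplicative M →* Γ((Over.mk (Spec.map φ)).left, ⊤)) := by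
    ext m
    simp [ch]
  have hk : SubDS.Kill I ch := by
    rw [hkill]
    show Rigid.pt e (T := Over.mk (Spec.map φ)) ((toG D').comp ch) ≫ u = 1
    rw [← hχ', hχ, Category.assoc, hγ, MonObj.comp_one]
  have hu : IsUnit (algebraMap A D' a) :=
    (IsLocalization.map_units (M := Submonoid.powers a) (Localization.Away a) ⟨a, Submonoid.mem_powers a⟩).map ψ.hom
  rw [hχ', htriv D' ch hu hk, hone, Rigid.pt_one, ← MonObj.comp_one k] at hχ
  exact congr(($hχ).left).symm

end Chart

/-- A monomorphic fibre propagates to a neighbourhood on the fpqc cover. -/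
theorem exists_nhd_cover {S' : Scheme.{u}} (f : S' ⟶ S) [IsClosedImmersion (pullback.fst u.left η[G].left)]
    [LocallyOfFinitePresentation (pullback.fst u.left η[G].left)] (s' : S') {O : S'.Opens} (hO : s' ∈ O)
    {M : Type} [AddCommGroup M] [AddGroup.FG M]
    (e : Grp.mk (Red.bc (O.ι ≫ f) H) ≅ Grp.mk (Red.DS (O : Scheme.{u}) M))
    (hs : Charts.Fib P (S.fromSpecResidueField (f s')) u) :
    ∃ W : S'.Opens, s' ∈ W ∧ Charts.Fib P (W.ι ≫ f) u := by
  obtain ⟨V, hV, hVs, hVO⟩ := exists_isAffineOpen_mem_and_subset (X := S') (x := s') (U := O) hO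
  let k : Spec Γ(S', V) ⟶ (O : Scheme.{u}) :=
    IsOpenImmersion.lift O.ι hV.fromSpec (by rw [hV.range_fromSpec, Scheme.Opens.range_ι]; exact hVO)
  have hk : k ≫ O.ι ≫ f = hV.fromSpec ≫ f := by
    rw [← Category.assoc, IsOpenImmersion.lift_fac]
  let e' : Grp.mk (Red.bc (hV.fromSpec ≫ f) H) ≅ Grp.mk (Red.DS (Spec Γ(S', V)) M) :=
    BaseChange.bcCongr hk.symm H ≪≫ Charts.resChart e k
  let p : PrimeSpectrum Γ(S', V) := hV.primeIdealOf ⟨s', hVs⟩
  have hp : hV.fromSpec p = s' := hV.fromSpec_primeIdealOf ⟨s', hVs⟩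
  let φ : Γ(S', V) ⟶ CommRingCat.of p.asIdeal.ResidueField := CommRingCat.ofHom (algebraMap _ _)
  have hφ : Spec.map φ (IsLocalRing.closedPoint p.asIdeal.ResidueField) = p := by
    apply PrimeSpectrum.ext
    show Ideal.comap (algebraMap _ p.asIdeal.ResidueField) (IsLocalRing.maximalIdeal _) = p.asIdeal
    rw [IsLocalRing.maximalIdeal_eq_bot]
    exact Ideal.ker_algebraMap_residueField p.asIdeal
  have hpt : (Spec.map φ ≫ hV.fromSpec ≫ f) (IsLocalRing.closedPoint p.asIdeal.ResidueField) = f s' :=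
    (congrArg (fun x => f (hV.fromSpec x)) hφ).trans (congrArg f hp)
  obtain ⟨a, ha, hfib⟩ := exists_nhd_chart u e' p.asIdeal
    ((Charts.fib_point_iff P (Spec.map φ ≫ hV.fromSpec ≫ f) u).mpr (hpt ▸ hs))
  let j : Spec (CommRingCat.of (Localization.Away a)) ⟶ S' :=
    Spec.map (CommRingCat.ofHom (algebraMap Γ(S', V) (Localization.Away a))) ≫ hV.fromSpec
  have : IsOpenImmersion (Spec.map (CommRingCat.ofHom (algebraMap Γ(S', V) (Localization.Away a)))) :=
    IsOpenImmersion.of_isLocalization a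
  refine ⟨j.opensRange, ?_, ?_⟩
  · obtain ⟨q, hq⟩ : p ∈ Set.range (PrimeSpectrum.comap (algebraMap Γ(S', V) (Localization.Away a))) := by
      rw [PrimeSpectrum.localization_away_comap_range _ a]
      exact ha
    exact ⟨q, (congrArg hV.fromSpec hq).trans hp⟩
  · refine Charts.fib_congr P ?_ u (Charts.fib_base P j.isoOpensRange.inv hfib)
    show j.isoOpensRange.inv ≫ Spec.map _ ≫ hV.fromSpec ≫ f = _
    rw [← Category.assoc (Spec.map _)]
    exact (Category.assoc _ _ _).symm.trans (congrArg (· ≫ f) j.isoOpensRange_inv_comp)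

/-- Monomorphic fibres everywhere give a monomorphism. -/
theorem mono_of_fibres (hH : SGA3x.IsMultTypeFT H) (hG : IsLocallyNoetherian S ∨ LocallyOfFinitePresentation G.hom)
    (hfib : ∀ s : S, Charts.Fib P (S.fromSpecResidueField s) u) : Mono u.left := by
  have := isClosedImmersion_kernel u hH hfib
  have := lfp_kernel u hH hG
  obtain ⟨S', f, hf, hs, hc, hloc⟩ := hH
  have h1 : Charts.Fib P f u := Charts.fib_of_cover P fun s' => by
    obtain ⟨O, hO, M, iM, hM, ⟨e⟩⟩ := hloc s'
    exact exists_nhd_cover u f s' hO e (hfib _)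
  have h2 : Charts.Fib P (𝟙 S) u := Charts.fib_of_cover P fun x => by
    obtain ⟨O, hO, hxO, -⟩ := exists_isAffineOpen_mem_and_subset (X := S) (x := x) (U := ⊤) trivial
    obtain ⟨W, hle, hqc, hsj⟩ := MT.exists_qc_res f hc hO
    refine ⟨O, hxO, Charts.fib_descend P (f.resLE O W hle) ?_⟩
    refine Charts.fib_congr P ?_ u (Charts.fib_base P W.ι h1)
    simp
  exact (Charts.iff_natIso P Over.pullbackId u).mp h2

omit [GrpObj H] [GrpObj G] [IsMonHom u] in
/-- Monomorphy over an open subscheme descends from the cover. -/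
theorem fib_open_of_cover {S' : Scheme.{u}} (f : S' ⟶ S) [Flat f] (hc : Basic.IsQCCover f) (U : S.Opens)
    (h : Charts.Fib P ((f ⁻¹ᵁ U).ι ≫ f) u) : Charts.Fib P U.ι u := by
  refine Charts.fib_of_cover P fun x => ?_
  obtain ⟨O, hO, hxO, -⟩ := exists_isAffineOpen_mem_and_subset (X := (U : Scheme.{u})) (x := x) (U := ⊤) trivial
  refine ⟨O, hxO, ?_⟩
  have hV : IsAffineOpen (U.ι ''ᵁ O) := hO.image_of_isOpenImmersion U.ι
  obtain ⟨W, hle, hqc, hsj⟩ := MT.exists_qc_res f hc hV
  have hWU : W ≤ f ⁻¹ᵁ U := hle.trans (f.preimage_mono (by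
    rintro _ ⟨y, -, rfl⟩
    exact y.2))
  have hV' : Charts.Fib P (U.ι ''ᵁ O).ι u := by
    refine Charts.fib_descend P (f.resLE (U.ι ''ᵁ O) W hle) ?_
    refine Charts.fib_congr P ?_ u (Charts.fib_base P (S'.homOfLE hWU) h)
    simp
  refine Charts.fib_congr P ?_ u (Charts.fib_base P (U.ι.isoImage O).hom hV')
  simp

/-- Monomorphy of a fibre propagates to an open neighbourhood. -/
theorem exists_nhd (hH : SGA3x.IsMultTypeFT H) [IsClosedImmersion (pullback.fst u.left η[G].left)]
    (hG : IsLocallyNoetherian S ∨ LocallyOfFinitePresentation G.hom) (s : S)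
    (hs : Charts.Fib P (S.fromSpecResidueField s) u) :
    ∃ U : S.Opens, s ∈ U ∧ Charts.Fib P U.ι u := by
  have := lfp_kernel u hH hG
  obtain ⟨S', f, hf, hsf, hc, hloc⟩ := hH
  have key : ∀ s' : S', Charts.Fib P (S.fromSpecResidueField (f s')) u →
      ∃ W : S'.Opens, s' ∈ W ∧ Charts.Fib P (W.ι ≫ f) u := fun s' h => by
    obtain ⟨O, hO, M, iM, hM, ⟨e⟩⟩ := hloc s'
    exact exists_nhd_cover u f s' hO e h
  choose W hW hfib using key
  let Z : Set S := {t | Charts.Fib P (S.fromSpecResidueField t) u}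
  have hpre : ∀ s' (h : f s' ∈ Z) x, x ∈ W s' h → f x ∈ Z := by
    intro s' h x hx
    have h1 := Charts.fib_base P ((W s' h : Scheme.{u}).fromSpecResidueField ⟨x, hx⟩) (hfib s' h)
    exact (Charts.fib_residue_iff P ((W s' h).ι ≫ f) (⟨x, hx⟩ : (W s' h : Scheme.{u})) u).mp h1
  have hop : IsOpen Z := MT.isOpen_of_preimage f hc
    (isOpen_iff_forall_mem_open.mpr fun s' h => ⟨W s' h, hpre s' h, (W s' h).2, hW s' h⟩)
  refine ⟨⟨Z, hop⟩, hs, fib_open_of_cover u f hc _ (Charts.fib_of_cover P fun x => ?_)⟩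
  refine ⟨(f ⁻¹ᵁ ⟨Z, hop⟩).ι ⁻¹ᵁ W x.1 x.2, hW x.1 x.2, ?_⟩
  refine Charts.fib_congr P ?_ u (Charts.fib_base P ((f ⁻¹ᵁ ⟨Z, hop⟩).ι ∣_ W x.1 x.2) (hfib x.1 x.2))
  simp

end Groth.Agent.H87.Mono
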