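import Groth.Agent.H87.GraphDS
import Groth.Agent.H87.CentralEq
import Groth.Agent.H87.Mono
import Groth.Agent.H87.LocalForm

/-!
# The locus where one subgroup of multiplicative type factors through another is open and closed
-/

set_option autoImplicit false
universe u

open CategoryTheory MonoidalCategory CartesianMonoidalCategory MonObj GrpObj AlgebraicGeometry
open CategoryTheory.Limits
open Groth.Agent.Lib.RedPts Groth.Agent.Lib.Tori
open Groth.Agent.H87.Locus (toG Kills)
open Groth.Agent.H87.CentralEq (Fac)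

namespace Groth.Agent.H87.EqLocus

/-- A locus which is locally on a cover either empty or everything is open and closed. -/
theorem clopen_of_cover {S : Scheme.{u}} (P : MorphismProperty Scheme.{u}) [P.IsStableUnderBaseChange]
    [IsZariskiLocalAtTarget P] [P.DescendsAlong (@Surjective ⊓ @Flat ⊓ @QuasiCompact)] {G H : Over S} (u : G ⟶ H)
    {S' : Scheme.{u}} (f : S' ⟶ S) [Flat f] (hc : Basic.IsQCCover f)
    (key : ∀ s' : S', ∃ W : S'.Opens, s' ∈ W ∧
      ((∀ x ∈ W, ¬ Charts.Fib P (S.fromSpecResidueField (f x)) u) ∨ Charts.Fib P (W.ι ≫ f) u)) :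
    ∃ U : S.Opens, IsClosed (U : Set S) ∧ (∀ s : S, s ∈ U ↔ Charts.Fib P (S.fromSpecResidueField s) u) ∧
      Charts.Fib P U.ι u := by
  let Z : Set S := {s | Charts.Fib P (S.fromSpecResidueField s) u}
  choose W hW hk using key
  have hin : ∀ s', Charts.Fib P ((W s').ι ≫ f) u → ∀ x ∈ W s', f x ∈ Z := by
    intro s' h x hx
    have h1 := Charts.fib_base P ((W s' : Scheme.{u}).fromSpecResidueField ⟨x, hx⟩) h
    exact (Charts.fib_residue_iff P ((W s').ι ≫ f) (⟨x, hx⟩ : (W s' : Scheme.{u})) u).mp h1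
  have hpos : ∀ s', f s' ∈ Z → Charts.Fib P ((W s').ι ≫ f) u := fun s' hs =>
    (hk s').resolve_left fun h => h s' (hW s') hs
  have hop : IsOpen Z := MT.isOpen_of_preimage f hc (isOpen_iff_forall_mem_open.mpr fun s' hs' =>
    ⟨W s', fun x hx => hin s' (hpos s' hs') x hx, (W s').2, hW s'⟩)
  have hcl : IsOpen Zᶜ := MT.isOpen_of_preimage f hc (isOpen_iff_forall_mem_open.mpr fun s' hs' =>
    ⟨W s', fun x hx => (hk s').elim (fun h => h x hx) (fun h => absurd (hin s' h s' (hW s')) hs'), (W s').2, hW s'⟩)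
  let U₀ : S.Opens := ⟨Z, hop⟩
  refine ⟨U₀, ⟨hcl⟩, fun s => Iff.rfl, ?_⟩
  have hV : Charts.Fib P ((f ⁻¹ᵁ U₀).ι ≫ f) u := by
    refine Charts.fib_of_cover P fun x => ⟨(f ⁻¹ᵁ U₀).ι ⁻¹ᵁ W x.1, hW x.1, ?_⟩
    refine Charts.fib_congr P ?_ u (Charts.fib_base P ((f ⁻¹ᵁ U₀).ι ∣_ W x.1) (hpos x.1 x.2))
    simp
  refine Charts.fib_of_cover P fun x => ?_
  obtain ⟨O, hO, hxO, -⟩ := exists_isAffineOpen_mem_and_subset (X := (U₀ : Scheme.{u})) (x := x) (U := ⊤) trivial
  refine ⟨O, hxO, ?_⟩
  obtain ⟨Wc, hWc, hWe⟩ := Basic.isQCCover_pullback_snd hc (O.ι ≫ U₀.ι) ⊤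
    (@isAffineOpen_top (O : Scheme.{u}) hO)
  let r : (Wc : Scheme.{u}) ⟶ O := Wc.ι ≫ pullback.fst _ _
  have : CompactSpace (Wc : Scheme.{u}) := isCompact_iff_compactSpace.1 hWc
  have : IsAffine (O : Scheme.{u}) := hO
  have : QuasiCompact r := (quasiCompact_iff_compactSpace r).2 inferInstance
  have : Surjective r := ⟨fun o => by
    obtain ⟨w, hw, hwo⟩ := (Set.ext_iff.1 hWe o).2 trivial
    exact ⟨⟨w, hw⟩, hwo⟩⟩
  have : Flat r := inferInstance
  refine Charts.fib_descend P r ?_
  let l : (Wc : Scheme.{u}) ⟶ (f ⁻¹ᵁ U₀ : Scheme.{u}) :=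
    IsOpenImmersion.lift (f ⁻¹ᵁ U₀).ι (Wc.ι ≫ pullback.snd _ _) (by
      rw [Scheme.Opens.range_ι]
      rintro _ ⟨w, rfl⟩
      show f _ ∈ (U₀ : Set S)
      rw [← Scheme.Hom.comp_apply, Category.assoc, ← pullback.condition]
      simp only [Scheme.Hom.comp_apply]
      exact ((O.ι _) : U₀).2)
  refine Charts.fib_congr P ?_ u (Charts.fib_base P l hV)
  rw [← Category.assoc, IsOpenImmersion.lift_fac]
  simp [r, pullback.condition]

/-- The ideal of the equaliser of two maps to a separated scheme. -/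
theorem exists_eq_ideal {S X : Scheme.{u}} {R : CommRingCat.{u}} (a b : Spec R ⟶ X) (g : X ⟶ S) [IsSeparated g]
    (h : a ≫ g = b ≫ g) :
    ∃ I : Ideal R, ∀ (D : CommRingCat.{u}) (ψ : R ⟶ D),
      (Spec.map ψ ≫ a = Spec.map ψ ≫ b ↔ I ≤ RingHom.ker ψ.hom) := by
  let L := pullback.lift a b h
  let P := pullback.fst L (pullback.diagonal g)
  have : IsClosedImmersion P := inferInstance
  obtain ⟨I, e, he⟩ := IsClosedImmersion.Spec_iff.mp ‹IsClosedImmersion P›
  refine ⟨I, fun D ψ => ⟨fun heq => ?_, fun hI => ?_⟩⟩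
  · let q : Spec D ⟶ pullback L (pullback.diagonal g) := pullback.lift (Spec.map ψ) (Spec.map ψ ≫ a) (by
      apply pullback.hom_ext
      · simp only [L, Category.assoc, pullback.lift_fst, pullback.diagonal_fst, Category.comp_id]
      · simp only [L, Category.assoc, pullback.lift_snd, pullback.diagonal_snd, Category.comp_id]
        exact heq.symm)
    obtain ⟨ψ', hψ'⟩ := Spec.map_surjective (q ≫ e.hom)
    have hev : CommRingCat.ofHom (Ideal.Quotient.mk I) ≫ ψ' = ψ := by
      apply Spec.map_injective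
      rw [Spec.map_comp, hψ', Category.assoc, ← he]
      exact pullback.lift_fst _ _ _
    intro z hz
    rw [RingHom.mem_ker, ← hev]
    show ψ'.hom (Ideal.Quotient.mk I z) = 0
    rw [Ideal.Quotient.eq_zero_iff_mem.mpr hz, map_zero]
  · let ψ' : R ⧸ I →+* D := Ideal.Quotient.lift I ψ.hom hI
    let q : Spec D ⟶ pullback L (pullback.diagonal g) := Spec.map (CommRingCat.ofHom ψ') ≫ e.inv
    have hq : q ≫ P = Spec.map ψ := by
      rw [Category.assoc, he, Iso.inv_hom_id_assoc, ← Spec.map_comp]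
      congr 1
    have hL : Spec.map ψ ≫ L = (q ≫ pullback.snd _ _) ≫ pullback.diagonal g := by
      rw [← hq, Category.assoc q, Category.assoc q]
      exact congrArg (q ≫ ·) pullback.condition
    have h1 := congrArg (· ≫ pullback.fst g g) hL
    have h2 := congrArg (· ≫ pullback.snd g g) hL
    simp only [Category.assoc, L, pullback.lift_fst, pullback.lift_snd, pullback.diagonal_fst,
      pullback.diagonal_snd] at h1 h2
    exact h1.trans h2.symm

section Chart

variable {S : Scheme.{u}} {G H H' : Over S} [GrpObj G] [GrpObj H] [GrpObj H'] (i : H ⟶ G) [IsMonHom i]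
  (i' : H' ⟶ G) [IsMonHom i'] [Mono i']

variable {A : CommRingCat.{u}} {t : Spec A ⟶ S} {M N : Type} [AddCommGroup M] [AddCommGroup N]
  (e : Grp.mk (Red.bc t H) ≅ Grp.mk (Red.DS (Spec A) M))
  (e' : Grp.mk (Red.bc t H') ≅ Grp.mk (Red.DS (Spec A) N))

/-- Test object of an algebra. -/
noncomputable abbrev tst (A : CommRingCat.{u}) (D : Type u) [CommRing D] [Algebra A D] : Over (Spec A) :=
  Over.mk (Spec.map (CommRingCat.ofHom (algebraMap A D)))

/-- The point of a character with values in an algebra. -/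
noncomputable abbrev apt (D : Type u) [CommRing D] [Algebra A D] (ch : Multiplicative M →* D) :
    (Over.map t).obj (tst A D) ⟶ H :=
  Rigid.pt e (T := tst A D) ((toG (CommRingCat.of D)).comp ch)

omit [GrpObj G] in
theorem map_apt {D E : Type u} [CommRing D] [Algebra A D] [CommRing E] [Algebra A E] (ψ : D →ₐ[A] E)
    (h : tst A E ⟶ tst A D) (hh : h.left = Spec.map (CommRingCat.ofHom ψ.toRingHom)) (ch : Multiplicative M →* D) :
    (Over.map t).map h ≫ apt e D ch = apt e E ((ψ : D →* E).comp ch) := by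
  rw [Rigid.map_pt]
  refine congrArg (Rigid.pt e) (MonoidHom.ext fun m => ?_)
  show h.left.appTop (toG (CommRingCat.of D) (ch m)) = _
  rw [hh, HomDS.appTop_SpecMap_apply]
  refine congrArg (toG (CommRingCat.of E)) ?_
  show ψ _ = ψ _
  refine congrArg ψ ?_
  exact Iso.inv_hom_id_apply (Scheme.ΓSpecIso (CommRingCat.of D)) (ch m)

omit [GrpObj G] in
theorem apt_mul (D : Type u) [CommRing D] [Algebra A D] (c c' : Multiplicative M →* D) :
    apt e D (c * c') = apt e D c * apt e D c' :=
  (congrArg (Rigid.pt e) (MonoidHom.comp_mul _ _ _)).trans (Rigid.pt_mul e _ _)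

omit [GrpObj G] in
theorem apt_one (D : Type u) [CommRing D] [Algebra A D] : apt e D (1 : Multiplicative M →* D) = 1 :=
  (congrArg (Rigid.pt e) (MonoidHom.comp_one _)).trans (Rigid.pt_one e _)

/-- `I` cuts out the fibre product of the two subgroups. -/
def IsEqIdeal (I : Ideal (MonoidAlgebra A (Multiplicative M × Multiplicative N))) : Prop :=
  ∀ (D : Type u) [CommRing D] [Algebra A D] (ch : Multiplicative M × Multiplicative N →* D),
    SubDS.Kill I ch ↔ apt e D (ch.comp (MonoidHom.inl _ _)) ≫ i = apt e' D (ch.comp (MonoidHom.inr _ _)) ≫ i'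

omit [IsMonHom i] [IsMonHom i'] [Mono i'] in
theorem exists_isEqIdeal [IsSeparated G.hom] :
    ∃ I, IsEqIdeal i i' e e' I := by
  let Γ := Multiplicative M × Multiplicative N
  let R := MonoidAlgebra A Γ
  let a := apt e R ((MonoidAlgebra.of A Γ).comp (MonoidHom.inl _ _)) ≫ i
  let b := apt e' R ((MonoidAlgebra.of A Γ).comp (MonoidHom.inr _ _)) ≫ i'
  obtain ⟨I, hI⟩ := exists_eq_ideal (R := CommRingCat.of R) a.left b.left G.hom ((Over.w a).trans (Over.w b).symm)
  refine ⟨I, fun D _ _ ch => ?_⟩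
  let ψ : R →ₐ[A] D := MonoidAlgebra.lift A D Γ ch
  let h : tst A D ⟶ tst A R := Over.homMk (Spec.map (CommRingCat.ofHom ψ.toRingHom)) (by
    show Spec.map _ ≫ Spec.map _ = Spec.map _
    rw [← Spec.map_comp]
    exact congrArg Spec.map (CommRingCat.hom_ext ψ.comp_algebraMap))
  have hψ : ∀ g, ψ (MonoidAlgebra.of A Γ g) = ch g := fun g => MonoidAlgebra.lift_of ch g
  have h1 : ((ψ : R →* D).comp ((MonoidAlgebra.of A Γ).comp (MonoidHom.inl _ _))) = ch.comp (MonoidHom.inl _ _) :=
    MonoidHom.ext fun g => hψ _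
  have h2 : ((ψ : R →* D).comp ((MonoidAlgebra.of A Γ).comp (MonoidHom.inr _ _))) = ch.comp (MonoidHom.inr _ _) :=
    MonoidHom.ext fun g => hψ _
  rw [← h1, ← h2, ← map_apt e ψ h rfl, ← map_apt e' ψ h rfl, Category.assoc, Category.assoc]
  exact ((hI (CommRingCat.of D) (CommRingCat.ofHom ψ.toRingHom)).symm.trans
    ⟨fun he => Over.OverMorphism.ext he, fun he => congr(($he).left)⟩)

variable {i i' e e'} {I : Ideal (MonoidAlgebra A (Multiplicative M × Multiplicative N))} (hI : IsEqIdeal i i' e e' I)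

include hI in
omit [Mono i'] in
theorem isSubgroup : SubDS.IsSubgroup I := by
  constructor
  · rw [hI, MonoidHom.one_comp, MonoidHom.one_comp, apt_one, apt_one, MonObj.one_comp i, MonObj.one_comp i']
  · intro D _ _ c₁ c₂ h₁ h₂
    rw [hI] at h₁ h₂ ⊢
    rw [MonoidHom.mul_comp, MonoidHom.mul_comp, apt_mul, apt_mul, MonObj.mul_comp _ _ i, MonObj.mul_comp _ _ i',
      h₁, h₂]

include hI in
theorem projMono : GraphDS.ProjMono I := by
  intro D _ _ ch hk hl
  have h1 := (hI D ch).mp hk
  rw [hl] at h1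
  rw [apt_one, MonObj.one_comp i] at h1
  have h2 : Rigid.pt e' (T := tst A D) ((toG (CommRingCat.of D)).comp (ch.comp (MonoidHom.inr _ _))) = 1 := by
    rw [← cancel_mono i', MonObj.one_comp]
    exact h1.symm
  have h3 := Mono.pt_injective e' (h2.trans (Rigid.pt_one e' _).symm)
  refine MonoidHom.ext fun g => ?_
  have h4 : ch (1, g.2) = 1 :=
    HomDS.toG_injective (CommRingCat.of D) ((DFunLike.congr_fun h3 g.2).trans (map_one _).symm)
  have h5 : ch (g.1, 1) = 1 := DFunLike.congr_fun hl g.1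
  rw [show g = (g.1, 1) * (1, g.2) by simp, map_mul, h4, h5, _root_.one_mul, MonoidHom.one_apply]

include hI in
omit [IsMonHom i] [IsMonHom i'] [Mono i'] in
theorem graph_of_fac {D : Type u} [CommRing D] [Algebra A D]
    (h : Fac i i' (Spec.map (CommRingCat.ofHom (algebraMap A D)) ≫ t)) : GraphDS.Graph I D := by
  let D₁ := MonoidAlgebra D (Multiplicative M)
  let p : (Over.map t).obj (tst A D₁) ⟶ Over.mk (Spec.map (CommRingCat.ofHom (algebraMap A D)) ≫ t) :=
    Over.homMk (Spec.map (CommRingCat.ofHom (algebraMap D D₁))) (by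
      show Spec.map _ ≫ Spec.map _ ≫ t = Spec.map _ ≫ t
      rw [← Category.assoc, ← Spec.map_comp, ← CommRingCat.ofHom_comp, ← IsScalarTower.algebraMap_eq A D D₁])
  obtain ⟨γ', hγ'⟩ := h _ p (apt e D₁ (MonoidAlgebra.of D (Multiplicative M)))
  obtain ⟨χ, hχ⟩ := Rigid.pt_surjective e' γ'
  let c₂ : Multiplicative N →* D₁ :=
    ((Scheme.ΓSpecIso (CommRingCat.of D₁)).hom.hom : Γ(Spec (CommRingCat.of D₁), ⊤) →* D₁).comp χ
  have hc₂ : apt e' D₁ c₂ = γ' := by
    rw [← hχ]
    refine congrArg (Rigid.pt e') (MonoidHom.ext fun m => ?_)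
    exact Iso.hom_inv_id_apply (Scheme.ΓSpecIso (CommRingCat.of D₁)) (χ m)
  refine ⟨(MonoidAlgebra.of D (Multiplicative M)).coprod c₂, (hI D₁ _).mpr ?_, MonoidHom.coprod_comp_inl _ _⟩
  rw [MonoidHom.coprod_comp_inl, MonoidHom.coprod_comp_inr, hc₂, hγ']

end Chart

section Graph

variable {S : Scheme.{u}} {G H H' : Over S} [GrpObj G] [GrpObj H] [GrpObj H'] (i : H ⟶ G) [IsMonHom i]
  (i' : H' ⟶ G) [IsMonHom i'] [Mono i']
  {A : CommRingCat.{u}} {t : Spec A ⟶ S} {M N : Type} [AddCommGroup M] [AddCommGroup N]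
  (e : Grp.mk (Red.bc t H) ≅ Grp.mk (Red.DS (Spec A) M))
  (e' : Grp.mk (Red.bc t H') ≅ Grp.mk (Red.DS (Spec A) N))

/-- The homomorphism with graph given by a map of characters. -/
noncomputable def psi (φ : N →+ M) : Red.bc t H ⟶ Red.bc t H' :=
  (BaseChange.overIso e).hom ≫ Red.DSmap _ φ ≫ (BaseChange.overIso e').inv

/-- The difference of `i` and `i' ∘ psi`. -/
noncomputable def diffHom (φ : N →+ M) : Red.bc t H ⟶ Red.bc t G :=
  (Over.pullback t).map i * (psi e e' φ ≫ (Over.pullback t).map i')⁻¹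

omit [IsMonHom i] [IsMonHom i'] [Mono i'] in
theorem fac_of_kills (φ : N →+ M) {T : Scheme.{u}} (g : T ⟶ Spec A) (h : Kills (diffHom i i' e e' φ) g) :
    Fac i i' (g ≫ t) := by
  intro Y p γ
  let X : Over (Spec A) := Over.mk (p.left ≫ g)
  let ε : (Over.map t).obj X ≅ Y := Over.isoMk (Iso.refl _) (by
    show 𝟙 _ ≫ Y.hom = (p.left ≫ g) ≫ t
    rw [Category.id_comp, Category.assoc]
    exact (Over.w p).symm)
  let a : X ⟶ Red.bc t H := BC.up t (ε.hom ≫ γ)
  have h1 := h X (Over.homMk p.left rfl) a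
  rw [diffHom, comp_mul, comp_inv, mul_inv_eq_one, ← Category.assoc a] at h1
  refine ⟨ε.inv ≫ BC.down t (a ≫ psi e e' φ), ?_⟩
  have h2 := congrArg (BC.down t) h1
  rw [BC.down_map, BC.down_map, BC.down_up] at h2
  rw [Category.assoc, ← h2]
  simp

omit [GrpObj G] [GrpObj H] [GrpObj H'] in
theorem tst_comm {D : CommRingCat.{u}} [Algebra A D] :
    (Iso.refl (Spec (HomDS.ring (A := D) M))).hom ≫
      (HomDS.test (Spec.map (CommRingCat.ofHom (algebraMap A D)))
        (CommRingCat.ofHom MonoidAlgebra.singleOneRingHom : D ⟶ HomDS.ring M)).hom =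
      (tst A (MonoidAlgebra D (Multiplicative M))).hom := by
  simp only [Iso.refl_hom, Category.id_comp, Over.mk_hom]
  refine (Spec.map_comp (CommRingCat.ofHom (algebraMap A D)) _).symm.trans (congrArg Spec.map ?_)
  exact CommRingCat.hom_ext (IsScalarTower.algebraMap_eq A D (MonoidAlgebra D (Multiplicative M))).symm

variable {i i' e e'} {I : Ideal (MonoidAlgebra A (Multiplicative M × Multiplicative N))} (hI : IsEqIdeal i i' e e' I)

/-- The map of character groups as a map of multiplicative groups. -/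
abbrev mulHom (φ : N →+ M) : Multiplicative N →* Multiplicative M := AddMonoidHom.toMultiplicative φ

include hI in
omit [IsMonHom i] [IsMonHom i'] [Mono i'] in
theorem kills_of_kill (φ : N →+ M) {D : CommRingCat.{u}} [Algebra A D]
    (hk : SubDS.Kill I (((MonoidAlgebra.of D (Multiplicative M)).coprod
      ((MonoidAlgebra.of D (Multiplicative M)).comp (mulHom φ))) :
        Multiplicative M × Multiplicative N →* MonoidAlgebra D (Multiplicative M))) :
    Kills (diffHom i i' e e' φ) (Spec.map (CommRingCat.ofHom (algebraMap A D))) := by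
  intro Y p γ
  let q : Spec D ⟶ Spec A := Spec.map (CommRingCat.ofHom (algebraMap A D))
  let E := BaseChange.overIso e
  let E' := BaseChange.overIso e'
  obtain ⟨r, hr⟩ := HomDS.exists_fac q M (X := Y) p.left (Over.w p) (γ ≫ E.hom)
  let T := HomDS.test q (CommRingCat.ofHom MonoidAlgebra.singleOneRingHom : D ⟶ HomDS.ring M)
  let ε : tst A (MonoidAlgebra D (Multiplicative M)) ≅ T :=
    Over.isoMk (Iso.refl (Spec (HomDS.ring (A := D) M))) (tst_comm (M := M) (D := D))
  let ch := (MonoidAlgebra.of D (Multiplicative M))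
  have h1 := (hI _ _).mp hk
  rw [MonoidHom.coprod_comp_inl, MonoidHom.coprod_comp_inr] at h1
  have he1 : ε.hom ≫ HomDS.univPt q M =
      Gm.dsPt (X := tst A (MonoidAlgebra D (Multiplicative M))) ((toG (HomDS.ring M)).comp ch) :=
    Gm.dsFn_ext fun m => by
      rw [Gm.dsFn_comp, HomDS.univPt, Gm.dsFn_dsPt, Gm.dsFn_dsPt]
      exact congr($(Scheme.Hom.id_appTop (X := Spec (HomDS.ring M))) _)
  have he2 : (ε.hom ≫ HomDS.univPt q M) ≫ Red.DSmap _ φ =
      Gm.dsPt (X := tst A (MonoidAlgebra D (Multiplicative M))) ((toG (HomDS.ring M)).comp (ch.comp (mulHom φ))) :=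
    Gm.dsFn_ext fun n => by
      rw [Gm.dsFn_DSmap, he1, Gm.dsFn_dsPt, Gm.dsFn_dsPt]
      rfl
  have hu : HomDS.univPt q M ≫ E.inv ≫ diffHom i i' e e' φ = 1 := by
    rw [← cancel_epi ε.hom, MonObj.comp_one, diffHom, comp_mul, comp_mul, comp_mul, comp_inv, comp_inv, comp_inv,
      mul_inv_eq_one]
    apply BC.down_injective
    rw [← Category.assoc, ← Category.assoc, BC.down_map]
    simp only [psi, ← Category.assoc]
    rw [BC.down_map]
    simp only [Category.assoc, E, Iso.inv_hom_id_assoc]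
    rw [← Category.assoc ε.hom (HomDS.univPt q M) (Red.DSmap _ φ ≫ _), ← Category.assoc _ (Red.DSmap _ φ) _, he2,
      ← Category.assoc ε.hom, he1]
    exact h1
  have : γ = r ≫ HomDS.univPt q M ≫ E.inv := by
    rw [← Category.assoc, hr, Category.assoc, Iso.hom_inv_id, Category.comp_id]
  rw [this, Category.assoc, Category.assoc, hu, MonObj.comp_one]

variable [AddGroup.FG M] [AddGroup.FG N]

include hI in
/-- At a prime, either a graph of characters is contained in the subgroup, or there is none nearby. -/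
theorem kills_or_not_fac (p : Ideal A) [p.IsPrime] :
    (∃ φ : N →+ M, Kills (diffHom i i' e e' φ)
      (Spec.map (CommRingCat.ofHom (algebraMap A (CommRingCat.of p.ResidueField))))) ∨
    ∃ a ∉ p, ∀ (D : Type u) [CommRing D] [Algebra A D] [Nontrivial D], IsUnit (algebraMap A D a) →
      ¬ Fac i i' (Spec.map (CommRingCat.ofHom (algebraMap A D)) ≫ t) := by
  have : Monoid.FG (Multiplicative M) := Group.fg_iff_monoid_fg.mp inferInstance
  have : Monoid.FG (Multiplicative M × Multiplicative N) := Group.fg_iff_monoid_fg.mp (by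
    have : Group.FG (Multiplicative M) := inferInstance
    have : Group.FG (Multiplicative N) := inferInstance
    infer_instance)
  have h1 := isSubgroup hI
  have h2 := projMono hI
  have h3 := @GraphDS.exists_hom_or A _ (Multiplicative M) (Multiplicative N) _ _ I _ h1 h2 p.ResidueField _ _
  rcases h3 with ⟨φ, hk⟩ | ⟨m, hm, hmp⟩
  · refine Or.inl ⟨AddMonoidHom.toMultiplicative.symm φ, kills_of_kill hI _ (D := CommRingCat.of p.ResidueField) ?_⟩
    exact hk
  · obtain ⟨a, ha, h⟩ := @GraphDS.exists_nhd_not_graph A _ (Multiplicative M) (Multiplicative N) _ _ I _ h1 h2 _ p _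
      m hm hmp
    exact Or.inr ⟨a, ha, fun D _ _ _ hu hf => h D hu (graph_of_fac hI hf)⟩

end Graph

section Kernel

variable {S : Scheme.{u}} {G : Over S} [GrpObj G]

theorem lfp_kernel' {P : Over S} (u : P ⟶ G) [LocallyOfFinitePresentation P.hom] [IsSeparated G.hom]
    (hG : IsLocallyNoetherian S ∨ LocallyOfFinitePresentation G.hom) :
    LocallyOfFinitePresentation (pullback.fst u.left η[G].left) := by
  have : IsClosedImmersion η[G].left := Groth.Agent.Lib.GrpSch.isClosedImmersion_η G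
  rcases hG with hG | hG
  · have := LocallyOfFiniteType.isLocallyNoetherian P.hom
    infer_instance
  · have : LocallyOfFinitePresentation (η[G].left ≫ G.hom) := by
      rw [show η[G].left ≫ G.hom = 𝟙 S from Over.w η[G]]
      exact locallyOfFinitePresentation_of_isOpenImmersion (f := 𝟙 S)
    have : LocallyOfFiniteType G.hom := inferInstance
    have : LocallyOfFinitePresentation η[G].left :=
      Groth.Agent.Lib.Lim.OpenImm.lfp_of_comp η[G].left G.hom
    infer_instance

theorem lfp_of_factor {T : Scheme.{u}} (t : T ⟶ S) {P : Over S} (u : P ⟶ G)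
    [hu : LocallyOfFinitePresentation (pullback.fst u.left η[G].left)] {X : Over T} (w : X ⟶ Red.bc t G)
    (m : (Over.map t).obj X ⟶ P) (hm : BC.down t w = m ≫ u) :
    LocallyOfFinitePresentation (pullback.fst w.left η[Red.bc t G].left) := by
  have h0 : BC.down t (η[Red.bc t G]) = 1 := by rw [Gm.η_eq_one, BC.down_one]
  have hw0 : η[Red.bc t G].left ≫ pullback.fst G.hom t = t ≫ η[G].left := by
    refine congr(($h0).left).trans ?_
    rw [Hom.one_def]
    show (𝟙 T ≫ t) ≫ η[G].left = _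
    rw [Category.id_comp]
  have h2 : IsPullback η[Red.bc t G].left t (pullback.fst G.hom t) η[G].left := by
    refine (IsPullback.of_bot ?_ hw0.symm (IsPullback.of_hasPullback G.hom t)).flip
    rw [show η[Red.bc t G].left ≫ pullback.snd G.hom t = 𝟙 T from Over.w η[Red.bc t G],
      show η[G].left ≫ G.hom = 𝟙 S from Over.w η[G]]
    exact IsPullback.of_vert_isIso ⟨by simp⟩
  have h3 := ((IsPullback.of_hasPullback w.left η[Red.bc t G].left).paste_vert h2).flip
  have hw : w.left ≫ pullback.fst G.hom t = m.left ≫ u.left := congr(($hm).left)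
  rw [hw] at h3
  let q : pullback w.left η[Red.bc t G].left ⟶ pullback u.left η[G].left :=
    pullback.lift (pullback.fst _ _ ≫ m.left) (pullback.snd _ _ ≫ t) (by
      rw [Category.assoc]
      exact h3.w.symm)
  have h5 : IsPullback (q ≫ pullback.snd u.left η[G].left) (pullback.fst w.left η[Red.bc t G].left) η[G].left
      (m.left ≫ u.left) := by
    rw [show q ≫ pullback.snd u.left η[G].left = pullback.snd _ _ ≫ t from pullback.lift_snd _ _ _]
    exact h3
  have h4 : IsPullback q (pullback.fst w.left η[Red.bc t G].left) (pullback.fst u.left η[G].left) m.left :=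
    IsPullback.of_right h5 (pullback.lift_fst _ _ _) (IsPullback.of_hasPullback u.left η[G].left).flip
  exact MorphismProperty.of_isPullback h4 hu

end Kernel

section Nhd

variable {S : Scheme.{u}} {G H H' : Over S} [GrpObj G] [GrpObj H] [GrpObj H'] (i : H ⟶ G) [IsMonHom i]
  (i' : H' ⟶ G) [IsMonHom i'] [Mono i'] [IsSeparated G.hom]
  {A : CommRingCat.{u}} {t : Spec A ⟶ S} {M N : Type} [AddCommGroup M] [AddCommGroup N]
  [AddGroup.FG M] [AddGroup.FG N]
  (e : Grp.mk (Red.bc t H) ≅ Grp.mk (Red.DS (Spec A) M))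
  (e' : Grp.mk (Red.bc t H') ≅ Grp.mk (Red.DS (Spec A) N))

omit [Mono i'] [IsSeparated G.hom] [AddGroup.FG M] [AddGroup.FG N] in
theorem isMonHom_diffHom
    (hcomm : ∀ (X : Over S) (h : X ⟶ H) (h' : X ⟶ H'), (h ≫ i) * (h' ≫ i') = (h' ≫ i') * (h ≫ i))
    (φ : N →+ M) : IsMonHom (diffHom i i' e e' φ) := by
  have : IsMonHom (Red.DSmap (Spec A) φ) := Gm.isMonHom_DSmap _
  have : IsMonHom (BaseChange.overIso e').inv := inferInstanceAs (IsMonHom (BaseChange.overIso e'.symm).hom)
  let T' := Red.bc t H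
  let Γ' := Red.bc t G
  let ψ : T' ⟶ Red.bc t H' := psi e e' φ
  have : IsMonHom ψ := by unfold ψ psi; infer_instance
  let f : T' ⟶ Γ' := (Over.pullback t).map i
  let g : T' ⟶ Γ' := ψ ≫ (Over.pullback t).map i'
  refine HomDS.isMonHom_of_points _ fun Y a b => ?_
  show (a * b) ≫ (f * g⁻¹) = (a ≫ (f * g⁻¹)) * (b ≫ (f * g⁻¹))
  rw [comp_mul, comp_mul, comp_mul, comp_inv, comp_inv, comp_inv]
  have hcg : ∀ (a : Y ⟶ T') (b : Y ⟶ Red.bc t H'),
      (a ≫ f) * (b ≫ (Over.pullback t).map i') = (b ≫ (Over.pullback t).map i') * (a ≫ f) := fun a b =>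
    BC.down_injective (by
      rw [BC.down_mul, BC.down_mul, BC.down_map, BC.down_map]
      exact hcomm _ _ _)
  have hmap : ∀ (a b : Y ⟶ Red.bc t H'),
      (a * b) ≫ (Over.pullback t).map i' = (a ≫ (Over.pullback t).map i') * (b ≫ (Over.pullback t).map i') := fun a b =>
    BC.down_injective (by rw [BC.down_map, BC.down_mul, BC.down_mul, BC.down_map, BC.down_map, MonObj.mul_comp _ _ i'])
  have hf : (a * b) ≫ f = (a ≫ f) * (b ≫ f) := BC.down_injective (by
    rw [BC.down_map, BC.down_mul, BC.down_mul, BC.down_map, BC.down_map, MonObj.mul_comp _ _ i])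
  have hg : (a * b) ≫ g = (a ≫ g) * (b ≫ g) := by
    rw [← Category.assoc, MonObj.mul_comp a b ψ, hmap]
    simp only [g, Category.assoc]
  rw [hf, hg]
  refine CentralEq.group_aux' (G := Y ⟶ Γ') ?_ ?_
  · rw [← Category.assoc a]
    exact hcg b (a ≫ ψ)
  · have hab : (a * b) = b * a := by
      rw [← cancel_mono (BaseChange.overIso e).hom, MonObj.mul_comp a b (BaseChange.overIso e).hom,
        MonObj.mul_comp b a (BaseChange.overIso e).hom]
      exact Gm.dsFn_ext fun m => by rw [Gm.dsFn_mul, Gm.dsFn_mul, _root_.mul_comm]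
    rw [← hg, hab, ← Category.assoc, MonObj.mul_comp b a ψ, hmap]
    simp only [g, Category.assoc]

include e e' in
/-- Near each prime, the factorisation holds everywhere or nowhere. -/
theorem exists_nhd_chart [LocallyOfFinitePresentation H.hom] [LocallyOfFinitePresentation H'.hom]
    (hG : IsLocallyNoetherian S ∨ LocallyOfFinitePresentation G.hom)
    (hcomm : ∀ (X : Over S) (h : X ⟶ H) (h' : X ⟶ H'), (h ≫ i) * (h' ≫ i') = (h' ≫ i') * (h ≫ i))
    (p : Ideal A) [p.IsPrime] :
    ∃ a ∉ p, Fac i i' (Spec.map (CommRingCat.ofHom (algebraMap A (Localization.Away a))) ≫ t) ∨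
      ∀ (D : Type u) [CommRing D] [Algebra A D] [Nontrivial D], IsUnit (algebraMap A D a) →
        ¬ Fac i i' (Spec.map (CommRingCat.ofHom (algebraMap A D)) ≫ t) := by
  obtain ⟨I, hI⟩ := exists_isEqIdeal i i' e e'
  rcases kills_or_not_fac hI p with ⟨φ, hk⟩ | ⟨a, ha, h⟩
  swap
  · exact ⟨a, ha, Or.inr h⟩
  have := isMonHom_diffHom i i' e e' hcomm φ
  let u₀ : H ⊗ H' ⟶ G := (fst H H' ≫ i) * (snd H H' ≫ i')⁻¹
  have : LocallyOfFinitePresentation (H ⊗ H').hom := by
    show LocallyOfFinitePresentation (pullback.fst H.hom H'.hom ≫ H.hom)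
    infer_instance
  have := lfp_kernel' u₀ hG
  have : LocallyOfFinitePresentation (pullback.fst (diffHom i i' e e' φ).left η[Red.bc t G].left) := by
    refine lfp_of_factor t u₀ (diffHom i i' e e' φ)
      (lift (BC.down t (𝟙 (Red.bc t H))) (BC.down t (psi e e' φ))) ?_
    rw [diffHom, BC.down_mul, BC.down_inv, BC.down_map, comp_mul, comp_inv, lift_fst_assoc, lift_snd_assoc]
    refine congrArg (fun z => z * (BC.down t (psi e e' φ) ≫ i')⁻¹) ?_
    exact (congrArg (BC.down t) (Category.id_comp _).symm).trans (BC.down_map (𝟙 (Red.bc t H)) i)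
  have : IsSeparated (Red.bc t G).hom := inferInstanceAs (IsSeparated (pullback.snd G.hom t))
  obtain ⟨ε, hε, hcrit⟩ :=
    Locus.exists_idempotent (diffHom i i' e e' φ) (g := 𝟙 (Spec A)) (BaseChange.bcId _ ≪≫ e)
  have h0 : algebraMap A p.ResidueField ε = 0 :=
    (hcrit (CommRingCat.of p.ResidueField) (CommRingCat.ofHom (algebraMap A p.ResidueField))).mp
      (Locus.kills_congr _ (Category.comp_id _).symm hk)
  refine ⟨1 - ε, fun h1 => ?_, Or.inl (fac_of_kills i i' e e' φ _ (Locus.kills_congr _ (Category.comp_id _) ?_))⟩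
  · exact (‹p.IsPrime›).ne_top ((Ideal.eq_top_iff_one _).mpr
      (by simpa using add_mem h1 (Ideal.algebraMap_residueField_eq_zero.mp h0)))
  · refine (hcrit (CommRingCat.of (Localization.Away (1 - ε))) _).mpr ?_
    show algebraMap A (Localization.Away (1 - ε)) ε = 0
    refine (IsLocalization.map_units (M := Submonoid.powers (1 - ε)) (Localization.Away (1 - ε))
      ⟨1 - ε, Submonoid.mem_powers _⟩).mul_left_cancel ?_
    rw [← map_mul, sub_mul, _root_.one_mul, hε.eq, sub_self, map_zero, mul_zero]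

end Nhd

section Global

variable {S : Scheme.{u}} {G H H' : Over S} [GrpObj G] [GrpObj H] [GrpObj H'] (i : H ⟶ G) [IsMonHom i]
  (i' : H' ⟶ G) [IsMonHom i'] [Mono i'] [IsSeparated G.hom]

/-- The locus where `i` factors through `i'` is open and closed. -/
theorem exists_fac_locus (hH : SGA3x.IsMultTypeFT H) (hH' : SGA3x.IsMultTypeFT H')
    (hG : IsLocallyNoetherian S ∨ LocallyOfFinitePresentation G.hom)
    (hcomm : ∀ (X : Over S) (h : X ⟶ H) (h' : X ⟶ H'), (h ≫ i) * (h' ≫ i') = (h' ≫ i') * (h ≫ i)) :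
    ∃ U : S.Opens, IsClosed (U : Set S) ∧ (∀ s : S, s ∈ U ↔ Fac i i' (S.fromSpecResidueField s)) ∧
      Fac i i' U.ι := by
  have := MT.locallyOfFinitePresentation hH
  have := MT.locallyOfFinitePresentation hH'
  obtain ⟨S', f, hf, hs, hc, hloc⟩ := Charts.exists_common_charts hH hH'
  let P := MorphismProperty.isomorphisms Scheme.{u}
  obtain ⟨U, hUc, hU, hUf⟩ := clopen_of_cover P (CentralEq.proj i i') f hc fun s' => by
    obtain ⟨O, hO, M, N, iM, iN, hM, hN, ⟨eH⟩, ⟨eH'⟩⟩ := hloc s'
    obtain ⟨V, hV, hVs, hVO⟩ := exists_isAffineOpen_mem_and_subset (X := S') (x := s') (U := O) hO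
    let k : Spec Γ(S', V) ⟶ (O : Scheme.{u}) :=
      IsOpenImmersion.lift O.ι hV.fromSpec (by rw [hV.range_fromSpec, Scheme.Opens.range_ι]; exact hVO)
    have hk : k ≫ O.ι ≫ f = hV.fromSpec ≫ f := by
      rw [← Category.assoc, IsOpenImmersion.lift_fac]
    let p : PrimeSpectrum Γ(S', V) := hV.primeIdealOf ⟨s', hVs⟩
    obtain ⟨a, ha, h⟩ := exists_nhd_chart i i' (BaseChange.bcCongr hk.symm H ≪≫ Charts.resChart eH k)
      (BaseChange.bcCongr hk.symm H' ≪≫ Charts.resChart eH' k) hG hcomm p.asIdeal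
    let L := Localization.Away a
    let j₀ : Spec (CommRingCat.of L) ⟶ Spec Γ(S', V) := Spec.map (CommRingCat.ofHom (algebraMap Γ(S', V) L))
    have : IsOpenImmersion j₀ := IsOpenImmersion.of_isLocalization a
    let j : Spec (CommRingCat.of L) ⟶ S' := j₀ ≫ hV.fromSpec
    refine ⟨j.opensRange, ?_, ?_⟩
    · obtain ⟨q, hq⟩ : p ∈ Set.range (PrimeSpectrum.comap (algebraMap Γ(S', V) L)) := by
        rw [PrimeSpectrum.localization_away_comap_range _ a]
        exact ha
      exact ⟨q, (congrArg hV.fromSpec hq).trans (hV.fromSpec_primeIdealOf ⟨s', hVs⟩)⟩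
    rcases h with h | h
    · refine Or.inr (Charts.fib_congr P ?_ _
        (Charts.fib_base P j.isoOpensRange.inv ((CentralEq.fib_iso_iff i i' _).mpr h)))
      show j.isoOpensRange.inv ≫ Spec.map _ ≫ hV.fromSpec ≫ f = _
      rw [← Category.assoc (Spec.map _)]
      exact (Category.assoc _ _ _).symm.trans (congrArg (· ≫ f) j.isoOpensRange_inv_comp)
    · refine Or.inl ?_
      rintro _ ⟨y, rfl⟩ hy
      let P' : PrimeSpectrum L := y
      let φ : CommRingCat.of L ⟶ CommRingCat.of P'.asIdeal.ResidueField := CommRingCat.ofHom (algebraMap _ _)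
      have hφ : Spec.map φ (IsLocalRing.closedPoint P'.asIdeal.ResidueField) = y := by
        apply PrimeSpectrum.ext
        show Ideal.comap (algebraMap _ P'.asIdeal.ResidueField) (IsLocalRing.maximalIdeal _) = P'.asIdeal
        rw [IsLocalRing.maximalIdeal_eq_bot]
        exact Ideal.ker_algebraMap_residueField P'.asIdeal
      have hy' : Charts.Fib P (Spec.map φ ≫ j ≫ f) (CentralEq.proj i i') := by
        refine (Charts.fib_point_iff P (K := P'.asIdeal.ResidueField) (Spec.map φ ≫ j ≫ f) _).mpr ?_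
        rw [show (Spec.map φ ≫ j ≫ f) (IsLocalRing.closedPoint P'.asIdeal.ResidueField) = f (j y) from
          congrArg (fun z => f (j z)) hφ]
        exact hy
      have he : Spec.map φ ≫ j ≫ f =
          Spec.map (CommRingCat.ofHom (algebraMap Γ(S', V) P'.asIdeal.ResidueField)) ≫ hV.fromSpec ≫ f := by
        rw [IsScalarTower.algebraMap_eq Γ(S', V) L P'.asIdeal.ResidueField, CommRingCat.ofHom_comp, Spec.map_comp]
        simp only [j, j₀, φ, Category.assoc]
      refine h P'.asIdeal.ResidueField ?_ ((CentralEq.fib_iso_iff i i' _).mp (Charts.fib_congr P he _ hy'))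
      rw [IsScalarTower.algebraMap_apply Γ(S', V) L P'.asIdeal.ResidueField]
      exact (IsLocalization.map_units (M := Submonoid.powers a) L ⟨a, Submonoid.mem_powers a⟩).map _
  exact ⟨U, hUc, fun s => (hU s).trans (CentralEq.fib_iso_iff i i' _), (CentralEq.fib_iso_iff i i' _).mp hUf⟩

omit [IsMonHom i] [IsMonHom i'] [IsSeparated G.hom] [GrpObj G] [GrpObj H] [GrpObj H'] in
/-- Mutual factorisation gives an isomorphism. -/
theorem exists_iso_iff_fac [Mono i] {T : Scheme.{u}} (t : T ⟶ S) :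
    (∃ ψ : Red.bc t H ≅ Red.bc t H', ψ.hom ≫ (Over.pullback t).map i' = (Over.pullback t).map i) ↔
      Fac i i' t ∧ Fac i' i t := by
  have key : ∀ {A B : Over S} (k : A ⟶ G) (k' : B ⟶ G) (θ : Red.bc t A ⟶ Red.bc t B),
      θ ≫ (Over.pullback t).map k' = (Over.pullback t).map k → Fac k k' t := by
    intro A B k k' θ hθ Y p γ
    let ε : (Over.map t).obj (Over.mk p.left) ≅ Y :=
      Over.isoMk (Iso.refl _) ((Category.id_comp _).trans (Over.w p).symm)
    refine ⟨ε.inv ≫ BC.down t (BC.up t (ε.hom ≫ γ) ≫ θ), ?_⟩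
    rw [Category.assoc, ← BC.down_map, Category.assoc, hθ, BC.down_map, BC.down_up]
    simp
  have hom : ∀ {A B : Over S} (k : A ⟶ G) (k' : B ⟶ G), Fac k k' t →
      ∃ θ : Red.bc t A ⟶ Red.bc t B, θ ≫ (Over.pullback t).map k' = (Over.pullback t).map k := by
    intro A B k k' h
    obtain ⟨γ', hγ'⟩ := h ((Over.map t).obj (Red.bc t A)) (Over.homMk (Red.bc t A).hom) (BC.down t (𝟙 _))
    refine ⟨BC.up t γ', BC.down_injective ?_⟩
    rw [BC.down_map, BC.down_up, hγ', ← BC.down_map, Category.id_comp]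
  constructor
  · rintro ⟨ψ, hψ⟩
    exact ⟨key i i' ψ.hom hψ, key i' i ψ.inv (by rw [← hψ, Iso.inv_hom_id_assoc])⟩
  · rintro ⟨h, h'⟩
    obtain ⟨θ, hθ⟩ := hom i i' h
    obtain ⟨θ', hθ'⟩ := hom i' i h'
    exact ⟨⟨θ, θ', (cancel_mono ((Over.pullback t).map i)).mp (by rw [Category.assoc, hθ', hθ, Category.id_comp]),
      (cancel_mono ((Over.pullback t).map i')).mp (by rw [Category.assoc, hθ, hθ', Category.id_comp])⟩, hθ⟩

end Global

end Groth.Agent.H87.EqLocus
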