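import Groth.Agent.H87.ExtGeneric
import Groth.Agent.H87.HomDS
import Groth.Agent.Lib.Tori.DS

/-!
# The fibres of the multiplicative group
-/

set_option autoImplicit false
universe u

open CategoryTheory CategoryTheory.Limits MonoidalCategory CartesianMonoidalCategory MonObj GrpObj
open AlgebraicGeometry

namespace Groth.Agent.H87.GmFibre

set_option linter.style.haveILetI false

theorem isMultTypeFT_of_isTorus {S : Scheme.{u}} {T : Over S} [GrpObj T] (hT : Red.IsTorus T) :
    SGA3x.IsMultTypeFT T := by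
  obtain ⟨S', f, h1, h2, h3, h4⟩ := hT
  refine ⟨S', f, h1, h2, h3, fun s' => ?_⟩
  obtain ⟨U, hU, r, e⟩ := h4 s'
  exact ⟨U, hU, Fin r → ℤ, inferInstance, inferInstance, e⟩

theorem connectedSpace_ds (K : Type u) [Field K] (r : ℕ) :
    ConnectedSpace (Red.DS (Spec (CommRingCat.of K)) (Fin r → ℤ)).left := by
  let D := Red.DS (Spec (CommRingCat.of K)) (Fin r → ℤ)
  obtain ⟨q, hq⟩ := HomDS.exists_fac (S := Spec (CommRingCat.of K)) (𝟙 _) (Fin r → ℤ) (X := D) D.hom
    (Category.comp_id _) (𝟙 D)
  let w := HomDS.univPt (S := Spec (CommRingCat.of K)) (A := CommRingCat.of K) (𝟙 _) (Fin r → ℤ)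
  haveI : IsDomain (MonoidAlgebra K (Multiplicative (Fin r → ℤ))) := inferInstance
  haveI h1 : ConnectedSpace (Spec (CommRingCat.of (MonoidAlgebra K (Multiplicative (Fin r → ℤ))))) := inferInstance
  haveI : ConnectedSpace (HomDS.test (S := Spec (CommRingCat.of K)) (A := CommRingCat.of K) (𝟙 _)
      (CommRingCat.ofHom MonoidAlgebra.singleOneRingHom :
        CommRingCat.of K ⟶ HomDS.ring (A := CommRingCat.of K) (Fin r → ℤ))).left := h1
  refine Function.Surjective.connectedSpace (f := w.left.base) (fun x => ⟨q.left.base x, ?_⟩) w.left.continuous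
  exact congr($(congrArg CommaMorphism.left hq).base x)

theorem isConnected_fibre_ds {S : Scheme.{u}} (r : ℕ) (s : S) :
    _root_.IsConnected ((Red.DS S (Fin r → ℤ)).hom ⁻¹' {s}) := by
  let e := Groth.Agent.Lib.Tori.BaseChange.overIso
    (Groth.Agent.Lib.Tori.DS.dsBC (S := S) (Fin r → ℤ) (S.fromSpecResidueField s))
  haveI : IsIso e.inv.left := inferInstanceAs (IsIso ((Over.forget _).map e.inv))
  haveI := connectedSpace_ds (S.residueField s) r
  haveI : ConnectedSpace ↥(Limits.pullback (Red.DS S (Fin r → ℤ)).hom (S.fromSpecResidueField s)) :=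
    e.inv.left.homeomorph.surjective.connectedSpace e.inv.left.homeomorph.continuous
  exact ExtGeneric.isConnected_fibre (Red.DS S (Fin r → ℤ)) s

theorem connectedSpace_gm (K : Type u) [Field K] :
    ConnectedSpace (Red.DS (Spec (CommRingCat.of K)) ℤ).left := by
  let D := Red.DS (Spec (CommRingCat.of K)) ℤ
  obtain ⟨q, hq⟩ := HomDS.exists_fac (S := Spec (CommRingCat.of K)) (𝟙 _) ℤ (X := D) D.hom
    (Category.comp_id _) (𝟙 D)
  let w := HomDS.univPt (S := Spec (CommRingCat.of K)) (A := CommRingCat.of K) (𝟙 _) ℤ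
  haveI : IsDomain (MonoidAlgebra K (Multiplicative ℤ)) := inferInstance
  haveI h1 : ConnectedSpace (Spec (CommRingCat.of (MonoidAlgebra K (Multiplicative ℤ)))) := inferInstance
  haveI : ConnectedSpace (HomDS.test (S := Spec (CommRingCat.of K)) (A := CommRingCat.of K) (𝟙 _)
      (CommRingCat.ofHom MonoidAlgebra.singleOneRingHom :
        CommRingCat.of K ⟶ HomDS.ring (A := CommRingCat.of K) ℤ)).left := h1
  refine Function.Surjective.connectedSpace (f := w.left.base) (fun x => ⟨q.left.base x, ?_⟩) w.left.continuous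
  exact congr($(congrArg CommaMorphism.left hq).base x)

theorem isConnected_fibre_gm {S : Scheme.{u}} (s : S) : _root_.IsConnected ((Red.Gm S).hom ⁻¹' {s}) := by
  let e := Groth.Agent.Lib.Tori.BaseChange.overIso
    (Groth.Agent.Lib.Tori.DS.dsBC (S := S) ℤ (S.fromSpecResidueField s))
  haveI : IsIso e.inv.left := inferInstanceAs (IsIso ((Over.forget _).map e.inv))
  haveI := connectedSpace_gm (S.residueField s)
  haveI : ConnectedSpace ↥(Limits.pullback (Red.Gm S).hom (S.fromSpecResidueField s)) :=
    e.inv.left.homeomorph.surjective.connectedSpace e.inv.left.homeomorph.continuous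
  exact ExtGeneric.isConnected_fibre (Red.Gm S) s

end Groth.Agent.H87.GmFibre
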