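import Groth.Agent.H87.KerField
import Groth.Agent.H87.EqLocus
import Groth.Agent.H87.GmFibre
import Groth.Agent.H87.SplitMax
import Groth.Agent.H1.Classical.TorusSplit
import Groth.Agent.H1.Classical.BorelConj
import Groth.Agent.H1.Hopf

/-!
# Commuting subtori lie in a maximal torus
-/

set_option autoImplicit false
universe u

open CategoryTheory MonoidalCategory CartesianMonoidalCategory MonObj GrpObj AlgebraicGeometry
open CategoryTheory.Limits
open Groth.Agent.Lib.RedPts Groth.Agent.Lib.Tori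
open Groth.Agent.H87.CentralEq (Fac)

namespace Groth.Agent.H87.TorusIn

set_option linter.style.haveILetI false

attribute [local instance] Groth.Agent.Lib.RedPts.Points.baseAlgebra in
/-- A torus over an algebraically closed field is split. -/
theorem exists_split {k : Type u} [Field k] [IsAlgClosed k] (T : Over (Spec (CommRingCat.of k))) [GrpObj T]
    (hT : Red.IsTorus T) :
    ∃ r : ℕ, Nonempty (Grp.mk T ≅ Grp.mk (Red.DS (Spec (CommRingCat.of k)) (Fin r → ℤ))) := by
  haveI := Groth.Agent.Lib.Tori.Basic.smooth_of_isTorus hT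
  haveI := Groth.Agent.Lib.Tori.Basic.isAffineHom_of_isTorus hT
  haveI : IsAffine T.left := isAffine_of_isAffineHom T.hom
  obtain ⟨A, _, _, e, he⟩ := Groth.Agent.H1.Hopf.exists_iso T
  haveI := he
  haveI : Algebra.FiniteType k A := Groth.Agent.H1.Classical.Scheme'.finiteType_of_iso e
  have hT' := Groth.Agent.Lib.Tori.Basic.isTorus_congr (BaseChange.grpIso e).symm hT
  obtain ⟨r, ⟨ε⟩⟩ := Groth.Agent.H1.Classical.TorusSplit.isSplit_of_isTorus hT'
  exact ⟨r, ⟨BaseChange.grpIso e ≪≫ ε⟩⟩

/-- A finitely generated torsion-free diagonalisable group is a torus. -/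
theorem isTorus_DS {S : Scheme.{u}} {r : ℕ} (N : AddSubgroup (Fin r → ℤ)) :
    Red.IsTorus (Red.DS S N) := by
  haveI : Module.Finite ℤ N := Module.Finite.iff_addGroup_fg.mpr ((AddGroup.fg_iff_addSubgroup_fg N).mpr
    (Submodule.fg_iff_addSubgroup_fg N.toIntSubmodule |>.mp (IsNoetherian.noetherian _)))
  haveI : Module.Free ℤ N := inferInstance
  exact Basic.isTorus_of_isSplit (M := N) ⟨Iso.refl _⟩

section Field

variable {k : Type u} [Field k] [IsAlgClosed k] {G : Over (Spec (CommRingCat.of k))} [GrpObj G]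
  [LocallyOfFiniteType G.hom] {T R : Over (Spec (CommRingCat.of k))} [GrpObj T] [GrpObj R]

set_option backward.isDefEq.respectTransparency false in
/-- Over an algebraically closed field: a maximal torus contains the tori commuting with it. -/
theorem exists_fac_field (i : T ⟶ G) [IsMonHom i] [Mono i] (j : R ⟶ G) [IsMonHom j]
    (hT : Red.IsTorus T) (hR : Red.IsTorus R)
    (hmax : ∀ (T' : Over (Spec (CommRingCat.of k))) [GrpObj T'] (j' : T' ⟶ G) [IsMonHom j'] [Mono j'] (f : T ⟶ T'),
      Red.IsTorus T' → f ≫ j' = i → IsIso f)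
    (hcomm : ∀ (X : Over (Spec (CommRingCat.of k))) (t : X ⟶ T) (r : X ⟶ R), (t ≫ i) * (r ≫ j) = (r ≫ j) * (t ≫ i)) :
    ∃ w : R ⟶ T, w ≫ i = j := by
  let S := Spec (CommRingCat.of k)
  obtain ⟨m, ⟨eT⟩⟩ := exists_split T hT
  obtain ⟨q, ⟨eR⟩⟩ := exists_split R hR
  let M := Fin (m + q) → ℤ
  let inl : (Fin m → ℤ) →+ M :=
    { toFun := fun a => Fin.append a 0
      map_zero' := funext fun x => by refine Fin.addCases ?_ ?_ x <;> intro y <;> simp [M] <;> rfl
      map_add' := fun a b => funext fun x => by refine Fin.addCases ?_ ?_ x <;> intro y <;> simp [M] }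
  let inr : (Fin q → ℤ) →+ M :=
    { toFun := fun a => Fin.append 0 a
      map_zero' := funext fun x => by refine Fin.addCases ?_ ?_ x <;> intro y <;> simp [M] <;> rfl
      map_add' := fun a b => funext fun x => by refine Fin.addCases ?_ ?_ x <;> intro y <;> simp [M] }
  let p₁ : M →+ (Fin m → ℤ) :=
    { toFun := fun a => a ∘ Fin.castAdd q
      map_zero' := rfl
      map_add' := fun _ _ => rfl }
  let p₂ : M →+ (Fin q → ℤ) :=
    { toFun := fun a => a ∘ Fin.natAdd m
      map_zero' := rfl
      map_add' := fun _ _ => rfl }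
  have h11 : p₁.comp inl = AddMonoidHom.id _ := AddMonoidHom.ext fun a => funext fun x => by simp [p₁, inl]
  have h12 : p₁.comp inr = 0 := AddMonoidHom.ext fun a => funext fun x => by simp [p₁, inr]
  have h22 : p₂.comp inr = AddMonoidHom.id _ := AddMonoidHom.ext fun a => funext fun x => by simp [p₂, inr]
  have h21 : p₂.comp inl = 0 := AddMonoidHom.ext fun a => funext fun x => by simp [p₂, inl]
  haveI : IsMonHom (Red.DSmap S inl) := Gm.isMonHom_DSmap _
  haveI : IsMonHom (Red.DSmap S inr) := Gm.isMonHom_DSmap _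
  let a : Red.DS S M ⟶ T := Red.DSmap S inl ≫ (BaseChange.overIso eT).inv
  let b : Red.DS S M ⟶ R := Red.DSmap S inr ≫ (BaseChange.overIso eR).inv
  haveI : IsMonHom (BaseChange.overIso eT).inv := inferInstanceAs (IsMonHom (BaseChange.overIso eT.symm).hom)
  haveI : IsMonHom (BaseChange.overIso eR).inv := inferInstanceAs (IsMonHom (BaseChange.overIso eR.symm).hom)
  haveI : IsMonHom a := inferInstanceAs (IsMonHom (Red.DSmap S inl ≫ (BaseChange.overIso eT).inv))
  haveI : IsMonHom b := inferInstanceAs (IsMonHom (Red.DSmap S inr ≫ (BaseChange.overIso eR).inv))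
  let f : Red.DS S M ⟶ G := (a ≫ i) * (b ≫ j)
  haveI : IsMonHom f := HomDS.isMonHom_of_points f fun X x y => by
    simp only [f, MonObj.comp_mul, ← Category.assoc]
    rw [MonObj.mul_comp x y a, MonObj.mul_comp x y b, MonObj.mul_comp _ _ i, MonObj.mul_comp _ _ j]
    rw [_root_.mul_assoc, ← _root_.mul_assoc ((y ≫ a) ≫ i), hcomm, _root_.mul_assoc, ← _root_.mul_assoc]
  obtain ⟨N, jN, hjN, hjNm, hfac⟩ := KerField.exists_image f
  haveI : IsMonHom (Red.DSmap S p₁) := Gm.isMonHom_DSmap _
  haveI : IsMonHom (Red.DSmap S p₂) := Gm.isMonHom_DSmap _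
  have hT0 : Red.DSmap S p₁ ≫ f = (BaseChange.overIso eT).inv ≫ i := by
    simp only [f, MonObj.comp_mul, a, b, ← Category.assoc]
    rw [Factor.DSmap_comp, Factor.DSmap_comp, h11, h12, SplitMax.DSmap_id, Factor.DSmap_zero, Category.id_comp,
      MonObj.one_comp, MonObj.one_comp, _root_.mul_one]
  have hR0 : Red.DSmap S p₂ ≫ f = (BaseChange.overIso eR).inv ≫ j := by
    simp only [f, MonObj.comp_mul, a, b, ← Category.assoc]
    rw [Factor.DSmap_comp, Factor.DSmap_comp, h22, h21, SplitMax.DSmap_id, Factor.DSmap_zero, Category.id_comp,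
      MonObj.one_comp, MonObj.one_comp, _root_.one_mul]
  let ft : T ⟶ Red.DS S N := (BaseChange.overIso eT).hom ≫ Red.DSmap S p₁ ≫ Red.DSmap S N.subtype
  have hft : ft ≫ jN = i := by
    simp only [ft, Category.assoc]
    rw [hfac, hT0, Iso.hom_inv_id_assoc]
  haveI : IsIso ft := hmax _ jN ft (isTorus_DS N) hft
  refine ⟨(BaseChange.overIso eR).hom ≫ Red.DSmap S p₂ ≫ Red.DSmap S N.subtype ≫ inv ft, ?_⟩
  simp only [Category.assoc]
  rw [show inv ft ≫ i = jN from (IsIso.inv_comp_eq ft).2 hft.symm, hfac, hR0, Iso.hom_inv_id_assoc]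

end Field

variable {S : Scheme.{u}} {G T R : Over S} [GrpObj G] [GrpObj T] [GrpObj R]

set_option backward.isDefEq.respectTransparency false in
/-- **A maximal torus contains the subtori commuting with it.** -/
theorem exists_fac [IsSeparated G.hom] [LocallyOfFinitePresentation G.hom] (i : T ⟶ G) (hT : Red.IsMaximalTorus i)
    (j : R ⟶ G) [IsMonHom j] [Mono j] (hR : Red.IsTorus R)
    (hcomm : ∀ (X : Over S) (t : X ⟶ T) (r : X ⟶ R), (t ≫ i) * (r ≫ j) = (r ≫ j) * (t ≫ i)) :
    ∃ f : R ⟶ T, f ≫ i = j := by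
  obtain ⟨hi, him, hTt, hmax⟩ := hT
  haveI := hi
  haveI := him
  obtain ⟨U, -, hU, hUf⟩ := EqLocus.exists_fac_locus j i (GmFibre.isMultTypeFT_of_isTorus hR)
    (GmFibre.isMultTypeFT_of_isTorus hTt) (Or.inr inferInstance) (fun X h h' => (hcomm X h' h).symm)
  have hall : ∀ s : S, s ∈ U := by
    intro s
    rw [hU]
    let g := Red.geomPt s
    haveI : LocallyOfFiniteType (Red.bc g G).hom :=
      MorphismProperty.pullback_snd (P := @LocallyOfFiniteType) _ _ inferInstance
    haveI : Mono ((Over.pullback g).map i) := inferInstance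
    obtain ⟨w, hw⟩ := exists_fac_field ((Over.pullback g).map i) ((Over.pullback g).map j)
      (Basic.isTorus_bc hTt g) (Basic.isTorus_bc hR g) (fun T' _ j' _ _ f ht hf => hmax s T' j' f ht hf)
      (fun X t r => BC.down_injective (by
        rw [BC.down_mul, BC.down_mul, BC.down_map, BC.down_map, hcomm]))
    have hfac : Fac j i g := by
      intro Y p x
      let ε : (Over.map g).obj (Over.mk p.left) ≅ Y :=
        Over.isoMk (Iso.refl _) ((Category.id_comp _).trans (Over.w p).symm)
      refine ⟨ε.inv ≫ BC.down g (BC.up g (ε.hom ≫ x) ≫ w), ?_⟩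
      rw [Category.assoc, ← BC.down_map, Category.assoc, hw, BC.down_map, BC.down_up]
      simp
    refine (CentralEq.fib_iso_iff j i _).1 ?_
    have h1 := (Charts.fib_point_iff (MorphismProperty.isomorphisms Scheme) g (CentralEq.proj j i)).1
      ((CentralEq.fib_iso_iff j i g).2 hfac)
    have hs : g (IsLocalRing.closedPoint (AlgebraicClosure (S.residueField s))) = s :=
      S.fromSpecResidueField_apply s _
    rwa [hs] at h1
  have hr : Set.range R.hom ⊆ Set.range U.ι := by
    rintro x -
    rw [Scheme.Opens.range_ι]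
    exact hall x
  obtain ⟨γ', hγ'⟩ := hUf R (Over.homMk (IsOpenImmersion.lift U.ι R.hom hr) (IsOpenImmersion.lift_fac _ _ _)) (𝟙 R)
  exact ⟨γ', by rw [hγ', Category.id_comp]⟩

end Groth.Agent.H87.TorusIn
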