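import Mathlib.RingTheory.Bialgebra.Basic
import Mathlib.RingTheory.TensorProduct.Maps
import Mathlib.RingTheory.TensorProduct.DirectLimitFG
import Mathlib.RingTheory.FinitePresentation

/-!
# Coalgebra structures on a base-changed algebra, and their naturality in the base
-/

set_option autoImplicit false
universe u

open TensorProduct

namespace Groth.Agent.H87.HopfStage

variable {A₁ : Type u} [CommRing A₁] {C₁ : Type u} [CommRing C₁] [Algebra A₁ C₁]

variable (B : Type u) [CommRing B] [Algebra A₁ B]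

/-- The base change. -/
abbrev T1 (C₁ : Type u) [CommRing C₁] [Algebra A₁ C₁] : Type u := B ⊗[A₁] C₁

/-- Its square. -/
abbrev T2 (C₁ : Type u) [CommRing C₁] [Algebra A₁ C₁] : Type u :=
  T1 (A₁ := A₁) B C₁ ⊗[B] T1 (A₁ := A₁) B C₁

/-- Its cube. -/
abbrev T3 (C₁ : Type u) [CommRing C₁] [Algebra A₁ C₁] : Type u :=
  T1 (A₁ := A₁) B C₁ ⊗[B] T2 (A₁ := A₁) B C₁

variable {B}

/-- The comultiplication given by the images of `C₁`. -/
noncomputable def com (φ : C₁ →ₐ[A₁] T2 (A₁ := A₁) B C₁) :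
    T1 (A₁ := A₁) B C₁ →ₐ[B] T2 (A₁ := A₁) B C₁ :=
  Algebra.TensorProduct.lift (Algebra.ofId B _) φ fun _ _ => Commute.all _ _

theorem com_tmul (φ : C₁ →ₐ[A₁] T2 (A₁ := A₁) B C₁) (b : B) (c : C₁) :
    com φ (b ⊗ₜ c) = b • φ c := by
  rw [com, Algebra.TensorProduct.lift_tmul, Algebra.ofId_apply]
  exact (Algebra.smul_def b (φ c)).symm

/-- The counit given by the values on `C₁`. -/
noncomputable def cou (ψ : C₁ →ₐ[A₁] B) : T1 (A₁ := A₁) B C₁ →ₐ[B] B :=
  Algebra.TensorProduct.lift (AlgHom.id B B) ψ fun _ _ => Commute.all _ _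

theorem cou_tmul (ψ : C₁ →ₐ[A₁] B) (b : B) (c : C₁) : cou ψ (b ⊗ₜ c) = b * ψ c := by
  simp [cou]

/-- Left nested comultiplication. -/
noncomputable def coL (φ : C₁ →ₐ[A₁] T2 (A₁ := A₁) B C₁) :
    T1 (A₁ := A₁) B C₁ →ₐ[B] T3 (A₁ := A₁) B C₁ :=
  (Algebra.TensorProduct.assoc B B B _ _ _).toAlgHom.comp
    ((Algebra.TensorProduct.map (com φ) (AlgHom.id B _)).comp (com φ))

/-- Right nested comultiplication. -/
noncomputable def coR (φ : C₁ →ₐ[A₁] T2 (A₁ := A₁) B C₁) :
    T1 (A₁ := A₁) B C₁ →ₐ[B] T3 (A₁ := A₁) B C₁ :=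
  (Algebra.TensorProduct.map (AlgHom.id B _) (com φ)).comp (com φ)

/-- Left counit composite. -/
noncomputable def unL (φ : C₁ →ₐ[A₁] T2 (A₁ := A₁) B C₁) (ψ : C₁ →ₐ[A₁] B) :
    T1 (A₁ := A₁) B C₁ →ₐ[B] T1 (A₁ := A₁) B C₁ :=
  (Algebra.TensorProduct.lid B (T1 (A₁ := A₁) B C₁)).toAlgHom.comp
    ((Algebra.TensorProduct.map (cou ψ) (AlgHom.id B _)).comp (com φ))

/-- Right counit composite. -/
noncomputable def unR (φ : C₁ →ₐ[A₁] T2 (A₁ := A₁) B C₁) (ψ : C₁ →ₐ[A₁] B) :
    T1 (A₁ := A₁) B C₁ →ₐ[B] T1 (A₁ := A₁) B C₁ :=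
  (Algebra.TensorProduct.rid B B (T1 (A₁ := A₁) B C₁)).toAlgHom.comp
    ((Algebra.TensorProduct.map (AlgHom.id B _) (cou ψ)).comp (com φ))

section Natural

variable {B' : Type u} [CommRing B'] [Algebra A₁ B'] (κ : B →ₐ[A₁] B')

/-- Change of the base on `T1`. -/
noncomputable def σ1 : T1 (A₁ := A₁) B C₁ →ₐ[A₁] T1 (A₁ := A₁) B' C₁ :=
  Algebra.TensorProduct.map κ (AlgHom.id A₁ C₁)

theorem σ1_tmul (b : B) (c : C₁) : σ1 κ (b ⊗ₜ[A₁] c) = κ b ⊗ₜ c := rfl

theorem σ1_smul (b : B) (x : T1 (A₁ := A₁) B C₁) : σ1 κ (b • x) = κ b • σ1 κ x := by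
  simp [Algebra.smul_def, σ1]

theorem σ1_algebraMap (b : B) : σ1 (C₁ := C₁) κ (algebraMap B _ b) = algebraMap B' _ (κ b) := by
  simp [σ1]

/-- Change of the base on `T2`. -/
noncomputable def σ2 : T2 (A₁ := A₁) B C₁ →ₐ[A₁] T2 (A₁ := A₁) B' C₁ :=
  AlgHom.mk' (Algebra.TensorProduct.mapRingHom κ.toRingHom (σ1 κ).toRingHom (σ1 κ).toRingHom
    (RingHom.ext fun b => σ1_algebraMap κ b) (RingHom.ext fun b => σ1_algebraMap κ b)) fun a x => by
    induction x using TensorProduct.induction_on with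
    | zero => simp
    | add x y hx hy => simp only [smul_add, map_add, hx, hy]
    | tmul x y =>
      rw [TensorProduct.smul_tmul', Algebra.TensorProduct.mapRingHom_tmul,
        Algebra.TensorProduct.mapRingHom_tmul, TensorProduct.smul_tmul']
      congr 1
      exact map_smul (σ1 κ) a x

theorem σ2_tmul (x y : T1 (A₁ := A₁) B C₁) : σ2 κ (x ⊗ₜ[B] y) = σ1 κ x ⊗ₜ σ1 κ y := by simp [σ2]

theorem σ2_smul (b : B) (x : T2 (A₁ := A₁) B C₁) : σ2 κ (b • x) = κ b • σ2 κ x := by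
  induction x using TensorProduct.induction_on with
  | zero => simp
  | add x y hx hy => simp only [smul_add, map_add, hx, hy]
  | tmul x y => rw [TensorProduct.smul_tmul', σ2_tmul, σ2_tmul, σ1_smul, TensorProduct.smul_tmul']

theorem σ2_algebraMap (b : B) : σ2 (C₁ := C₁) κ (algebraMap B _ b) = algebraMap B' _ (κ b) := by
  rw [Algebra.algebraMap_eq_smul_one, σ2_smul, map_one, Algebra.algebraMap_eq_smul_one]

/-- Change of the base on `T3`. -/
noncomputable def σ3 : T3 (A₁ := A₁) B C₁ →+* T3 (A₁ := A₁) B' C₁ :=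
  Algebra.TensorProduct.mapRingHom κ.toRingHom (σ1 κ).toRingHom (σ2 κ).toRingHom
    (RingHom.ext fun b => σ1_algebraMap κ b) (RingHom.ext fun b => σ2_algebraMap κ b)

theorem σ3_tmul (x : T1 (A₁ := A₁) B C₁) (y : T2 (A₁ := A₁) B C₁) :
    σ3 κ (x ⊗ₜ[B] y) = σ1 κ x ⊗ₜ σ2 κ y := by simp [σ3]

theorem σ3_smul (b : B) (x : T3 (A₁ := A₁) B C₁) : σ3 κ (b • x) = κ b • σ3 κ x := by
  induction x using TensorProduct.induction_on with
  | zero => simp
  | add x y hx hy => simp only [smul_add, map_add, hx, hy]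
  | tmul x y => rw [TensorProduct.smul_tmul', σ3_tmul, σ3_tmul, σ1_smul, TensorProduct.smul_tmul']

variable (φ : C₁ →ₐ[A₁] T2 (A₁ := A₁) B C₁) (ψ : C₁ →ₐ[A₁] B)

theorem σ2_com (x : T1 (A₁ := A₁) B C₁) : σ2 κ (com φ x) = com ((σ2 κ).comp φ) (σ1 κ x) := by
  induction x using TensorProduct.induction_on with
  | zero => simp
  | add x y hx hy => simp only [map_add, hx, hy]
  | tmul b c => rw [com_tmul, σ2_smul, σ1_tmul, com_tmul]; rfl

theorem κ_cou (x : T1 (A₁ := A₁) B C₁) : κ (cou ψ x) = cou (κ.comp ψ) (σ1 κ x) := by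
  induction x using TensorProduct.induction_on with
  | zero => simp
  | add x y hx hy => simp only [map_add, hx, hy]
  | tmul b c => simp [cou_tmul, σ1_tmul]

theorem σ3_coR (x : T1 (A₁ := A₁) B C₁) : σ3 κ (coR φ x) = coR ((σ2 κ).comp φ) (σ1 κ x) := by
  have h : ∀ y : T2 (A₁ := A₁) B C₁, σ3 κ (Algebra.TensorProduct.map (AlgHom.id B _) (com φ) y) =
      Algebra.TensorProduct.map (AlgHom.id B' _) (com ((σ2 κ).comp φ)) (σ2 κ y) := by
    intro y
    induction y using TensorProduct.induction_on with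
    | zero => simp
    | add a b ha hb => simp only [map_add, ha, hb]
    | tmul a b => simp [σ2_tmul, σ3_tmul, σ2_com]
  simp only [coR, AlgHom.comp_apply]
  rw [h, σ2_com]

theorem σ3_assoc (y : T2 (A₁ := A₁) B C₁) (z : T1 (A₁ := A₁) B C₁) :
    σ3 κ (Algebra.TensorProduct.assoc B B B _ _ _ (y ⊗ₜ z)) =
      Algebra.TensorProduct.assoc B' B' B' _ _ _ (σ2 κ y ⊗ₜ σ1 κ z) := by
  induction y using TensorProduct.induction_on with
  | zero => simp
  | add a b ha hb => simp only [TensorProduct.add_tmul, map_add, ha, hb]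
  | tmul a b => simp [σ2_tmul, σ3_tmul]

theorem σ3_coL (x : T1 (A₁ := A₁) B C₁) : σ3 κ (coL φ x) = coL ((σ2 κ).comp φ) (σ1 κ x) := by
  have h : ∀ y : T2 (A₁ := A₁) B C₁,
      σ3 κ ((Algebra.TensorProduct.assoc B B B _ _ _) (Algebra.TensorProduct.map (com φ) (AlgHom.id B _) y)) =
      (Algebra.TensorProduct.assoc B' B' B' _ _ _)
        (Algebra.TensorProduct.map (com ((σ2 κ).comp φ)) (AlgHom.id B' _) (σ2 κ y)) := by
    intro y
    induction y using TensorProduct.induction_on with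
    | zero => simp
    | add a b ha hb => simp only [map_add, ha, hb]
    | tmul a b => simp [σ2_tmul, σ3_assoc, σ2_com]
  simp only [coL, AlgHom.comp_apply, AlgEquiv.toAlgHom_apply]
  rw [h, σ2_com]

theorem σ1_unL (x : T1 (A₁ := A₁) B C₁) :
    σ1 κ (unL φ ψ x) = unL ((σ2 κ).comp φ) (κ.comp ψ) (σ1 κ x) := by
  have h : ∀ y : T2 (A₁ := A₁) B C₁, σ1 κ ((Algebra.TensorProduct.lid B _)
      (Algebra.TensorProduct.map (cou ψ) (AlgHom.id B _) y)) = (Algebra.TensorProduct.lid B' _)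
        (Algebra.TensorProduct.map (cou (κ.comp ψ)) (AlgHom.id B' _) (σ2 κ y)) := by
    intro y
    induction y using TensorProduct.induction_on with
    | zero => simp
    | add a b ha hb => simp only [map_add, ha, hb]
    | tmul a b => simp [σ2_tmul, σ1_smul, κ_cou]
  simp only [unL, AlgHom.comp_apply, AlgEquiv.toAlgHom_apply]
  rw [h, σ2_com]

theorem σ1_unR (x : T1 (A₁ := A₁) B C₁) :
    σ1 κ (unR φ ψ x) = unR ((σ2 κ).comp φ) (κ.comp ψ) (σ1 κ x) := by
  have h : ∀ y : T2 (A₁ := A₁) B C₁, σ1 κ ((Algebra.TensorProduct.rid B B _)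
      (Algebra.TensorProduct.map (AlgHom.id B _) (cou ψ) y)) = (Algebra.TensorProduct.rid B' B' _)
        (Algebra.TensorProduct.map (AlgHom.id B' _) (cou (κ.comp ψ)) (σ2 κ y)) := by
    intro y
    induction y using TensorProduct.induction_on with
    | zero => simp
    | add a b ha hb => simp only [map_add, ha, hb]
    | tmul a b => simp [σ2_tmul, σ1_smul, κ_cou]
  simp only [unR, AlgHom.comp_apply, AlgEquiv.toAlgHom_apply]
  rw [h, σ2_com]

end Natural

section Levels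

variable {A : Type u} [CommRing A] [Algebra A₁ A]

theorem exists_level {X : Type u} [AddCommGroup X] [Module A₁ X] (s : Finset (A ⊗[A₁] X)) :
    ∃ B : Subalgebra A₁ A, B.FG ∧ ∀ y ∈ s, y ∈ LinearMap.range (LinearMap.rTensor X B.val.toLinearMap) := by
  classical
  induction s using Finset.induction_on with
  | empty => exact ⟨⊥, Subalgebra.fg_bot, fun y hy => absurd hy (Finset.notMem_empty y)⟩
  | insert y t _ ih =>
    obtain ⟨B, hB, ht⟩ := ih
    obtain ⟨B', hB', hy⟩ := TensorProduct.Algebra.exists_of_fg y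
    have key : ∀ (P : Subalgebra A₁ A) (h : P ≤ B ⊔ B'), LinearMap.range (LinearMap.rTensor X P.val.toLinearMap) ≤
        LinearMap.range (LinearMap.rTensor X (B ⊔ B').val.toLinearMap) := by
      intro P h
      rw [show P.val.toLinearMap = (B ⊔ B').val.toLinearMap ∘ₗ (Subalgebra.inclusion h).toLinearMap from rfl,
        LinearMap.rTensor_comp]
      exact LinearMap.range_comp_le_range _ _
    refine ⟨B ⊔ B', hB.sup hB', fun z hz => ?_⟩
    rcases Finset.mem_insert.1 hz with rfl | hz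
    · exact key B' le_sup_right hy
    · exact key B le_sup_left (ht z hz)

theorem exists_kill {X : Type u} [AddCommGroup X] [Module A₁ X] {B : Subalgebra A₁ A} (hB : B.FG)
    (s : Finset (B ⊗[A₁] X)) (hs : ∀ t ∈ s, LinearMap.rTensor X B.val.toLinearMap t = 0) :
    ∃ (B' : Subalgebra A₁ A) (h : B ≤ B'), B'.FG ∧
      ∀ t ∈ s, LinearMap.rTensor X (Subalgebra.inclusion h).toLinearMap t = 0 := by
  classical
  induction s using Finset.induction_on with
  | empty => exact ⟨B, le_rfl, hB, fun y hy => absurd hy (Finset.notMem_empty y)⟩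
  | insert y t _ ih =>
    obtain ⟨B₁, h₁, hB₁, ht⟩ := ih fun z hz => hs z (Finset.mem_insert_of_mem hz)
    obtain ⟨B₂, h₂, hB₂, hy⟩ := TensorProduct.Algebra.eq_of_fg_of_subtype_eq hB (t := y) (t' := 0)
      (by rw [hs y (Finset.mem_insert_self y t), map_zero])
    have key : ∀ (P : Subalgebra A₁ A) (hP : B ≤ P) (h : P ≤ B₁ ⊔ B₂) (z : B ⊗[A₁] X),
        LinearMap.rTensor X (Subalgebra.inclusion hP).toLinearMap z = 0 →
          LinearMap.rTensor X (Subalgebra.inclusion (hP.trans h)).toLinearMap z = 0 := by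
      intro P hP h z hz
      rw [show (Subalgebra.inclusion (hP.trans h)).toLinearMap =
        (Subalgebra.inclusion h).toLinearMap ∘ₗ (Subalgebra.inclusion hP).toLinearMap from rfl,
        LinearMap.rTensor_comp_apply, hz, map_zero]
    refine ⟨B₁ ⊔ B₂, h₁.trans le_sup_left, hB₁.sup hB₂, fun z hz => ?_⟩
    rcases Finset.mem_insert.1 hz with rfl | hz
    · exact key B₂ h₂ le_sup_right z (by rw [hy, map_zero])
    · exact key B₁ h₁ le_sup_left z (ht z hz)

end Levels

section Compare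

variable (B) in
/-- `T2` as a base change. -/
noncomputable def ψ2 : B ⊗[A₁] (C₁ ⊗[A₁] C₁) ≃ₗ[B] T2 (A₁ := A₁) B C₁ :=
  TensorProduct.AlgebraTensorModule.distribBaseChange A₁ B C₁ C₁

variable (B) in
/-- `T3` as a base change. -/
noncomputable def ψ3 : B ⊗[A₁] (C₁ ⊗[A₁] (C₁ ⊗[A₁] C₁)) ≃ₗ[B] T3 (A₁ := A₁) B C₁ :=
  (TensorProduct.AlgebraTensorModule.distribBaseChange A₁ B C₁ (C₁ ⊗[A₁] C₁)).trans
    (TensorProduct.congr (LinearEquiv.refl B _) (ψ2 B))

variable {B' : Type u} [CommRing B'] [Algebra A₁ B'] (κ : B →ₐ[A₁] B')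

theorem σ2_ψ2 (x : B ⊗[A₁] (C₁ ⊗[A₁] C₁)) :
    σ2 κ (ψ2 B x) = ψ2 B' (LinearMap.rTensor _ κ.toLinearMap x) := by
  induction x using TensorProduct.induction_on with
  | zero => simp
  | add a b ha hb => simp only [map_add, ha, hb]
  | tmul b y =>
    induction y using TensorProduct.induction_on with
    | zero => simp
    | add a b' ha hb => simp only [TensorProduct.tmul_add, map_add, ha, hb]
    | tmul c d => simp [ψ2, σ2_tmul, σ1_tmul]

theorem σ3_ψ3 (x : B ⊗[A₁] (C₁ ⊗[A₁] (C₁ ⊗[A₁] C₁))) :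
    σ3 κ (ψ3 B x) = ψ3 B' (LinearMap.rTensor _ κ.toLinearMap x) := by
  induction x using TensorProduct.induction_on with
  | zero => simp
  | add a b ha hb => simp only [map_add, ha, hb]
  | tmul b y =>
    induction y using TensorProduct.induction_on with
    | zero => simp
    | add a b' ha hb => simp only [TensorProduct.tmul_add, map_add, ha, hb]
    | tmul c z =>
      simp [ψ3, σ3_tmul, σ1_tmul]
      rw [σ2_ψ2]
      simp

theorem σ1_eq_rTensor (x : B ⊗[A₁] C₁) : σ1 κ x = LinearMap.rTensor C₁ κ.toLinearMap x := by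
  induction x using TensorProduct.induction_on with
  | zero => simp
  | add a b ha hb => simp only [map_add, ha, hb]
  | tmul b c => simp [σ1_tmul]

end Compare

end Groth.Agent.H87.HopfStage
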