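import Groth.Prelude.Def_CInt
import Groth.Prelude.Def_Red
import Mathlib.AlgebraicGeometry.Morphisms.Separated
import Mathlib.AlgebraicGeometry.Morphisms.Immersion
import Mathlib.AlgebraicGeometry.PullbackCarrier

set_option autoImplicit false
universe u
open CategoryTheory MonoidalCategory CartesianMonoidalCategory MonObj GrpObj AlgebraicGeometry CategoryTheory.Limits

namespace Groth.Agent.H87.SchDense

theorem dense_of_schDense {X : Scheme.{u}} {U : X.Opens} (h : CInt.IsSchematicallyDense U) :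
    Dense (U : Set X) := by
  rw [dense_iff_inter_open]
  intro W hW hne
  by_contra hc
  rw [Set.not_nonempty_iff_eq_empty] at hc
  obtain ⟨x, hx⟩ := hne
  let W' : X.Opens := ⟨W, hW⟩
  have he : W' ⊓ U = ⊥ := TopologicalSpace.Opens.ext hc
  have : Subsingleton Γ(X, W' ⊓ U) := by rw [he]; infer_instance
  have h10 : (1 : Γ(X, W')) = 0 := h W' (Subsingleton.elim _ _)
  have := congr(X.presheaf.germ W' x hx $h10)
  simp at this

theorem eq_of_base_eq {X Y : Scheme.{u}} (U : X.Opens) (hU : CInt.IsSchematicallyDense U)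
    (f g : X ⟶ Y) (hb : f.base = g.base) (h : U.ι ≫ f = U.ι ≫ g) : f = g := by
  let 𝒱 := {V : Y.Opens // IsAffineOpen V}
  have hcov : ∀ x : X, ∃ W : X.Opens, x ∈ W ∧ W.ι ≫ f = W.ι ≫ g := by
    intro x
    obtain ⟨V, hV, hxV, -⟩ := exists_isAffineOpen_mem_and_subset (X := Y) (x := f.base x) (U := ⊤) trivial
    let W := f ⁻¹ᵁ V
    have e : W ≤ g ⁻¹ᵁ V := by
      intro a ha
      show g.base a ∈ V
      rw [← hb]
      exact ha
    refine ⟨W, hxV, ?_⟩
    have key : f.appLE V W le_rfl = g.appLE V W e := by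
      have gen : ∀ {Z : Scheme.{u}} (φ ψ : Z ⟶ Y) (O : Z.Opens) (h1 : O ≤ φ ⁻¹ᵁ V) (h2 : O ≤ ψ ⁻¹ᵁ V),
          φ = ψ → φ.appLE V O h1 = ψ.appLE V O h2 := by
        intro Z φ ψ O h1 h2 he; subst he; rfl
      have inj : ∀ (O : X.Opens) (i : O ≤ W), O = W ⊓ U →
          Function.Injective (X.presheaf.map (homOfLE i).op) := by
        intro O i he; subst he; exact hU W
      have hι : Function.Injective (U.ι.app W) := by
        rw [Scheme.Opens.ι_app]
        refine inj _ _ ?_
        rw [Scheme.Hom.image_preimage_eq_opensRange_inf, Scheme.Opens.opensRange_ι, inf_comm]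
      have hc : f.appLE V W le_rfl ≫ U.ι.appLE W (U.ι ⁻¹ᵁ W) le_rfl =
          g.appLE V W e ≫ U.ι.appLE W (U.ι ⁻¹ᵁ W) le_rfl := by
        rw [Scheme.Hom.appLE_comp_appLE, Scheme.Hom.appLE_comp_appLE]
        exact gen _ _ _ _ _ h
      ext a
      apply hι
      rw [← Scheme.Hom.appLE_eq_app]
      exact congr($hc a)
    have : f.resLE V W le_rfl = g.resLE V W e := by
      have : IsAffine (V : Scheme) := hV
      apply ext_of_isAffine
      show (f.resLE V W le_rfl).app ⊤ = (g.resLE V W e).app ⊤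
      rw [Scheme.Hom.resLE_app_top, Scheme.Hom.resLE_app_top]
      rw [key]
    rw [← Scheme.Hom.resLE_comp_ι f (le_rfl : W ≤ f ⁻¹ᵁ V), this, Scheme.Hom.resLE_comp_ι]
  choose W hxW hW using hcov
  refine Scheme.Cover.hom_ext (X.openCoverOfIsOpenCover W ?_) _ _ hW
  exact TopologicalSpace.IsOpenCover.mk (eq_top_iff.mpr fun x _ => TopologicalSpace.Opens.mem_iSup.mpr ⟨x, hxW x⟩)

theorem base_eq_of_separated {S : Scheme.{u}} {X Y : Over S} [IsSeparated Y.hom] (U : X.left.Opens)
    (hU : Dense (U : Set X.left)) (f g : X ⟶ Y) (h : U.ι ≫ f.left = U.ι ≫ g.left) :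
    f.left.base = g.left.base := by
  let jU : Over.mk (U.ι ≫ X.hom) ⟶ X := Over.homMk U.ι
  have hj : jU ≫ f = jU ≫ g := by
    apply Over.OverMorphism.ext
    exact h
  let e := equalizer.ι f g
  have hsub : (U : Set X.left) ⊆ Set.range e.left.base := by
    intro x hx
    refine ⟨(equalizer.lift jU hj).left.base ⟨x, hx⟩, ?_⟩
    have := congr(($(equalizer.lift_ι jU hj)).left.base ⟨x, hx⟩)
    exact this
  have : IsClosedImmersion e.left := inferInstance
  have hall : Set.range e.left.base = Set.univ :=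
    Set.eq_univ_of_univ_subset (hU.closure_eq ▸ closure_minimal hsub e.left.isClosedEmbedding.isClosed_range)
  ext x
  obtain ⟨y, rfl⟩ : x ∈ Set.range e.left.base := hall ▸ Set.mem_univ x
  exact congr(($(equalizer.condition f g)).left.base y)

theorem preimage_dense_of_hU {S : Scheme.{u}} {X : Over S} (U : X.left.Opens)
    (hU : ∀ (S' : Scheme.{u}) (g : S' ⟶ S), CInt.IsSchematicallyDense ((pullback.fst X.hom g) ⁻¹ᵁ U)) :
    CInt.IsSchematicallyDense U := by
  have h0 := hU S (𝟙 S)
  set p := pullback.fst X.hom (𝟙 S)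
  intro V
  have h1 := h0 (p ⁻¹ᵁ V)
  intro a b hab
  have hp : Function.Injective (p.app V) :=
    ((ConcreteCategory.isIso_iff_bijective (p.app V)).mp inferInstance).1
  apply hp
  apply h1
  have := congr(p.app (V ⊓ U) $hab)
  rw [← CommRingCat.comp_apply, ← CommRingCat.comp_apply, Scheme.Hom.naturality] at this
  exact this

theorem isClosedImmersion_section {k : Type u} [Field k] {X : Scheme.{u}} (p : X ⟶ Spec (CommRingCat.of k))
    (σ : Spec (CommRingCat.of k) ⟶ X) (h : σ ≫ p = 𝟙 _) : IsClosedImmersion σ := by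
  have : IsImmersion (σ ≫ p) := by rw [h]; infer_instance
  have : IsImmersion σ := IsImmersion.of_comp σ p
  refine IsClosedImmersion.of_isPreimmersion _ ?_
  rw [← isOpen_compl_iff, isOpen_iff_forall_mem_open]
  intro y hy
  obtain ⟨V, hV, hyV, -⟩ := exists_isAffineOpen_mem_and_subset (X := X) (x := y) (U := ⊤) trivial
  by_cases hc : Set.range σ.base ⊆ (V : Set X)
  · have : IsAffine (V : Scheme) := hV
    let σ' := IsOpenImmersion.lift V.ι σ (by rwa [Scheme.Opens.range_ι])
    have : IsClosedImmersion (σ' ≫ (V.ι ≫ p)) := by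
      rw [← Category.assoc, IsOpenImmersion.lift_fac, h]; infer_instance
    have : IsAffineHom (V.ι ≫ p) := isAffineHom_of_isAffine _
    have : IsClosedImmersion σ' := IsClosedImmersion.of_comp σ' (V.ι ≫ p)
    refine ⟨V.ι.base '' (Set.range σ'.base)ᶜ, ?_, V.ι.isOpenEmbedding.isOpenMap _
      σ'.isClosedEmbedding.isClosed_range.isOpen_compl, ?_⟩
    · rintro _ ⟨v, hv, rfl⟩ ⟨q, hq⟩
      refine hv ⟨q, V.ι.isOpenEmbedding.injective ?_⟩
      rw [← hq]
      exact congr(($(IsOpenImmersion.lift_fac V.ι σ _)).base q)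
    · refine ⟨⟨y, hyV⟩, fun ⟨q, hq⟩ => hy ⟨q, ?_⟩, rfl⟩
      have := congr(V.ι.base $hq)
      rw [← congr(($(IsOpenImmersion.lift_fac V.ι σ _)).base q)]
      exact this
  · refine ⟨V, ?_, V.2, hyV⟩
    rintro z hz ⟨q, rfl⟩
    refine hc ?_
    rintro _ ⟨q', rfl⟩
    have : Subsingleton ↥(Spec (CommRingCat.of k)) := inferInstanceAs (Subsingleton (PrimeSpectrum k))
    rwa [Subsingleton.elim q' q]

theorem isSeparated_of_isClosedImmersion_one {S : Scheme.{u}} (G : Over S) [GrpObj G]
    [IsClosedImmersion η[G].left] : IsSeparated G.hom := by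
  have hpb : IsPullback (lift (𝟙 G) (𝟙 G)) (toUnit G) (fst G G * (snd G G)⁻¹) η[G] := by
    have hone : ∀ {X : Over S} (t : X ⟶ 𝟙_ (Over S)), t ≫ η[G] = 1 := fun t => by
      rw [Hom.one_def, toUnit_unique t (toUnit _)]
    refine IsPullback.of_isLimit' ⟨?_⟩ ?_
    · rw [hone, comp_mul, comp_inv, lift_fst, lift_snd, mul_inv_cancel]
    · refine PullbackCone.IsLimit.mk _ (fun s => s.fst ≫ fst G G) (fun s => ?_)
        (fun s => toUnit_unique _ _) (fun s m hm _ => ?_)
      · have h := s.condition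
        rw [hone, comp_mul, comp_inv, mul_inv_eq_one] at h
        apply CartesianMonoidalCategory.hom_ext
        · simp [comp_lift]
        · simp [comp_lift, h]
      · rw [← hm]
        simp [comp_lift]
  have h1 : IsPullback (lift (𝟙 G) (𝟙 G)).left (toUnit G).left (fst G G * (snd G G)⁻¹).left η[G].left :=
    hpb.map (Over.forget S)
  have h2 : IsClosedImmersion (lift (𝟙 G) (𝟙 G)).left :=
    MorphismProperty.of_isPullback (P := @IsClosedImmersion) h1.flip ‹_›
  refine ⟨?_⟩
  have : (lift (𝟙 G) (𝟙 G)).left = pullback.diagonal G.hom := by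
    apply pullback.hom_ext
    · rw [pullback.diagonal_fst]
      exact congr(($(lift_fst (𝟙 G) (𝟙 G))).left)
    · rw [pullback.diagonal_snd]
      exact congr(($(lift_snd (𝟙 G) (𝟙 G))).left)
  rwa [← this]

theorem isSeparated_over_field {k : Type u} [Field k] (G : Over (Spec (CommRingCat.of k))) [GrpObj G] :
    IsSeparated G.hom := by
  have : IsClosedImmersion η[G].left := isClosedImmersion_section G.hom η[G].left (Over.w η[G])
  exact isSeparated_of_isClosedImmersion_one G

theorem eq_of_eqOn {S : Scheme.{u}} {X Y : Over S} (U : X.left.Opens)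
    (hU : ∀ (S' : Scheme.{u}) (g : S' ⟶ S), CInt.IsSchematicallyDense ((pullback.fst X.hom g) ⁻¹ᵁ U))
    (hY : ∀ s : S, IsSeparated (pullback.snd Y.hom (S.fromSpecResidueField s)))
    (f g : X ⟶ Y) (h : U.ι ≫ f.left = U.ι ≫ g.left) : f = g := by
  apply Over.OverMorphism.ext
  refine eq_of_base_eq U (preimage_dense_of_hU U hU) _ _ ?_ h
  ext x
  let s := X.hom.base x
  let F := Over.pullback (S.fromSpecResidueField s)
  have : IsSeparated (F.obj Y).hom := hY s
  let p : (F.obj X).left ⟶ X.left := pullback.fst X.hom (S.fromSpecResidueField s)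
  have hfst : ∀ a : X ⟶ Y, (F.map a).left ≫ pullback.fst Y.hom (S.fromSpecResidueField s) = p ≫ a.left :=
    fun a => pullback.lift_fst _ _ _
  have hb := base_eq_of_separated (X := F.obj X) (Y := F.obj Y) (p ⁻¹ᵁ U)
    (dense_of_schDense (hU _ _)) (F.map f) (F.map g) (by
      apply pullback.hom_ext
      · erw [Category.assoc, Category.assoc, hfst f, hfst g]
        exact (morphismRestrict_ι_assoc p U f.left).symm.trans
          ((congrArg ((p ∣_ U) ≫ ·) h).trans (morphismRestrict_ι_assoc p U g.left))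
      · erw [Category.assoc, Category.assoc, pullback.lift_snd, pullback.lift_snd])
  obtain ⟨x', hx'⟩ : ∃ x', p.base x' = x := by
    have : x ∈ Set.range p.base := by
      erw [Scheme.Pullback.range_fst, Scheme.range_fromSpecResidueField]
      rfl
    exact this
  rw [← hx']
  have h1 := congr(($(hfst f)).base x')
  have h2 := congr(($(hfst g)).base x')
  simp only [Scheme.Hom.comp_base, TopCat.comp_app] at h1 h2 ⊢
  rw [← h1, ← h2, hb]

end Groth.Agent.H87.SchDense
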