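import Groth.Agent.H87.SplitHom
import Groth.Agent.H87.Charts
import Groth.Agent.Lib.DescAlg.Descends
import Groth.Prelude.Def_RedSub
import Groth.Prelude.Def_Red2

/-!
# The group of automorphisms induced by the normalizer of a subgroup of multiplicative type

For a subgroup of multiplicative type `H` the scheme `Hom(H, H)` is étale and separated; the normalizer maps
smoothly to pairs of endomorphisms, and the open image is the quotient by the centralizer.
-/

set_option autoImplicit false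
set_option linter.style.haveILetI false
universe u

open CategoryTheory MonoidalCategory CartesianMonoidalCategory MonObj GrpObj AlgebraicGeometry
open CategoryTheory.Limits
open SGA3x

namespace Groth.Agent.H87.AutMult

variable {S : Scheme.{u}}

/-- Homomorphisms between groups of multiplicative type and finite type form an étale separated scheme. -/
theorem exists_homRep (G H : Over S) [GrpObj G] [GrpObj H] (hG : SGA3x.IsMultTypeFT G) (hH : SGA3x.IsMultTypeFT H) :
    ∃ (A : Over S) (υ : G ⊗ A ⟶ H), AutFam.RepresentsHom G H A υ ∧ Etale A.hom ∧ IsSeparated A.hom := by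
  classical
  obtain ⟨S', f, hf, hs, hc, hloc⟩ := Charts.exists_common_charts hG hH
  choose U hU M N iM iN hMfg hNfg eM eN using hloc
  let X : S' → Scheme.{u} := fun s => (U s : Scheme.{u})
  let g : ∀ s, X s ⟶ S := fun s => (U s).ι ≫ f
  have hcov : Presieve.ofArrows X g ∈ Scheme.fpqcPrecoverage S :=
    HomFam.mem_fpqc f hc U fun x => ⟨x, hU x⟩
  have hV := fun s => @HomFam.exists_reps_const (X s) (M s) (N s) _ _ (hNfg s)
  choose V hV using hV
  let A : ∀ s, Over (X s) := fun s => TwC.const (X s) (N s →+ M s)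
  obtain ⟨R, W, hR, hpc⟩ := HomFam.exists_reps_of_indQA g hcov A _
    (fun s => HomFam.repsOn_of_charts (g s) (A s) (eM s).some (eN s).some (V s) (hV s))
    (fun s => HomFam.indQA_const _ _)
  exact ⟨R, W.toMor, HomFam.representsHom R W hR,
    HomFam.prop_of_pieces g hcov @Etale inferInstance R A hpc fun s => HomFam.etale_const _ _,
    HomFam.prop_of_pieces g hcov @IsSeparated
      Groth.Agent.Lib.DescAlg.Descends.descends_isSeparated R A hpc fun s => HomFam.isSeparated_const _ _⟩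

/-- Morphisms from a smooth scheme to an étale separated one are smooth. -/
theorem smooth_of_etale {X Y : Scheme.{u}} (f : X ⟶ Y) (p : Y ⟶ S) [Etale p] [Smooth (f ≫ p)] : Smooth f := by
  let γ : X ⟶ pullback (f ≫ p) p := pullback.lift (𝟙 X) f (Category.id_comp _)
  haveI : Etale γ := by
    have h : γ ≫ pullback.fst _ _ = 𝟙 X := pullback.lift_fst _ _ _
    have : Etale (γ ≫ pullback.fst (f ≫ p) p) := by rw [h]; infer_instance
    exact MorphismProperty.of_postcomp (W := @Etale) (W' := @Etale) γ (pullback.fst (f ≫ p) p) inferInstance this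
  have h : γ ≫ pullback.snd _ _ = f := pullback.lift_snd _ _ _
  rw [← h]
  infer_instance

variable {H G Z N : Over S} [GrpObj H] [GrpObj G] [GrpObj Z] [GrpObj N]

/-- **The quotient of the normalizer by the centralizer.** -/
theorem exists_weyl (hH : SGA3x.IsMultTypeFT H) (i : H ⟶ G) [IsMonHom i] [Mono i]
    (j : Z ⟶ G) (k : N ⟶ G) (hj : Red.IsCentralizerOf i j) (hk : Red.IsNormalizerOf i k)
    (f : Z ⟶ N) [IsMonHom f] (hf : f ≫ k = j) [Smooth N.hom] [QuasiCompact N.hom] :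
    ∃ (W : Over S) (_ : GrpObj W) (q : N ⟶ W) (_ : IsMonHom q), RedSub.IsQuotient f q ∧
      IsSeparated W.hom ∧ Etale W.hom ∧ QuasiCompact W.hom := by
  obtain ⟨hkm, hkmono, hkspec⟩ := hk
  obtain ⟨hjm, hjmono, hjspec⟩ := hj
  obtain ⟨A, υ, hυ, hAet, hAsep⟩ := exists_homRep H H hH hH
  -- conjugation
  obtain ⟨φ, hφ⟩ : ∃ φ : H ⊗ N ⟶ H,
      (snd H N ≫ k) * (fst H N ≫ i) * (snd H N ≫ k)⁻¹ = φ ≫ i :=
    ((hkspec N k).mp ⟨𝟙 N, Category.id_comp k⟩ (H ⊗ N) (snd H N) (fst H N)).1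
  have hφp : ∀ {X : Over S} (h : X ⟶ H) (n : X ⟶ N),
      lift h n ≫ φ ≫ i = (n ≫ k) * (h ≫ i) * (n ≫ k)⁻¹ := fun h n => by
    rw [← hφ, MonObj.comp_mul, MonObj.comp_mul, GrpObj.comp_inv, lift_fst_assoc, lift_snd_assoc]
  have hfam : AutFam.IsHomFamily H H φ := fun X g g' n => by
    rw [← cancel_mono i, MonObj.mul_comp, Category.assoc, Category.assoc, Category.assoc, hφp, hφp, hφp,
      MonObj.mul_comp]
    group
  let φ' : H ⊗ N ⟶ H := lift (fst H N) (snd H N)⁻¹ ≫ φ
  have hφ'p : ∀ {X : Over S} (h : X ⟶ H) (n : X ⟶ N), lift h n ≫ φ' = lift h n⁻¹ ≫ φ := fun h n => by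
    show lift h n ≫ lift (fst H N) (snd H N)⁻¹ ≫ φ = _
    rw [← Category.assoc, comp_lift, lift_fst, GrpObj.comp_inv, lift_snd]
  have hfam' : AutFam.IsHomFamily H H φ' := fun X g g' n => by rw [hφ'p, hφ'p, hφ'p]; exact hfam X g g' n⁻¹
  obtain ⟨c, hc, -⟩ := hυ.2 N φ hfam
  obtain ⟨c', hc', -⟩ := hυ.2 N φ' hfam'
  have ev : ∀ {T X : Over S} (a : T ⟶ A) (h : X ⟶ H) (x : X ⟶ T),
      lift h x ≫ (H ◁ a) ≫ υ = lift h (x ≫ a) ≫ υ := fun a h x => by
    rw [← Category.assoc, lift_whiskerLeft]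
  have hcp : ∀ {X : Over S} (h : X ⟶ H) (n : X ⟶ N), lift h (n ≫ c) ≫ υ = lift h n ≫ φ := fun h n => by
    rw [← ev, hc]
  have hc'p : ∀ {X : Over S} (h : X ⟶ H) (n : X ⟶ N), lift h (n ≫ c') ≫ υ = lift h n⁻¹ ≫ φ := fun h n => by
    rw [← ev, hc', hφ'p]
  have hAext : ∀ {X : Over S} (a b : X ⟶ A),
      (∀ (X' : Over S) (x : X' ⟶ X) (h : X' ⟶ H), lift h (x ≫ a) ≫ υ = lift h (x ≫ b) ≫ υ) → a = b := by
    intro X a b hab
    have hfa : AutFam.IsHomFamily H H ((H ◁ a) ≫ υ) := fun Y g g' t => by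
      rw [ev, ev, ev]
      exact hυ.1 Y g g' (t ≫ a)
    refine (hυ.2 X _ hfa).unique rfl ?_
    have := hab (H ⊗ X) (snd H X) (fst H X)
    rw [← ev, ← ev] at this
    rw [lift_fst_snd, Category.id_comp, Category.id_comp] at this
    exact this.symm
  -- composition
  obtain ⟨comp, hcomp, -⟩ := hυ.2 (A ⊗ A)
    (lift (lift (fst H (A ⊗ A)) (snd H (A ⊗ A) ≫ snd A A) ≫ υ) (snd H (A ⊗ A) ≫ fst A A) ≫ υ)
    (fun X g g' a => by
      simp only [← Category.assoc, comp_lift, lift_fst, lift_snd]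
      rw [hυ.1 X g g', hυ.1 X]
      )
  have hcompp : ∀ {X : Over S} (h : X ⟶ H) (a b : X ⟶ A),
      lift h (lift a b ≫ comp) ≫ υ = lift (lift h b ≫ υ) a ≫ υ := fun h a b => by
    rw [← ev, hcomp, ← Category.assoc]
    simp only [comp_lift, lift_fst, lift_snd, ← Category.assoc]
  have hcc : ∀ {X : Over S} (n m : X ⟶ N), lift (n ≫ c) (m ≫ c) ≫ comp = (n * m) ≫ c := fun {X} n m =>
    hAext _ _ fun X' x h => by
      rw [← Category.assoc, comp_lift, hcompp, ← Category.assoc x n, ← Category.assoc x m, ← Category.assoc x (n * m),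
        hcp, hcp, hcp, ← cancel_mono i]
      simp only [Category.assoc, hφp, MonObj.comp_mul, MonObj.mul_comp]
      group
  have hcc' : ∀ {X : Over S} (n m : X ⟶ N), lift (m ≫ c') (n ≫ c') ≫ comp = (n * m) ≫ c' := fun {X} n m =>
    hAext _ _ fun X' x h => by
      rw [← Category.assoc, comp_lift, hcompp, ← Category.assoc x n, ← Category.assoc x m, ← Category.assoc x (n * m),
        hc'p, hc'p, hc'p, ← cancel_mono i]
      simp only [Category.assoc, hφp, MonObj.comp_mul, GrpObj.inv_comp, GrpObj.comp_inv, MonObj.mul_comp]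
      group
  -- the map to pairs
  let E : Over S := A ⊗ A
  haveI : Etale E.hom := inferInstanceAs (Etale (pullback.fst A.hom A.hom ≫ A.hom))
  haveI : IsSeparated E.hom := inferInstanceAs (IsSeparated (pullback.fst A.hom A.hom ≫ A.hom))
  let q₀ : N ⟶ E := lift c c'
  haveI hq₀ : Smooth q₀.left := by
    haveI : Smooth (q₀.left ≫ E.hom) := by rw [Over.w]; infer_instance
    exact smooth_of_etale q₀.left E.hom
  let O : E.left.Opens := ⟨Set.range q₀.left, q₀.left.isOpenMap.isOpen_range⟩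
  let W : Over S := Over.mk (O.ι ≫ E.hom)
  let ιW : W ⟶ E := Over.homMk O.ι rfl
  haveI : Mono ιW := Over.mono_of_mono_left _
  haveI : Etale W.hom := inferInstanceAs (Etale (O.ι ≫ E.hom))
  haveI : IsSeparated W.hom := inferInstanceAs (IsSeparated (O.ι ≫ E.hom))
  let l : N.left ⟶ (O : Scheme.{u}) := IsOpenImmersion.lift O.ι q₀.left (by rw [Scheme.Opens.range_ι]; exact subset_rfl)
  have hl : l ≫ O.ι = q₀.left := IsOpenImmersion.lift_fac _ _ _
  let q : N ⟶ W := Over.homMk l (by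
    show l ≫ O.ι ≫ E.hom = N.hom
    rw [← Category.assoc, hl, Over.w])
  have hq : q ≫ ιW = q₀ := Over.OverMorphism.ext hl
  haveI hqs : Surjective q.left := ⟨fun w => by
    obtain ⟨x, hx⟩ := w.2
    exact ⟨x, O.ι.isOpenEmbedding.injective ((Scheme.Hom.comp_apply _ _ _).symm.trans
      ((congr($(hl) x)).trans hx))⟩⟩
  haveI hqsm : Smooth q.left := by
    haveI : Smooth (q.left ≫ W.hom) := by rw [Over.w]; infer_instance
    exact smooth_of_etale q.left W.hom
  haveI : QuasiCompact q.left := by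
    haveI : QuasiCompact (q.left ≫ W.hom) := by rw [Over.w]; infer_instance
    exact QuasiCompact.of_comp q.left W.hom
  haveI : Epi q := Over.epi_of_epi_left q
  have epi2 : ∀ {X Y X' Y' : Over S} (a : X ⟶ X') (b : Y ⟶ Y') [Surjective a.left] [Smooth a.left] [QuasiCompact a.left]
      [Surjective b.left] [Smooth b.left] [QuasiCompact b.left],
      Surjective (a ⊗ₘ b).left ∧ Smooth (a ⊗ₘ b).left ∧ QuasiCompact (a ⊗ₘ b).left := by
    intro X Y X' Y' a b _ _ _ _ _ _
    rw [Over.tensorHom_left]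
    exact ⟨MorphismProperty.pullbackMap (P := @Surjective) ‹Surjective a.left› ‹Surjective b.left› (Over.w a).symm (Over.w b).symm,
      MorphismProperty.pullbackMap (P := @Smooth) ‹Smooth a.left› ‹Smooth b.left› (Over.w a).symm (Over.w b).symm,
      MorphismProperty.pullbackMap (P := @QuasiCompact) ‹QuasiCompact a.left› ‹QuasiCompact b.left› (Over.w a).symm (Over.w b).symm⟩
  obtain ⟨h2s, h2m, h2q⟩ := epi2 q q
  haveI := h2s; haveI := h2m; haveI := h2q
  haveI : Epi (q ⊗ₘ q) := Over.epi_of_epi_left _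
  obtain ⟨h3s, h3m, h3q⟩ := epi2 (q ⊗ₘ q) q
  haveI := h3s; haveI := h3m; haveI := h3q
  haveI : Epi ((q ⊗ₘ q) ⊗ₘ q) := Over.epi_of_epi_left _
  -- factorisation through the image
  have hfac : ∀ {P Q : Over S} (p : P ⟶ Q) [Surjective p.left] (F : Q ⟶ E) (r : P ⟶ N),
      p ≫ F = r ≫ q₀ → ∃ F' : Q ⟶ W, F' ≫ ιW = F := by
    intro P Q p _ F r h
    have hr : Set.range F.left ⊆ Set.range O.ι := by
      rw [Scheme.Opens.range_ι]
      rintro _ ⟨y, rfl⟩
      obtain ⟨x, rfl⟩ := p.left.surjective y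
      exact ⟨r.left x, (Scheme.Hom.comp_apply _ _ _).symm.trans
        ((congr(($h).left x)).symm.trans (Scheme.Hom.comp_apply _ _ _))⟩
    exact ⟨Over.homMk (IsOpenImmersion.lift O.ι F.left hr) (by
      show _ ≫ O.ι ≫ E.hom = _
      rw [← Category.assoc, IsOpenImmersion.lift_fac, Over.w]),
      Over.OverMorphism.ext (IsOpenImmersion.lift_fac _ _ _)⟩
  let m₀ : E ⊗ E ⟶ E := lift (lift (fst E E ≫ fst A A) (snd E E ≫ fst A A) ≫ comp)
    (lift (snd E E ≫ snd A A) (fst E E ≫ snd A A) ≫ comp)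
  have hm₀ : ∀ {X : Over S} (n m : X ⟶ N), lift (n ≫ q₀) (m ≫ q₀) ≫ m₀ = (n * m) ≫ q₀ := fun n m => by
    simp only [m₀, q₀, comp_lift, lift_fst, lift_snd, ← Category.assoc, lift_fst_assoc, lift_snd_assoc]
    simp only [Category.assoc, lift_fst, lift_snd, hcc, hcc']
  have hm₀' : (q ⊗ₘ q) ≫ ((ιW ⊗ₘ ιW) ≫ m₀) = μ[N] ≫ q₀ := by
    rw [← Category.assoc, tensorHom_comp_tensorHom, hq]
    calc (q₀ ⊗ₘ q₀) ≫ m₀ = lift (fst N N ≫ q₀) (snd N N ≫ q₀) ≫ m₀ := by
          congr 1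
      _ = (fst N N * snd N N) ≫ q₀ := hm₀ _ _
      _ = μ[N] ≫ q₀ := by rw [MonObj.mul_eq_mul]
  obtain ⟨mW, hmW⟩ := hfac (q ⊗ₘ q) _ μ[N] hm₀'
  have hmul : (q ⊗ₘ q) ≫ mW = μ[N] ≫ q := by
    rw [← cancel_mono ιW, Category.assoc, hmW, hm₀', Category.assoc, hq]
  let s₀ : E ⟶ E := lift (snd A A) (fst A A)
  have hs₀ : q ≫ ιW ≫ s₀ = ι[N] ≫ q₀ := by
    rw [← Category.assoc, hq]
    apply CartesianMonoidalCategory.hom_ext
    · simp only [s₀, q₀, Category.assoc, lift_fst, lift_snd]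
      refine hAext _ _ fun X' x h => ?_
      rw [hc'p, ← Category.assoc, hcp, GrpObj.inv_eq_inv, GrpObj.comp_inv, Category.comp_id]
    · simp only [s₀, q₀, Category.assoc, lift_fst, lift_snd]
      refine hAext _ _ fun X' x h => ?_
      rw [hcp, ← Category.assoc, hc'p, GrpObj.inv_eq_inv, GrpObj.comp_inv, Category.comp_id, _root_.inv_inv]
  obtain ⟨iW, hiW⟩ := hfac q (ιW ≫ s₀) ι[N] hs₀
  have hinv : q ≫ iW = ι[N] ≫ q := by
    rw [← cancel_mono ιW, Category.assoc, hiW, hs₀, Category.assoc, hq]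
  letI : MonObj W :=
    { one := η[N] ≫ q
      mul := mW
      one_mul := by
        haveI : Epi (𝟙_ (Over S) ◁ q) := by
          rw [show 𝟙_ (Over S) ◁ q = (λ_ N).hom ≫ q ≫ (λ_ W).inv by simp]
          infer_instance
        rw [← cancel_epi (𝟙_ (Over S) ◁ q), leftUnitor_naturality, ← Category.assoc, ← id_tensorHom,
          ← tensorHom_id, tensorHom_comp_tensorHom, Category.id_comp, Category.comp_id,
          show (η[N] ≫ q) ⊗ₘ q = (η[N] ▷ N) ≫ (q ⊗ₘ q) by
            rw [← tensorHom_id, tensorHom_comp_tensorHom, Category.id_comp],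
          Category.assoc, hmul, ← Category.assoc, MonObj.one_mul]
      mul_one := by
        haveI : Epi (q ▷ 𝟙_ (Over S)) := by
          rw [show q ▷ 𝟙_ (Over S) = (ρ_ N).hom ≫ q ≫ (ρ_ W).inv by simp]
          infer_instance
        rw [← cancel_epi (q ▷ 𝟙_ (Over S)), rightUnitor_naturality, ← Category.assoc, ← id_tensorHom,
          ← tensorHom_id, tensorHom_comp_tensorHom, Category.id_comp, Category.comp_id,
          show q ⊗ₘ (η[N] ≫ q) = (N ◁ η[N]) ≫ (q ⊗ₘ q) by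
            rw [← id_tensorHom, tensorHom_comp_tensorHom, Category.id_comp],
          Category.assoc, hmul, ← Category.assoc, MonObj.mul_one]
      mul_assoc := by
        rw [← cancel_epi ((q ⊗ₘ q) ⊗ₘ q)]
        have e1 : ((q ⊗ₘ q) ⊗ₘ q) ≫ (mW ▷ W) = (μ[N] ▷ N) ≫ (q ⊗ₘ q) := by
          rw [← tensorHom_id, ← tensorHom_id, tensorHom_comp_tensorHom, tensorHom_comp_tensorHom, hmul,
            Category.comp_id, Category.id_comp]
        have e2 : (q ⊗ₘ (q ⊗ₘ q)) ≫ (W ◁ mW) = (N ◁ μ[N]) ≫ (q ⊗ₘ q) := by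
          rw [← id_tensorHom, ← id_tensorHom, tensorHom_comp_tensorHom, tensorHom_comp_tensorHom, hmul,
            Category.comp_id, Category.id_comp]
        rw [reassoc_of% e1, associator_naturality_assoc, reassoc_of% e2, hmul, MonObj.mul_assoc_assoc] }
  have hone : (η[W] : 𝟙_ (Over S) ⟶ W) = η[N] ≫ q := rfl
  haveI : IsMonHom q := ⟨hone.symm, hmul.symm⟩
  letI : GrpObj W :=
    { inv := iW
      left_inv := by
        rw [← cancel_epi q, ← Category.assoc, comp_lift, Category.comp_id, hinv,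
          show lift (ι[N] ≫ q) q = lift ι[N] (𝟙 N) ≫ (q ⊗ₘ q) by rw [lift_map, Category.id_comp],
          Category.assoc]
        show _ ≫ (q ⊗ₘ q) ≫ mW = _
        rw [hmul, GrpObj.left_inv_assoc, ← Category.assoc q, comp_toUnit]
        rfl
      right_inv := by
        rw [← cancel_epi q, ← Category.assoc, comp_lift, Category.comp_id, hinv,
          show lift q (ι[N] ≫ q) = lift (𝟙 N) ι[N] ≫ (q ⊗ₘ q) by rw [lift_map, Category.id_comp],
          Category.assoc]
        show _ ≫ (q ⊗ₘ q) ≫ mW = _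
        rw [hmul, GrpObj.right_inv_assoc, ← Category.assoc q, comp_toUnit]
        rfl }
  have hmono : Mono f := by
    haveI : Mono (f ≫ k) := by rw [hf]; exact hjmono
    exact mono_of_mono f k
  have hcent : ∀ {X : Over S} (n m : X ⟶ N), n ≫ q₀ = m ≫ q₀ ↔ ∃ z : X ⟶ Z, z ≫ f = n⁻¹ * m := by
    intro X n m
    constructor
    · intro h
      have h1 : n ≫ c = m ≫ c := by simpa [q₀] using congrArg (· ≫ fst A A) h
      obtain ⟨z, hz⟩ := (hjspec X ((n⁻¹ * m) ≫ k)).mpr fun X' x h' => by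
        have h2 := congrArg (fun a => (lift h' (x ≫ a) ≫ υ) ≫ i) h1
        rw [← Category.assoc x n, ← Category.assoc x m, hcp, hcp] at h2
        simp only [Category.assoc, hφp] at h2
        rw [MonObj.mul_comp, GrpObj.inv_comp, MonObj.comp_mul, GrpObj.comp_inv]
        calc (x ≫ n ≫ k)⁻¹ * (x ≫ m ≫ k) * (h' ≫ i)
            = (x ≫ n ≫ k)⁻¹ * ((x ≫ m ≫ k) * (h' ≫ i) * (x ≫ m ≫ k)⁻¹) * (x ≫ m ≫ k) := by group
          _ = (h' ≫ i) * ((x ≫ n ≫ k)⁻¹ * (x ≫ m ≫ k)) := by rw [← h2]; group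
      exact ⟨z, by rw [← cancel_mono k, Category.assoc, hf, hz]⟩
    · rintro ⟨z, hz⟩
      have hm : m = n * (z ≫ f) := by rw [hz]; group
      have hcomm : ∀ (X' : Over S) (x : X' ⟶ X) (h' : X' ⟶ H),
          (x ≫ z ≫ f ≫ k) * (h' ≫ i) = (h' ≫ i) * (x ≫ z ≫ f ≫ k) := fun X' x h' =>
        (hjspec X (z ≫ f ≫ k)).mp ⟨z, by rw [hf]⟩ X' x h'
      rw [hm]
      simp only [q₀, comp_lift]
      apply CartesianMonoidalCategory.hom_ext
      · simp only [lift_fst]
        refine hAext _ _ fun X' x h' => ?_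
        rw [← Category.assoc, ← Category.assoc, hcp, hcp, ← cancel_mono i]
        simp only [Category.assoc, hφp, MonObj.comp_mul, MonObj.mul_comp]
        rw [show (x ≫ n ≫ k) * (x ≫ z ≫ f ≫ k) * (h' ≫ i) * ((x ≫ n ≫ k) * (x ≫ z ≫ f ≫ k))⁻¹ =
          (x ≫ n ≫ k) * ((x ≫ z ≫ f ≫ k) * (h' ≫ i)) * (x ≫ z ≫ f ≫ k)⁻¹ * (x ≫ n ≫ k)⁻¹ by group, hcomm]
        group
      · simp only [lift_snd]
        refine hAext _ _ fun X' x h' => ?_
        rw [← Category.assoc, ← Category.assoc, hc'p, hc'p, ← cancel_mono i]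
        simp only [Category.assoc, hφp, GrpObj.inv_comp, GrpObj.comp_inv, MonObj.comp_mul, MonObj.mul_comp]
        obtain ⟨h'', hh''⟩ := ((hkspec N k).mp ⟨𝟙 N, Category.id_comp k⟩ X' (x ≫ n) h').2
        simp only [Category.assoc] at hh''
        rw [show ((x ≫ n ≫ k) * (x ≫ z ≫ f ≫ k))⁻¹ * (h' ≫ i) * (((x ≫ n ≫ k) * (x ≫ z ≫ f ≫ k))⁻¹)⁻¹ =
          (x ≫ z ≫ f ≫ k)⁻¹ * ((x ≫ n ≫ k)⁻¹ * (h' ≫ i) * (x ≫ n ≫ k)) * (x ≫ z ≫ f ≫ k) by group, hh'']
        rw [_root_.mul_assoc (x ≫ z ≫ f ≫ k)⁻¹, ← hcomm, inv_mul_cancel_left, ← hh'']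
        group
  have hnf : ∀ {X : Over S} (n : X ⟶ N) (z : X ⟶ Z), lift n z ≫ (N ◁ f) ≫ μ[N] = n * (z ≫ f) := fun n z => by
    rw [lift_whiskerLeft_assoc, Hom.mul_def]
  have hw : fst N Z ≫ q = ((N ◁ f) ≫ μ[N]) ≫ q := by
    rw [← cancel_mono ιW, Category.assoc, Category.assoc, hq]
    refine (hcent _ _).mpr ⟨snd N Z, ?_⟩
    have := hnf (fst N Z) (snd N Z)
    rw [lift_fst_snd, Category.id_comp] at this
    rw [this]
    group
  refine ⟨W, inferInstance, q, inferInstance, ⟨hqs, inferInstance, inferInstance, ?_⟩, inferInstance, inferInstance, ?_⟩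
  · refine IsPullback.of_isLimit' ⟨hw⟩ (PullbackCone.IsLimit.mk _
      (fun s => lift s.fst ((hcent s.fst s.snd).mp (by rw [← hq, ← Category.assoc, ← Category.assoc, s.condition])).choose)
      (fun s => lift_fst _ _) (fun s => ?_) (fun s l h1 h2 => ?_))
    · rw [hnf, ((hcent s.fst s.snd).mp (by rw [← hq, ← Category.assoc, ← Category.assoc, s.condition])).choose_spec]
      group
    · refine CartesianMonoidalCategory.hom_ext _ _ (by rw [lift_fst]; exact h1) ?_
      rw [lift_snd, ← cancel_mono f,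
        ((hcent s.fst s.snd).mp (by rw [← hq, ← Category.assoc, ← Category.assoc, s.condition])).choose_spec]
      have h3 := hnf (l ≫ fst N Z) (l ≫ snd N Z)
      rw [← comp_lift, lift_fst_snd, Category.comp_id] at h3
      rw [← h1, ← h2, h3]
      group
  · refine ⟨fun U hU hUc => ?_⟩
    have e : q.left '' (N.hom ⁻¹' U) = W.hom ⁻¹' U := by
      rw [← Over.w q, Scheme.Hom.comp_base, TopCat.coe_comp, Set.preimage_comp,
        Set.image_preimage_eq _ q.left.surjective]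
    rw [← e]
    exact ((QuasiCompact.isCompact_preimage (f := N.hom) U hU hUc).image q.left.continuous)

end Groth.Agent.H87.AutMult
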