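import Groth.Agent.H87.HomDS
import Groth.Agent.H1.Hopf
import Groth.Agent.Lib.RedPts.Gm
import Groth.Agent.Lib.Tori.BaseChange
import Groth.Agent.H83.MultType.Functorial
import Groth.Prelude.Def_SGA3b

/-!
Affine groups which become diagonalisable: the Hopf-algebra form and the scheme form.
-/

set_option autoImplicit false
universe u

open CategoryTheory MonoidalCategory CartesianMonoidalCategory MonObj GrpObj AlgebraicGeometry
open WithConv
open scoped TensorProduct
open Groth.Agent.Lib.RedPts Groth.Agent.Lib.Tori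

attribute [local instance] Points.baseAlgebra

namespace Groth.Agent.H87.Bridge

variable {R : Type u} [CommRing R] {A : Type u} [CommRing A] [HopfAlgebra R A]
  {L : Type u} [CommRing L] [Algebra R L]

variable (R L) in
/-- The morphism of spectra. -/
noncomputable abbrev sp : Spec (CommRingCat.of L) ⟶ Spec (CommRingCat.of R) :=
  Spec.map (CommRingCat.ofHom (algebraMap R L))

/-- A scheme over `L` seen over `R`. -/
noncomputable abbrev low (X : Over (Spec (CommRingCat.of L))) : Over (Spec (CommRingCat.of R)) :=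
  (Over.map (sp R L)).obj X

theorem baseHom_low (X : Over (Spec (CommRingCat.of L))) (r : R) :
    Points.baseHom (low (R := R) X) r = Points.baseHom X (algebraMap R L r) := by
  simp only [Points.baseHom, Over.map_obj_hom, Scheme.Hom.comp_appTop]
  exact (congr(($(Scheme.ΓSpecIso_inv_naturality (CommRingCat.ofHom (algebraMap R L))) ≫ X.hom.appTop).hom r)).symm

/-- Global functions as an `R`-algebra. -/
@[reducible] noncomputable def algR (X : Over (Spec (CommRingCat.of L))) : Algebra R Γ(X.left, ⊤) :=
  (Points.baseHom (low (R := R) X)).toAlgebra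

attribute [local instance 50] algR

instance tower (X : Over (Spec (CommRingCat.of L))) : IsScalarTower R L Γ(X.left, ⊤) :=
  IsScalarTower.of_algebraMap_eq fun r => baseHom_low X r

/-- Pullback of functions. -/
noncomputable def pullΓ {X X' : Over (Spec (CommRingCat.of L))} (h : X' ⟶ X) :
    Γ(X.left, ⊤) →ₐ[L] Γ(X'.left, ⊤) :=
  { h.left.appTop.hom with
    commutes' := fun r => by
      change h.left.appTop (Points.baseHom X r) = Points.baseHom X' r
      simp only [Points.baseHom]
      rw [← Over.w h]
      rfl }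

variable {T : Over (Spec (CommRingCat.of R))} [GrpObj T]
  (e : T ≅ (Spec (CommRingCat.of A)).asOver (Spec (CommRingCat.of R))) [IsMonHom e.hom]

/-- Points with values in an arbitrary scheme. -/
noncomputable def pts (W : Over (Spec (CommRingCat.of R))) :
    (W ⟶ T) ≃* WithConv (A →ₐ[R] Γ(W.left, ⊤)) where
  toFun g := toConv (Points.algHomOf (g ≫ e.hom))
  invFun p := Points.pointOf p.ofConv ≫ e.inv
  left_inv g := by simp
  right_inv p := by simp
  map_mul' g h := by
    refine WithConv.ofConv_injective (AlgHom.ext fun a => ?_)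
    rw [AlgHom.convMul_apply, MonObj.mul_comp g h e.hom]
    exact Points.algHomOf_mul _ _ a

/-- Points of the base change. -/
noncomputable def ptsL (X : Over (Spec (CommRingCat.of L))) :
    (X ⟶ Red.bc (sp R L) T) ≃* WithConv (A →ₐ[R] Γ(X.left, ⊤)) :=
  (BC.downMulEquiv (sp R L) X T).trans (pts e (low X))

theorem ptsL_comp {X X' : Over (Spec (CommRingCat.of L))} (h : X' ⟶ X) (g : X ⟶ Red.bc (sp R L) T) :
    (ptsL e X' (h ≫ g)).ofConv = ((pullΓ h).restrictScalars R).comp (ptsL e X g).ofConv := by
  refine AlgHom.ext fun a => ?_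
  change Points.ringHomOf (BC.down (sp R L) (h ≫ g) ≫ e.hom).left a =
    h.left.appTop (Points.ringHomOf (BC.down (sp R L) g ≫ e.hom).left a)
  rw [BC.down_comp, Category.assoc, Over.comp_left]
  exact Points.ringHomOf_comp _ _ _

variable {M : Type} [AddCommGroup M]

/-- Points of a diagonalisable group. -/
noncomputable def dsPts (X : Over (Spec (CommRingCat.of L))) :
    (X ⟶ Red.DS (Spec (CommRingCat.of L)) M) ≃* (Multiplicative M →* Γ(X.left, ⊤)) where
  toFun x :=
    { toFun := fun m => Gm.dsFn x m.toAdd
      map_one' := by rw [toAdd_one, Gm.dsFn_zero]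
      map_mul' := fun a b => by rw [toAdd_mul, Gm.dsFn_add] }
  invFun χ := Gm.dsPt χ
  left_inv x := Gm.dsFn_ext fun m => by rw [Gm.dsFn_dsPt]; rfl
  right_inv χ := MonoidHom.ext fun m => Gm.dsFn_dsPt χ _
  map_mul' x y := MonoidHom.ext fun m => Gm.dsFn_mul x y _

/-- The Hopf-algebra form of a diagonalisation gives the points. -/
noncomputable def charEquiv (ε : (L ⊗[R] A) ≃ₐc[L] MonoidAlgebra L (ULift.{u} (Multiplicative M)))
    (B : Type u) [CommRing B] [Algebra R B] [Algebra L B] [IsScalarTower R L B] :
    WithConv (A →ₐ[R] B) ≃* (Multiplicative M →* B) where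
  toFun q :=
    { toFun := fun m => Algebra.TensorProduct.lift (Algebra.ofId L B) q.ofConv (fun _ _ => Commute.all _ _)
        (ε.symm (MonoidAlgebra.single (ULift.up m) 1))
      map_one' := by
        rw [show MonoidAlgebra.single (ULift.up (1 : Multiplicative M)) (1 : L) = 1 from rfl, map_one, map_one]
      map_mul' := fun a b => by
        rw [← map_mul, ← map_mul, MonoidAlgebra.single_mul_single, _root_.mul_one]
        rfl }
  invFun χ := toConv ((((MonoidAlgebra.lift L B _ (χ.comp MulEquiv.ulift.toMonoidHom)).comp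
    (ε : (L ⊗[R] A) →ₐ[L] MonoidAlgebra L (ULift.{u} (Multiplicative M)))).restrictScalars R).comp
      Algebra.TensorProduct.includeRight)
  left_inv q := by
    refine WithConv.ofConv_injective (AlgHom.ext fun a => ?_)
    have key : (MonoidAlgebra.lift L B _ ((
        ({ toFun := fun m => Algebra.TensorProduct.lift (Algebra.ofId L B) q.ofConv (fun _ _ => Commute.all _ _)
            (ε.symm (MonoidAlgebra.single (ULift.up m) 1))
           map_one' := by
             rw [show MonoidAlgebra.single (ULift.up (1 : Multiplicative M)) (1 : L) = 1 from rfl, map_one, map_one]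
           map_mul' := fun a b => by
             rw [← map_mul, ← map_mul, MonoidAlgebra.single_mul_single, _root_.mul_one]
             rfl } : Multiplicative M →* B)).comp MulEquiv.ulift.toMonoidHom)) =
        (Algebra.TensorProduct.lift (Algebra.ofId L B) q.ofConv (fun _ _ => Commute.all _ _)).comp
          (ε.symm : MonoidAlgebra L (ULift.{u} (Multiplicative M)) →ₐ[L] (L ⊗[R] A)) := by
      refine MonoidAlgebra.algHom_ext (fun m => ?_) ?_
      · simp
        rfl
      · ext
    simp only [AlgHom.comp_apply, AlgHom.restrictScalars_apply, key]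
    simp
  right_inv χ := by
    refine MonoidHom.ext fun m => ?_
    simp only [MonoidHom.coe_mk, OneHom.coe_mk]
    rw [show Algebra.TensorProduct.lift (Algebra.ofId L B) ((((MonoidAlgebra.lift L B _ (χ.comp MulEquiv.ulift.toMonoidHom)).comp
        (ε : (L ⊗[R] A) →ₐ[L] MonoidAlgebra L (ULift.{u} (Multiplicative M)))).restrictScalars R).comp
          Algebra.TensorProduct.includeRight) (fun _ _ => Commute.all _ _) =
        (MonoidAlgebra.lift L B _ (χ.comp MulEquiv.ulift.toMonoidHom)).comp
          (ε : (L ⊗[R] A) →ₐ[L] MonoidAlgebra L (ULift.{u} (Multiplicative M))) from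
      Algebra.TensorProduct.ext (by ext) (AlgHom.ext fun a => by simp)]
    simp
    rfl
  map_mul' q₁ q₂ := by
    refine MonoidHom.ext fun m => ?_
    simp only [MonoidHom.coe_mk, OneHom.coe_mk, MonoidHom.mul_apply]
    have hg : IsGroupLikeElem L (ε.symm (MonoidAlgebra.single (ULift.up m) (1 : L))) :=
      (⟨by simp, by simp⟩ : IsGroupLikeElem L (MonoidAlgebra.single (ULift.up m) (1 : L))).map ε.symm
    have hk := ((H83.MultType.groupLike_iff _).mp hg).1
    let l₂ : L ⊗[R] (A ⊗[R] A) →ₐ[R] B :=
      Algebra.TensorProduct.lift (IsScalarTower.toAlgHom R L B)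
        (Algebra.TensorProduct.lift q₁.ofConv q₂.ofConv (fun _ _ => Commute.all _ _)) (fun _ _ => Commute.all _ _)
    have h1 : ∀ z : L ⊗[R] A, l₂ (H83.MultType.comulS L z) =
        Algebra.TensorProduct.lift (Algebra.ofId L B) (q₁ * q₂).ofConv (fun _ _ => Commute.all _ _) z := by
      intro z
      induction z using TensorProduct.induction_on with
      | zero => simp
      | add x y hx hy => simp only [map_add, hx, hy]
      | tmul l a =>
        simp only [l₂, H83.MultType.comulS, Algebra.TensorProduct.map_tmul, Algebra.TensorProduct.lift_tmul,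
          AlgHom.id_apply]
        rw [AlgHom.convMul_apply]
        simp [Algebra.ofId_apply]
    have h2 : ∀ z : L ⊗[R] A, l₂ (H83.MultType.inlS L z) =
        Algebra.TensorProduct.lift (Algebra.ofId L B) q₁.ofConv (fun _ _ => Commute.all _ _) z := by
      intro z
      induction z using TensorProduct.induction_on with
      | zero => simp
      | add x y hx hy => simp only [map_add, hx, hy]
      | tmul l a => simp [l₂, H83.MultType.inlS, Algebra.ofId_apply]
    have h3 : ∀ z : L ⊗[R] A, l₂ (H83.MultType.inrS L z) =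
        Algebra.TensorProduct.lift (Algebra.ofId L B) q₂.ofConv (fun _ _ => Commute.all _ _) z := by
      intro z
      induction z using TensorProduct.induction_on with
      | zero => simp
      | add x y hx hy => simp only [map_add, hx, hy]
      | tmul l a => simp [l₂, H83.MultType.inrS, Algebra.ofId_apply]
    rw [← h1, hk, map_mul, h2, h3]

theorem charEquiv_naturality (ε : (L ⊗[R] A) ≃ₐc[L] MonoidAlgebra L (ULift.{u} (Multiplicative M)))
    {B B' : Type u} [CommRing B] [Algebra R B] [Algebra L B] [IsScalarTower R L B]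
    [CommRing B'] [Algebra R B'] [Algebra L B'] [IsScalarTower R L B'] (g : B →ₐ[L] B')
    (q : WithConv (A →ₐ[R] B)) (m : Multiplicative M) :
    charEquiv ε B' (toConv ((g.restrictScalars R).comp q.ofConv)) m = g (charEquiv ε B q m) := by
  simp only [charEquiv, MulEquiv.coe_mk, Equiv.coe_fn_mk, MonoidHom.coe_mk, OneHom.coe_mk]
  rw [show Algebra.TensorProduct.lift (Algebra.ofId L B') ((g.restrictScalars R).comp q.ofConv) (fun _ _ => Commute.all _ _) =
    g.comp (Algebra.TensorProduct.lift (Algebra.ofId L B) q.ofConv (fun _ _ => Commute.all _ _)) from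
    Algebra.TensorProduct.ext (by ext) (AlgHom.ext fun a => by simp)]
  rfl

include e in
/-- A Hopf-algebra diagonalisation gives a diagonalisation of the group scheme. -/
theorem exists_schemeIso (ε : (L ⊗[R] A) ≃ₐc[L] MonoidAlgebra L (ULift.{u} (Multiplicative M))) :
    Nonempty (Grp.mk (Red.bc (sp R L) T) ≅ Grp.mk (Red.DS (Spec (CommRingCat.of L)) M)) := by
  let Φ : ∀ X : Over (Spec (CommRingCat.of L)), (X ⟶ Red.bc (sp R L) T) ≃* (X ⟶ Red.DS (Spec (CommRingCat.of L)) M) :=
    fun X => ((ptsL e X).trans (charEquiv ε Γ(X.left, ⊤))).trans (dsPts X).symm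
  have hnat : ∀ {X X' : Over (Spec (CommRingCat.of L))} (h : X' ⟶ X) (g : X ⟶ Red.bc (sp R L) T),
      Φ X' (h ≫ g) = h ≫ Φ X g := by
    intro X X' h g
    refine Gm.dsFn_ext fun m => ?_
    simp only [Φ, MulEquiv.trans_apply, dsPts, MulEquiv.symm_mk, MulEquiv.coe_mk, Equiv.coe_fn_symm_mk, Gm.dsFn_comp,
      Gm.dsFn_dsPt]
    rw [← WithConv.toConv_ofConv (ptsL e X' (h ≫ g)), ptsL_comp]
    exact charEquiv_naturality ε (pullΓ h) (ptsL e X g) _
  have hnat' : ∀ {X X' : Over (Spec (CommRingCat.of L))} (h : X' ⟶ X) (g : X ⟶ Red.DS (Spec (CommRingCat.of L)) M),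
      (Φ X').symm (h ≫ g) = h ≫ (Φ X).symm g := by
    intro X X' h g
    rw [MulEquiv.symm_apply_eq, hnat, MulEquiv.apply_symm_apply]
  let a := Φ _ (𝟙 (Red.bc (sp R L) T))
  let b := (Φ _).symm (𝟙 (Red.DS (Spec (CommRingCat.of L)) M))
  have ha : ∀ {X : Over (Spec (CommRingCat.of L))} (g : X ⟶ Red.bc (sp R L) T), g ≫ a = Φ X g := fun g => by
    rw [← hnat, Category.comp_id]
  have hb : ∀ {X : Over (Spec (CommRingCat.of L))} (g : X ⟶ Red.DS (Spec (CommRingCat.of L)) M), g ≫ b = (Φ X).symm g :=
    fun g => by rw [← hnat', Category.comp_id]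
  have : IsMonHom a := HomDS.isMonHom_of_points a fun X x y => by rw [ha, ha, ha, map_mul]
  let i : Red.bc (sp R L) T ≅ Red.DS (Spec (CommRingCat.of L)) M :=
    { hom := a
      inv := b
      hom_inv_id := by rw [hb]; exact MulEquiv.symm_apply_apply _ _
      inv_hom_id := by rw [ha]; exact MulEquiv.apply_symm_apply _ _ }
  exact ⟨Grp.mkIso' i⟩

/-- The functions on the spectrum of an algebra. -/
noncomputable def specΓ (B : Type u) [CommRing B] [Algebra L B] :
    B ≃ₐ[L] Γ(((Spec (CommRingCat.of B)).asOver (Spec (CommRingCat.of L))).left, ⊤) :=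
  AlgEquiv.ofRingEquiv (f := (Scheme.ΓSpecIso (CommRingCat.of B)).symm.commRingCatIsoToRingEquiv) (fun r => by
    exact congr(($(Scheme.ΓSpecIso_inv_naturality (CommRingCat.ofHom (algebraMap L B)))).hom r))

theorem specΓ_naturality {B B' : Type u} [CommRing B] [Algebra L B] [CommRing B'] [Algebra L B'] (g : B →ₐ[L] B') (b : B)
    (w : Spec.map (CommRingCat.ofHom g.toRingHom) ≫ ((Spec (CommRingCat.of B)).asOver (Spec (CommRingCat.of L))).hom =
      ((Spec (CommRingCat.of B')).asOver (Spec (CommRingCat.of L))).hom) :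
    pullΓ (Over.homMk (Spec.map (CommRingCat.ofHom g.toRingHom)) w :
      (Spec (CommRingCat.of B')).asOver (Spec (CommRingCat.of L)) ⟶ (Spec (CommRingCat.of B)).asOver (Spec (CommRingCat.of L)))
      (specΓ B b) = specΓ B' (g b) :=
  (congr(($(Scheme.ΓSpecIso_inv_naturality (CommRingCat.ofHom g.toRingHom))).hom b)).symm

/-- Postcomposition of points. -/
noncomputable def convCongr {B C : Type u} [CommRing B] [Algebra R B] [CommRing C] [Algebra R C] (f : B ≃ₐ[R] C) :
    WithConv (A →ₐ[R] B) ≃* WithConv (A →ₐ[R] C) where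
  toFun q := toConv (f.toAlgHom.comp q.ofConv)
  invFun q := toConv (f.symm.toAlgHom.comp q.ofConv)
  left_inv q := WithConv.ofConv_injective (AlgHom.ext fun a => by simp)
  right_inv q := WithConv.ofConv_injective (AlgHom.ext fun a => by simp)
  map_mul' q₁ q₂ := by
    refine WithConv.ofConv_injective (AlgHom.ext fun a => ?_)
    simp only [AlgHom.comp_apply, AlgHom.convMul_apply]
    generalize Coalgebra.comul (R := R) a = z
    induction z using TensorProduct.induction_on with
    | zero => simp
    | tmul x y => simp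
    | add x y hx hy => simp only [map_add, hx, hy]

/-- A natural identification of the points gives the diagonalisation. -/
theorem nonempty_bialgEquiv
    (Θ : ∀ (B : Type u) [CommRing B] [Algebra R B] [Algebra L B] [IsScalarTower R L B],
      WithConv (A →ₐ[R] B) ≃* (Multiplicative M →* B))
    (hΘ : ∀ (B B' : Type u) [CommRing B] [Algebra R B] [Algebra L B] [IsScalarTower R L B]
      [CommRing B'] [Algebra R B'] [Algebra L B'] [IsScalarTower R L B'] (g : B →ₐ[L] B')
      (p : WithConv (A →ₐ[R] B)) (m : Multiplicative M),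
      Θ B' (toConv ((g.restrictScalars R).comp p.ofConv)) m = g (Θ B p m)) :
    Nonempty ((L ⊗[R] A) ≃ₐc[L] MonoidAlgebra L (ULift.{u} (Multiplicative M))) := by
  let incl : A →ₐ[R] L ⊗[R] A := Algebra.TensorProduct.includeRight
  let χ : ULift.{u} (Multiplicative M) →* L ⊗[R] A :=
    (Θ (L ⊗[R] A) (toConv incl)).comp MulEquiv.ulift.toMonoidHom
  let c := (Θ (MonoidAlgebra L (ULift.{u} (Multiplicative M)))).symm
    ((MonoidAlgebra.of L (ULift.{u} (Multiplicative M))).comp MulEquiv.ulift.symm.toMonoidHom)
  let Φ : L ⊗[R] A →ₐ[L] MonoidAlgebra L (ULift.{u} (Multiplicative M)) :=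
    Algebra.TensorProduct.lift (Algebra.ofId L _) c.ofConv (fun _ _ => Commute.all _ _)
  let Ψ := MonoidAlgebra.lift L (L ⊗[R] A) (ULift.{u} (Multiplicative M)) χ
  have hΦ : (Φ.restrictScalars R).comp incl = c.ofConv := Algebra.TensorProduct.lift_comp_includeRight _ _ _
  have h1 : Φ.comp Ψ = AlgHom.id L _ := by
    refine MonoidAlgebra.algHom_ext (fun m => ?_) ?_
    · change Φ (Ψ (MonoidAlgebra.single m 1)) = MonoidAlgebra.single m 1
      simp only [Ψ, MonoidAlgebra.lift_single, one_smul, χ, MonoidHom.comp_apply]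
      rw [← hΘ _ _ Φ (toConv incl), WithConv.ofConv_toConv, hΦ, WithConv.toConv_ofConv, MulEquiv.apply_symm_apply]
      rfl
    · ext
  have h2 : Ψ.comp Φ = AlgHom.id L _ := by
    refine Algebra.TensorProduct.ext ?_ ?_
    · ext
    · have : (Ψ.restrictScalars R).comp c.ofConv = incl := by
        apply WithConv.toConv_injective
        apply (Θ (L ⊗[R] A)).injective
        refine MonoidHom.ext fun m => ?_
        rw [hΘ _ _ Ψ c m, MulEquiv.apply_symm_apply]
        simp [Ψ, χ]
      refine AlgHom.ext fun a => ?_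
      change Ψ (Φ (incl a)) = incl a
      rw [show Φ (incl a) = c.ofConv a from DFunLike.congr_fun hΦ a]
      exact DFunLike.congr_fun this a
  have hgl : ∀ m, IsGroupLikeElem L (χ m) := by
    intro m
    rw [H83.MultType.groupLike_iff]
    constructor
    · let cm : L ⊗[R] A →ₐ[L] L ⊗[R] (A ⊗[R] A) :=
        Algebra.TensorProduct.map (AlgHom.id L L) (Bialgebra.comulAlgHom R A)
      let il : L ⊗[R] A →ₐ[L] L ⊗[R] (A ⊗[R] A) :=
        Algebra.TensorProduct.map (AlgHom.id L L) Algebra.TensorProduct.includeLeft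
      let ir : L ⊗[R] A →ₐ[L] L ⊗[R] (A ⊗[R] A) :=
        Algebra.TensorProduct.map (AlgHom.id L L) Algebra.TensorProduct.includeRight
      change cm (χ m) = il (χ m) * ir (χ m)
      simp only [χ, MonoidHom.comp_apply]
      rw [← hΘ _ _ cm (toConv incl), ← hΘ _ _ il (toConv incl),
        ← hΘ _ _ ir (toConv incl), ← MonoidHom.mul_apply, ← map_mul]
      congr 2
      refine WithConv.ofConv_injective (AlgHom.ext fun a => ?_)
      rw [AlgHom.convMul_apply]
      have hl : Algebra.TensorProduct.lift ((il.restrictScalars R).comp incl)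
          ((ir.restrictScalars R).comp incl) (fun _ _ => Commute.all _ _) =
          (Algebra.TensorProduct.includeRight : A ⊗[R] A →ₐ[R] L ⊗[R] (A ⊗[R] A)) := by
        refine Algebra.TensorProduct.ext' fun a b => ?_
        simp [incl, il, ir]
      exact (DFunLike.congr_fun hl (Coalgebra.comul a)).symm
    · let co : L ⊗[R] A →ₐ[L] L := Bialgebra.counitAlgHom L (L ⊗[R] A)
      change co (χ m) = 1
      simp only [χ, MonoidHom.comp_apply]
      rw [← hΘ _ _ co (toConv incl),
        show toConv ((co.restrictScalars R).comp incl) = (1 : WithConv (A →ₐ[R] L)) from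
          WithConv.ofConv_injective (AlgHom.ext fun a => by
            rw [AlgHom.convOne_apply]
            simp [co, incl, Algebra.algebraMap_eq_smul_one]), map_one]
      rfl
  let Ψc : MonoidAlgebra L (ULift.{u} (Multiplicative M)) →ₐc[L] L ⊗[R] A := BialgHom.ofAlgHom Ψ
    (by
      ext q
      simp [Ψ, (hgl q).counit_eq_one])
    (by
      ext q
      simp [Ψ, (hgl q).comul_eq_tmul_self])
  have hb : Function.Bijective Ψc :=
    ⟨Function.LeftInverse.injective (g := Φ) (fun x => DFunLike.congr_fun h1 x),
      Function.RightInverse.surjective (g := Φ) (fun y => DFunLike.congr_fun h2 y)⟩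
  exact ⟨(BialgEquiv.ofBijective Ψc hb).symm⟩

include e in
/-- A diagonalisation of the group scheme gives one of the Hopf algebra. -/
theorem exists_bialgEquiv (h : Nonempty (Grp.mk (Red.bc (sp R L) T) ≅ Grp.mk (Red.DS (Spec (CommRingCat.of L)) M))) :
    Nonempty ((L ⊗[R] A) ≃ₐc[L] MonoidAlgebra L (ULift.{u} (Multiplicative M))) := by
  obtain ⟨ε⟩ := h
  let i := BaseChange.overIso ε
  let XB : ∀ (B : Type u) [CommRing B] [Algebra L B], Over (Spec (CommRingCat.of L)) :=
    fun B _ _ => (Spec (CommRingCat.of B)).asOver (Spec (CommRingCat.of L))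
  let post : ∀ X : Over (Spec (CommRingCat.of L)),
      (X ⟶ Red.bc (sp R L) T) ≃* (X ⟶ Red.DS (Spec (CommRingCat.of L)) M) := fun X =>
    { toFun := fun g => g ≫ i.hom
      invFun := fun g => g ≫ i.inv
      left_inv := fun g => by simp
      right_inv := fun g => by simp
      map_mul' := fun g g' => MonObj.mul_comp g g' i.hom }
  let Θ : ∀ (B : Type u) [CommRing B] [Algebra R B] [Algebra L B] [IsScalarTower R L B],
      WithConv (A →ₐ[R] B) ≃* (Multiplicative M →* B) := fun B _ _ _ _ =>
    (convCongr ((specΓ (L := L) B).restrictScalars R)).trans (((ptsL e (XB B)).symm.trans ((post (XB B)).trans (dsPts (XB B)))).trans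
      { toFun := fun χ => (specΓ (L := L) B).symm.toAlgHom.toMonoidHom.comp χ
        invFun := fun χ => (specΓ (L := L) B).toAlgHom.toMonoidHom.comp χ
        left_inv := fun χ => MonoidHom.ext fun m => by simp
        right_inv := fun χ => MonoidHom.ext fun m => by simp
        map_mul' := fun χ χ' => MonoidHom.ext fun m => by simp })
  refine nonempty_bialgEquiv Θ ?_
  intro B B' _ _ _ _ _ _ _ _ g p m
  let hB : XB B' ⟶ XB B := Over.homMk (Spec.map (CommRingCat.ofHom g.toRingHom)) (by
    change Spec.map _ ≫ Spec.map (CommRingCat.ofHom (algebraMap L B)) = Spec.map (CommRingCat.ofHom (algebraMap L B'))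
    rw [← Spec.map_comp, ← CommRingCat.ofHom_comp]
    exact congrArg (fun k => Spec.map (CommRingCat.ofHom k)) g.comp_algebraMap)
  have hy : (ptsL e (XB B')).symm (convCongr ((specΓ (L := L) B').restrictScalars R)
        (toConv ((g.restrictScalars R).comp p.ofConv))) =
      hB ≫ (ptsL e (XB B)).symm (convCongr ((specΓ (L := L) B).restrictScalars R) p) := by
    rw [MulEquiv.symm_apply_eq]
    refine WithConv.ofConv_injective ?_
    rw [ptsL_comp, MulEquiv.apply_symm_apply]
    exact AlgHom.ext fun a => (specΓ_naturality g (p.ofConv a) (Over.w hB)).symm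
  simp only [Θ, post, dsPts, MulEquiv.trans_apply, MulEquiv.coe_mk, Equiv.coe_fn_mk, MonoidHom.coe_mk, OneHom.coe_mk,
    MonoidHom.comp_apply]
  rw [hy, Category.assoc, Gm.dsFn_comp]
  refine (AlgEquiv.symm_apply_eq (specΓ (L := L) B')).mpr (Eq.trans ?_ (specΓ_naturality g _ (Over.w hB)))
  exact congrArg (fun t => hB.left.appTop t) ((specΓ (L := L) B).apply_symm_apply _).symm

end Groth.Agent.H87.Bridge
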