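import Groth.Agent.H66.UnipBC
import Groth.Agent.Lib.MTBridge.SpecHopf
import Groth.Agent.H87.Locus
import Groth.Agent.H87.LocalEq
import Groth.Agent.H87.Charts
import Groth.Agent.H87.HomDS

/-!
Homomorphisms from groups of multiplicative type to unipotent groups over a field, after any base change.
-/

set_option autoImplicit false
set_option linter.style.haveILetI false
universe u v w

open CategoryTheory CategoryTheory.Limits MonoidalCategory CartesianMonoidalCategory MonObj GrpObj AlgebraicGeometry
open Groth.Agent.Lib.RedPts Groth.Agent.Lib.Tori Groth.Agent.Lib.MTBridge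
open scoped TensorProduct

namespace Groth.Agent.H87.RedCentre

noncomputable section

/-- A group algebra has no nonzero primitive element. -/
theorem noPrim_monoidAlgebra (R : Type u) [CommRing R] (P : Type v) [CommGroup P] :
    H66.UnipBC.NoPrim R (MonoidAlgebra R P) := by
  classical
  intro y hy
  let c : P → MonoidAlgebra R P →ₗ[R] R := fun p =>
    Finsupp.lapply p ∘ₗ (MonoidAlgebra.coeffLinearEquiv R).toLinearMap
  have hc : ∀ p g r, c p (MonoidAlgebra.single g r) = if g = p then r else 0 := fun p g r => by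
    simp [c, Finsupp.single_apply]
  have hkey : ∀ p (z : MonoidAlgebra R P),
      LinearMap.mul' R R (TensorProduct.map (c p) (c p) (CoalgebraStruct.comul (R := R) z)) = c p z := by
    intro p z
    induction z using MonoidAlgebra.induction_linear with
    | zero => simp
    | add a b ha hb => rw [map_add, map_add, map_add, ha, hb, map_add]
    | single g r =>
      rw [MonoidAlgebra.comul_single]
      simp only [CommSemiring.comul_apply, TensorProduct.map_tmul, LinearMap.mul'_apply]
      simp only [MonoidAlgebra.lsingle_apply, hc]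
      split_ifs <;> simp
  refine (MonoidAlgebra.coeffLinearEquiv R).injective ?_
  rw [map_zero]
  ext p
  show c p y = 0
  have h := hkey p y
  rw [hy, map_add, map_add, TensorProduct.map_tmul, TensorProduct.map_tmul, LinearMap.mul'_apply,
    LinearMap.mul'_apply, MonoidAlgebra.one_def, hc] at h
  by_cases hp : (1 : P) = p
  · rw [if_pos hp, _root_.mul_one, _root_.one_mul] at h
    exact add_eq_left.1 h
  · rw [if_neg hp, MulZeroClass.mul_zero, MulZeroClass.zero_mul, _root_.zero_add] at h
    exact h.symm

variable {k : Type u} [Field k] {B : Type u} [CommRing B] [HopfAlgebra k B]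

/-- The trivial morphism into a group is a homomorphism. -/
theorem isMonHom_one {S : Scheme.{u}} (P Q : Over S) [GrpObj P] [GrpObj Q] : IsMonHom (1 : P ⟶ Q) :=
  HomDS.isMonHom_of_points _ fun X a b => by
    rw [MonObj.comp_one, MonObj.comp_one, MonObj.comp_one, _root_.one_mul]

/-- Two homomorphisms from a diagonalisable group to a base change of a unipotent group coincide. -/
theorem hom_eq (hU : HopfRep.IsUnipotent k B) {R : Type u} [CommRing R] [Algebra k R] {M : Type} [AddCommGroup M]
    (a b : GA R (MonoidAlgebra R (Multiplicative M)) ⟶ GA R (R ⊗[k] B)) [IsMonHom a] [IsMonHom b] : a = b := by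
  obtain ⟨π, hπ⟩ := exists_bialgHom a
  obtain ⟨π', hπ'⟩ := exists_bialgHom b
  have hU' := H66.Unip.iSup_fil_eq_top hU
  have h : π = π' := BialgHom.ext fun x =>
    (H66.UnipBC.eq_counit_of_noPrim (R := R) hU' (noPrim_monoidAlgebra R (Multiplicative M)) π x).trans
      (H66.UnipBC.eq_counit_of_noPrim (R := R) hU' (noPrim_monoidAlgebra R (Multiplicative M)) π' x).symm
  exact Over.OverMorphism.ext (hπ.trans ((congrArg (fun φ : R ⊗[k] B →ₐc[R] _ =>
    Spec.map (CommRingCat.ofHom (φ : R ⊗[k] B →+* MonoidAlgebra R (Multiplicative M)))) h).trans hπ'.symm))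

set_option maxHeartbeats 800000 in
/-- On a chart, a homomorphism from a group of multiplicative type to a unipotent group is trivial. -/
theorem map_eq_one_chart (hU : HopfRep.IsUnipotent k B) {S' : Scheme.{u}} (f : S' ⟶ Spec (CommRingCat.of k))
    {H : Over S'} [GrpObj H] (u : H ⟶ Red.bc f (GA k B)) [IsMonHom u] {R : Type u} [CommRing R]
    (t : Spec (CommRingCat.of R) ⟶ S') {M : Type} [AddCommGroup M]
    (e : Grp.mk (Red.bc t H) ≅ Grp.mk (Red.DS (Spec (CommRingCat.of R)) M)) :
    (Over.pullback t).map u = 1 := by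
  letI : Algebra k R := (Spec.preimage (t ≫ f)).hom.toAlgebra
  have hφ : t ≫ f = Spec.map (CommRingCat.ofHom (algebraMap k R)) := (Spec.map_preimage _).symm
  let eQ : Grp.mk (Red.bc t (Red.bc f (GA k B))) ≅ Grp.mk (GA R (R ⊗[k] B)) :=
    (BaseChange.bcComp t f (GA k B)).symm ≪≫ BaseChange.bcCongr hφ (GA k B) ≪≫ bcSpec R
  let eP : Grp.mk (GA R (MonoidAlgebra R (Multiplicative M))) ≅ Grp.mk (Red.bc t H) :=
    (e ≪≫ dsSpec R M).symm
  let iP := BaseChange.overIso eP
  let iQ := BaseChange.overIso eQ
  haveI : IsMonHom iP.hom := BaseChange.isMonHom_overIso eP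
  haveI : IsMonHom iQ.hom := BaseChange.isMonHom_overIso eQ
  haveI := isMonHom_one (GA R (MonoidAlgebra R (Multiplicative M))) (GA R (R ⊗[k] B))
  have h := hom_eq hU (iP.hom ≫ (Over.pullback t).map u ≫ iQ.hom) 1
  rw [← MonObj.comp_one iP.hom, cancel_epi, ← MonObj.one_comp iQ.hom, cancel_mono] at h
  exact h

/-- **A homomorphism from a group of multiplicative type to a unipotent group is trivial.** -/
theorem hom_eq_one (hU : HopfRep.IsUnipotent k B) {S' : Scheme.{u}} (f : S' ⟶ Spec (CommRingCat.of k))
    {H : Over S'} [GrpObj H] (hH : SGA3x.IsMultTypeFT H) (u : H ⟶ Red.bc f (GA k B)) [IsMonHom u] : u = 1 := by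
  obtain ⟨S'', p, hp, hps, -, hloc⟩ := hH
  choose U hsU M hM _ hchart using hloc
  choose V hV hsV hVU using fun s => exists_isAffineOpen_mem_and_subset (X := S'') (x := s) (U := U s) (hsU s)
  refine LocalEq.ext_of_local p u 1 V hsV fun s => ?_
  obtain ⟨c⟩ := hchart s
  letI := hM s
  let j : Spec Γ(S'', V s) ⟶ (U s : Scheme.{u}) := IsOpenImmersion.lift (U s).ι (hV s).fromSpec (by
    rw [Scheme.Opens.range_ι, (hV s).range_fromSpec]
    exact hVU s)
  have h1 := map_eq_one_chart hU f u (R := Γ(S'', V s)) (j ≫ (U s).ι ≫ p) (Charts.resChart c j)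
  have e : (hV s).isoSpec.hom ≫ j ≫ (U s).ι ≫ p = (V s).ι ≫ p := by
    rw [IsOpenImmersion.lift_fac_assoc, IsAffineOpen.isoSpec_hom_fromSpec_assoc]
  have hk := Locus.kills_congr u e (Locus.kills_comp u (hV s).isoSpec.hom ((Locus.kills_iff_map_eq_one u _).2 h1))
  rw [hk _ (Over.homMk (Red.bc ((V s).ι ≫ p) H).hom) _, MonObj.comp_one]

end

end Groth.Agent.H87.RedCentre
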