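import Groth.Agent.H66.Unip
import Groth.Agent.H66.Kolchin
import Groth.Agent.H1.Classical.Unipotent
import Groth.Agent.H1.Classical.NilpotentScheme
import Groth.Agent.H1.Classical.CentralizerRed
import Groth.Agent.H87.RedCentreUnip
import Groth.Agent.H87.TorusIn

/-!
Central subgroups of multiplicative type of smooth connected groups lie in the maximal tori.
-/

set_option autoImplicit false
set_option linter.style.haveILetI false
set_option linter.unusedSectionVars false
universe u

open CategoryTheory MonoidalCategory CartesianMonoidalCategory MonObj GrpObj AlgebraicGeometry WithConv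
open Groth.Agent.Lib.RedPts Groth.Agent.Lib.RedPts.Points
open Groth.Agent.H1.Classical Groth.Agent.H1.Classical.Scheme'

namespace Groth.Agent.H87.CartanUnip

open Groth.Agent.Lib.Comod.Basic

section Hopf

variable {k : Type u} [Field k] [IsAlgClosed k] {A : Type u} [CommRing A] [HopfAlgebra k A] [Algebra.FiniteType k A]
  [IsDomain A] {W : Type u} [AddCommGroup W] [Module k W] [FiniteDimensional k W]

/-- A reduced group all of whose points are unipotent is unipotent. -/
theorem isUnipotent_of_nilp {σ : Representation k (HopfPts.Pt k A) W} (hσ : Torus.GenRep.Gen (HopfPts.D k A) σ)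
    (h : ∀ g, IsNilpotent (σ g - 1)) : HopfRep.IsUnipotent k A := by
  intro V _ _ _ hfin hnt
  haveI := hfin
  haveI := hnt
  let ρ : Representation k (HopfPts.Pt k A) V :=
    { toFun := fun g => dact V g.ofConv.toLinearMap
      map_one' := by
        rw [show (1 : HopfPts.Pt k A).ofConv.toLinearMap = CoalgebraStruct.counit (R := k) (A := A) by
          ext a
          simp, dact_counit]
        rfl
      map_mul' := fun g g' => LinearMap.ext fun v => by
        rw [Module.End.mul_apply, dact_dact]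
        refine congrArg (fun φ => dact V φ v) (LinearMap.ext fun a => ?_)
        show (g * g') a = LinearMap.mul' k k (TensorProduct.map g.ofConv.toLinearMap g'.ofConv.toLinearMap
          (CoalgebraStruct.comul (R := k) a))
        rw [AlgHom.convMul_apply]
        induction CoalgebraStruct.comul (R := k) a using TensorProduct.induction_on with
        | zero => simp
        | tmul x y => simp
        | add x y hx hy => rw [map_add, map_add, map_add, hx, hy] }
  have key : ∀ (v : V) (l : Module.Dual k V), ∃ a : A, ∀ φ : A →ₗ[k] k, l (dact V φ v) = φ a := fun v l => by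
    refine ⟨TensorProduct.lid k A (l.rTensor A (HopfRep.Comod.coact (k := k) (A := A) v)), fun φ => ?_⟩
    rw [dact_apply]
    induction HopfRep.Comod.coact (k := k) (A := A) v using TensorProduct.induction_on with
    | zero => simp
    | tmul x a => simp [mul_comm]
    | add x y hx hy => simp only [map_add, hx, hy]
  have hρ : Kolchin.EndFn (HopfPts.D k A).R (fun g => ρ g) := fun v l => by
    obtain ⟨a, ha⟩ := key v l
    exact ⟨a, funext fun g => (ha g.ofConv.toLinearMap).symm⟩
  obtain ⟨v, hv0, hv⟩ := Groth.Agent.H66.Kolchin.exists_fixed (ρ : HopfPts.Pt k A →* Module.End k V)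
    fun g => Torus.ImageTorus.nilp_of_gen hσ (h g) hρ
  intro hbot
  refine hv0 ((Submodule.mem_bot k).1 (hbot ▸ (Groth.Agent.Lib.Comod.Reynolds.mem_fixedPts_iff.2 fun φ => ?_)))
  refine eq_of_sub_eq_zero ((Module.forall_dual_apply_eq_zero_iff k _).1 fun l => ?_)
  obtain ⟨a, ha⟩ := key v l
  have hconst : a = algebraMap k A (l v) := HopfPts.ev_injective (k := k) (A := A) (funext fun g => by
    show g.ofConv a = g.ofConv (algebraMap k A (l v))
    rw [AlgHom.commutes, Algebra.algebraMap_self, RingHom.id_apply]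
    exact (ha g.ofConv.toLinearMap).symm.trans (congrArg l (hv g)))
  rw [map_sub, ha, hconst, Algebra.algebraMap_eq_smul_one, map_smul, map_smul, smul_eq_mul, smul_eq_mul, mul_comm,
    sub_self]

end Hopf

section Field

open Scheme' Torus Torus.Centraliser Complete MaxTorusScheme MaxTorusApply MaxTorusExists

attribute [local instance] baseAlgebra

variable {k : Type u} [Field k] [IsAlgClosed k]

/-- A homomorphism from a group of multiplicative type to a smooth connected affine group without subtori is trivial. -/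
theorem hom_eq_one_of_noTorsion {V : Over (Spec (CommRingCat.of k))} [GrpObj V] [IsAffine V.left] [Smooth V.hom]
    [ConnectedSpace V.left] (hV : Unipotent.NoTorsion V)
    {H : Over (Spec (CommRingCat.of k))} [GrpObj H] (hH : SGA3x.IsMultTypeFT H) (u : H ⟶ V) [IsMonHom u] : u = 1 := by
  obtain ⟨A, _, _, _, _, e, he⟩ := exists_GA V
  haveI := he
  haveI : IsMonHom e.inv := inferInstance
  obtain ⟨W, _, σ, hσ⟩ := Torus.GenRep.exists_gen (HopfPts.D k A) hasMul_pts pts_ext
  have h' : Red.HasNoSubtorus k (GA k A) := fun T' _ j _ _ hT' =>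
    Unipotent.hasNoSubtorus_of_noTorsion hV T' (j ≫ e.inv) hT'
  have hU := isUnipotent_of_nilp hσ (Unipotent.nilp_GA h' hσ)
  let f : Spec (CommRingCat.of k) ⟶ Spec (CommRingCat.of k) := 𝟙 _
  let θ : ∀ X : Over (Spec (CommRingCat.of k)), (Over.map f).obj X ≅ X :=
    fun X => Over.isoMk (Iso.refl _) (by simp [f])
  obtain ⟨v, hv⟩ : ∃ v : H ⟶ Red.bc f (GA k A), BC.down f v = (θ H).hom ≫ u ≫ e.hom := ⟨BC.up f _, BC.down_up _⟩
  have hmap : ∀ (X : Over (Spec (CommRingCat.of k))) (x : X ⟶ H), BC.down f (x ≫ v) = (θ X).hom ≫ x ≫ u ≫ e.hom := by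
    intro X x
    rw [BC.down_comp, hv, ← Category.assoc, ← Category.assoc]
    refine congrArg (· ≫ u ≫ e.hom) (Over.OverMorphism.ext ?_)
    simp [θ]
  haveI : IsMonHom v := HomDS.isMonHom_of_points _ fun X a b => BC.down_injective (by
    rw [BC.down_mul, hmap, hmap, hmap, MonObj.mul_comp, MonObj.comp_mul])
  have h1 := hmap H (𝟙 H)
  rw [Category.id_comp, Category.id_comp, RedCentre.hom_eq_one hU f hH v, BC.down_one] at h1
  rw [← cancel_mono e.hom, MonObj.one_comp, ← cancel_epi (θ H).hom, MonObj.comp_one]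
  exact h1.symm

set_option backward.isDefEq.respectTransparency false in
/-- **Central subgroups of multiplicative type lie in every maximal torus.** -/
theorem exists_fac_field {G : Over (Spec (CommRingCat.of k))} [GrpObj G] [IsAffine G.left] [Smooth G.hom]
    [ConnectedSpace G.left] {T : Over (Spec (CommRingCat.of k))} [GrpObj T] {iT : T ⟶ G} (hT : AGF.IsMaxTorus iT)
    {H : Over (Spec (CommRingCat.of k))} [GrpObj H] (hH : SGA3x.IsMultTypeFT H) (u : H ⟶ G) [IsMonHom u]
    (hcen : ∀ (X : Over (Spec (CommRingCat.of k))) (x : X ⟶ H) (g : X ⟶ G), (x ≫ u) * g = g * (x ≫ u)) :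
    ∃ w : H ⟶ T, w ≫ iT = u := by
  haveI := hT.1
  haveI := hT.2.1
  obtain ⟨C, _, c, hc, -, -⟩ :=
    Groth.Agent.Lib.MultSmooth.exists_centralizer_smooth (GmFibre.isMultTypeFT_of_isTorus hT.2.2.1) iT
  haveI := hc.1
  haveI := hc.2.1
  obtain ⟨-, hCa, hCs, hCc⟩ := CentralizerScheme.props' iT hT.2.2.1 c hc
  haveI := hCa
  haveI := hCs
  haveI := hCc
  obtain ⟨u₁, hu₁⟩ := (hc.2.2 H u).2 fun X' x t => hcen _ _ _
  haveI : IsMonHom u₁ := HomDS.isMonHom_of_points _ fun X a b => by
    rw [← cancel_mono c, MonObj.mul_comp _ _ c, Category.assoc, Category.assoc, Category.assoc, hu₁, MonObj.mul_comp]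
  obtain ⟨t₁, ht₁⟩ := (hc.2.2 T iT).2 fun X' x h => by
    rw [← MonObj.mul_comp, ← MonObj.mul_comp, Groth.Agent.Lib.Tori.Comm.mul_comm_of_isTorus hT.2.2.1]
  have hsol := CentralizerRed.isSolvableGrp_of_isNilpotentGrp (NilpotentScheme.cartan_nilpotent hT hc)
  obtain ⟨A, _, _, _, _, e, he⟩ := exists_GA C
  haveI := he
  haveI : IsMonHom e.inv := inferInstance
  haveI : IsIso e.hom.left := ((Over.forget _).mapIso e).isIso_hom
  haveI : IsIso e.inv.left := ((Over.forget _).mapIso e).isIso_inv
  haveI : Smooth (GA k A).hom := by rw [← Over.w e.inv]; infer_instance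
  haveI : LocallyOfFiniteType (GA k A).hom := inferInstance
  haveI : Group.IsSolvable (HopfPts.Pt k A) := by
    obtain ⟨n, hn⟩ := hsol
    haveI : Group.IsSolvable (𝟙_ (Over (Spec (CommRingCat.of k))) ⟶ C) := (Group.isSolvable_def _).mpr ⟨n, hn _⟩
    exact Group.isSolvable_of_isSolvable_injective
      (f := (postcomp e.inv (𝟙_ (Over (Spec (CommRingCat.of k))))).comp (ptHom (A := A) _))
      fun a b h => ptHom_injective ((cancel_mono e.inv).mp h)
  obtain ⟨W, _, σ, hσ⟩ := Torus.GenRep.exists_gen (HopfPts.D k A) hasMul_pts pts_ext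
  obtain ⟨T', U, τ, hs⟩ := Split.exists_split (HopfPts.D k A) HopfPts.sirr_univ σ hσ
  -- the projection
  choose φa hφa using fun a : A => hs.tau_reg (HopfPts.ev k A a) ⟨a, rfl⟩
  let φl : A →ₐ[k] A :=
    { toFun := φa
      map_one' := HopfPts.ev_injective (k := k) (A := A) (by
        refine (hφa 1).trans ?_
        funext g
        rw [map_one]
        rfl)
      map_mul' := fun a b => HopfPts.ev_injective (k := k) (A := A) (by
        refine (hφa _).trans ?_
        funext g
        rw [map_mul, map_mul]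
        exact (congr_arg₂ (· * ·) (congrFun (hφa a) g) (congrFun (hφa b) g)).symm)
      map_zero' := HopfPts.ev_injective (k := k) (A := A) (by
        refine (hφa 0).trans ?_
        funext g
        rw [map_zero]
        rfl)
      map_add' := fun a b => HopfPts.ev_injective (k := k) (A := A) (by
        refine (hφa _).trans ?_
        funext g
        rw [map_add, map_add]
        exact (congr_arg₂ (· + ·) (congrFun (hφa a) g) (congrFun (hφa b) g)).symm)
      commutes' := fun r => HopfPts.ev_injective (k := k) (A := A) (by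
        refine (hφa _).trans ?_
        funext g
        rw [AlgHom.commutes]
        rfl) }
  let φ : GA k A ⟶ GA k A := pointOf ((algHomOf (𝟙 (GA k A))).comp φl)
  have hφ : ∀ χ, ptHom (A := A) (𝟙_ (Over (Spec (CommRingCat.of k)))) χ ≫ φ = ptHom _ (τ χ) := fun χ =>
    algHomOf_injective (AlgHom.ext fun a => by
      rw [algHomOf_comp, algHomOf_pointOf, algHomOf_ptHom, AlgHom.comp_apply, ← algHomOf_comp, Category.comp_id,
        algHomOf_ptHom]
      exact congrArg _ (congrFun (hφa a) χ))
  obtain ⟨C', _, c', hc', hci', hCt', hp'⟩ := exists_torus (S := T') ⟨hs.clT, hs.irrT, hs.comm, hs.dense⟩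
  haveI := hc'
  haveI := hci'
  haveI : Mono c' := Over.mono_of_mono_left c'
  obtain ⟨φ', hφ'⟩ := exists_factor c' φ fun x => by
    obtain ⟨χ, hχ⟩ := ptHom_surjective x
    exact ⟨τ χ, hp' ▸ hs.tau_mem χ, by rw [← hχ, hφ]⟩
  haveI : LocallyOfFiniteType G.hom := inferInstance
  haveI : Mono (c' ≫ e.inv ≫ c) := inferInstance
  obtain ⟨w, hw⟩ := TorusIn.exists_fac_field iT (c' ≫ e.inv ≫ c) hT.2.2.1 hCt' hT.2.2.2 fun X t r => by
    have h := (hc.2.2 X ((r ≫ c') ≫ e.inv ≫ c)).1 ⟨(r ≫ c') ≫ e.inv, Category.assoc _ _ _⟩ X (𝟙 X) t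
    simp only [Category.id_comp, Category.assoc] at h ⊢
    exact h.symm
  have hφt : φ ≫ e.inv = φ' ≫ w ≫ t₁ := by
    rw [← cancel_mono c, Category.assoc, Category.assoc, Category.assoc, ht₁, hw, reassoc_of% hφ']
  have hcent : ∀ {X : Over (Spec (CommRingCat.of k))} (x y : X ⟶ GA k A), Commute (x ≫ φ) y := fun {X} x y => by
    have h : ((x ≫ φ) ≫ e.inv) * (y ≫ e.inv) = (y ≫ e.inv) * ((x ≫ φ) ≫ e.inv) := by
      rw [← cancel_mono c, MonObj.mul_comp _ _ c, MonObj.mul_comp _ _ c, Category.assoc x, hφt]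
      have h := (hc.2.2 X ((y ≫ e.inv) ≫ c)).1 ⟨_, rfl⟩ X (𝟙 X) (x ≫ φ' ≫ w)
      simp only [Category.id_comp, Category.assoc, ht₁] at h ⊢
      exact h.symm
    rw [← MonObj.mul_comp _ _ e.inv, ← MonObj.mul_comp _ _ e.inv, cancel_mono] at h
    exact h
  haveI : IsAffine (GA k A ⊗ GA k A).left :=
    inferInstanceAs (IsAffine (Limits.pullback (GA k A).hom (GA k A).hom))
  haveI : Smooth (GA k A ⊗ GA k A).hom := by rw [Over.tensorObj_hom]; infer_instance
  haveI : IsMonHom φ := HomDS.isMonHom_of_points φ fun X x y => by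
    have h : (fst (GA k A) (GA k A) * snd (GA k A) (GA k A)) ≫ φ = (fst _ _ ≫ φ) * (snd _ _ ≫ φ) :=
      hom_ext_of_points _ _ fun z => by
        obtain ⟨a, ha⟩ := ptHom_surjective (z ≫ fst (GA k A) (GA k A))
        obtain ⟨b, hb⟩ := ptHom_surjective (z ≫ snd (GA k A) (GA k A))
        rw [← Category.assoc, MonObj.comp_mul, MonObj.comp_mul, ← Category.assoc, ← Category.assoc, ← ha, ← hb,
          ← map_mul, hφ, hφ, hφ, map_mul, map_mul]
    have h' := congrArg (lift x y ≫ ·) h
    simp only [MonObj.comp_mul, lift_fst_assoc, lift_snd_assoc] at h'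
    rw [← Category.assoc, MonObj.comp_mul, lift_fst, lift_snd] at h'
    exact h'
  let ψ : GA k A ⟶ GA k A := (𝟙 _) * φ⁻¹
  have hψ : ∀ {X : Over (Spec (CommRingCat.of k))} (x : X ⟶ GA k A), x ≫ ψ = x * (x ≫ φ)⁻¹ := fun x => by
    simp only [ψ, MonObj.comp_mul, GrpObj.comp_inv, Category.comp_id]
  haveI : IsMonHom ψ := HomDS.isMonHom_of_points ψ fun X x y => by
    rw [hψ, hψ, hψ, MonObj.mul_comp _ _ φ, _root_.mul_inv_rev]
    have h1 : Commute (x ≫ φ)⁻¹ (y * (y ≫ φ)⁻¹) := (hcent x _).inv_left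
    calc x * y * ((y ≫ φ)⁻¹ * (x ≫ φ)⁻¹) = x * ((y * (y ≫ φ)⁻¹) * (x ≫ φ)⁻¹) := by group
      _ = x * ((x ≫ φ)⁻¹ * (y * (y ≫ φ)⁻¹)) := by rw [h1.eq]
      _ = x * (x ≫ φ)⁻¹ * (y * (y ≫ φ)⁻¹) := by group
  obtain ⟨V, _, v, hv1, hv2, hv3, hv4, -, hfac, hpt⟩ := exists_subgroup U hs.clU hs.irrU
  haveI := hv1
  haveI := hv2
  haveI := hv3
  haveI := hv4
  haveI : Mono v := Over.mono_of_mono_left v
  haveI : IsAffine V.left := isAffine_of_isAffineHom v.left
  have hnoV : Unipotent.NoTorsion V := fun x m hm hx => by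
    obtain ⟨s, hsU, hxs⟩ := hpt x
    have hsm : s ^ m = 1 := ptHom_injective (by rw [map_pow, ← hxs, ← Unipotent.pow_comp, hx, MonObj.one_comp, map_one])
    rw [← cancel_mono v, MonObj.one_comp, hxs, Cartan.eq_one_of_nilp hσ.faith hm hsm ((hs.nilp s).mpr hsU), map_one]
  obtain ⟨π, hπ⟩ := hfac (GA k A) ψ (algHomOf_eq_zero (T := (U : Set (HopfPts.Pt k A))) _ fun x => by
    obtain ⟨g, hg⟩ := ptHom_surjective x
    refine ⟨g * (τ g)⁻¹, (hs.tau_ker _).1 ?_, ?_⟩
    · rw [map_mul, map_inv, hs.tau_fix _ (hs.tau_mem g), mul_inv_cancel]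
    · rw [hψ, ← hg, hφ, map_mul, map_inv])
  haveI : IsMonHom π := HomDS.isMonHom_of_points π fun X x y => by
    rw [← cancel_mono v, MonObj.mul_comp _ _ v, Category.assoc, Category.assoc, Category.assoc, hπ, MonObj.mul_comp]
  have h1 := congrArg (· ≫ v) (hom_eq_one_of_noTorsion hnoV hH (u₁ ≫ e.hom ≫ π))
  simp only [Category.assoc, hπ, MonObj.one_comp] at h1
  rw [← Category.assoc u₁ e.hom ψ, hψ, mul_inv_eq_one] at h1
  refine ⟨u₁ ≫ e.hom ≫ φ' ≫ w, ?_⟩
  simp only [Category.assoc, hw]
  rw [reassoc_of% hφ', ← reassoc_of% h1, e.hom_inv_id_assoc, hu₁]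

end Field

end Groth.Agent.H87.CartanUnip
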