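import Groth.Agent.H87.Normal
import Groth.Agent.H87.HomDS
import Groth.Agent.S5342
import Mathlib.GroupTheory.Nilpotent

/-!
Homomorphisms from groups of multiplicative type to connected nilpotent groups over a field are central.
-/

set_option autoImplicit false
set_option linter.style.haveILetI false
universe u

open CategoryTheory CategoryTheory.Limits MonoidalCategory CartesianMonoidalCategory MonObj GrpObj AlgebraicGeometry
open Groth.Agent.Lib.RedPts
open scoped commutatorElement

set_option linter.unusedSectionVars false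

namespace Groth.Agent.H87.NilCentral

section Pure

theorem commutator_mul_right {P : Type*} [Group P] (a b b' : P) (h : Commute ⁅a, b'⁆ b) :
    ⁅a, b * b'⁆ = ⁅a, b⁆ * ⁅a, b'⁆ := by
  have h' : ⁅a, b * b'⁆ = ⁅a, b⁆ * (b * ⁅a, b'⁆ * b⁻¹) := by
    simp only [commutatorElement_def]
    group
  rw [h', ← h.eq, mul_inv_cancel_right]

end Pure

variable {k : Type u} [Field k]

variable {G : Over (Spec (CommRingCat.of k))} [GrpObj G]

/-- Precomposition as a homomorphism. -/
noncomputable def preHom {X Y : Over (Spec (CommRingCat.of k))} (t : X ⟶ Y) : (Y ⟶ G) →* (X ⟶ G) where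
  toFun g := t ≫ g
  map_one' := MonObj.comp_one t
  map_mul' a b := MonObj.comp_mul t a b

theorem comp_mem_lcs {X Y : Over (Spec (CommRingCat.of k))} (t : X ⟶ Y) {c : Y ⟶ G} {j : ℕ}
    (hc : c ∈ (⊤ : Subgroup (Y ⟶ G)).lowerCentralSeries j) :
    t ≫ c ∈ (⊤ : Subgroup (X ⟶ G)).lowerCentralSeries j := by
  have h : preHom t c ∈ ((⊤ : Subgroup (Y ⟶ G)).map (preHom t)).lowerCentralSeries j := by
    rw [← Subgroup.map_lowerCentralSeries]
    exact Subgroup.mem_map_of_mem _ hc
  have hmono : ∀ n, ((⊤ : Subgroup (Y ⟶ G)).map (preHom t)).lowerCentralSeries n ≤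
      (⊤ : Subgroup (X ⟶ G)).lowerCentralSeries n := by
    intro n
    induction n with
    | zero => exact le_top
    | succ n ih => exact Subgroup.commutator_mono ih le_top
  exact hmono j h

theorem comp_commutator {X Y : Over (Spec (CommRingCat.of k))} (t : X ⟶ Y) (a b : Y ⟶ G) : t ≫ ⁅a, b⁆ = ⁅t ≫ a, t ≫ b⁆ :=
  map_commutatorElement (preHom t) a b

variable [IsAffine G.left] [LocallyOfFiniteType G.hom] [ConnectedSpace G.left]
  {M' : Over (Spec (CommRingCat.of k))} [GrpObj M'] (u : M' ⟶ G) [IsMonHom u]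

/-- Connected finite type base with a rational point. -/
structure Good (T : Over (Spec (CommRingCat.of k))) (e : 𝟙_ (Over (Spec (CommRingCat.of k))) ⟶ T) : Prop where
  lft : LocallyOfFiniteType T.hom
  conn : ConnectedSpace T.left

/-- A section into a group commutes with the image of `u`. -/
def Central {T : Over (Spec (CommRingCat.of k))} (c : T ⟶ G) : Prop :=
  ∀ (X : Over (Spec (CommRingCat.of k))) (x : X ⟶ T) (m : X ⟶ M'), Commute (x ≫ c) (m ≫ u)

theorem good_tensor {T : Over (Spec (CommRingCat.of k))} {e : 𝟙_ (Over (Spec (CommRingCat.of k))) ⟶ T} (h : Good T e) : Good (T ⊗ G) (lift e η[G]) := by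
  haveI := h.lft
  haveI := h.conn
  refine ⟨?_, Groth.Agent.S5342.result k T.left G.left T.hom G.hom e.left (Over.w e)⟩
  change LocallyOfFiniteType (pullback.fst T.hom G.hom ≫ T.hom)
  infer_instance

/-- The descending step. -/
theorem central_step (hM : SGA3x.IsMultTypeFT M') {T : Over (Spec (CommRingCat.of k))} {e : 𝟙_ (Over (Spec (CommRingCat.of k))) ⟶ T} (hT : Good T e)
    (c : T ⟶ G) (he : e ≫ c = 1) (hnext : Central u ⁅fst T G ≫ c, snd T G⁆) : Central u c := by
  haveI := hT.lft
  haveI := hT.conn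
  have hκ : ∀ (X : Over (Spec (CommRingCat.of k))) (x : X ⟶ T) (m m' : X ⟶ M'), Commute ⁅x ≫ c, m ≫ u⁆ (m' ≫ u) := by
    intro X x m m'
    have h := hnext X (lift x (m ≫ u)) m'
    rwa [comp_commutator, lift_fst_assoc, lift_snd] at h
  let t : T.left ⟶ (Spec (CommRingCat.of k)) := T.hom
  let π : ∀ X : Over T.left, (Over.map t).obj X ⟶ T := fun X => Over.homMk X.hom
  let v : Red.bc t M' ⟶ Red.bc t G :=
    BC.up t ⁅π (Red.bc t M') ≫ c, BC.down t (𝟙 (Red.bc t M')) ≫ u⁆
  have hv : ∀ (X : Over T.left) (a : X ⟶ Red.bc t M'),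
      BC.down t (a ≫ v) = ⁅π X ≫ c, BC.down t a ≫ u⁆ := by
    intro X a
    rw [BC.down_comp, BC.down_up, comp_commutator, ← Category.assoc, ← Category.assoc]
    rw [← BC.down_comp, Category.comp_id,
      show (Over.map t).map a ≫ π (Red.bc t M') = π X from Over.OverMorphism.ext (Over.w a)]
  haveI : IsMonHom v := HomDS.isMonHom_of_points _ fun X a b => BC.down_injective (by
    rw [hv, BC.down_mul, BC.down_mul, hv, hv, MonObj.mul_comp]
    exact commutator_mul_right _ _ _ (hκ _ _ _ _))
  haveI : IsLocallyNoetherian T.left := LocallyOfFiniteType.isLocallyNoetherian T.hom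
  haveI : IsSeparated G.hom := inferInstance
  haveI : IsSeparated (Red.bc t G).hom := inferInstanceAs (IsSeparated (pullback.snd G.hom t))
  obtain ⟨U, hUc, hU, hk⟩ := Locus.exists_trivial_locus v (Normal.multTypeFT_bc hM t) (Or.inl inferInstance)
  have hpt : Locus.Kills v e.left := fun Y p γ => BC.down_injective (by
    rw [hv, BC.down_one]
    let q : (Over.map t).obj Y ⟶ 𝟙_ (Over (Spec (CommRingCat.of k))) := Over.homMk p.left (by
      show p.left ≫ 𝟙 (Spec (CommRingCat.of k)) = Y.hom ≫ t
      rw [← Over.w p]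
      exact (Category.comp_id _).trans (((Category.assoc _ _ _).trans
        (congrArg (p.left ≫ ·) (Over.w e))).trans (Category.comp_id _)).symm)
    have hq : π Y = q ≫ e := Over.OverMorphism.ext (Over.w p).symm
    rw [hq, Category.assoc, he, MonObj.comp_one, commutatorElement_one_left])
  have hmem : e.left (IsLocalRing.closedPoint k) ∈ (U : Set T.left) := by
    rw [hU]
    exact (Locus.kills_point_iff v e.left).1 hpt
  have htop : (U : Set T.left) = Set.univ := IsClopen.eq_univ ⟨hUc, U.2⟩ ⟨_, hmem⟩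
  have hkid : Locus.Kills v (𝟙 T.left) := by
    haveI : IsOpenImmersion U.ι := inferInstance
    let l : T.left ⟶ (U : Scheme.{u}) := IsOpenImmersion.lift U.ι (𝟙 _) (by
      rw [Scheme.Opens.range_ι, htop]; exact Set.subset_univ _)
    exact Locus.kills_congr v (IsOpenImmersion.lift_fac _ _ _) (Locus.kills_comp v l hk)
  intro X x m
  let X' : Over T.left := Over.mk x.left
  let θ : (Over.map t).obj X' ≅ X := Over.isoMk (Iso.refl _) ((Category.id_comp _).trans (Over.w x).symm)
  have hx : π X' = θ.hom ≫ x := Over.OverMorphism.ext (Category.id_comp _).symm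
  have h := hkid X' (Over.homMk X'.hom) (BC.up t (θ.hom ≫ m))
  have h' := congrArg (BC.down t) h
  rw [hv, BC.down_one, BC.down_up, hx, Category.assoc, Category.assoc, ← comp_commutator] at h'
  refine commutatorElement_eq_one_iff_commute.1 ?_
  rw [← cancel_epi θ.hom, MonObj.comp_one]
  exact h'

theorem central_of_lcs (hM : SGA3x.IsMultTypeFT M') {n : ℕ}
    (hn : ∀ X : Over (Spec (CommRingCat.of k)), (⊤ : Subgroup (X ⟶ G)).lowerCentralSeries n = ⊥) :
    ∀ (d j : ℕ), j + d = n → ∀ (T : Over (Spec (CommRingCat.of k))) (e : 𝟙_ (Over (Spec (CommRingCat.of k))) ⟶ T), Good T e →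
      ∀ c : T ⟶ G, e ≫ c = 1 → c ∈ (⊤ : Subgroup (T ⟶ G)).lowerCentralSeries j → Central u c := by
  intro d
  induction d with
  | zero =>
    intro j hj T e _ c _ hc X x m
    have h1 : c = 1 := by
      rw [← Subgroup.mem_bot, ← hn T]
      exact (show j = n by omega) ▸ hc
    rw [h1, MonObj.comp_one]
    exact Commute.one_left _
  | succ d ih =>
    intro j hj T e hT c he hc
    refine central_step u hM hT c he (ih (j + 1) (by omega) _ _ (good_tensor hT) _ ?_ ?_)
    · rw [comp_commutator, lift_fst_assoc, he, commutatorElement_one_left]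
    · exact Subgroup.commutator_mem_commutator (comp_mem_lcs (fst T G) hc) (Subgroup.mem_top _)

/-- Homomorphisms from groups of multiplicative type into connected nilpotent groups are central. -/
theorem central (hM : SGA3x.IsMultTypeFT M')
    (hnil : ∃ n : ℕ, ∀ X : Over (Spec (CommRingCat.of k)), (⊤ : Subgroup (X ⟶ G)).lowerCentralSeries n = ⊥)
    (X : Over (Spec (CommRingCat.of k))) (m : X ⟶ M') (g : X ⟶ G) : (m ≫ u) * g = g * (m ≫ u) := by
  obtain ⟨n, hn⟩ := hnil
  have h := central_of_lcs u hM hn n 0 (by omega) G η[G] ⟨inferInstance, inferInstance⟩ (𝟙 G)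
    (by rw [Category.comp_id, Hom.one_def, toUnit_unique (toUnit _) (𝟙 _), Category.id_comp])
    (Subgroup.mem_top _) X g m
  rw [Category.comp_id] at h
  exact h.eq.symm

end Groth.Agent.H87.NilCentral
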