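import Groth.Agent.H87.EqLocus
import Groth.Agent.H87.Normal
import Groth.Agent.H87.Factor
import Groth.Agent.H87.GmFibre
import Groth.Agent.H87.SplitMax
import Groth.Prelude.Def_RedSub
import Groth.Agent.Lib.DescAlg.DDFam.Cover

/-!
# Quotients of tori by subgroups of multiplicative type
-/

set_option autoImplicit false
universe u

open CategoryTheory MonoidalCategory CartesianMonoidalCategory MonObj GrpObj AlgebraicGeometry
open CategoryTheory.Limits
open Groth.Agent.Lib.RedPts Groth.Agent.Lib.Tori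
open Groth.Agent.H87.CentralEq (Fac lo)

namespace Groth.Agent.H87.TorusQuot

set_option linter.style.haveILetI false

variable {S : Scheme.{u}}

/-- `q` is an fppf cover whose kernel is the image of `i`. -/
structure Quot {H T Q : Over S} [GrpObj Q] (i : H ⟶ T) (q : T ⟶ Q) : Prop where
  surj : Surjective q.left
  flat : Flat q.left
  lfp : LocallyOfFinitePresentation q.left
  ker : ∀ {X : Over S} (x : X ⟶ T), x ≫ q = 1 ↔ ∃ h, h ≫ i = x

variable {H T Q : Over S} [GrpObj H] [GrpObj T] [GrpObj Q]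

theorem quot_of_isQuotient (i : H ⟶ T) (q : T ⟶ Q) [IsMonHom q] (hq : RedSub.IsQuotient i q) : Quot i q := by
  obtain ⟨h1, h2, h3, h4⟩ := hq
  have hmul : ∀ {X : Over S} (g : X ⟶ T) (h : X ⟶ H), lift g h ≫ (T ◁ i) ≫ μ[T] = g * (h ≫ i) := fun g h => by
    rw [lift_whiskerLeft_assoc]
    rfl
  refine ⟨h1, h2, h3, fun {X} x => ⟨fun hx => ?_, ?_⟩⟩
  · obtain ⟨l, hl1, hl2⟩ := h4.exists_lift (1 : X ⟶ T) x (by rw [MonObj.one_comp, hx])
    refine ⟨l ≫ snd _ _, ?_⟩
    rw [show l = lift (l ≫ fst _ _) (l ≫ snd _ _) by simp, hmul, hl1, _root_.one_mul] at hl2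
    exact hl2
  · rintro ⟨h, rfl⟩
    have := congrArg (lift (1 : X ⟶ T) h ≫ ·) h4.w
    rw [lift_fst_assoc, MonObj.one_comp, ← Category.assoc (lift _ _) _ q, hmul, _root_.one_mul] at this
    exact this.symm

theorem quot_bc {i : H ⟶ T} {q : T ⟶ Q} (hq : Quot i q) {X : Scheme.{u}} (g : X ⟶ S) :
    Quot ((Over.pullback g).map i) ((Over.pullback g).map q) := by
  refine ⟨Charts.fib_of @Surjective g q hq.surj, Charts.fib_of @Flat g q hq.flat,
    Charts.fib_of @LocallyOfFinitePresentation g q hq.lfp, fun {Y} x => ⟨fun hx => ?_, ?_⟩⟩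
  · have := congrArg (BC.down g) hx
    rw [BC.down_map, BC.down_one] at this
    obtain ⟨h, hh⟩ := (hq.ker _).1 this
    exact ⟨BC.up g h, BC.down_injective (by rw [BC.down_map, BC.down_up, hh])⟩
  · rintro ⟨h, rfl⟩
    apply BC.down_injective
    rw [BC.down_map, BC.down_map, BC.down_one]
    exact (hq.ker _).2 ⟨_, rfl⟩

/-- A quotient with the kernel of a quotient of character groups is diagonalisable. -/
theorem isSplit_of_ker {M : Type} [AddCommGroup M] [AddGroup.FG M] {N : Type} [AddCommGroup N] (φ : M →+ N)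
    (e : Grp.mk T ≅ Grp.mk (Red.DS S M)) (q : T ⟶ Q) [IsMonHom q] [Surjective q.left] [Flat q.left]
    [LocallyOfFinitePresentation q.left]
    (hker : ∀ {X : Over S} (x : X ⟶ T),
      x ≫ q = 1 ↔ x ≫ (BaseChange.overIso e).hom ≫ Red.DSmap S φ.ker.subtype = 1) :
    Nonempty (Grp.mk Q ≅ Grp.mk (Red.DS S φ.ker)) := by
  haveI : IsMonHom (BaseChange.overIso e).inv := inferInstanceAs (IsMonHom (BaseChange.overIso e.symm).hom)
  let f : Red.DS S M ⟶ Q := (BaseChange.overIso e).inv ≫ q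
  haveI : IsMonHom (Red.DSmap S φ.ker.subtype) := Gm.isMonHom_DSmap _
  let inc := Red.DSmap S φ.ker.subtype
  obtain ⟨j, hj, hfac⟩ := Factor.exists_factor (inc := φ.ker.subtype) Subtype.coe_injective f (by
    show _ ≫ (BaseChange.overIso e).inv ≫ q = 1
    rw [← Category.assoc, hker, Category.assoc, Iso.inv_hom_id_assoc]
    exact Gm.dsFn_ext fun n => by
      rw [Gm.dsFn_DSmap, ← Category.id_comp (Red.DSmap S (QuotientAddGroup.mk' _)), Gm.dsFn_DSmap,
        show QuotientAddGroup.mk' φ.ker.subtype.range (φ.ker.subtype n) = 0 from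
          (QuotientAddGroup.eq_zero_iff _).mpr ⟨n, rfl⟩, Gm.dsFn_zero, Gm.dsFn_one])
  haveI := hj
  let p : T ⟶ Red.DS S φ.ker := (BaseChange.overIso e).hom ≫ inc
  have hp : p ≫ j = q := by simp only [p, inc, Category.assoc]; rw [hfac, Iso.hom_inv_id_assoc]
  have hmem : Presieve.ofArrows (fun _ : PUnit.{u + 1} => T.left) (fun _ => q.left) ∈
      Scheme.fpqcPrecoverage Q.left :=
    Scheme.fppfPrecoverage_le_fpqcPrecoverage _
      ((Scheme.ofArrows_mem_precoverage_iff (P := @Flat ⊓ @LocallyOfFinitePresentation)).2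
        ⟨fun x => ⟨⟨⟩, q.left.surjective x⟩, fun _ => ⟨inferInstance, inferInstance⟩⟩)
  have hsh := fun Y => Groth.Agent.Lib.DescAlg.DDFam.Cover.isSheafFor_yoneda hmem Y
  obtain ⟨ll, hll, -⟩ := (Presieve.isSheafFor_arrows_iff _ _).1 (hsh (Red.DS S φ.ker).left) (fun _ => p.left)
    (fun _ _ W a b hab => by
      show a ≫ p.left = b ≫ p.left
      let a' : Over.mk (a ≫ T.hom) ⟶ T := Over.homMk a
      let b' : Over.mk (a ≫ T.hom) ⟶ T := Over.homMk b (by
        show b ≫ T.hom = a ≫ T.hom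
        rw [← Over.w q, ← Category.assoc, ← Category.assoc]
        exact congrArg (· ≫ Q.hom) hab.symm)
      have hq' : a' ≫ q = b' ≫ q := Over.OverMorphism.ext hab
      have h1 : (a' * b'⁻¹) ≫ q = 1 := by
        rw [MonObj.mul_comp, GrpObj.inv_comp, hq', mul_inv_cancel]
      have h2 := (hker _).1 h1
      change (a' * b'⁻¹) ≫ p = 1 at h2
      haveI : IsMonHom inc := Gm.isMonHom_DSmap φ.ker.subtype
      haveI : IsMonHom p := HomDS.isMonHom_of_points p fun Y a b => by
        simp only [p, ← Category.assoc]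
        rw [MonObj.mul_comp a b (BaseChange.overIso e).hom, MonObj.mul_comp _ _ inc]
      rw [@MonObj.mul_comp _ _ _ _ _ _ _ _ a' b'⁻¹ p ‹IsMonHom p›] at h2
      rw [GrpObj.inv_comp b' p, mul_inv_eq_one] at h2
      exact congrArg CommaMorphism.left h2)
  have hll' : q.left ≫ ll = p.left := hll PUnit.unit
  haveI : Epi q.left := Flat.epi_of_flat_of_surjective _
  let l : Q ⟶ Red.DS S φ.ker := Over.homMk ll (by
    rw [← cancel_epi q.left, ← Category.assoc, hll', Over.w p, Over.w q])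
  have hql : q ≫ l = p := Over.OverMorphism.ext hll'
  haveI : Epi q := Over.epi_of_epi_left _
  haveI : Epi p := by
    obtain ⟨hfl, hsj⟩ := Loci.ff_DSmap S (φ := φ.ker.subtype) Subtype.coe_injective
    haveI : Flat inc.left := hfl
    haveI : Surjective inc.left := hsj
    haveI : Epi inc.left := Flat.epi_of_flat_of_surjective _
    haveI : Epi inc := Over.epi_of_epi_left _
    exact epi_comp _ _
  let E : Red.DS S φ.ker ≅ Q :=
    ⟨j, l, by rw [← cancel_epi p, ← Category.assoc, hp, hql, Category.comp_id],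
      by rw [← cancel_epi q, ← Category.assoc, hql, hp, Category.comp_id]⟩
  haveI : IsMonHom E.hom := hj
  exact ⟨(BaseChange.grpIso E).symm⟩

omit [GrpObj H] [GrpObj T] [GrpObj Q] in
/-- Base change of a diagonalisable group, in terms of characters. -/
theorem exists_bcIso (M : Type) [AddCommGroup M] {X : Scheme.{u}} (g : X ⟶ S) :
    ∃ c : Red.bc g (Red.DS S M) ≅ Red.DS X M, IsMonHom c.hom ∧
      ∀ {Y : Over X} (y : Y ⟶ Red.bc g (Red.DS S M)), lo g (y ≫ c.hom) = BC.down g y := by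
  obtain ⟨c, hc⟩ := CentralEq.lo_surjective g (BC.down g (𝟙 (Red.bc g (Red.DS S M))))
  have hcy : ∀ {Y : Over X} (y : Y ⟶ Red.bc g (Red.DS S M)), lo g (y ≫ c) = BC.down g y := fun y => by
    rw [CentralEq.lo_comp, hc, ← BC.down_comp, Category.comp_id]
  refine ⟨⟨c, BC.up g (lo g (𝟙 (Red.DS X M))), BC.down_injective ?_, CentralEq.lo_injective g ?_⟩, ?_, hcy⟩
  · rw [BC.down_comp, BC.down_up, ← CentralEq.lo_comp, Category.comp_id, hc]
  · rw [hcy, BC.down_up]
  · exact HomDS.isMonHom_of_points c fun Y a b => CentralEq.lo_injective g (by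
      rw [hcy, CentralEq.lo_mul, hcy, hcy, BC.down_mul])

omit [GrpObj T] [GrpObj Q] in
/-- At a point, a subgroup of multiplicative type of a diagonalisable group is given by characters. -/
theorem exists_point_fac {M : Type} [AddCommGroup M] [AddGroup.FG M] (i : H ⟶ Red.DS S M) [IsMonHom i] [Mono i]
    (hH : SGA3x.IsMultTypeFT H) (s : S) :
    ∃ (N : Type) (_ : AddCommGroup N) (_ : AddGroup.FG N) (φ : M →+ N), Function.Surjective φ ∧
      Fac i (Red.DSmap S φ) (S.fromSpecResidueField s) ∧ Fac (Red.DSmap S φ) i (S.fromSpecResidueField s) := by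
  obtain ⟨K, hK, k, N, iN, hN, eH, _, _, -, hres⟩ := Factor.exists_point_chart hH s
  obtain ⟨cI, hcm, hcy⟩ := exists_bcIso (S := S) M k
  let c := cI.hom
  haveI : IsMonHom c := hcm
  let EH := BaseChange.overIso eH
  haveI : IsMonHom EH.inv := inferInstanceAs (IsMonHom (BaseChange.overIso eH.symm).hom)
  haveI : IsMonHom ((Over.pullback k).map i) := HomDS.isMonHom_of_points _ fun Y a b => BC.down_injective (by
    rw [BC.down_map, BC.down_mul, BC.down_mul, BC.down_map, BC.down_map, MonObj.mul_comp (BC.down k a) (BC.down k b) i])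
  let v : Red.DS (Spec K) N ⟶ Red.DS (Spec K) M := EH.inv ≫ (Over.pullback k).map i ≫ c
  haveI : IsMonHom v := HomDS.isMonHom_of_points v fun Y a b => by
    simp only [v, ← Category.assoc]
    rw [MonObj.mul_comp a b EH.inv, MonObj.mul_comp _ _ ((Over.pullback k).map i), MonObj.mul_comp _ _ c]
  haveI : Mono v := by unfold v c; infer_instance
  obtain ⟨φ, U', hx, hφ⟩ := LocalForm.exists_local_form_spec v (Classical.arbitrary ↥(Spec K))
  have hU' : ∀ y, y ∈ U' := fun y => Subsingleton.elim (Classical.arbitrary ↥(Spec K)) y ▸ hx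
  have hv : v = Red.DSmap (Spec K) φ :=
    (Category.id_comp _).symm.trans ((hφ _ (Over.homMk (IsOpenImmersion.lift U'.ι (Red.DS _ _).hom
      (by rw [Scheme.Opens.range_ι]; exact fun y _ => hU' y)) (IsOpenImmersion.lift_fac _ _ _)) _).trans
      (Category.id_comp _))
  haveI : Mono (Red.DSmap (Spec K) φ) := hv ▸ ‹Mono v›
  have hsurj : Function.Surjective φ := Loci.surjective_of_mono (A := K) inferInstance
  haveI : IsMonHom (Red.DSmap S φ) := Gm.isMonHom_DSmap _
  haveI : Mono (Red.DSmap S φ) := Loci.mono_DSmap_of_surjective S hsurj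
  have hvy : ∀ {Y : Over (Spec K)} (y : Y ⟶ Red.DS (Spec K) N),
      lo k y ≫ Red.DSmap S φ = BC.down k (y ≫ EH.inv) ≫ i := fun y => by
    rw [← Factor.lo_DSmap, ← hv, ← BC.down_map, ← hcy]
    simp only [v, c, Category.assoc]
  have hf1 : Fac i (Red.DSmap S φ) k := by
    intro Y p x
    let ε : (Over.map k).obj (Over.mk p.left) ≅ Y :=
      Over.isoMk (Iso.refl _) ((Category.id_comp _).trans (Over.w p).symm)
    refine ⟨ε.inv ≫ lo k (BC.up k (ε.hom ≫ x) ≫ EH.hom), ?_⟩
    rw [Category.assoc, hvy, Category.assoc _ EH.hom EH.inv, Iso.hom_inv_id, Category.comp_id, BC.down_up]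
    simp
  have hf2 : Fac (Red.DSmap S φ) i k := by
    intro Y p x
    let ε : (Over.map k).obj (Over.mk p.left) ≅ Y :=
      Over.isoMk (Iso.refl _) ((Category.id_comp _).trans (Over.w p).symm)
    obtain ⟨y, hy⟩ := CentralEq.lo_surjective k (ε.hom ≫ x)
    refine ⟨ε.inv ≫ BC.down k (y ≫ EH.inv), ?_⟩
    rw [Category.assoc, ← hvy, hy]
    simp
  refine ⟨N, iN, hN, φ, hsurj, ?_, ?_⟩
  · exact (CentralEq.fib_iso_iff _ _ _).1 ((hres (MorphismProperty.isomorphisms Scheme) _).1
      ((CentralEq.fib_iso_iff _ _ k).2 hf1))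
  · exact (CentralEq.fib_iso_iff _ _ _).1 ((hres (MorphismProperty.isomorphisms Scheme) _).1
      ((CentralEq.fib_iso_iff _ _ k).2 hf2))

omit [GrpObj T] [GrpObj Q] in
/-- Near each point a subgroup of multiplicative type of a diagonalisable group is given by characters. -/
theorem exists_clopen_fac {M : Type} [AddCommGroup M] [AddGroup.FG M] (i : H ⟶ Red.DS S M) [IsMonHom i] [Mono i]
    (hH : SGA3x.IsMultTypeFT H) (s : S) :
    ∃ U : S.Opens, IsClosed (U : Set S) ∧ s ∈ U ∧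
      ∃ (N : Type) (_ : AddCommGroup N) (φ : M →+ N), Function.Surjective φ ∧
        Fac i (Red.DSmap S φ) U.ι ∧ Fac (Red.DSmap S φ) i U.ι := by
  obtain ⟨N, iN, hN, φ, hsurj, h1, h2⟩ := exists_point_fac i hH s
  haveI : IsMonHom (Red.DSmap S φ) := Gm.isMonHom_DSmap _
  haveI : Mono (Red.DSmap S φ) := Loci.mono_DSmap_of_surjective S hsurj
  have hMN : SGA3x.IsMultTypeFT (Red.DS S N) :=
    ⟨S, 𝟙 _, inferInstance, inferInstance, fun V hV => ⟨V, hV.isCompact, by simp⟩, fun x =>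
      ⟨⊤, trivial, N, iN, hN, ⟨DS.dsBC N _⟩⟩⟩
  haveI : IsSeparated (Red.DS S M).hom := by
    haveI : IsAffineHom (Red.DS S M).hom := DS.isAffineHom S M
    infer_instance
  haveI : LocallyOfFinitePresentation (Red.DS S M).hom := DS.locallyOfFinitePresentation S M
  have hcomm : ∀ (X : Over S) (a b : X ⟶ Red.DS S M), a * b = b * a := fun X a b =>
    Gm.dsFn_ext fun m => by rw [Gm.dsFn_mul, Gm.dsFn_mul, _root_.mul_comm]
  obtain ⟨U₁, hU₁c, hU₁, hU₁f⟩ := EqLocus.exists_fac_locus i (Red.DSmap S φ) hH hMN (Or.inr inferInstance)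
    (fun X h h' => hcomm _ _ _)
  obtain ⟨U₂, hU₂c, hU₂, hU₂f⟩ := EqLocus.exists_fac_locus (Red.DSmap S φ) i hMN hH (Or.inr inferInstance)
    (fun X h h' => hcomm _ _ _)
  refine ⟨U₁ ⊓ U₂, hU₁c.inter hU₂c, ⟨(hU₁ s).2 h1, (hU₂ s).2 h2⟩, N, iN, φ, hsurj, ?_, ?_⟩
  · exact fun Y p x => hU₁f Y (p ≫ Over.homMk (S.homOfLE inf_le_left) (S.homOfLE_ι _)) x
  · exact fun Y p x => hU₂f Y (p ≫ Over.homMk (S.homOfLE inf_le_right) (S.homOfLE_ι _)) x

/-- The quotient of a split torus is split near each point. -/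
theorem exists_clopen_split (r : ℕ) (e : Grp.mk T ≅ Grp.mk (Red.DS S (Fin r → ℤ))) (i : H ⟶ T) [IsMonHom i] [Mono i]
    (hH : SGA3x.IsMultTypeFT H) (q : T ⟶ Q) [IsMonHom q] (hq : Quot i q) (s : S) :
    ∃ U : S.Opens, IsClosed (U : Set S) ∧ s ∈ U ∧
      ∃ r' : ℕ, r' ≤ r ∧ Red.IsSplitTorusWith (Fin r' → ℤ) (Red.bc U.ι Q) := by
  let E := BaseChange.overIso e
  let i₁ : H ⟶ Red.DS S (Fin r → ℤ) := i ≫ E.hom
  haveI : IsMonHom i₁ := HomDS.isMonHom_of_points i₁ fun Y a b => by
    simp only [i₁, ← Category.assoc]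
    rw [MonObj.mul_comp a b i, MonObj.mul_comp _ _ E.hom]
  haveI : Mono i₁ := mono_comp _ _
  obtain ⟨U, hUc, hsU, N, iN, φ, hsurj, hf1, hf2⟩ := exists_clopen_fac i₁ hH s
  haveI : Module.Finite ℤ φ.ker := Module.Finite.iff_addGroup_fg.mpr ((AddGroup.fg_iff_addSubgroup_fg φ.ker).mpr
    (Submodule.fg_iff_addSubgroup_fg φ.ker.toIntSubmodule |>.mp (IsNoetherian.noetherian _)))
  haveI : Module.Free ℤ φ.ker := inferInstance
  refine ⟨U, hUc, hsU, Module.finrank ℤ φ.ker, ?_, ?_⟩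
  · refine le_trans (LinearMap.finrank_le_finrank_of_injective (f := φ.ker.subtype.toIntLinearMap)
      Subtype.coe_injective) ?_
    simp
  let u := U.ι
  obtain ⟨cI, hcm, hcy⟩ := exists_bcIso (S := S) (Fin r → ℤ) u
  haveI := hcm
  let eU : Grp.mk (Red.bc u T) ≅ Grp.mk (Red.DS (U : Scheme.{u}) (Fin r → ℤ)) :=
    BaseChange.bcMapIso u e ≪≫ BaseChange.grpIso cI
  haveI : IsMonHom ((Over.pullback u).map q) := HomDS.isMonHom_of_points _ fun Y a b => BC.down_injective (by
    rw [BC.down_map, BC.down_mul, BC.down_mul, BC.down_map, BC.down_map, MonObj.mul_comp])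
  have hqU := quot_bc hq u
  haveI := hqU.surj
  haveI := hqU.flat
  haveI := hqU.lfp
  obtain ⟨eQ⟩ := isSplit_of_ker φ eU ((Over.pullback u).map q) (fun {Y} x => by
    rw [hqU.ker x]
    have hlo : lo u (x ≫ (BaseChange.overIso eU).hom) = BC.down u x ≫ E.hom := by
      show lo u (x ≫ (Over.pullback u).map E.hom ≫ cI.hom) = _
      rw [← Category.assoc, hcy, BC.down_map]
    let p : (Over.map u).obj Y ⟶ Over.mk U.ι :=
      Over.homMk (U := (Over.map u).obj Y) (V := Over.mk U.ι) Y.hom rfl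
    constructor
    · rintro ⟨h, rfl⟩
      apply CentralEq.lo_injective u
      rw [← Category.assoc, Factor.lo_DSmap, hlo, BC.down_map, Category.assoc (BC.down u h)]
      obtain ⟨h', hh'⟩ := hf1 _ p (BC.down u h)
      rw [show BC.down u h ≫ i ≫ E.hom = h' ≫ Red.DSmap S φ from hh'.symm, Category.assoc, Factor.DSmap_comp,
        show φ.comp φ.ker.subtype = 0 from AddMonoidHom.ext fun n => n.2, Factor.DSmap_zero, MonObj.comp_one]
      exact (Gm.dsFn_ext fun m => by rw [CentralEq.dsFn_lo, Gm.dsFn_one, Gm.dsFn_one]).symm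
    · intro hx
      let z := BC.down u x ≫ E.hom
      have hz : ∀ m, φ m = 0 → Gm.dsFn z m = 1 := fun m hm => by
        show Gm.dsFn (BC.down u x ≫ E.hom) m = 1
        rw [← hlo, CentralEq.dsFn_lo]
        have := congrArg (fun w => Gm.dsFn w (⟨m, hm⟩ : φ.ker)) hx
        rw [← Category.assoc, Gm.dsFn_DSmap, Gm.dsFn_one] at this
        exact this
      have hsub : ∀ a b, φ a = φ b → Gm.dsFn z a = Gm.dsFn z b := fun a b hab => by
        have := Gm.dsFn_add z b (a - b)
        rw [add_sub_cancel, hz (a - b) (by rw [map_sub, hab, sub_self]), _root_.mul_one] at this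
        exact this
      let χ : Multiplicative N →* Γ(((Over.map u).obj Y).left, ⊤) :=
        { toFun := fun n => Gm.dsFn z (Function.surjInv hsurj n.toAdd)
          map_one' := hz _ (Function.surjInv_eq hsurj _)
          map_mul' := fun a b => by
            rw [← Gm.dsFn_add]
            exact hsub _ _ (by rw [map_add, Function.surjInv_eq hsurj, Function.surjInv_eq hsurj,
              Function.surjInv_eq hsurj, toAdd_mul]) }
      have hzφ : Gm.dsPt χ ≫ Red.DSmap S φ = z := Gm.dsFn_ext fun m => by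
        rw [Gm.dsFn_DSmap, Gm.dsFn_dsPt]
        exact hsub _ _ (Function.surjInv_eq hsurj _)
      obtain ⟨h', hh'⟩ := hf2 _ p (Gm.dsPt χ)
      refine ⟨BC.up u h', BC.down_injective ?_⟩
      rw [BC.down_map, BC.down_up, ← cancel_mono E.hom, Category.assoc]
      exact hh'.trans hzφ)
  exact ⟨eQ ≪≫ DS.dsIso _ (Module.finBasis ℤ φ.ker).equivFun.symm.toAddEquiv⟩

/-- Where the torus is split after a base change, the quotient is split near each point. -/
theorem exists_nhd_split {S' : Scheme.{u}} (f : S' ⟶ S) (O : S'.Opens) (r : ℕ)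
    (hT : Red.IsSplitTorusWith (Fin r → ℤ) (Red.bc (O.ι ≫ f) T)) (i : H ⟶ T) [IsMonHom i] [Mono i]
    (hH : SGA3x.IsMultTypeFT H) (q : T ⟶ Q) [IsMonHom q] (hq : Quot i q) (x : S') (hx : x ∈ O) :
    ∃ V : S'.Opens, x ∈ V ∧ ∃ r' : ℕ, r' ≤ r ∧ Red.IsSplitTorusWith (Fin r' → ℤ) (Red.bc (V.ι ≫ f) Q) := by
  obtain ⟨e⟩ := hT
  let g := O.ι ≫ f
  haveI : IsMonHom ((Over.pullback g).map i) := HomDS.isMonHom_of_points _ fun Y a b => BC.down_injective (by
    rw [BC.down_map, BC.down_mul, BC.down_mul, BC.down_map, BC.down_map, MonObj.mul_comp])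
  haveI : IsMonHom ((Over.pullback g).map q) := HomDS.isMonHom_of_points _ fun Y a b => BC.down_injective (by
    rw [BC.down_map, BC.down_mul, BC.down_mul, BC.down_map, BC.down_map, MonObj.mul_comp])
  obtain ⟨W, -, hxW, r', hr', ⟨eW⟩⟩ := exists_clopen_split r e ((Over.pullback g).map i)
    (Normal.multTypeFT_bc hH g) ((Over.pullback g).map q) (quot_bc hq g) (⟨x, hx⟩ : (O : Scheme.{u}))
  refine ⟨O.ι ''ᵁ W, ⟨⟨x, hx⟩, hxW, rfl⟩, r', hr', ?_⟩
  let h := (O.ι.isoImage W).inv
  have hh : h ≫ W.ι ≫ g = (O.ι ''ᵁ W).ι ≫ f := by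
    simp only [h, g, ← Category.assoc]
    rw [Category.assoc _ W.ι O.ι, Scheme.Hom.isoImage_inv_ι]
  let e₂ : Grp.mk (Red.bc (W.ι ≫ g) Q) ≅ Grp.mk (Red.DS (W : Scheme.{u}) (Fin r' → ℤ)) :=
    BaseChange.bcComp W.ι g Q ≪≫ eW
  exact ⟨BaseChange.bcCongr hh.symm Q ≪≫ Charts.resChart e₂ h⟩

end Groth.Agent.H87.TorusQuot
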