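import Groth.Agent.H87.Normal
import Groth.Agent.H87.NilCentral
import Groth.Agent.H87.TorusQuot
import Groth.Agent.Lib.FreeRes.SubGrp
import Groth.Agent.Lib.GrpQ.ThirdIso
import Groth.Agent.S5431
import Mathlib.AlgebraicGeometry.Sites.Fpqc

/-!
Preimages of central subgroups of multiplicative type under a quotient by a central subgroup of multiplicative type.
-/

set_option autoImplicit false
set_option linter.style.haveILetI false
set_option linter.unusedSectionVars false
universe u

open CategoryTheory CategoryTheory.Limits MonoidalCategory CartesianMonoidalCategory MonObj GrpObj AlgebraicGeometry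
open Groth.Agent.Lib.RedPts
open scoped commutatorElement

namespace Groth.Agent.H87.CentralExt

variable {S : Scheme.{u}}

/-- Morphisms descend along a covering over the base. -/
theorem exists_desc {T' T Y : Over S} (c : T' ⟶ T) [Surjective c.left] [Flat c.left]
    [LocallyOfFinitePresentation c.left] (f : T' ⟶ Y)
    (h : ∀ (W : Over S) (a b : W ⟶ T'), a ≫ c = b ≫ c → a ≫ f = b ≫ f) : ∃ g : T ⟶ Y, c ≫ g = f := by
  have hd : ∀ {W : Scheme.{u}} (g₁ g₂ : W ⟶ T'.left), g₁ ≫ c.left = g₂ ≫ c.left → g₁ ≫ f.left = g₂ ≫ f.left := by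
    intro W g₁ g₂ hg
    have hb : g₂ ≫ T'.hom = g₁ ≫ T'.hom := by
      rw [← Over.w c, ← Category.assoc, ← hg, Category.assoc]
    let b : Over.mk (g₁ ≫ T'.hom) ⟶ T' := Over.homMk g₂ hb
    exact congr(($(h _ (Over.homMk g₁ : Over.mk (g₁ ≫ T'.hom) ⟶ T') b (Over.OverMorphism.ext hg))).left)
  haveI : Epi c.left := Flat.epi_of_flat_of_surjective _
  refine ⟨Over.homMk (EffectiveEpi.desc c.left f.left hd) ?_, Over.OverMorphism.ext (EffectiveEpi.fac _ _ hd)⟩
  rw [← cancel_epi c.left, EffectiveEpi.fac_assoc, Over.w f, Over.w c]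

/-- Coverings are epimorphisms over the base. -/
theorem epi_of_cover {T' T : Over S} (c : T' ⟶ T) [Surjective c.left] [Flat c.left] : Epi c :=
  (Over.forget S).epi_of_epi_map (show Epi c.left from Flat.epi_of_flat_of_surjective _)

/-- A covering whose self fibre product is quasi-compact over it is quasi-compact. -/
theorem quasiCompact_of_kernelPair {A X Y : Scheme.{u}} {a b : A ⟶ X} {q : X ⟶ Y} (h : IsPullback a b q q)
    [QuasiCompact a] [Flat q] [LocallyOfFinitePresentation q] [Surjective q] : QuasiCompact q := by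
  refine ⟨fun U hU hUc => ?_⟩
  obtain ⟨V, hVc, hV⟩ := q.isOpenMap.exists_opens_image_eq_of_prespectralSpace q.continuous
    (by rw [q.surjective.range_eq]; exact Set.subset_univ _) hU hUc
  have : q ⁻¹' U = b '' (a ⁻¹' (V : Set X)) := by
    ext y
    constructor
    · intro hy
      obtain ⟨x, hx, hxy⟩ : q y ∈ q '' (V : Set X) := hV.symm ▸ hy
      obtain ⟨w, hw₁, hw₂⟩ := Scheme.Pullback.exists_preimage_pullback (f := q) (g := q) x y hxy
      refine ⟨h.isoPullback.inv w, ?_, ?_⟩
      · show a (h.isoPullback.inv w) ∈ V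
        rw [← Scheme.Hom.comp_apply, h.isoPullback_inv_fst, hw₁]
        exact hx
      · rw [← Scheme.Hom.comp_apply, h.isoPullback_inv_snd, hw₂]
    · rintro ⟨w, hw, rfl⟩
      show q (b w) ∈ U
      rw [← Scheme.Hom.comp_apply, ← h.w, Scheme.Hom.comp_apply, ← hV]
      exact ⟨_, hw, rfl⟩
  rw [this]
  exact (a.isCompact_preimage hVc).image b.continuous

variable {G G' Z H : Over S} [GrpObj G] [GrpObj G'] [GrpObj Z] [GrpObj H]

/-- Commuting points give a commutative group object. -/
theorem isComm_of_points {P : Over S} [GrpObj P] (h : ∀ (X : Over S) (a b : X ⟶ P), a * b = b * a) :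
    IsCommMonObj P := by
  constructor
  have h1 := h (P ⊗ P) (snd P P) (fst P P)
  rw [Hom.mul_def, Hom.mul_def] at h1
  rw [show (β_ P P).hom = lift (snd P P) (fst P P) by ext <;> simp, h1, lift_fst_snd, Category.id_comp]

theorem group_conj_central {P : Type*} [Group P] {g x n : P} (h : ∀ y : P, n * y = y * n) :
    ⁅g, x * n⁆ = ⁅g, x⁆ := by
  rw [commutatorElement_def, commutatorElement_def, _root_.mul_inv_rev]
  have h1 : g * (x * n) * g⁻¹ = g * x * g⁻¹ * n := by
    rw [← _root_.mul_assoc, _root_.mul_assoc (g * x) n, h, ← _root_.mul_assoc]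
  rw [h1, _root_.mul_assoc (g * x * g⁻¹), ← _root_.mul_assoc n, mul_inv_cancel, _root_.one_mul]

variable (q : G ⟶ G') [IsMonHom q] (z : Z ⟶ G) [IsMonHom z] [Mono z] (v : H ⟶ G') [IsMonHom v]

/-- The commutator pairing of the group with the preimage descends. -/
theorem exists_pairing (hq : TorusQuot.Quot z q)
    (hzc : ∀ (X : Over S) (x : X ⟶ Z) (g : X ⟶ G), (x ≫ z) * g = g * (x ≫ z))
    (hvc : ∀ (X : Over S) (x : X ⟶ H) (g : X ⟶ G'), (x ≫ v) * g = g * (x ≫ v)) :
    ∃ κ : G ⊗ H ⟶ Z, (∀ (W : Over S) (g x : W ⟶ G) (h : W ⟶ H), x ≫ q = h ≫ v → lift g h ≫ κ ≫ z = ⁅g, x⁆) ∧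
      (∀ (W : Over S) (g : W ⟶ G) (h h' : W ⟶ H), lift g (h * h') ≫ κ = (lift g h ≫ κ) * (lift g h' ≫ κ)) ∧
      ∀ (W : Over S) (h : W ⟶ H), lift 1 h ≫ κ = 1 := by
  haveI := hq.surj
  haveI := hq.flat
  haveI := hq.lfp
  let T := G ⊗ H
  let T' := pullback (snd G H ≫ v) q
  let c : T' ⟶ T := pullback.fst _ _
  let y : T' ⟶ G := pullback.snd _ _
  have sq := (IsPullback.of_hasPullback (snd G H ≫ v) q).map (Over.forget S)
  haveI : Surjective c.left := MorphismProperty.of_isPullback (P := @Surjective) sq.flip ‹_›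
  haveI : Flat c.left := MorphismProperty.of_isPullback (P := @Flat) sq.flip ‹_›
  haveI : LocallyOfFinitePresentation c.left :=
    MorphismProperty.of_isPullback (P := @LocallyOfFinitePresentation) sq.flip ‹_›
  have hy : c ≫ snd G H ≫ v = y ≫ q := pullback.condition
  have hker : ⁅c ≫ fst G H, y⁆ ≫ q = 1 := by
    let φ : (T' ⟶ G) →* (T' ⟶ G') :=
      { toFun := fun a => a ≫ q, map_one' := MonObj.one_comp q, map_mul' := fun a b => MonObj.mul_comp a b q }
    show φ ⁅c ≫ fst G H, y⁆ = 1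
    rw [map_commutatorElement]
    show ⁅(c ≫ fst G H) ≫ q, y ≫ q⁆ = 1
    rw [← hy, ← Category.assoc c (snd G H) v]
    exact commutatorElement_eq_one_iff_commute.2 (hvc _ _ _).symm
  obtain ⟨ζ, hζ⟩ := (hq.ker _).1 hker
  obtain ⟨κ, hκ⟩ := exists_desc c ζ fun W a b hab => by
    rw [← cancel_mono z, Category.assoc, Category.assoc, hζ]
    have hq' : ((a ≫ y)⁻¹ * (b ≫ y)) ≫ q = 1 := by
      rw [MonObj.mul_comp _ _ q, GrpObj.inv_comp _ q, Category.assoc, Category.assoc, ← hy, ← Category.assoc a c,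
        hab, ← Category.assoc b c, inv_mul_cancel]
    obtain ⟨n, hn⟩ := (hq.ker _).1 hq'
    have hb : b ≫ y = (a ≫ y) * (n ≫ z) := by rw [hn, mul_inv_cancel_left]
    let φ : ∀ d : W ⟶ T', (T' ⟶ G) →* (W ⟶ G) := fun d =>
      { toFun := fun r => d ≫ r, map_one' := MonObj.comp_one d, map_mul' := MonObj.comp_mul d }
    show φ a ⁅c ≫ fst G H, y⁆ = φ b ⁅c ≫ fst G H, y⁆
    rw [map_commutatorElement, map_commutatorElement]
    show ⁅a ≫ c ≫ fst G H, a ≫ y⁆ = ⁅b ≫ c ≫ fst G H, b ≫ y⁆
    rw [hb, group_conj_central (hzc W n), ← Category.assoc a c, hab, Category.assoc]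
  have spec : ∀ (W : Over S) (g x : W ⟶ G) (h : W ⟶ H), x ≫ q = h ≫ v → lift g h ≫ κ ≫ z = ⁅g, x⁆ := by
    intro W g x h hx
    let a : W ⟶ T' := pullback.lift (lift g h) x (by rw [lift_snd_assoc, hx])
    have h1 : a ≫ c = lift g h := pullback.lift_fst _ _ _
    have h2 : a ≫ y = x := pullback.lift_snd _ _ _
    rw [← h1, Category.assoc, reassoc_of% hκ, hζ]
    let φ : (T' ⟶ G) →* (W ⟶ G) :=
      { toFun := fun r => a ≫ r, map_one' := MonObj.comp_one a, map_mul' := MonObj.comp_mul a }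
    show φ ⁅c ≫ fst G H, y⁆ = _
    rw [map_commutatorElement]
    show ⁅a ≫ c ≫ fst G H, a ≫ y⁆ = _
    rw [reassoc_of% h1, lift_fst, h2]
  have hadd : ∀ (W : Over S) (g : W ⟶ G) (h h' : W ⟶ H),
      lift g (h * h') ≫ κ = (lift g h ≫ κ) * (lift g h' ≫ κ) := by
    intro W g h h'
    obtain ⟨W₁, c₁, x, hx, _, _, _⟩ := Lib.GrpQ.ThirdIso.exists_lift q (h ≫ v)
    obtain ⟨W₂, c₂, x', hx', _, _, _⟩ := Lib.GrpQ.ThirdIso.exists_lift q (c₁ ≫ h' ≫ v)
    haveI := epi_of_cover c₁
    haveI := epi_of_cover c₂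
    rw [← cancel_epi c₁, ← cancel_epi c₂, ← cancel_mono z]
    simp only [MonObj.comp_mul, MonObj.mul_comp, Category.assoc, comp_lift_assoc]
    have h1 : (c₂ ≫ x) ≫ q = (c₂ ≫ c₁ ≫ h) ≫ v := by simp only [Category.assoc, hx]
    have h2 : x' ≫ q = (c₂ ≫ c₁ ≫ h') ≫ v := by simp only [Category.assoc, hx']
    have h3 : ((c₂ ≫ x) * x') ≫ q = ((c₂ ≫ c₁ ≫ h) * (c₂ ≫ c₁ ≫ h')) ≫ v := by
      rw [MonObj.mul_comp _ _ q, MonObj.mul_comp _ _ v, h1, h2]
    rw [spec _ _ _ _ h3, spec _ _ _ _ h1, spec _ _ _ _ h2]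
    refine NilCentral.commutator_mul_right _ _ _ ?_
    rw [← spec _ _ _ _ h2, ← Category.assoc]
    exact hzc _ _ _
  have hone : ∀ (W : Over S) (h : W ⟶ H), lift 1 h ≫ κ = 1 := by
    intro W h
    obtain ⟨W₁, c₁, x, hx, _, _, _⟩ := Lib.GrpQ.ThirdIso.exists_lift q (h ≫ v)
    haveI := epi_of_cover c₁
    rw [← cancel_epi c₁, ← cancel_mono z]
    simp only [comp_lift_assoc, MonObj.comp_one, MonObj.one_comp z, Category.assoc]
    rw [spec _ 1 x (c₁ ≫ h) (by simpa using hx), commutatorElement_one_left]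
  exact ⟨κ, spec, hadd, hone⟩

omit [Mono z] [IsMonHom z] in
/-- A pairing with a group of connected fibres is trivial. -/
theorem pairing_trivial (hH : SGA3x.IsMultTypeFT H) [IsSeparated Z.hom]
    (hZ : IsLocallyNoetherian S ∧ LocallyOfFiniteType G.hom ∨ LocallyOfFinitePresentation Z.hom)
    (hconn : ∀ s : S, ConnectedSpace ↥(Limits.pullback G.hom (S.fromSpecResidueField s)))
    (κ : G ⊗ H ⟶ Z)
    (hadd : ∀ (W : Over S) (g : W ⟶ G) (h h' : W ⟶ H), lift g (h * h') ≫ κ = (lift g h ≫ κ) * (lift g h' ≫ κ))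
    (hone : ∀ (W : Over S) (h : W ⟶ H), lift 1 h ≫ κ = 1) :
    ∀ (X : Over S) (g : X ⟶ G) (h : X ⟶ H), lift g h ≫ κ = 1 := by
  let t : G.left ⟶ S := G.hom
  let π : ∀ X : Over G.left, (Over.map t).obj X ⟶ G := fun X => Over.homMk X.hom
  let w : Red.bc t H ⟶ Red.bc t Z := BC.up t (lift (π (Red.bc t H)) (BC.down t (𝟙 (Red.bc t H))) ≫ κ)
  have hw : ∀ (X : Over G.left) (a : X ⟶ Red.bc t H),
      BC.down t (a ≫ w) = lift (π X) (BC.down t a) ≫ κ := by
    intro X a
    rw [BC.down_comp, BC.down_up, comp_lift_assoc, ← BC.down_comp, Category.comp_id,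
      show (Over.map t).map a ≫ π (Red.bc t H) = π X from Over.OverMorphism.ext (Over.w a)]
  haveI : IsMonHom w := HomDS.isMonHom_of_points _ fun X a b => BC.down_injective (by
    rw [hw, BC.down_mul, BC.down_mul, hw, hw, hadd])
  haveI : IsSeparated (Red.bc t Z).hom := inferInstanceAs (IsSeparated (Limits.pullback.snd Z.hom t))
  have hG : IsLocallyNoetherian G.left ∨ LocallyOfFinitePresentation (Red.bc t Z).hom := hZ.imp
    (fun h => by
      haveI := h.1
      haveI := h.2
      exact LocallyOfFiniteType.isLocallyNoetherian G.hom)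
    fun h => by
      haveI := h
      exact inferInstanceAs (LocallyOfFinitePresentation (Limits.pullback.snd Z.hom t))
  obtain ⟨U, hUc, hU, hk⟩ := Locus.exists_trivial_locus w (Normal.multTypeFT_bc hH t) hG
  have huniv : (U : Set G.left) = Set.univ := by
    refine Set.eq_univ_of_forall fun pt => ?_
    let s := G.hom pt
    let pr := Limits.pullback.fst G.hom (S.fromSpecResidueField s)
    let e : Spec (S.residueField s) ⟶ Limits.pullback G.hom (S.fromSpecResidueField s) :=
      Limits.pullback.lift (S.fromSpecResidueField s ≫ η[G].left) (𝟙 _) (by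
        rw [Category.assoc, Category.id_comp]
        erw [Over.w η[G]]
        exact Category.comp_id _)
    have hkill : Locus.Kills w (S.fromSpecResidueField s ≫ η[G].left) := fun Y p _ => BC.down_injective (by
      rw [hw, BC.down_one, show π Y = 1 from ?_, hone]
      apply Over.OverMorphism.ext
      rw [Hom.one_def]
      show Y.hom = (Y.hom ≫ G.hom) ≫ η[G].left
      rw [← Over.w p]
      simp only [Over.mk_hom, Category.assoc]
      erw [reassoc_of% (Over.w η[G] : η[G].left ≫ G.hom = _)]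
      simp)
    have hne : (pr.base ⁻¹' (U : Set G.left)).Nonempty := by
      refine ⟨e (IsLocalRing.closedPoint (S.residueField s) : Spec (S.residueField s)), ?_⟩
      have h1 := (Locus.kills_point_iff w (K := S.residueField s) (S.fromSpecResidueField s ≫ η[G].left)).1 hkill
      rw [← hU] at h1
      show pr (e (IsLocalRing.closedPoint (S.residueField s) : Spec (S.residueField s))) ∈ U
      have he : e ≫ pr = S.fromSpecResidueField s ≫ η[G].left := Limits.pullback.lift_fst _ _ _
      exact (congr($he (IsLocalRing.closedPoint (S.residueField s) : Spec (S.residueField s)))).symm ▸ h1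
    haveI := hconn s
    have hu := IsClopen.eq_univ ⟨hUc.preimage pr.continuous, U.2.preimage pr.continuous⟩ hne
    obtain ⟨b, hb⟩ : pt ∈ Set.range pr.base := by
      rw [Scheme.Pullback.range_fst, Scheme.range_fromSpecResidueField]
      rfl
    exact hb ▸ (Set.ext_iff.mp hu b).mpr trivial
  have htriv : ∀ (X : Over S) (g : X ⟶ G) (h : X ⟶ H), lift g h ≫ κ = 1 := by
    intro X g h
    let Y : Over G.left := Over.mk g.left
    let θ : (Over.map t).obj Y ≅ X := Over.isoMk (Iso.refl _) ((Category.id_comp _).trans (Over.w g).symm)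
    have hg : π Y = θ.hom ≫ g := Over.OverMorphism.ext (Category.id_comp _).symm
    have h1 := congrArg (BC.down t) (hk Y (Over.homMk (IsOpenImmersion.lift U.ι Y.hom (by
      rw [Scheme.Opens.range_ι, huniv]; exact Set.subset_univ _)) (IsOpenImmersion.lift_fac _ _ _))
      (BC.up t (θ.hom ≫ h)))
    rw [hw, BC.down_up, BC.down_one, hg, ← comp_lift_assoc, ← MonObj.comp_one θ.hom, cancel_epi] at h1
    exact h1
  exact htriv

set_option maxHeartbeats 800000 in
/-- The preimage of a central subgroup of multiplicative type is a central subgroup of multiplicative type. -/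
theorem exists_central_preimage (hq : TorusQuot.Quot z q) [QuasiCompact q.left]
    (hzc : ∀ (X : Over S) (x : X ⟶ Z) (g : X ⟶ G), (x ≫ z) * g = g * (x ≫ z))
    (hZ : SGA3x.IsMultTypeFT Z) (hH : SGA3x.IsMultTypeFT H)
    (hvc : ∀ (X : Over S) (x : X ⟶ H) (g : X ⟶ G'), (x ≫ v) * g = g * (x ≫ v))
    (hconn : ∀ s : S, ConnectedSpace ↥(Limits.pullback G.hom (S.fromSpecResidueField s))) :
    ∃ (P : Over S) (_ : GrpObj P) (x : P ⟶ G) (p : P ⟶ H), IsMonHom x ∧ SGA3x.IsMultTypeFT P ∧
      (∀ (X : Over S) (y : X ⟶ P) (g : X ⟶ G), (y ≫ x) * g = g * (y ≫ x)) ∧ Epi p ∧ x ≫ q = p ≫ v ∧ IsPullback x p q v := by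
  haveI := hq.surj
  haveI := hq.flat
  haveI := hq.lfp
  obtain ⟨κ, spec, hadd, hone⟩ := exists_pairing q z v hq hzc hvc
  haveI : IsAffineHom Z.hom := MT.isAffineHom hZ
  have htriv := pairing_trivial hH (Or.inr (MT.locallyOfFinitePresentation hZ)) hconn κ hadd hone
  let P := pullback v q
  let p : P ⟶ H := pullback.fst v q
  let x : P ⟶ G := pullback.snd v q
  have hpx : p ≫ v = x ≫ q := pullback.condition
  have sqP := (IsPullback.of_hasPullback v q).map (Over.forget S)
  haveI : Surjective p.left := MorphismProperty.of_isPullback (P := @Surjective) sqP.flip ‹_›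
  haveI : Flat p.left := MorphismProperty.of_isPullback (P := @Flat) sqP.flip ‹_›
  haveI : QuasiCompact p.left := MorphismProperty.of_isPullback (P := @QuasiCompact) sqP.flip ‹_›
  let n : P ⟶ G ⊗ H := lift x p
  haveI : Mono n := ⟨fun a b hab => pullback.hom_ext (by simpa [n, p] using congrArg (· ≫ snd G H) hab)
    (by simpa [n, x] using congrArg (· ≫ fst G H) hab)⟩
  have mk : ∀ {W : Over S} (g : W ⟶ G) (h : W ⟶ H), g ≫ q = h ≫ v → ∃ r : W ⟶ P, r ≫ x = g ∧ r ≫ p = h :=
    fun g h hgh => ⟨pullback.lift h g hgh.symm, pullback.lift_snd _ _ _, pullback.lift_fst _ _ _⟩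
  obtain ⟨_, hn⟩ := Lib.FreeRes.exists_grpObj_of_mono n
    (fun W => by
      obtain ⟨r, hr1, hr2⟩ := mk (1 : W ⟶ G) (1 : W ⟶ H) (by rw [MonObj.one_comp q, MonObj.one_comp v])
      exact ⟨r, CartesianMonoidalCategory.hom_ext _ _ (by simp [n, hr1, MonObj.one_comp])
        (by simp [n, hr2, MonObj.one_comp])⟩)
    (fun {W} a b => by
      obtain ⟨r, hr1, hr2⟩ := mk ((a ≫ x) * (b ≫ x)) ((a ≫ p) * (b ≫ p)) (by
        rw [MonObj.mul_comp _ _ q, MonObj.mul_comp _ _ v, Category.assoc, Category.assoc, Category.assoc,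
          Category.assoc, hpx])
      exact ⟨r, CartesianMonoidalCategory.hom_ext _ _ (by simp [n, hr1, MonObj.mul_comp])
        (by simp [n, hr2, MonObj.mul_comp])⟩)
    (fun {W} a => by
      obtain ⟨r, hr1, hr2⟩ := mk (a ≫ x)⁻¹ (a ≫ p)⁻¹ (by
        rw [GrpObj.inv_comp _ q, GrpObj.inv_comp _ v, Category.assoc, Category.assoc, hpx])
      exact ⟨r, CartesianMonoidalCategory.hom_ext _ _ (by simp [n, hr1, GrpObj.inv_comp])
        (by simp [n, hr2, GrpObj.inv_comp])⟩)
  haveI := hn
  haveI : IsMonHom x := by rw [show x = n ≫ fst G H from (lift_fst _ _).symm]; infer_instance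
  haveI : IsMonHom p := by rw [show p = n ≫ snd G H from (lift_snd _ _).symm]; infer_instance
  have hcen : ∀ (X : Over S) (a : X ⟶ P) (g : X ⟶ G), (a ≫ x) * g = g * (a ≫ x) := by
    intro X a g
    have h1 := spec X g (a ≫ x) (a ≫ p) (by rw [Category.assoc, Category.assoc, hpx])
    rw [← Category.assoc, htriv, MonObj.one_comp z] at h1
    exact (commutatorElement_eq_one_iff_commute.1 h1.symm).eq.symm
  haveI : IsCommMonObj P := isComm_of_points fun X a b => by
    rw [← cancel_mono n, MonObj.mul_comp, MonObj.mul_comp]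
    refine CartesianMonoidalCategory.hom_ext _ _ ?_ ?_
    · simp only [MonObj.mul_comp, Category.assoc, n, lift_fst]
      exact hcen X a (b ≫ x)
    · simp only [MonObj.mul_comp, Category.assoc, n, lift_snd]
      exact Normal.comm hH _ _
  have hzq : z ≫ q = 1 := (hq.ker z).2 ⟨𝟙 _, Category.id_comp _⟩
  let i : Z ⟶ P := pullback.lift 1 z (by rw [MonObj.one_comp v, hzq])
  have hix : i ≫ x = z := pullback.lift_snd _ _ _
  have hip : i ≫ p = 1 := pullback.lift_fst _ _ _
  haveI : IsMonHom i := HomDS.isMonHom_of_points _ fun X a b => by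
    rw [← cancel_mono n, MonObj.mul_comp (a ≫ i) (b ≫ i) n]
    refine CartesianMonoidalCategory.hom_ext _ _ ?_ ?_
    · simp [n, MonObj.mul_comp, hix]
    · simp [n, MonObj.mul_comp, hip, MonObj.comp_one]
  have hw0 : i ≫ p = toUnit Z ≫ η[H] := hip.trans Hom.one_def
  have hkp : AlgGrp.IsKernel i p := by
    refine IsPullback.of_isLimit' ⟨hw0⟩ (PullbackCone.IsLimit.mk _
      (fun s => ((hq.ker (s.fst ≫ x)).1 (?_ : _ = (1 : s.pt ⟶ G'))).choose) (fun s => ?_) (fun s => toUnit_unique _ _)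
      fun s m hm _ => ?_)
    · rw [Category.assoc, ← hpx, ← Category.assoc, s.condition, toUnit_unique s.snd (toUnit _), ← Hom.one_def,
        MonObj.one_comp v]
    · have h := ((hq.ker (s.fst ≫ x)).1 (show (s.fst ≫ x) ≫ q = 1 by
        rw [Category.assoc, ← hpx, ← Category.assoc, s.condition, toUnit_unique s.snd (toUnit _), ← Hom.one_def,
          MonObj.one_comp v])).choose_spec
      apply pullback.hom_ext
      · show (_ ≫ i) ≫ p = s.fst ≫ p
        rw [Category.assoc, hip, MonObj.comp_one, s.condition, toUnit_unique s.snd (toUnit _), ← Hom.one_def]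
      · show (_ ≫ i) ≫ x = s.fst ≫ x
        rw [Category.assoc, hix]
        exact h
    · have h := ((hq.ker (s.fst ≫ x)).1 (show (s.fst ≫ x) ≫ q = 1 by
        rw [Category.assoc, ← hpx, ← Category.assoc, s.condition, toUnit_unique s.snd (toUnit _), ← Hom.one_def,
          MonObj.one_comp v])).choose_spec
      rw [← cancel_mono z, h, ← hm, Category.assoc, hix]
  have hPm : SGA3x.IsMultTypeFT P := Groth.Agent.S5431.result S P Z H p i hkp hZ hH (Or.inl inferInstance)
  exact ⟨P, inferInstance, x, p, inferInstance, hPm, hcen, epi_of_cover p, hpx.symm,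
    (IsPullback.of_hasPullback v q).flip⟩

omit [IsMonHom z] in
/-- The subgroup of a quotient is its kernel. -/
theorem isKernel_of_quot (hq : TorusQuot.Quot z q) : AlgGrp.IsKernel z q := by
  have hw : z ≫ q = toUnit Z ≫ η[G'] := ((hq.ker z).2 ⟨𝟙 _, Category.id_comp _⟩).trans Hom.one_def
  refine IsPullback.of_isLimit' ⟨hw⟩ (PullbackCone.IsLimit.mk _
    (fun s => ((hq.ker s.fst).1 (show s.fst ≫ q = 1 by
      rw [s.condition, toUnit_unique s.snd (toUnit _), Hom.one_def])).choose)
    (fun s => ((hq.ker s.fst).1 (show s.fst ≫ q = 1 by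
      rw [s.condition, toUnit_unique s.snd (toUnit _), Hom.one_def])).choose_spec)
    (fun s => toUnit_unique _ _) fun s m hm _ => ?_)
  rw [← cancel_mono z, ((hq.ker s.fst).1 (show s.fst ≫ q = 1 by
      rw [s.condition, toUnit_unique s.snd (toUnit _), Hom.one_def])).choose_spec, ← hm]

end Groth.Agent.H87.CentralExt
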