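import Groth.Agent.H87.EtaleNil
import Groth.Agent.H87.HomDS
import Groth.Agent.Lib.ActSep.HomogFlat
import Groth.Agent.Lib.AlgSpMor.Cancel
import Groth.Agent.S8395

/-!
Central homomorphisms from finite etale groups of multiplicative type lift along nil thickenings.
-/

set_option autoImplicit false
set_option linter.style.haveILetI false
set_option linter.unusedSectionVars false
universe u

open CategoryTheory CategoryTheory.Limits MonoidalCategory CartesianMonoidalCategory MonObj GrpObj AlgebraicGeometry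
open Groth.Agent.Lib.RedPts Groth.Agent.Lib.ActSep

namespace Groth.Agent.H87.CentralFinEtale

noncomputable section

variable {S S₀ : Scheme.{u}} (i : S₀ ⟶ S)

/-- Base change respects products of morphisms. -/
theorem map_mul {X G : Over S} [GrpObj G] (a b : X ⟶ G) :
    (Over.pullback i).map (a * b) = (Over.pullback i).map a * (Over.pullback i).map b := by
  apply BC.down_injective
  rw [BC.down_mul, ← Category.id_comp ((Over.pullback i).map (a * b)), BC.down_map,
    ← Category.id_comp ((Over.pullback i).map a), BC.down_map, ← Category.id_comp ((Over.pullback i).map b),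
    BC.down_map, MonObj.comp_mul]

theorem map_one {X G : Over S} [GrpObj G] : (Over.pullback i).map (1 : X ⟶ G) = 1 := by
  apply BC.down_injective
  rw [← Category.id_comp ((Over.pullback i).map (1 : X ⟶ G)), BC.down_map, MonObj.comp_one, BC.down_one]

theorem map_pow {X G : Over S} [GrpObj G] (a : X ⟶ G) (n : ℕ) :
    (Over.pullback i).map (a ^ n) = (Over.pullback i).map a ^ n := by
  induction n with
  | zero => rw [pow_zero, pow_zero, map_one]
  | succ n ih => rw [pow_succ, pow_succ, map_mul, ih]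

theorem map_inv {X G : Over S} [GrpObj G] (a : X ⟶ G) :
    (Over.pullback i).map a⁻¹ = ((Over.pullback i).map a)⁻¹ :=
  eq_inv_of_mul_eq_one_left (by rw [← map_mul, inv_mul_cancel, map_one])

/-- The reduction of an object, mapping to it. -/
abbrev incl (X : Over S) : (Over.map i).obj (Red.bc i X) ⟶ X := BC.down i (𝟙 (Red.bc i X))

theorem incl_left (X : Over S) : (incl i X).left = pullback.fst X.hom i := by
  rw [incl, BC.down_left]
  exact Category.id_comp _

theorem incl_comp {X G : Over S} (a : X ⟶ G) : incl i X ≫ a = BC.down i ((Over.pullback i).map a) := by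
  rw [incl, ← BC.down_map, Category.id_comp]

variable {G : Over S} [GrpObj G]

/-- The locus where the `n`-th power is etale. -/
def powLocus (G : Over S) [GrpObj G] (n : ℕ) : Set G.left := nhdLocus @Etale ((𝟙 G : G ⟶ G) ^ n).left

/-- The `n`-th power is etale at central points of fields of characteristic prime to `n`. -/
theorem mem_powLocus [Flat G.hom] [LocallyOfFinitePresentation G.hom] (n : ℕ) {K : Type u} [Field K]
    (hn : (n : K) ≠ 0) (t : Spec (CommRingCat.of K) ⟶ S) (γ : Over.mk t ⟶ G)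
    (hc : ∀ (Y : Over S) (p : Y ⟶ Over.mk t) (g : Y ⟶ G), Commute (p ≫ γ) g) :
    γ.left (IsLocalRing.closedPoint K) ∈ powLocus G n := by
  let u : G ⟶ G := (𝟙 G) ^ n
  haveI : LocallyOfFinitePresentation u.left :=
    Lib.AlgSpMor.Cancel.locallyOfFinitePresentation_of_comp (g := G.hom)
      (by rw [Over.w u]; infer_instance) inferInstance
  let T : Over S := Over.mk t
  haveI : LocallyOfFiniteType (Red.bc t G).hom :=
    MorphismProperty.pullback_snd (P := @LocallyOfFiniteType) _ _ inferInstance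
  let θ : (Over.map t).obj (𝟙_ (Over (Spec (CommRingCat.of K)))) ≅ T := Over.isoMk (Iso.refl _)
    (show 𝟙 _ ≫ t = 𝟙 _ ≫ t from rfl)
  let g : 𝟙_ (Over (Spec (CommRingCat.of K))) ⟶ Red.bc t G := BC.up t (θ.hom ≫ γ)
  obtain ⟨U, hU, hUe⟩ := Groth.Agent.S8395.result K (Red.bc t G) n hn g (fun X x => BC.down_injective (by
    rw [BC.down_mul, BC.down_mul, BC.down_comp, BC.down_up, ← Category.assoc]
    exact (hc _ _ _).eq))
  let a : (Red.bc t G).left := g.left (IsLocalRing.closedPoint K)
  have ha : a ∈ nhdLocus @Etale (u ▷ T).left := by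
    refine ⟨U, hU ⟨_, rfl⟩, ?_⟩
    have e : ((𝟙 (Red.bc t G)) ^ n) = (Over.pullback t).map u := by
      rw [map_pow, CategoryTheory.Functor.map_id]
    rw [e, map_left_eq_whiskerRight] at hUe
    exact hUe
  let s : S := t (IsLocalRing.closedPoint K)
  let R : Over S := Over.mk (S.fromSpecResidueField s)
  let π : T ⟶ R := Over.homMk (Spec.map (S.descResidueField (Scheme.stalkClosedPointTo t)))
    (Scheme.descResidueField_stalkClosedPointTo_fromSpecResidueField K S t)
  have hflat : Flat π.left := by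
    show Flat (Spec.map (S.descResidueField (Scheme.stalkClosedPointTo t)))
    letI := (S.descResidueField (Scheme.stalkClosedPointTo t)).hom.toAlgebra
    rw [HasRingHomProperty.Spec_iff (P := @Flat)]
    exact RingHom.flat_algebraMap_iff.mpr (inferInstanceAs (Module.Flat (S.residueField s) K))
  have : Flat (G ◁ π).left :=
    MorphismProperty.of_isPullback (P := @Flat) (Lib.GrpSch.isPullback_whiskerLeft G π).flip hflat
  have : LocallyOfFinitePresentation (u ▷ R).left :=
    MorphismProperty.of_isPullback (P := @LocallyOfFinitePresentation) (Lib.GrpSch.isPullback_whiskerRight u R).flip ‹_›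
  have sq : IsPullback (G ◁ π).left (u ▷ T).left (u ▷ R).left (G ◁ π).left := by
    refine IsPullback.of_right ?_ ?_ (Lib.GrpSch.isPullback_whiskerRight u R).flip
    · rw [← Over.comp_left, whiskerLeft_fst]
      exact (Lib.GrpSch.isPullback_whiskerRight u T).flip
    · rw [← Over.comp_left, ← Over.comp_left, whisker_exchange]
  have h1 := (fibreCrit_etale u s ((G ◁ π).left a)).1 ((flatBC_etale.mem_iff sq a).1 ha)
  have h2 : (fst G R).left ((G ◁ π).left a) = γ.left (IsLocalRing.closedPoint K) := by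
    have h3 : (g ≫ 𝟙 _).left ≫ pullback.fst G.hom t = θ.hom.left ≫ γ.left := by
      rw [Category.comp_id, ← BC.down_left, BC.down_up, Over.comp_left]
    rw [← Scheme.Hom.comp_apply, ← Over.comp_left, whiskerLeft_fst]
    show pullback.fst G.hom t (g.left (IsLocalRing.closedPoint K)) = _
    rw [Category.comp_id] at h3
    exact (Scheme.Hom.comp_apply _ _ _).symm.trans ((congrArg (fun m : Spec (CommRingCat.of K) ⟶ G.left =>
      m (IsLocalRing.closedPoint K)) (h3.trans (Category.id_comp γ.left))))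
  exact h2 ▸ h1

variable [IsClosedImmersion i]
variable {H : Over S} [GrpObj H] (u₀ : Red.bc i H ⟶ Red.bc i G)
  (hc₀ : ∀ (X : Over S₀) (x : X ⟶ Red.bc i H) (g : X ⟶ Red.bc i G), (x ≫ u₀) * g = g * (x ≫ u₀))

instance isClosedImmersion_incl (X : Over S) : IsClosedImmersion (incl i X).left := by rw [incl_left]; infer_instance

include hc₀ in
/-- Reductions through `u₀` land in the etale locus of the powers. -/
theorem mem_powLocus_of_reduction [Flat G.hom] [LocallyOfFinitePresentation G.hom] {n : ℕ} (X : Over S)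
    (x₀ : Red.bc i X ⟶ Red.bc i H)
    (hn : ∀ (K : Type u) [Field K], (Spec (CommRingCat.of K) ⟶ X.left) → (n : K) ≠ 0)
    (p₀ : ((Over.map i).obj (Red.bc i X)).left) :
    (BC.down i (x₀ ≫ u₀)).left p₀ ∈ powLocus G n := by
  let X₀ := (Over.map i).obj (Red.bc i X)
  let K : Type u := X₀.left.residueField p₀
  let t : Spec (CommRingCat.of K) ⟶ S := X₀.left.fromSpecResidueField p₀ ≫ X₀.hom
  let k : Over.mk t ⟶ X₀ := Over.homMk (X₀.left.fromSpecResidueField p₀)
  have h := mem_powLocus (G := G) n (hn K (X₀.left.fromSpecResidueField p₀ ≫ (incl i X).left)) t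
    (k ≫ BC.down i (x₀ ≫ u₀)) fun Y q g => by
      let r : Y ⟶ X₀ := q ≫ k
      let Y' : Over S₀ := Over.mk (r.left ≫ (Red.bc i X).hom)
      let θ : (Over.map i).obj Y' ≅ Y := Over.isoMk (Iso.refl _)
        ((Category.id_comp _).trans ((Over.w r).symm.trans (Category.assoc _ _ _).symm))
      let r' : Y' ⟶ Red.bc i X := Over.homMk r.left
      have hr : (Over.map i).map r' = θ.hom ≫ r := Over.OverMorphism.ext (Category.id_comp _).symm
      have h1 := congrArg (BC.down i) (hc₀ Y' (r' ≫ x₀) (BC.up i (θ.hom ≫ g)))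
      rw [BC.down_mul, BC.down_mul, BC.down_up, Category.assoc, BC.down_comp, hr, Category.assoc, ← MonObj.comp_mul,
        ← MonObj.comp_mul, cancel_epi] at h1
      show (q ≫ k ≫ BC.down i (x₀ ≫ u₀)) * g = g * (q ≫ k ≫ BC.down i (x₀ ≫ u₀))
      rw [← Category.assoc q k]
      exact h1
  have hk : (k ≫ BC.down i (x₀ ≫ u₀)).left (IsLocalRing.closedPoint K) = (BC.down i (x₀ ≫ u₀)).left p₀ := by
    rw [Over.comp_left, Scheme.Hom.comp_apply]
    exact congrArg _ (X₀.left.fromSpecResidueField_apply p₀ _)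
  exact hk ▸ h

variable [Surjective i]

instance surjective_incl (X : Over S) : Surjective (incl i X).left := by rw [incl_left]; infer_instance

/-- The open subscheme where the power is etale. -/
def powOpen (G : Over S) [GrpObj G] (n : ℕ) : G.left.Opens := ⟨powLocus G n, isOpen_nhdLocus @Etale _⟩

theorem etale_powOpen (n : ℕ) : Etale ((powOpen G n).ι ≫ ((𝟙 G : G ⟶ G) ^ n).left) := by
  haveI : IsZariskiLocalAtSource @Etale.{u} :=
    HasRingHomProperty.instIsZariskiLocalAtSource (P := @Etale) (Q := RingHom.Etale)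
  rw [iff_nhdLocus_eq_univ @Etale]
  refine Set.eq_univ_of_forall fun y => ?_
  obtain ⟨V, hyV, hV⟩ : (powOpen G n).ι y ∈ powLocus G n :=
    (Scheme.Opens.range_ι (powOpen G n)).subset ⟨y, rfl⟩
  refine ⟨(powOpen G n).ι ⁻¹ᵁ V, hyV, ?_⟩
  rw [← morphismRestrict_ι_assoc]
  exact MorphismProperty.comp_mem _ _ _ (show Etale ((powOpen G n).ι ∣_ V) from inferInstance) hV

include hc₀ in
/-- Two points with the same power and the same reduction are equal. -/
theorem eq_of_pow_eq [Flat G.hom] [LocallyOfFinitePresentation G.hom] {n : ℕ} {X : Over S} (a b : X ⟶ G)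
    (x₀ : Red.bc i X ⟶ Red.bc i H) (ha : (Over.pullback i).map a = x₀ ≫ u₀)
    (hb : (Over.pullback i).map b = x₀ ≫ u₀)
    (hn : ∀ (K : Type u) [Field K], (Spec (CommRingCat.of K) ⟶ X.left) → (n : K) ≠ 0)
    (hab : a ^ n = b ^ n) : a = b := by
  have hagree : (incl i X).left ≫ a.left = (incl i X).left ≫ b.left := by
    rw [← Over.comp_left, ← Over.comp_left, incl_comp, incl_comp, ha, hb]
  have hr : ∀ c : X ⟶ G, (Over.pullback i).map c = x₀ ≫ u₀ → Set.range c.left ⊆ Set.range (powOpen G n).ι := by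
    rintro c hc _ ⟨p, rfl⟩
    rw [Scheme.Opens.range_ι]
    obtain ⟨p₀, rfl⟩ := (incl i X).left.surjective p
    rw [← Scheme.Hom.comp_apply, ← Over.comp_left, incl_comp, hc]
    exact mem_powLocus_of_reduction i u₀ hc₀ X x₀ hn p₀
  let a' := IsOpenImmersion.lift _ a.left (hr a ha)
  let b' := IsOpenImmersion.lift _ b.left (hr b hb)
  haveI := etale_powOpen (G := G) n
  have he : a' = b' := EtaleNil.eq_of_unramified ((powOpen G n).ι ≫ ((𝟙 G : G ⟶ G) ^ n).left) (incl i X).left a' b'
    (by
      rw [IsOpenImmersion.lift_fac_assoc, IsOpenImmersion.lift_fac_assoc, ← Over.comp_left, ← Over.comp_left,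
        MonObj.comp_pow, MonObj.comp_pow, Category.comp_id, Category.comp_id, hab])
    (by rw [← cancel_mono (powOpen G n).ι, Category.assoc, Category.assoc, IsOpenImmersion.lift_fac,
      IsOpenImmersion.lift_fac, hagree])
  apply Over.OverMorphism.ext
  rw [← IsOpenImmersion.lift_fac _ a.left (hr a ha), ← IsOpenImmersion.lift_fac _ b.left (hr b hb)]
  exact congrArg (· ≫ (powOpen G n).ι) he

include hc₀ in
/-- Points killed by `n` lift. -/
theorem exists_lift_point [Flat G.hom] [LocallyOfFinitePresentation G.hom] {n : ℕ} (X : Over S)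
    (x₀ : Red.bc i X ⟶ Red.bc i H)
    (hn : ∀ (K : Type u) [Field K], (Spec (CommRingCat.of K) ⟶ X.left) → (n : K) ≠ 0)
    (hpow : (x₀ ≫ u₀) ^ n = 1) : ∃ a : X ⟶ G, a ^ n = 1 ∧ (Over.pullback i).map a = x₀ ≫ u₀ := by
  let a₀ : (Over.map i).obj (Red.bc i X) ⟶ G := BC.down i (x₀ ≫ u₀)
  let pn := ((𝟙 G : G ⟶ G) ^ n)
  let U := powOpen G n
  haveI := etale_powOpen (G := G) n
  have hr : Set.range a₀.left ⊆ Set.range U.ι := by
    rintro _ ⟨p₀, rfl⟩
    rw [Scheme.Opens.range_ι]
    exact mem_powLocus_of_reduction i u₀ hc₀ X x₀ hn p₀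
  have h0 : a₀ ≫ pn = incl i X ≫ (1 : X ⟶ G) := by
    rw [MonObj.comp_pow, Category.comp_id, MonObj.comp_one]
    show BC.downMulEquiv i _ G (x₀ ≫ u₀) ^ n = 1
    rw [← _root_.map_pow, hpow, _root_.map_one]
  let σ₀ : ((Over.map i).obj (Red.bc i X)).left ⟶ pullback (U.ι ≫ pn.left) (1 : X ⟶ G).left :=
    pullback.lift (IsOpenImmersion.lift U.ι a₀.left hr) (incl i X).left (by
      rw [IsOpenImmersion.lift_fac_assoc, ← Over.comp_left, ← Over.comp_left, h0])
  obtain ⟨σ, hσ, hισ⟩ := EtaleNil.exists_section (pullback.snd (U.ι ≫ pn.left) (1 : X ⟶ G).left) (incl i X).left σ₀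
    (pullback.lift_snd _ _ _)
  let al : X.left ⟶ G.left := σ ≫ pullback.fst _ _ ≫ U.ι
  have hal : al ≫ pn.left = (1 : X ⟶ G).left := by
    rw [Category.assoc, Category.assoc, pullback.condition, ← Category.assoc, hσ, Category.id_comp]
  let a : X ⟶ G := Over.homMk al (by rw [← Over.w pn, ← Category.assoc, hal, Over.w])
  refine ⟨a, ?_, BC.down_injective ?_⟩
  · rw [← Category.comp_id a, ← MonObj.comp_pow]
    exact Over.OverMorphism.ext hal
  · rw [← incl_comp]
    apply Over.OverMorphism.ext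
    show (incl i X).left ≫ σ ≫ pullback.fst _ _ ≫ U.ι = a₀.left
    rw [reassoc_of% hισ, pullback.lift_fst_assoc, IsOpenImmersion.lift_fac]

/-- Locally on the base the group is killed by an integer invertible there. -/
def KilledLocally (H : Over S) [GrpObj H] : Prop :=
  ∀ s : S, ∃ (D : S.Opens) (n : ℕ), s ∈ D ∧
    (∀ (K : Type u) [Field K] (t : Spec (CommRingCat.of K) ⟶ S), Set.range t ⊆ (D : Set S) → (n : K) ≠ 0) ∧
    ∀ (Y : Over S) (y : Y ⟶ H), Set.range Y.hom ⊆ (D : Set S) → y ^ n = 1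

include hc₀ in
/-- Equality of lifts is checked with the powers killing the group. -/
theorem eq_of_data [Flat G.hom] [LocallyOfFinitePresentation G.hom] (hH : KilledLocally H) {X : Over S} (a b : X ⟶ G)
    (x₀ : Red.bc i X ⟶ Red.bc i H) (ha : (Over.pullback i).map a = x₀ ≫ u₀)
    (hb : (Over.pullback i).map b = x₀ ≫ u₀)
    (hab : ∀ (D : S.Opens) (n : ℕ), (∀ (Y : Over S) (y : Y ⟶ H), Set.range Y.hom ⊆ (D : Set S) → y ^ n = 1) →
      ∀ (Y : Over S) (j : Y ⟶ X), Set.range Y.hom ⊆ (D : Set S) → (j ≫ a) ^ n = (j ≫ b) ^ n) : a = b := by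
  choose D n hsD hinv hkill using hH
  let V : S → X.left.Opens := fun s => X.hom ⁻¹ᵁ D s
  have hcov : TopologicalSpace.IsOpenCover V := TopologicalSpace.IsOpenCover.mk
    (eq_top_iff.mpr fun x _ => TopologicalSpace.Opens.mem_iSup.mpr ⟨X.hom x, hsD _⟩)
  apply Over.OverMorphism.ext
  refine Scheme.Cover.hom_ext (X.left.openCoverOfIsOpenCover V hcov) _ _ fun s => ?_
  let Y : Over S := Over.mk ((V s).ι ≫ X.hom)
  let j : Y ⟶ X := Over.homMk (V s).ι
  have hY : Set.range Y.hom ⊆ (D s : Set S) := by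
    rintro _ ⟨y, rfl⟩
    show X.hom ((V s).ι y) ∈ _
    exact (Scheme.Opens.range_ι (V s)).subset ⟨y, rfl⟩
  exact congrArg (fun m : Y ⟶ G => m.left) (eq_of_pow_eq i u₀ hc₀ (j ≫ a) (j ≫ b) ((Over.pullback i).map j ≫ x₀)
    (by rw [Functor.map_comp, ha, Category.assoc]) (by rw [Functor.map_comp, hb, Category.assoc])
    (fun K _ m => hinv s K (m ≫ Y.hom) (by
      rintro _ ⟨z, rfl⟩
      exact hY ⟨m z, (Scheme.Hom.comp_apply _ _ _).symm⟩))
    (hab _ _ (hkill s) Y j hY))

include hc₀ in
/-- Central homomorphisms lift uniquely. -/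
theorem exists_hom_lift [Flat G.hom] [LocallyOfFinitePresentation G.hom] (hH : KilledLocally H) [IsMonHom u₀] :
    ∃ v : H ⟶ G, IsMonHom v ∧ (Over.pullback i).map v = u₀ ∧
      (∀ (X : Over S) (x : X ⟶ H) (g : X ⟶ G), (x ≫ v) * g = g * (x ≫ v)) ∧
      ∀ v' : H ⟶ G, IsMonHom v' → (Over.pullback i).map v' = u₀ → v' = v := by
  have hH' := id hH
  choose D n hsD hinv hkill using hH
  let V : S → H.left.Opens := fun s => H.hom ⁻¹ᵁ D s
  have hcov : TopologicalSpace.IsOpenCover V := TopologicalSpace.IsOpenCover.mk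
    (eq_top_iff.mpr fun x _ => TopologicalSpace.Opens.mem_iSup.mpr ⟨H.hom x, hsD _⟩)
  let O : S → Over S := fun s => Over.mk ((V s).ι ≫ H.hom)
  let j : ∀ s, O s ⟶ H := fun s => Over.homMk (V s).ι
  have hO : ∀ s, Set.range (O s).hom ⊆ (D s : Set S) := by
    rintro s _ ⟨y, rfl⟩
    show H.hom ((V s).ι y) ∈ _
    exact (Scheme.Opens.range_ι (V s)).subset ⟨y, rfl⟩
  have hinv' : ∀ (s : S) (Y : Over S), Set.range Y.hom ⊆ (D s : Set S) →
      ∀ (K : Type u) [Field K], (Spec (CommRingCat.of K) ⟶ Y.left) → (n s : K) ≠ 0 := fun s Y hY K _ m =>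
    hinv s K (m ≫ Y.hom) (by
      rintro _ ⟨z, rfl⟩
      exact hY ⟨m z, (Scheme.Hom.comp_apply _ _ _).symm⟩)
  choose a hapow hamod using fun s => exists_lift_point i u₀ hc₀ (O s) ((Over.pullback i).map (j s))
    (hinv' s _ (hO s)) (by
      rw [← MonObj.pow_comp _ _ u₀, ← map_pow, hkill s _ _ (hO s), map_one, MonObj.one_comp u₀])
  let 𝒰 := H.left.openCoverOfIsOpenCover V hcov
  have hglue : ∀ x y : 𝒰.I₀, pullback.fst (𝒰.f x) (𝒰.f y) ≫ (a x).left =
      pullback.snd (𝒰.f x) (𝒰.f y) ≫ (a y).left := by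
    intro x y
    let W : Over S := Over.mk (pullback.fst (V x).ι (V y).ι ≫ (O x).hom)
    let p : W ⟶ O x := Over.homMk (pullback.fst (V x).ι (V y).ι)
    let q : W ⟶ O y := Over.homMk (pullback.snd (V x).ι (V y).ι) (by
      show pullback.snd (V x).ι (V y).ι ≫ (V y).ι ≫ H.hom = pullback.fst (V x).ι (V y).ι ≫ (V x).ι ≫ H.hom
      rw [← Category.assoc, ← pullback.condition, Category.assoc])
    have hpq : p ≫ j x = q ≫ j y := Over.OverMorphism.ext pullback.condition
    have hWx : Set.range W.hom ⊆ (D x : Set S) := by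
      rintro _ ⟨w, rfl⟩
      exact hO x ⟨p.left w, (Scheme.Hom.comp_apply _ _ _).symm⟩
    have hWy : Set.range W.hom ⊆ (D y : Set S) := by
      rintro _ ⟨w, rfl⟩
      exact hO y ⟨q.left w, (Scheme.Hom.comp_apply _ _ _).symm.trans (congrArg (fun m => m w) (Over.w q))⟩
    have key := eq_of_pow_eq i u₀ hc₀ (n := n x * n y) (p ≫ a x) (q ≫ a y) ((Over.pullback i).map (p ≫ j x))
      (by rw [Functor.map_comp, hamod, ← Category.assoc, ← Functor.map_comp])
      (by rw [hpq, Functor.map_comp, hamod, ← Category.assoc, ← Functor.map_comp])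
      (fun K _ m => by
        rw [Nat.cast_mul]
        exact mul_ne_zero (hinv' x W hWx K m) (hinv' y W hWy K m))
      (by rw [pow_mul, ← MonObj.comp_pow, hapow, MonObj.comp_one, one_pow, mul_comm (n x), pow_mul,
        ← MonObj.comp_pow, hapow, MonObj.comp_one, one_pow])
    exact congrArg (fun m : W ⟶ G => m.left) key
  let vl : H.left ⟶ G.left := Scheme.Cover.glueMorphisms 𝒰 (fun s => (a s).left) hglue
  have hvl : ∀ s, (V s).ι ≫ vl = (a s).left := fun s => Scheme.Cover.ι_glueMorphisms 𝒰 _ _ s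
  let v : H ⟶ G := Over.homMk vl (Scheme.Cover.hom_ext 𝒰 _ _ fun s => by
    show (V s).ι ≫ vl ≫ G.hom = (V s).ι ≫ H.hom
    rw [← Category.assoc, hvl, Over.w (a s)]
    rfl)
  have hjv : ∀ s, j s ≫ v = a s := fun s => Over.OverMorphism.ext (hvl s)
  have hvmod : (Over.pullback i).map v = u₀ := by
    apply BC.down_injective
    rw [← incl_comp]
    apply Over.OverMorphism.ext
    refine Scheme.Cover.hom_ext ((H.left.openCoverOfIsOpenCover V hcov).pullback₁ (incl i H).left) _ _ fun s => ?_
    show pullback.fst (incl i H).left (V s).ι ≫ (incl i H).left ≫ v.left =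
      pullback.fst (incl i H).left (V s).ι ≫ (BC.down i u₀).left
    have sq : IsPullback ((Over.map i).map ((Over.pullback i).map (j s))).left (incl i (O s)).left (incl i H).left
        (j s).left := by
      refine IsPullback.of_right ?_ ?_ (IsPullback.of_hasPullback H.hom i).flip
      · rw [incl_left]
        show IsPullback (((Over.pullback i).map (j s)).left ≫ (Red.bc i H).hom) _ _ ((j s).left ≫ H.hom)
        rw [Over.w, Over.w]
        exact (IsPullback.of_hasPullback (O s).hom i).flip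
      · rw [incl_left, incl_left]
        exact pullback.lift_fst _ _ _
    refine (cancel_epi sq.isoPullback.hom).1 ?_
    refine (Category.assoc _ _ _).symm.trans ((congrArg (fun m => m ≫ _) sq.isoPullback_hom_fst).trans
      (Eq.trans ?_ ((congrArg (fun m => m ≫ _) sq.isoPullback_hom_fst).symm.trans (Category.assoc _ _ _))))
    show ((Over.map i).map ((Over.pullback i).map (j s)) ≫ incl i H ≫ v).left =
      ((Over.map i).map ((Over.pullback i).map (j s)) ≫ BC.down i u₀).left
    rw [← BC.down_comp, ← hamod, incl_comp, ← BC.down_comp, ← Functor.map_comp, hjv]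
  have hpow : ∀ (E : S.Opens) (m : ℕ), (∀ (Y : Over S) (y : Y ⟶ H), Set.range Y.hom ⊆ (E : Set S) → y ^ m = 1) →
      ∀ (Y : Over S) (y : Y ⟶ H), Set.range Y.hom ⊆ (E : Set S) → (y ≫ v) ^ m = 1 := by
    intro E m hm Y y hY
    let W : S → Y.left.Opens := fun s => y.left ⁻¹ᵁ V s
    have hW : TopologicalSpace.IsOpenCover W := TopologicalSpace.IsOpenCover.mk
      (eq_top_iff.mpr fun z _ => TopologicalSpace.Opens.mem_iSup.mpr ⟨H.hom (y.left z), hsD _⟩)
    apply Over.OverMorphism.ext
    refine Scheme.Cover.hom_ext (Y.left.openCoverOfIsOpenCover W hW) _ _ fun s => ?_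
    let Z : Over S := Over.mk ((W s).ι ≫ Y.hom)
    let k : Z ⟶ Y := Over.homMk (W s).ι
    let y' : Z ⟶ O s := Over.homMk (y.left ∣_ V s) (by
      show (y.left ∣_ V s) ≫ (V s).ι ≫ H.hom = (W s).ι ≫ Y.hom
      rw [morphismRestrict_ι_assoc, Over.w y])
    have hy' : y' ≫ j s = k ≫ y := Over.OverMorphism.ext (morphismRestrict_ι _ _)
    have hZ : Set.range Z.hom ⊆ (D s : Set S) := by
      rintro _ ⟨z, rfl⟩
      exact hO s ⟨y'.left z, (Scheme.Hom.comp_apply _ _ _).symm.trans (congrArg (fun m => m z) (Over.w y'))⟩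
    have hZE : Set.range Z.hom ⊆ (E : Set S) := by
      rintro _ ⟨z, rfl⟩
      exact hY ⟨k.left z, (Scheme.Hom.comp_apply _ _ _).symm⟩
    have key := eq_of_pow_eq i u₀ hc₀ (n := n s) ((k ≫ y ≫ v) ^ m) 1 ((Over.pullback i).map ((k ≫ y) ^ m))
      (by rw [map_pow, map_pow, ← Category.assoc k, Functor.map_comp _ (k ≫ y), hvmod, MonObj.pow_comp])
      (by rw [hm Z _ hZE, map_one, map_one, MonObj.one_comp u₀])
      (hinv' s Z hZ)
      (by rw [← pow_mul, mul_comm, pow_mul, ← Category.assoc, ← hy', Category.assoc, hjv, ← MonObj.comp_pow,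
        hapow, MonObj.comp_one, one_pow, one_pow])
    rw [← MonObj.comp_pow] at key
    rw [← MonObj.comp_one k] at key
    exact congrArg (fun q : Z ⟶ G => q.left) key
  have hcen : ∀ (X : Over S) (x : X ⟶ H) (g : X ⟶ G), (x ≫ v) * g = g * (x ≫ v) := by
    intro X x g
    have h := eq_of_data i u₀ hc₀ hH' (g * (x ≫ v) * g⁻¹) (x ≫ v) ((Over.pullback i).map x)
      (by rw [map_mul, map_mul, map_inv, Functor.map_comp, hvmod, ← hc₀, mul_inv_cancel_right])
      (by rw [Functor.map_comp, hvmod])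
      (fun E m hm Y k hY => by
        rw [MonObj.comp_mul, MonObj.comp_mul, GrpObj.comp_inv, conj_pow, ← Category.assoc k x, hpow E m hm _ _ hY,
          _root_.mul_one, mul_inv_cancel])
    calc (x ≫ v) * g = g * (x ≫ v) * g⁻¹ * g := by rw [h]
      _ = g * (x ≫ v) := inv_mul_cancel_right _ _
  have hvhom : IsMonHom v := HomDS.isMonHom_of_points v fun X x y => eq_of_data i u₀ hc₀ hH' ((x * y) ≫ v)
    ((x ≫ v) * (y ≫ v)) ((Over.pullback i).map (x * y))
    (by rw [Functor.map_comp, hvmod])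
    (by rw [map_mul, map_mul, Functor.map_comp, Functor.map_comp, hvmod, MonObj.mul_comp _ _ u₀])
    (fun E m hm Y k hY => by
      rw [← Category.assoc, hpow E m hm _ _ hY, MonObj.comp_mul,
        (show Commute (k ≫ x ≫ v) (k ≫ y ≫ v) by rw [← Category.assoc]; exact hcen _ _ _).mul_pow,
        ← Category.assoc, ← Category.assoc k y, hpow E m hm _ _ hY, hpow E m hm _ _ hY, _root_.one_mul])
  refine ⟨v, hvhom, hvmod, hcen, fun v' hv' hv'mod => ?_⟩
  haveI := hv'
  exact eq_of_data i u₀ hc₀ hH' v' v (𝟙 _) (by rw [hv'mod, Category.id_comp]) (by rw [hvmod, Category.id_comp])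
    (fun E m hm Y k hY => by rw [← MonObj.pow_comp _ _ v', hm _ _ hY, MonObj.one_comp v', hpow E m hm _ _ hY])

end

end Groth.Agent.H87.CentralFinEtale
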