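import Groth.Agent.Lib.MultSmooth.Centralizer
import Groth.Agent.Lib.MultAvg.Exists

/-!
# Centralisers of groups of multiplicative type of arbitrary type
-/

set_option autoImplicit false
universe u

open CategoryTheory CategoryTheory.Limits AlgebraicGeometry TopologicalSpace
open Groth.Agent.Lib Groth.Agent.Lib.HilbD

namespace Groth.Agent.Lib.FreeRes

set_option linter.style.haveILetI false

variable {S : Scheme.{u}}

/-- **A group of multiplicative type is essentially free.** -/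
theorem isEssentiallyFree_of_locSplit {H : Over S} [GrpObj H] (h : MultAvg.LocSplit H) :
    SGA3x.IsEssentiallyFree H.hom := by
  classical
  obtain ⟨S', f, hf, hs, hc, hloc⟩ := h
  intro s
  obtain ⟨V, hV, hsV, -⟩ := exists_isAffineOpen_mem_and_subset (show s ∈ (⊤ : S.Opens) from trivial)
  haveI : IsAffine (V : Scheme.{u}) := hV
  obtain ⟨W, hW, hWV⟩ := hc V hV
  choose U hU M hM hiso using hloc
  have hA : ∀ w : (W : Set S'), ∃ A : S'.Opens, IsAffineOpen A ∧ w.1 ∈ A ∧ (A : Set S') ⊆ ↑(W ⊓ U w.1) :=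
    fun w => exists_isAffineOpen_mem_and_subset (show w.1 ∈ W ⊓ U w.1 from ⟨w.2, hU w.1⟩)
  choose A hAaff hmem hAle using hA
  obtain ⟨t, ht⟩ := hW.elim_finite_subcover (fun w => (A w : Set S')) (fun w => (A w).2)
    (fun w hw => Set.mem_iUnion.mpr ⟨⟨w, hw⟩, hmem ⟨w, hw⟩⟩)
  let F : t → Scheme.{u} := fun w => (A w.1 : Scheme.{u})
  haveI : ∀ w, IsAffine (F w) := fun w => hAaff w.1
  have hle : ∀ w : t, A w.1 ≤ f ⁻¹ᵁ V := fun w x hx =>
    show f.base x ∈ (V : Set S) from hWV ▸ ⟨x, (hAle w.1 hx).1, rfl⟩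
  let g : (∐ F) ⟶ (V : Scheme.{u}) := Sigma.desc fun w => f.resLE V (A w.1) (hle w)
  haveI : Flat g := IsZariskiLocalAtSource.sigmaDesc fun w => inferInstance
  have hsurj : Surjective g := ⟨fun v => by
    obtain ⟨x, hx, hxv⟩ := (Set.ext_iff.1 hWV v.1).2 v.2
    obtain ⟨w, hw, hxw⟩ := Set.mem_iUnion₂.mp (ht hx)
    refine ⟨Sigma.ι F ⟨w, hw⟩ ⟨x, hxw⟩, Subtype.ext ?_⟩
    rw [← Scheme.Hom.comp_apply, Sigma.ι_desc, Scheme.Hom.coe_resLE_apply]
    exact hxv⟩
  refine ⟨V, hsV, hV, ∐ F, inferInstance, g, inferInstance, hsurj, fun z => ?_⟩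
  let π := pullback.snd H.hom (g ≫ V.ι)
  obtain ⟨w, x, hx⟩ := (sigmaOpenCover F).exists_eq (π z)
  change Sigma.ι F w x = π z at hx
  -- the piece over the `w`-th component
  let p := pullback.snd π (Sigma.ι F w)
  let k : F w ⟶ U w.1.1 := S'.homOfLE fun y hy => (hAle w.1 hy).2
  have hkw : Sigma.ι F w ≫ g ≫ V.ι = k ≫ (U w.1.1).ι ≫ f := by
    rw [Sigma.ι_desc_assoc, Scheme.Hom.resLE_comp_ι, Scheme.homOfLE_ι_assoc]
  have hp : ProjCovered p := by
    obtain ⟨e⟩ := hiso w.1.1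
    let eo : Red.bc ((U w.1.1).ι ≫ f) H ≅ Red.DS (U w.1.1 : Scheme.{u}) (M w.1.1) :=
      @Groth.Agent.Lib.Tori.BaseChange.overIso _ _ _ _ _ e
    let l : pullback π (Sigma.ι F w) ⟶ (Red.bc ((U w.1.1).ι ≫ f) H).left :=
      pullback.lift (pullback.fst π _ ≫ pullback.fst H.hom _) (p ≫ k) (by
        rw [Category.assoc, Category.assoc, pullback.condition, ← hkw, ← pullback.condition_assoc])
    have s1 : IsPullback l p (Red.bc ((U w.1.1).ι ≫ f) H).hom k := by
      refine IsPullback.of_right ?_ (pullback.lift_snd _ _ _) (IsPullback.of_hasPullback H.hom ((U w.1.1).ι ≫ f))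
      rw [pullback.lift_fst, ← hkw]
      exact (IsPullback.of_hasPullback π (Sigma.ι F w)).paste_horiz (IsPullback.of_hasPullback H.hom (g ≫ V.ι))
    have s2 : IsPullback eo.hom.left (Red.bc ((U w.1.1).ι ≫ f) H).hom
        (Red.DS (U w.1.1 : Scheme.{u}) (M w.1.1)).hom (𝟙 _) := by
      haveI : IsIso eo.hom.left := inferInstanceAs (IsIso ((Over.forget _).map eo.hom))
      exact IsPullback.of_horiz_isIso ⟨by rw [Category.comp_id, Over.w eo.hom]⟩
    exact projCovered_baseChange (projCovered_diag _ _)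
      ((s1.paste_horiz s2).paste_horiz (IsPullback.of_hasPullback
        (Red.diag (ULift.{u} ℤ) (M w.1.1)).hom (IsTerminal.from specULiftZIsTerminal (U w.1.1 : Scheme.{u}))))
  haveI : IsOpenImmersion (pullback.fst π (Sigma.ι F w)) := inferInstance
  obtain ⟨y, hy, -⟩ := Scheme.Pullback.exists_preimage_pullback (f := π) (g := Sigma.ι F w) z x hx.symm
  obtain ⟨O, hyO, hO, hP⟩ := hp y
  let j := pullback.fst π (Sigma.ι F w)
  refine ⟨j ''ᵁ O, ⟨y, hyO, hy⟩, hO.image_of_isOpenImmersion j, ?_⟩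
  haveI : IsAffine (O : Scheme.{u}) := hO
  haveI : IsAffine ((j ''ᵁ O : (pullback H.hom (g ≫ V.ι)).Opens) : Scheme.{u}) := hO.image_of_isOpenImmersion j
  have hι := Content.projective_app (Sigma.ι F w) (isFinLocFree_sigmaι F w) ⟨⊤, isAffineOpen_top _⟩
  have e1 : ((j ''ᵁ O).ι ≫ π) = (j.isoImage O).inv ≫ (O.ι ≫ p) ≫ Sigma.ι F w := by
    rw [Category.assoc O.ι, ← pullback.condition]
    simp [j, p]
  refine projective_trans ((O.ι ≫ p) ≫ Sigma.ι F w).appTop (j.isoImage O).inv.appTop _ ?_ ?_ ?_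
  · rw [← Scheme.Hom.comp_appTop, ← e1]
  · exact projective_trans (Sigma.ι F w).appTop (O.ι ≫ p).appTop _ (Scheme.Hom.comp_appTop _ _).symm hι hP
  · haveI : IsIso (j.isoImage O).inv.appTop :=
      (inferInstance : IsIso ((j.isoImage O).inv.app ⊤))
    refine projective_of_isPushout (a := 𝟙 _) (c := 𝟙 _) (b := (j.isoImage O).inv.appTop)
      (IsPushout.of_horiz_isIso ⟨by simp⟩) ?_
    rw [show (𝟙 Γ((O : Scheme.{u}), ⊤) : _ ⟶ _).hom.toAlgebra = Algebra.id _ from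
      Algebra.algebra_ext _ _ fun _ => rfl]
    infer_instance

end Groth.Agent.Lib.FreeRes

namespace Groth.Agent.Lib.MultSmooth

open MonoidalCategory CartesianMonoidalCategory MonObj GrpObj Groth.Agent.Lib.RedPts Groth.Agent.H87

set_option linter.style.haveILetI false

variable {S : Scheme.{u}} {H G : Over S} [GrpObj H] [GrpObj G]

/-- **Transporter of two homomorphisms.** -/
theorem exists_transporter_smooth_split (hH : MultAvg.LocSplit H) [Smooth G.hom] [IsAffineHom G.hom]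
    (u₁ u₂ : H ⟶ G) [IsMonHom u₁] [IsMonHom u₂] :
    ∃ (C : Over S) (c : C ⟶ G), IsClosedImmersion c.left ∧ Smooth C.hom ∧
      ∀ (X : Over S) (g : X ⟶ G), (∃ z : X ⟶ C, z ≫ c = g) ↔
        ∀ (X' : Over S) (x : X' ⟶ X) (h : X' ⟶ H), (x ≫ g) * (h ≫ u₁) * (x ≫ g)⁻¹ = h ≫ u₂ := by
  haveI := MultAvg.isAffineHom_of_locSplit hH
  haveI : IsClosedImmersion η[G].left := GrpSch.isClosedImmersion_η G
  obtain ⟨C, c, hc, hC, hfp⟩ := FreeRes.exists_closed_factor (P := G) (X := H)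
    (FreeRes.isEssentiallyFree_of_locSplit hH)
    (fst G H * (snd G H ≫ u₁) * (fst G H)⁻¹ * (snd G H ≫ u₂)⁻¹) η[G]
  have hiff : ∀ (X : Over S) (g : X ⟶ G), (∃ z : X ⟶ C, z ≫ c = g) ↔
      ∀ (X' : Over S) (x : X' ⟶ X) (h : X' ⟶ H), (x ≫ g) * (h ≫ u₁) * (x ≫ g)⁻¹ = h ≫ u₂ := fun X g => by
    rw [hC g, FreeRes.forall_pair_factor_iff]
    refine forall_congr' fun X' => forall_congr' fun x => forall_congr' fun h => ?_
    rw [← mul_inv_eq_one (b := h ≫ u₂), ← factor_η_iff]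
    simp only [MonObj.comp_mul, GrpObj.comp_inv, lift_fst, lift_snd_assoc]
    exact exists_congr fun l => eq_comm
  haveI : LocallyOfFinitePresentation η[G].left :=
    AlgSpMor.Cancel.locallyOfFinitePresentation_of_comp (g := G.hom)
      (by rw [Over.w η[G]]; exact inferInstanceAs (LocallyOfFinitePresentation (𝟙 S))) inferInstance
  haveI := hfp inferInstance inferInstance
  haveI := hc
  haveI : IsAffineHom C.hom := by rw [← Over.w c]; infer_instance
  haveI : LocallyOfFinitePresentation C.hom := by rw [← Over.w c]; infer_instance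
  refine ⟨C, c, hc, ?_, hiff⟩
  obtain ⟨S', p, hp, hps, hcov, hloc⟩ := hH
  refine smooth_of_locally C.hom p hcov fun s' => ?_
  obtain ⟨U, hU, M, hM, ⟨e₀⟩⟩ := hloc s'
  refine ⟨U, hU, fun O hO _ A J hJ t₀ c₀ hc₀ => ?_⟩
  let t : Spec A ⟶ S := t₀ ≫ O.ι ≫ p
  have ht : t = (t₀ ≫ S'.homOfLE hO) ≫ U.ι ≫ p := by simp [t]
  let e := Tori.BaseChange.bcCongr ht H ≪≫ Charts.resChart e₀ (t₀ ≫ S'.homOfLE hO)
  haveI := isMonHom_transport t e u₂
  let g₀ : Over.mk (Spec.map (CommRingCat.ofHom (Ideal.Quotient.mk J)) ≫ t) ⟶ G :=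
    (Over.homMk c₀ hc₀ : Over.mk (Spec.map (CommRingCat.ofHom (Ideal.Quotient.mk J)) ≫ t) ⟶ C) ≫ c
  obtain ⟨g, hg, hcar⟩ := exists_lift_conj u₁ J hJ t e (e.inv.hom.hom ≫ (Over.pullback t).map u₂) g₀
    ((carries_iff t e u₁ u₂ _ rfl g₀).2 ((hiff _ g₀).1 ⟨_, rfl⟩))
  obtain ⟨z, hz⟩ := (hiff _ g).2 ((carries_iff t e u₁ u₂ _ (Category.id_comp _) g).1 hcar)
  refine ⟨z.left, Over.w z, ?_⟩
  rw [← cancel_mono c.left, Category.assoc, ← Over.comp_left, hz, hg]
  rfl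

/-- **The centralizer is a smooth closed subgroup scheme.** -/
theorem exists_centralizer_smooth_split (hH : MultAvg.LocSplit H) [Smooth G.hom] [IsAffineHom G.hom]
    (u : H ⟶ G) [IsMonHom u] :
    ∃ (Z : Over S) (_ : GrpObj Z) (j : Z ⟶ G),
      Red.IsCentralizerOf u j ∧ IsClosedImmersion j.left ∧ Smooth Z.hom := by
  obtain ⟨C, c, hc, hs, hC⟩ := exists_transporter_smooth_split hH u u
  have hC' : ∀ (X : Over S) (g : X ⟶ G), (∃ z : X ⟶ C, z ≫ c = g) ↔
      ∀ (X' : Over S) (x : X' ⟶ X) (h : X' ⟶ H), (x ≫ g) * (h ≫ u) = (h ≫ u) * (x ≫ g) := fun X g => by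
    simp only [hC X g, conj_eq_iff]
  haveI : Mono c := (Over.forget S).mono_of_mono_map (show Mono c.left from inferInstance)
  obtain ⟨M, hM⟩ := FreeRes.exists_grpObj_of_mono c
    (fun T => (hC' _ 1).2 fun _ _ _ => by rw [MonObj.comp_one, _root_.one_mul, _root_.mul_one])
    (fun a b => (hC' _ _).2 fun X' x h => by
      have ha : Commute (x ≫ a ≫ c) (h ≫ u) := (hC' _ _).1 ⟨a, rfl⟩ X' x h
      have hb : Commute (x ≫ b ≫ c) (h ≫ u) := (hC' _ _).1 ⟨b, rfl⟩ X' x h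
      rw [MonObj.comp_mul]
      exact ha.mul_left hb)
    (fun a => (hC' _ _).2 fun X' x h => by
      have ha : Commute (x ≫ a ≫ c) (h ≫ u) := (hC' _ _).1 ⟨a, rfl⟩ X' x h
      rw [GrpObj.comp_inv]
      exact ha.inv_left)
  exact ⟨C, M, c, ⟨hM, inferInstance, hC'⟩, hc, hs⟩

end Groth.Agent.Lib.MultSmooth
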