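import Groth.Agent.H87.SubgroupDescent
import Groth.Agent.H87.Normal

/-!
# fpqc descent of the reductive centre
-/

set_option autoImplicit false
universe u

open CategoryTheory CategoryTheory.Limits MonoidalCategory CartesianMonoidalCategory MonObj GrpObj
open AlgebraicGeometry
open Groth.Agent.Lib.RedPts Groth.Agent.Lib.Tori

namespace Groth.Agent.H87.CentreDescent

set_option linter.style.haveILetI false

variable {S S₁ S₂ Q : Scheme.{u}} {f₁ : S₁ ⟶ S} {f₂ : S₂ ⟶ S} {G : Over S} {H : Over S₁}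
  (v : H ⟶ Red.bc f₁ G) (q₁ : Q ⟶ S₁) (q₂ : Q ⟶ S₂) (e : q₁ ≫ f₁ = q₂ ≫ f₂)

/-- A scheme over `Q` seen over `S` in two ways. -/
noncomputable def eps (X : Over Q) :
    (Over.map f₂).obj ((Over.map q₂).obj X) ⟶ (Over.map f₁).obj ((Over.map q₁).obj X) :=
  Over.homMk (U := (Over.map f₂).obj ((Over.map q₂).obj X)) (V := (Over.map f₁).obj ((Over.map q₁).obj X)) (𝟙 X.left) (by
    show 𝟙 X.left ≫ (X.hom ≫ q₁) ≫ f₁ = (X.hom ≫ q₂) ≫ f₂
    rw [Category.id_comp, Category.assoc, Category.assoc, e])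

theorem map_eps {X Y : Over Q} (a : X ⟶ Y) :
    eps q₁ q₂ e X ≫ (Over.map f₁).map ((Over.map q₁).map a) =
      (Over.map f₂).map ((Over.map q₂).map a) ≫ eps q₁ q₂ e Y :=
  Over.OverMorphism.ext ((Category.id_comp _).trans (Category.comp_id _).symm)

/-- The transport of a morphism to the base change of `G` along another route. -/
noncomputable def trans : Red.bc q₁ H ⟶ Red.bc q₂ (Red.bc f₂ G) :=
  BC.up q₂ (BC.up f₂ (eps q₁ q₂ e _ ≫ BC.down f₁ (BC.down q₁ (𝟙 (Red.bc q₁ H)) ≫ v)))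

theorem down_trans {X : Over Q} (a : X ⟶ Red.bc q₁ H) :
    BC.down f₂ (BC.down q₂ (a ≫ trans v q₁ q₂ e)) = eps q₁ q₂ e X ≫ BC.down f₁ (BC.down q₁ a ≫ v) := by
  rw [BC.down_comp, BC.down_comp, trans, BC.down_up, BC.down_up, ← Category.assoc, ← map_eps, Category.assoc,
    ← BC.down_comp, ← Category.assoc, ← BC.down_comp, Category.comp_id]

variable [GrpObj G] [GrpObj H]

instance isMonHom_trans [IsMonHom v] : IsMonHom (trans v q₁ q₂ e) :=
  HomDS.isMonHom_of_points _ fun X a b => BC.down_injective (BC.down_injective (by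
    rw [down_trans, BC.down_mul, MonObj.mul_comp, BC.down_mul, comp_mul, BC.down_mul, BC.down_mul,
      down_trans, down_trans]))

theorem central_trans [IsMonHom v]
    (hc : ∀ (X : Over S₁) (x : X ⟶ H) (g : X ⟶ Red.bc f₁ G), (x ≫ v) * g = g * (x ≫ v))
    (X : Over Q) (x : X ⟶ Red.bc q₁ H) (g : X ⟶ Red.bc q₂ (Red.bc f₂ G)) :
    (x ≫ trans v q₁ q₂ e) * g = g * (x ≫ trans v q₁ q₂ e) := by
  refine BC.down_injective (BC.down_injective ?_)
  let ε' : (Over.map f₁).obj ((Over.map q₁).obj X) ⟶ (Over.map f₂).obj ((Over.map q₂).obj X) :=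
    eps q₂ q₁ e.symm X
  have hee : eps q₁ q₂ e X ≫ ε' = 𝟙 _ := Over.OverMorphism.ext (Category.id_comp _)
  rw [BC.down_mul, BC.down_mul, BC.down_mul, BC.down_mul, down_trans]
  have hg : BC.down f₂ (BC.down q₂ g) = eps q₁ q₂ e X ≫ BC.down f₁ (BC.up f₁ (ε' ≫ BC.down f₂ (BC.down q₂ g))) := by
    rw [BC.down_up, ← Category.assoc, hee, Category.id_comp]
  rw [hg, ← comp_mul, ← comp_mul, ← BC.down_mul, ← BC.down_mul, hc]

omit [GrpObj G] [GrpObj H] in
/-- A factorisation of the transport gives factorisations of points. -/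
theorem exists_fac {Z' : Over S₂} (z' : Z' ⟶ Red.bc f₂ G) (w : Red.bc q₁ H ⟶ Red.bc q₂ Z')
    (hw : w ≫ (Over.pullback q₂).map z' = trans v q₁ q₂ e)
    (Y : Over S₂) (m : Y.left ⟶ Q) (hm : m ≫ q₂ = Y.hom) (b : Y.left ⟶ H.left) (hb : b ≫ H.hom = m ≫ q₁)
    (g : (Over.map f₂).obj Y ⟶ G) (hg : g.left = b ≫ v.left ≫ pullback.fst G.hom f₁) :
    ∃ h : Y ⟶ Z', h ≫ z' = BC.up f₂ g := by
  let Yq : Over Q := Over.mk m
  let a : Yq ⟶ Red.bc q₁ H := Over.homMk (pullback.lift b m hb) (pullback.lift_snd _ _ _)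
  let jY : Y ⟶ (Over.map q₂).obj Yq :=
    Over.homMk (V := (Over.map q₂).obj Yq) (𝟙 Y.left) ((Category.id_comp _).trans hm)
  refine ⟨jY ≫ BC.down q₂ (a ≫ w), BC.down_injective ?_⟩
  rw [Category.assoc, ← BC.down_map, Category.assoc, hw, BC.down_comp, down_trans, BC.down_up]
  refine Over.OverMorphism.ext ?_
  rw [Over.comp_left, Over.comp_left, BC.down_left, Over.comp_left, BC.down_left, hg]
  show 𝟙 _ ≫ 𝟙 _ ≫ ((pullback.lift b m hb ≫ pullback.fst _ _) ≫ v.left) ≫ _ = _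
  rw [Category.id_comp, Category.id_comp, pullback.lift_fst, Category.assoc]

set_option backward.isDefEq.respectTransparency false in
/-- **The reductive centre descends along fpqc covers.** -/
theorem exists_centre {S' : Scheme.{u}} (f : S' ⟶ S) [Flat f] [Surjective f]
    (hcov : ∀ V : S.Opens, IsAffineOpen V → ∃ W : S'.Opens, IsCompact (W : Set ↥S') ∧ f.base '' (W : Set ↥S') = (V : Set ↥S))
    {Z' : Over S'} [GrpObj Z'] (z' : Z' ⟶ Red.bc f G) [IsMonHom z'] [Mono z'] (hZ' : SGA3x.IsMultTypeFT Z')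
    (hc : ∀ (X : Over S') (x : X ⟶ Z') (g : X ⟶ Red.bc f G), (x ≫ z') * g = g * (x ≫ z'))
    (huniv : ∀ (S'' : Scheme.{u}) (f' : S'' ⟶ S') (H : Over S'') [GrpObj H] (v : H ⟶ Red.bc f' (Red.bc f G)) [IsMonHom v],
        SGA3x.IsMultTypeFT H →
        (∀ (X : Over S'') (x : X ⟶ H) (g : X ⟶ Red.bc f' (Red.bc f G)), (x ≫ v) * g = g * (x ≫ v)) →
        ∃ w : H ⟶ Red.bc f' Z', w ≫ (Over.pullback f').map z' = v) :
    ∃ (Z : Over S) (_ : GrpObj Z) (z : Z ⟶ G), IsMonHom z ∧ Mono z ∧ SGA3x.IsMultTypeFT Z ∧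
      (∀ (X : Over S) (x : X ⟶ Z) (g : X ⟶ G), (x ≫ z) * g = g * (x ≫ z)) ∧
      ∀ (T : Scheme.{u}) (t : T ⟶ S) (H : Over T) [GrpObj H] (v : H ⟶ Red.bc t G) [IsMonHom v],
        SGA3x.IsMultTypeFT H →
        (∀ (X : Over T) (x : X ⟶ H) (g : X ⟶ Red.bc t G), (x ≫ v) * g = g * (x ≫ v)) →
        ∃ w : H ⟶ Red.bc t Z, w ≫ (Over.pullback t).map z = v := by
  haveI := MT.isAffineHom hZ'
  let p₁ := pullback.fst f f
  let p₂ := pullback.snd f f
  -- invariance
  have hinv : SubgroupDescent.Invariant z' := by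
    intro T b x hx
    obtain ⟨w, hw⟩ := huniv _ p₂ _ (trans z' p₁ p₂ pullback.condition) (Normal.multTypeFT_bc hZ' p₁)
      (central_trans z' p₁ p₂ pullback.condition hc)
    let m : T ⟶ pullback f f := pullback.lift (b ≫ Z'.hom) x (by rw [Category.assoc, hx])
    let g : (Over.map f).obj (Over.mk x) ⟶ G :=
      Over.homMk (U := (Over.map f).obj (Over.mk x)) (b ≫ SubgroupDescent.toG z') (by
        rw [Category.assoc, SubgroupDescent.toG_hom]; exact hx.symm)
    obtain ⟨h, hh⟩ := exists_fac z' p₁ p₂ pullback.condition z' w hw (Over.mk x) m (pullback.lift_snd _ _ _) b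
      (pullback.lift_fst _ _ _).symm g rfl
    refine ⟨h.left, Over.w h, ?_⟩
    have := congr((BC.down f $hh).left)
    rw [BC.down_up, BC.down_left, Over.comp_left, Category.assoc] at this
    exact this
  obtain ⟨Z, gZ, z, hz, hzm, ⟨φ, hφm, hφ⟩, hcrit⟩ := SubgroupDescent.exists_descent hcov z' hinv
  refine ⟨Z, gZ, z, hz, hzm, SubgroupDescent.isMultTypeFT_of_bc hcov φ hZ', fun X x g => ?_, ?_⟩
  · let Y : Over S' := Over.mk (pullback.fst f X.hom)
    let y : (Over.map f).obj Y ⟶ X :=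
      Over.homMk (U := (Over.map f).obj Y) (pullback.snd f X.hom) pullback.condition.symm
    obtain ⟨h, hh⟩ := (hcrit (x ≫ z)).1 ⟨x, rfl⟩ Y y
    have h1 := hc Y h (BC.up f (y ≫ g))
    rw [hh, ← BC.up_mul, ← BC.up_mul, ← comp_mul, ← comp_mul] at h1
    have h2 := congr((BC.down f $h1).left)
    rw [BC.down_up, BC.down_up, Over.comp_left, Over.comp_left] at h2
    have hsh := Groth.Agent.Lib.DescAlg.DDFam.Cover.isSheafFor_yoneda
      (Precoverage.mem_coverings_of_isPullback _ (SubgroupDescent.cover_mem (π := f) hcov) X.hom _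
        (fun _ : PUnit.{u + 1} ↦ pullback.fst f X.hom) fun _ ↦ (IsPullback.of_hasPullback _ _).flip) G.left
    refine Over.OverMorphism.ext (hsh.isSeparatedFor.ext fun W k hk => ?_)
    obtain ⟨i⟩ := hk
    exact h2
  · intro T t H _ v _ hH hcv
    let q₁ := pullback.fst t f
    let q₂ := pullback.snd t f
    obtain ⟨w', hw'⟩ := huniv _ q₂ _ (trans v q₁ q₂ pullback.condition) (Normal.multTypeFT_bc hH q₁)
      (central_trans v q₁ q₂ pullback.condition hcv)
    obtain ⟨r, hr⟩ := (hcrit (BC.down t v)).2 fun Y y => by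
      let b : Y.left ⟶ H.left := y.left
      let m : Y.left ⟶ pullback t f := pullback.lift (b ≫ H.hom) Y.hom (by
        rw [Category.assoc]; exact Over.w y)
      exact exists_fac v q₁ q₂ pullback.condition z' w' hw' Y m (pullback.lift_snd _ _ _) b
        (pullback.lift_fst _ _ _).symm (y ≫ BC.down t v) (by rw [Over.comp_left, BC.down_left])
    exact ⟨BC.up t r, BC.down_injective (by rw [BC.down_map, BC.down_up, hr])⟩

end Groth.Agent.H87.CentreDescent
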