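import Mathlib.Algebra.MonoidAlgebra.Basic
import Mathlib.Algebra.MonoidAlgebra.MapDomain
import Mathlib.RingTheory.Ideal.Quotient.Defs
import Mathlib.RingTheory.Ideal.Operations
import Mathlib.RingTheory.Nilpotent.Defs

/-!
# A grading which is trivial modulo a nilpotent invariant ideal is trivial
-/

set_option autoImplicit false
universe u v

namespace Groth.Agent.H87.CoactTrivial

open MonoidAlgebra

variable {B : Type u} [CommRing B] {N : Type v} [CommMonoid N] [DecidableEq N]

theorem eq_single_one (ρ : B →+* MonoidAlgebra B N)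
    (hε : ∀ b, ((ρ b).coeff.sum fun _ r => r) = b)
    (hco : ∀ b m, ρ ((ρ b).coeff m) = single m ((ρ b).coeff m))
    (E : Set B) (hnil : IsNilpotent (Ideal.span E))
    (hinv : ∀ x ∈ E, ρ x = single 1 x)
    (hmod : ∀ b m, m ≠ 1 → (ρ b).coeff m ∈ Ideal.span E) (b : B) :
    ρ b = single 1 b := by
  set K := Ideal.span E
  have key : ∀ (n : ℕ) (b : B) (m : N), m ≠ 1 → (ρ b).coeff m ∈ K ^ n := by
    intro n
    induction n with
    | zero => intros; simp
    | succ n ih =>
      intro b m hm
      have h2 : ∀ y ∈ K, ∀ r, (ρ (r * y)).coeff m ∈ K ^ (n + 1) := by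
        intro y hy
        induction hy using Submodule.span_induction with
        | mem x hx =>
          intro r
          rw [map_mul, hinv x hx, coeff_mul_single_one, pow_succ]
          exact Ideal.mul_mem_mul (ih r m hm) (Ideal.subset_span hx)
        | zero => intro r; simp
        | add x y _ _ hx hy =>
          intro r
          rw [mul_add, map_add, coeff_add, Finsupp.add_apply]
          exact add_mem (hx r) (hy r)
        | smul s x _ hx => intro r; rw [smul_eq_mul, ← mul_assoc]; exact hx (r * s)
      have := h2 _ (hmod b m hm) 1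
      rw [one_mul, hco, coeff_single, Finsupp.single_eq_same] at this
      exact this
  obtain ⟨n, hn⟩ := hnil
  have h0 : ∀ m, m ≠ 1 → (ρ b).coeff m = 0 := fun m hm => by
    have := key n b m hm
    rwa [hn, Ideal.zero_eq_bot, Ideal.mem_bot] at this
  have heq : ρ b = single 1 ((ρ b).coeff 1) := by
    ext m
    rw [coeff_single, Finsupp.single_apply]
    split_ifs with h
    · rw [h]
    · exact h0 m (Ne.symm h)
  have h1 := hε b
  rw [heq, coeff_single, Finsupp.sum_single_index rfl] at h1
  rwa [h1] at heq

theorem commute_aux {R : Type*} [CommRing R] {α β : Type*} (f : α → R) (g : β → R) :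
    ∀ x y, Commute (f x) (g y) := fun _ _ => Commute.all _ _

theorem counit_of_lift {N : Type v} [CommGroup N] (ρ : B →+* MonoidAlgebra B N)
    (hε : ∀ b, liftNCRingHom (RingHom.id B) (1 : N →* B) (commute_aux _ _) (ρ b) = b) (b : B) :
    ((ρ b).coeff.sum fun _ r => r) = b := by
  classical
  conv_rhs => rw [← hε b]
  generalize ρ b = z
  induction z using MonoidAlgebra.induction_linear with
  | zero => simp
  | add z z' hz hz' =>
    rw [map_add, coeff_add, Finsupp.sum_add_index (by simp) (by simp), hz, hz']
  | single n r => simp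

theorem coassoc_of_lift {N : Type v} [CommGroup N] (ρ : B →+* MonoidAlgebra B N)
    (hco : ∀ b,
      liftNCRingHom (MonoidAlgebra.singleOneRingHom)
        (((MonoidAlgebra.of B (N × N)).comp (MonoidHom.inl N N)) * ((MonoidAlgebra.of B (N × N)).comp (MonoidHom.inr N N)))
        (commute_aux _ _) (ρ b) =
      liftNCRingHom ((liftNCRingHom MonoidAlgebra.singleOneRingHom
          ((MonoidAlgebra.of B (N × N)).comp (MonoidHom.inr N N)) (commute_aux _ _)).comp ρ)
        ((MonoidAlgebra.of B (N × N)).comp (MonoidHom.inl N N)) (commute_aux _ _) (ρ b)) (b : B) (m : N) :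
    ρ ((ρ b).coeff m) = single m ((ρ b).coeff m) := by
  classical
  have hL : ∀ (z : MonoidAlgebra B N) (p q : N),
      (liftNCRingHom (MonoidAlgebra.singleOneRingHom)
        (((MonoidAlgebra.of B (N × N)).comp (MonoidHom.inl N N)) * ((MonoidAlgebra.of B (N × N)).comp (MonoidHom.inr N N)))
        (commute_aux _ _) z).coeff (p, q) = if p = q then z.coeff p else 0 := by
    intro z p q
    induction z using MonoidAlgebra.induction_linear with
    | zero => simp
    | add z z' hz hz' =>
      rw [map_add, coeff_add, Finsupp.add_apply, hz, hz']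
      split_ifs <;> simp
    | single n r =>
      simp [Finsupp.single_apply, Prod.ext_iff]
      by_cases h1 : n = p <;> by_cases h2 : n = q <;> by_cases h3 : p = q <;> simp_all
  have hR2 : ∀ (c : MonoidAlgebra B N) (p q : N),
      (liftNCRingHom MonoidAlgebra.singleOneRingHom
        ((MonoidAlgebra.of B (N × N)).comp (MonoidHom.inr N N)) (commute_aux _ _) c).coeff (p, q) =
        if p = 1 then c.coeff q else 0 := by
    intro z p q
    induction z using MonoidAlgebra.induction_linear with
    | zero => simp
    | add z z' hz hz' =>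
      rw [map_add, coeff_add, Finsupp.add_apply, hz, hz']
      split_ifs <;> simp
    | single n r =>
      simp [Finsupp.single_apply, Prod.ext_iff]
      by_cases h1 : p = 1
      · subst h1; simp
      · simp [h1, Ne.symm h1]
  have hR : ∀ (z : MonoidAlgebra B N) (p q : N),
      (liftNCRingHom ((liftNCRingHom MonoidAlgebra.singleOneRingHom
          ((MonoidAlgebra.of B (N × N)).comp (MonoidHom.inr N N)) (commute_aux _ _)).comp ρ)
        ((MonoidAlgebra.of B (N × N)).comp (MonoidHom.inl N N)) (commute_aux _ _) z).coeff (p, q) =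
        (ρ (z.coeff p)).coeff q := by
    intro z p q
    induction z using MonoidAlgebra.induction_linear with
    | zero => simp
    | add z z' hz hz' =>
      rw [map_add, coeff_add, Finsupp.add_apply, hz, hz', coeff_add, Finsupp.add_apply, map_add,
        coeff_add, Finsupp.add_apply]
    | single n r =>
      rw [liftNCRingHom_single, RingHom.comp_apply, MonoidHom.comp_apply, MonoidHom.inl_apply, of_apply]
      have hpq : ∀ z : N × N, z * (n, 1) = (p, q) ↔ z = (p / n, q) := fun z => by
        simp [Prod.ext_iff, eq_div_iff_mul_eq']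
      rw [coeff_mul_single_eq_coeff_mul _ (fun z _ => hpq z), mul_one, hR2, coeff_single]
      by_cases h : n = p
      · subst h; simp
      · have h' : p / n ≠ 1 := by rwa [ne_eq, div_eq_one, eq_comm]
        simp [h', Finsupp.single_apply, h]
  have := congr(MonoidAlgebra.coeff $(hco b))
  ext q
  have hq := congr($this (m, q))
  rw [hL, hR] at hq
  rw [coeff_single, Finsupp.single_apply, ← hq]

/-- The same with the axioms of a coaction written through lifts. -/
theorem eq_inc {N : Type v} [CommGroup N] (ρ : B →+* MonoidAlgebra B N)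
    (hε : ∀ b, liftNCRingHom (RingHom.id B) (1 : N →* B) (commute_aux _ _) (ρ b) = b)
    (hco : ∀ b,
      liftNCRingHom (MonoidAlgebra.singleOneRingHom)
        (((MonoidAlgebra.of B (N × N)).comp (MonoidHom.inl N N)) * ((MonoidAlgebra.of B (N × N)).comp (MonoidHom.inr N N)))
        (commute_aux _ _) (ρ b) =
      liftNCRingHom ((liftNCRingHom MonoidAlgebra.singleOneRingHom
          ((MonoidAlgebra.of B (N × N)).comp (MonoidHom.inr N N)) (commute_aux _ _)).comp ρ)
        ((MonoidAlgebra.of B (N × N)).comp (MonoidHom.inl N N)) (commute_aux _ _) (ρ b))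
    (E : Set B) (hnil : IsNilpotent (Ideal.span E)) (hinv : ∀ x ∈ E, ρ x = single 1 x)
    (hmod : ∀ b, liftNCRingHom (MonoidAlgebra.singleOneRingHom.comp (Ideal.Quotient.mk (Ideal.span E)))
        (MonoidAlgebra.of (B ⧸ Ideal.span E) N) (commute_aux _ _) (ρ b) =
      single 1 (Ideal.Quotient.mk (Ideal.span E) b)) :
    ρ = MonoidAlgebra.singleOneRingHom := by
  classical
  refine RingHom.ext fun b => eq_single_one ρ (counit_of_lift ρ hε) (coassoc_of_lift ρ hco) E hnil hinv (fun b m hm => ?_) b
  · rw [← Ideal.Quotient.eq_zero_iff_mem]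
    have hl : ∀ z : MonoidAlgebra B N,
        (liftNCRingHom (MonoidAlgebra.singleOneRingHom.comp (Ideal.Quotient.mk (Ideal.span E)))
          (MonoidAlgebra.of (B ⧸ Ideal.span E) N) (commute_aux _ _) z).coeff m =
        Ideal.Quotient.mk (Ideal.span E) (z.coeff m) := by
      intro z
      induction z using MonoidAlgebra.induction_linear with
      | zero => simp
      | add z z' hz hz' =>
        rw [map_add, coeff_add, Finsupp.add_apply, hz, hz']
        simp
      | single n r => simp [Finsupp.single_apply, apply_ite (Ideal.Quotient.mk (Ideal.span E))]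
    rw [← hl, hmod, coeff_single, Finsupp.single_eq_of_ne hm]

end Groth.Agent.H87.CoactTrivial
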