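import Groth.Agent.H87.HomGrp
import Mathlib.GroupTheory.Abelianization.Defs

/-!
# Homomorphisms from a constant group to the multiplicative group
-/

set_option autoImplicit false
universe u

open CategoryTheory MonoidalCategory CartesianMonoidalCategory MonObj GrpObj AlgebraicGeometry
open CategoryTheory.Limits
open Groth.Agent.Lib.RedPts Groth.Agent.Lib.Tori
open Groth.Agent.H87.HomFam

namespace Groth.Agent.H87.ConstDual

variable {U : Scheme.{u}} {C : Over U} [GrpObj C] {M : Type} [Group M] (e : C ≅ TwC.const U M)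

/-- The character group of the dual. -/
abbrev L (M : Type) [Group M] : Type := Additive (Abelianization M)

/-- The class of an element. -/
def cls (m : M) : L M := Additive.ofMul (Abelianization.of m)

theorem cls_mul (m n : M) : cls (m * n) = cls m + cls n := by
  simp [cls, map_mul]

/-- The constant point of index `m`. -/
noncomputable def cpt (X : Over U) (m : M) : X ⟶ C := toUnit X ≫ TwC.pt U M m ≫ e.inv

theorem comp_cpt {X X' : Over U} (r : X' ⟶ X) (m : M) : r ≫ cpt e X m = cpt e X' m := by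
  rw [cpt, cpt, ← Category.assoc, comp_toUnit]

theorem cpt_mul (hCg : TwC.IsConstGrp M C e) (X : Over U) (m n : M) :
    cpt e X m * cpt e X n = cpt e X (m * n) := by
  rw [cpt, cpt, cpt, ← MonObj.comp_mul, hCg m n]

/-- The inclusion of an open. -/
noncomputable def opIncl {X : Over U} (O : X.left.Opens) : Over.mk (O.ι ≫ X.hom) ⟶ X := Over.homMk O.ι rfl

theorem hom_ext_local {X Y : Over U} {a b : X ⟶ Y}
    (h : ∀ x : X.left, ∃ O : X.left.Opens, x ∈ O ∧ opIncl O ≫ a = opIncl O ≫ b) : a = b := by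
  choose O hO hab using h
  refine Over.OverMorphism.ext (Scheme.Cover.hom_ext (X.left.openCoverOfIsOpenCover O
    (TopologicalSpace.IsOpenCover.mk (top_le_iff.mp fun p _ =>
      TopologicalSpace.Opens.mem_iSup.mpr ⟨p, hO p⟩))) _ _ fun p => ?_)
  exact congrArg CommaMorphism.left (hab p)

theorem exists_cpt {X : Over U} (g : X ⟶ C) (x : X.left) :
    ∃ (m : M) (O : X.left.Opens), x ∈ O ∧ opIncl O ≫ g = cpt e _ m := by
  obtain ⟨m, u, hu⟩ := (sigmaOpenCover fun _ : M => U).exists_eq ((g ≫ e.hom).left x)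
  let inC : U ⟶ (TwC.const U M).left := Sigma.ι (fun _ : M => U) m
  let O : X.left.Opens := (g ≫ e.hom).left ⁻¹ᵁ inC.opensRange
  refine ⟨m, O, ⟨u, hu⟩, ?_⟩
  let b : (O : Scheme.{u}) ⟶ U := IsOpenImmersion.lift inC (O.ι ≫ (g ≫ e.hom).left) (by
    rintro _ ⟨p, rfl⟩; exact p.2)
  have hb : b ≫ inC = O.ι ≫ (g ≫ e.hom).left := IsOpenImmersion.lift_fac _ _ _
  have hb' : b = O.ι ≫ X.hom := by
    have h := congrArg (· ≫ (TwC.const U M).hom) hb
    simp only [Category.assoc] at h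
    rw [Over.w (g ≫ e.hom)] at h
    simpa [inC] using h
  rw [cpt, ← cancel_mono e.hom, Category.assoc, Category.assoc, Category.assoc, e.inv_hom_id, Category.comp_id]
  refine Over.OverMorphism.ext (hb.symm.trans ?_)
  rw [hb']
  rfl

/-- The universal pairing. -/
theorem exists_pairing : ∃ φ : C ⊗ Red.DS U (L M) ⟶ Red.DS U ℤ,
    ∀ (X : Over U) (a : X ⟶ Red.DS U (L M)) (m : M), lift (cpt e X m) a ≫ φ = a ≫ Red.chi U (cls m) := by
  classical
  let P := C ⊗ Red.DS U (L M)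
  choose mm O hxO hO using fun x : P.left => exists_cpt e (fst C (Red.DS U (L M))) x
  let 𝒰 : P.left.OpenCover := P.left.openCoverOfIsOpenCover O
    (TopologicalSpace.IsOpenCover.mk (top_le_iff.mp fun p _ => TopologicalSpace.Opens.mem_iSup.mpr ⟨p, hxO p⟩))
  have hdisj : ∀ (Z : Over U) (z : Z.left) (m n : M), cpt e Z m = cpt e Z n → m = n := fun Z z m n h => by
    by_contra hne
    have h' := congrArg (fun k => (k ≫ e.hom).left z) h
    simp only [cpt, Category.assoc, e.inv_hom_id, Category.comp_id] at h'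
    exact (disjoint_opensRange_sigmaι (fun _ : M => U) m n hne).le_bot
      ⟨⟨(toUnit Z).left z, h'⟩, ⟨(toUnit Z).left z, rfl⟩⟩
  let k : ∀ p : P.left, Over.mk ((O p).ι ≫ P.hom) ⟶ Red.DS U ℤ := fun p =>
    (opIncl (O p) ≫ snd C (Red.DS U (L M))) ≫ Red.chi U (cls (mm p))
  have hcompat : ∀ p q : P.left, pullback.fst (O p).ι (O q).ι ≫ (k p).left =
      pullback.snd (O p).ι (O q).ι ≫ (k q).left := fun p q => by
    rcases isEmpty_or_nonempty ↥(pullback (O p).ι (O q).ι) with hW | ⟨⟨z⟩⟩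
    · exact isInitialOfIsEmpty.hom_ext _ _
    let Z : Over U := Over.mk (pullback.fst (O p).ι (O q).ι ≫ (O p).ι ≫ P.hom)
    let rp : Z ⟶ Over.mk ((O p).ι ≫ P.hom) := Over.homMk (pullback.fst _ _) rfl
    let rq : Z ⟶ Over.mk ((O q).ι ≫ P.hom) := Over.homMk (pullback.snd _ _) (by
      show pullback.snd (O p).ι (O q).ι ≫ (O q).ι ≫ P.hom = _
      rw [← pullback.condition_assoc]; rfl)
    have hr : rp ≫ opIncl (O p) = rq ≫ opIncl (O q) := Over.OverMorphism.ext pullback.condition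
    have hm : mm p = mm q := hdisj Z z _ _ (by
      rw [← comp_cpt e rp, ← comp_cpt e rq, ← hO, ← hO, ← Category.assoc, hr, Category.assoc])
    show (rp ≫ k p).left = (rq ≫ k q).left
    simp only [k, ← Category.assoc, hr, hm]
  let l : P.left ⟶ (Red.DS U ℤ).left := 𝒰.glueMorphisms (fun p => (k p).left) hcompat
  have hl : ∀ p, (O p).ι ≫ l = (k p).left := fun p => 𝒰.ι_glueMorphisms _ hcompat p
  let φ : P ⟶ Red.DS U ℤ := Over.homMk l (Scheme.Cover.hom_ext 𝒰 _ _ fun p => by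
    show (O p).ι ≫ l ≫ (Red.DS U ℤ).hom = (O p).ι ≫ P.hom
    rw [reassoc_of% (hl p), Over.w (k p)]
    rfl)
  refine ⟨φ, fun X a m => hom_ext_local fun x => ?_⟩
  let r := lift (cpt e X m) a
  let p := r.left x
  refine ⟨r.left ⁻¹ᵁ O p, hxO p, ?_⟩
  let V := r.left ⁻¹ᵁ O p
  let rV : Over.mk (V.ι ≫ X.hom) ⟶ Over.mk ((O p).ι ≫ P.hom) := Over.homMk (r.left ∣_ O p) (by
    show (r.left ∣_ O p) ≫ (O p).ι ≫ P.hom = V.ι ≫ X.hom
    rw [morphismRestrict_ι_assoc, Over.w r])
  have hrV : rV ≫ opIncl (O p) = opIncl V ≫ r := Over.OverMorphism.ext (morphismRestrict_ι _ _)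
  have hm : mm p = m := hdisj (Over.mk (V.ι ≫ X.hom)) ⟨x, hxO p⟩ _ _ (by
    rw [← comp_cpt e rV, ← hO, ← Category.assoc, hrV, Category.assoc, lift_fst, comp_cpt])
  have hφ : opIncl (O p) ≫ φ = k p := Over.OverMorphism.ext (hl p)
  show opIncl V ≫ r ≫ φ = opIncl V ≫ a ≫ Red.chi U (cls m)
  rw [← Category.assoc (opIncl V) r φ, ← hrV, Category.assoc, hφ]
  simp only [k, hm]
  rw [← Category.assoc, ← Category.assoc, hrV, Category.assoc (opIncl V) r, lift_snd, Category.assoc]

/-- A family is determined by its values on constant points. -/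
theorem fam_ext {T : Scheme.{u}} {t : T ⟶ U} (F F' : Fam C (Red.DS U ℤ) t)
    (h : ∀ (Y : Over U) (y : Y.left ⟶ T) (hy : y ≫ t = Y.hom) (m : M),
      F.app Y y hy (cpt e Y m) = F'.app Y y hy (cpt e Y m)) : F = F' := by
  refine Fam.ext (funext fun Y => funext fun y => funext fun hy => funext fun g => hom_ext_local fun x => ?_)
  obtain ⟨m, O, hx, hO⟩ := exists_cpt e g x
  refine ⟨O, hx, ?_⟩
  have hy' : (O.ι ≫ y) ≫ t = (Over.mk (O.ι ≫ Y.hom)).hom := by
    rw [Category.assoc, hy]; rfl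
  rw [← F.natural (opIncl O) y hy (O.ι ≫ y) hy' g rfl, ← F'.natural (opIncl O) y hy (O.ι ≫ y) hy' g rfl, hO]
  exact h _ _ _ _

include e in
/-- **The dual of a constant group is diagonalisable.** -/
theorem exists_reps_dual (hCg : TwC.IsConstGrp M C e) :
    ∃ V : Fam C (Red.DS U ℤ) (Red.DS U (L M)).hom, Reps (Red.DS U (L M)) V ∧
      ∀ (X : Over U) (a b : X ⟶ Red.DS U (L M)) (Y : Over U) (y : Y.left ⟶ X.left) (hy : y ≫ X.hom = Y.hom)
      (g : Y ⟶ C),
      (V.res (a * b).left (Over.w (a * b))).app Y y hy g =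
        (V.res a.left (Over.w a)).app Y y hy g * (V.res b.left (Over.w b)).app Y y hy g := by
  classical
  obtain ⟨φ, hφ⟩ := exists_pairing e
  have hhom : AutFam.IsHomFamily C (Red.DS U ℤ) φ := fun X g g' a => by
    refine hom_ext_local fun x => ?_
    obtain ⟨m, O, hx, hO⟩ := exists_cpt e g x
    obtain ⟨n, O', hx', hO'⟩ := exists_cpt e g' x
    refine ⟨O ⊓ O', ⟨hx, hx'⟩, ?_⟩
    let i := opIncl (O ⊓ O')
    let r : Over.mk ((O ⊓ O').ι ≫ X.hom) ⟶ Over.mk (O.ι ≫ X.hom) :=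
      Over.homMk (X.left.homOfLE (inf_le_left : O ⊓ O' ≤ O)) (by
        show _ ≫ O.ι ≫ X.hom = _; rw [Scheme.homOfLE_ι_assoc]; rfl)
    let r' : Over.mk ((O ⊓ O').ι ≫ X.hom) ⟶ Over.mk (O'.ι ≫ X.hom) :=
      Over.homMk (X.left.homOfLE (inf_le_right : O ⊓ O' ≤ O')) (by
        show _ ≫ O'.ι ≫ X.hom = _; rw [Scheme.homOfLE_ι_assoc]; rfl)
    have h1 : i ≫ g = cpt e _ m := by
      rw [show i = r ≫ opIncl O from Over.OverMorphism.ext (X.left.homOfLE_ι (inf_le_left : O ⊓ O' ≤ O)).symm, Category.assoc, hO, comp_cpt]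
    have h2 : i ≫ g' = cpt e _ n := by
      rw [show i = r' ≫ opIncl O' from Over.OverMorphism.ext (X.left.homOfLE_ι (inf_le_right : O ⊓ O' ≤ O')).symm, Category.assoc, hO', comp_cpt]
    show i ≫ _ = i ≫ _
    rw [MonObj.comp_mul, ← Category.assoc, ← Category.assoc, ← Category.assoc, comp_lift, comp_lift, comp_lift,
      MonObj.comp_mul, h1, h2, cpt_mul e hCg, hφ, hφ, hφ, cls_mul, Gm.chi_add]
  let V : Fam C (Red.DS U ℤ) (Red.DS U (L M)).hom := Fam.ofMor (t := (Red.DS U (L M)).hom) φ hhom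
  have hV : ∀ {T : Scheme.{u}} {t : T ⟶ U} (a : Over.mk t ⟶ Red.DS U (L M)) (Y : Over U) (y : Y.left ⟶ T)
      (hy : y ≫ t = Y.hom) (m : M),
      (V.res a.left (Over.w a)).app Y y hy (cpt e Y m) = (Over.homMk y hy : Y ⟶ Over.mk t) ≫ a ≫ Red.chi U (cls m) := by
    intro T t a Y y hy m
    rw [← Category.assoc, ← hφ]
    rfl
  refine ⟨V, fun T t F => ?_, fun X a b Y y hy g => ?_⟩
  · let Tt : Over U := Over.mk t
    let val : M → (Tt ⟶ Red.DS U ℤ) := fun m => F.app Tt (𝟙 T) (Category.id_comp _) (cpt e Tt m)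
    have hval : ∀ m n, val (m * n) = val m * val n := fun m n => by
      simp only [val, ← F.mul, cpt_mul e hCg]
    let u₀ : M →* Γ(T, ⊤)ˣ := MonoidHom.mk' (fun m => (Gm.isUnit_gmFn (val m)).unit) fun m n => Units.ext (by
      show Red.gmFn (val (m * n)) = Red.gmFn (val m) * Red.gmFn (val n)
      rw [hval, Gm.gmFn_mul])
    let χ : Multiplicative (L M) →* Γ(Tt.left, ⊤) := (Units.coeHom _).comp
      ((Abelianization.lift u₀).comp
        { toFun := fun z => Additive.toMul (Multiplicative.toAdd z)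
          map_one' := rfl
          map_mul' := fun _ _ => rfl })
    let a : Tt ⟶ Red.DS U (L M) := Gm.dsPt χ
    have ha : ∀ m, a ≫ Red.chi U (cls m) = val m := fun m => Gm.gmFn_injective (by
      rw [Gm.gmFn_chi, Gm.dsFn_dsPt]
      show ((Abelianization.lift u₀ (Abelianization.of m) : Γ(T, ⊤)ˣ) : Γ(T, ⊤)) = _
      rw [Abelianization.lift_apply_of]
      rfl)
    refine ⟨a.left, ⟨Over.w a, fam_ext e _ _ fun Y y hy m => ?_⟩, fun b ⟨wb, hb⟩ => ?_⟩
    · rw [hV a Y y hy m, ha, ← F.natural (Over.homMk y hy : Y ⟶ Tt) (𝟙 T) (Category.id_comp t) y hy _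
        (Category.comp_id y), comp_cpt]
    · let b' : Tt ⟶ Red.DS U (L M) := Over.homMk b wb
      suffices b' = a from congrArg CommaMorphism.left this
      refine Gm.dsFn_ext fun z => ?_
      obtain ⟨q, rfl⟩ : ∃ m, cls m = z := by
        obtain ⟨m, hm⟩ := QuotientGroup.mk_surjective (Additive.toMul z)
        exact ⟨m, congrArg Additive.ofMul hm⟩
      rw [← Gm.gmFn_chi, ← Gm.gmFn_chi, ha]
      have h := congr(($hb).app Tt (𝟙 T) (Category.id_comp t) (cpt e Tt q))
      refine congrArg Red.gmFn (Eq.trans ?_ ((hV b' Tt (𝟙 T) (Category.id_comp t) q).symm.trans h))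
      exact (Category.id_comp _).symm.trans
        (congrArg (· ≫ b' ≫ Red.chi U (cls q)) (Over.OverMorphism.ext rfl))
  · refine congr(($(fam_ext e (V.res (a * b).left (Over.w (a * b)))
      (Fam.mulFam (fun Z => HomDS.gm_comm) (V.res a.left (Over.w a)) (V.res b.left (Over.w b)))
      fun Z z hz m => ?_)).app Y y hy g)
    show (V.res (a * b).left _).app Z z hz (cpt e Z m) =
      (V.res a.left _).app Z z hz (cpt e Z m) * (V.res b.left _).app Z z hz (cpt e Z m)
    erw [hV (t := X.hom) (a * b) Z z hz m, hV (t := X.hom) a Z z hz m, hV (t := X.hom) b Z z hz m]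
    refine (congrArg (_ ≫ ·) (@MonObj.mul_comp _ _ _ _ _ _ _ _ a b (Red.chi U (cls m)) (Gm.isMonHom_DSmap _))).trans ?_
    rw [MonObj.comp_mul]

end Groth.Agent.H87.ConstDual
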