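import Groth.Agent.Lib.MultAvg.HomAvg
import Groth.Agent.Lib.SmoothLift.Formal
import Mathlib.Data.ZMod.Basic

/-!
# Averaging over a finite cyclic group along square-zero ideals
-/

set_option autoImplicit false
set_option linter.style.haveILetI false
universe u

open CategoryTheory CategoryTheory.Limits MonoidalCategory CartesianMonoidalCategory MonObj GrpObj AlgebraicGeometry
open Groth.Agent.H87.HomDS Groth.Agent.Lib Groth.Agent.Lib.MultAvg Groth.Agent.Lib.MultAvg.Fnl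

namespace Groth.Agent.H87.CyclicAvg

variable {S : Scheme.{u}} {A : CommRingCat.{u}} (t : Spec A ⟶ S) {J : Ideal A} (hJ : J ^ 2 = ⊥)
  {N : ℕ} [NeZero N] (hN : IsUnit (N : A))

/-- The index set. -/
abbrev Idx (N : ℕ) : Type u := ULift.{u} (ZMod N)

variable (A N) in
/-- The algebra of functions on the index set. -/
abbrev Alg : CommRingCat.{u} := CommRingCat.of (Idx.{u} N → A)

variable (A N) in
/-- The constants. -/
noncomputable def inc : A ⟶ Alg A N := CommRingCat.ofHom (RingHom.pi fun _ => RingHom.id A)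

/-- The evaluations. -/
noncomputable def ev (i : Idx.{u} N) : Alg A N ⟶ A := CommRingCat.ofHom (Pi.evalRingHom (fun _ : Idx.{u} N => (A : Type u)) i)

theorem inc_ev (i : Idx.{u} N) : inc A N ≫ ev i = 𝟙 A := rfl

/-- The mean value. -/
noncomputable def fnl : Fnl (inc A N) where
  toFun :=
    { toFun := fun c => (↑hN.unit⁻¹ : A) * ∑ i, c i
      map_zero' := by
        show (↑hN.unit⁻¹ : A) * ∑ _i : Idx.{u} N, (0 : A) = 0
        simp
      map_add' := fun c d => by simp [Finset.sum_add_distrib, mul_add] }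
  lin a c := by
    show (↑hN.unit⁻¹ : A) * ∑ i, a * c i = a * ((↑hN.unit⁻¹ : A) * ∑ i, c i)
    rw [← Finset.mul_sum]; ring
  one := by
    show (↑hN.unit⁻¹ : A) * ∑ _i : Idx.{u} N, (1 : A) = 1
    rw [Finset.sum_const, Finset.card_univ, Fintype.card_ulift, ZMod.card, nsmul_eq_mul, _root_.mul_one]
    exact hN.val_inv_mul

theorem ext_comp {Z : Scheme.{u}} (a b : Spec (Alg A N) ⟶ Z)
    (h : ∀ i, Spec.map (ev i) ≫ a = Spec.map (ev i) ≫ b) : a = b := by
  rw [← cancel_epi (sigmaSpec fun _ : Idx.{u} N => A)]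
  refine Sigma.hom_ext _ _ fun i => ?_
  rw [← Category.assoc, ι_sigmaSpec, ← Category.assoc, ι_sigmaSpec]
  exact h i

theorem exists_tuple {Z : Scheme.{u}} (k : Idx.{u} N → (Spec A ⟶ Z)) :
    ∃ y : Spec (Alg A N) ⟶ Z, ∀ i, Spec.map (ev i) ≫ y = k i := by
  refine ⟨CategoryTheory.inv (sigmaSpec fun _ : Idx.{u} N => A) ≫ Sigma.desc k, fun i => ?_⟩
  have e : Spec.map (ev i) = Sigma.ι (fun _ : Idx.{u} N => Spec A) i ≫ sigmaSpec fun _ : Idx.{u} N => A :=
    (ι_sigmaSpec (fun _ : Idx.{u} N => A) i).symm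
  rw [e, Category.assoc, IsIso.hom_inv_id_assoc, Sigma.ι_desc]

theorem ext_mod {Z : Scheme.{u}} (a b : Spec (CommRingCat.of ((Alg A N : Type u) ⧸ J.map (inc A N).hom)) ⟶ Z)
    (h : ∀ i : Idx.{u} N, Spec.map (CommRingCat.ofHom (Ideal.quotientMap J (ev i).hom
      (Ideal.map_le_iff_le_comap.1 (le_of_eq (by rw [Ideal.map_map]; exact Ideal.map_id J))))) ≫ a =
      Spec.map (CommRingCat.ofHom (Ideal.quotientMap J (ev i).hom
      (Ideal.map_le_iff_le_comap.1 (le_of_eq (by rw [Ideal.map_map]; exact Ideal.map_id J))))) ≫ b) : a = b := by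
  let B : Idx.{u} N → CommRingCat.{u} := fun _ => CommRingCat.of (A ⧸ J)
  let θ : ((Alg A N : Type u) ⧸ J.map (inc A N).hom) →+* (Idx.{u} N → A ⧸ J) :=
    RingHom.pi fun i => Ideal.quotientMap J (ev i).hom
      (Ideal.map_le_iff_le_comap.1 (le_of_eq (by rw [Ideal.map_map]; exact Ideal.map_id J)))
  have hθ : Function.Bijective θ := by
    refine ⟨(injective_iff_map_eq_zero _).2 fun x hx => ?_, fun c => ?_⟩
    · obtain ⟨c, rfl⟩ := Ideal.Quotient.mk_surjective x
      rw [Ideal.Quotient.eq_zero_iff_mem]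
      have hc : ∀ i, c i ∈ J := fun i => Ideal.Quotient.eq_zero_iff_mem.1 (congrFun hx i)
      have hsum : c = ∑ i, (inc A N).hom (c i) * Pi.single i 1 := funext fun j => by
        simp [Finset.sum_apply, inc, Pi.single_apply]
      rw [hsum]
      exact Ideal.sum_mem _ fun i _ => Ideal.mul_mem_right _ _ (Ideal.mem_map_of_mem _ (hc i))
    · choose d hd using fun i => Ideal.Quotient.mk_surjective (c i)
      exact ⟨Ideal.Quotient.mk _ (d : Idx.{u} N → A), funext fun i => hd i⟩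
  let Θ : CommRingCat.of ((Alg A N : Type u) ⧸ J.map (inc A N).hom) ⟶ CommRingCat.of (Π i, B i) := CommRingCat.ofHom θ
  haveI : IsIso Θ := (ConcreteCategory.isIso_iff_bijective Θ).2 hθ
  rw [← cancel_epi (Spec.map Θ), ← cancel_epi (sigmaSpec B)]
  refine Sigma.hom_ext _ _ fun i => ?_
  rw [← Category.assoc, ι_sigmaSpec, ← Category.assoc (Sigma.ι (fun i => Spec (B i)) i), ι_sigmaSpec, ← Spec.map_comp_assoc, ← Spec.map_comp_assoc]
  exact h i

section Avg

variable {X X' : Over S} (k : Idx.{u} N → (test t (𝟙 A) ⟶ X)) (x₀ : test t (𝟙 A ≫ mkA J) ⟶ X)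

/-- `xb` is the mean value of the family `k`, congruent to `x₀`. -/
def IsMean (xb : test t (𝟙 A) ⟶ X) : Prop :=
  ∃ y : test t (𝟙 A ≫ inc A N) ⟶ X, (∀ i, Spec.map (ev i) ≫ y.left = (k i).left) ∧
    IsAvg (fnl hN) hJ y.left x₀.left xb.left

variable {t hJ hN k x₀}

theorem IsMean.unique {xb xb' : test t (𝟙 A) ⟶ X} (h : IsMean t hJ hN k x₀ xb) (h' : IsMean t hJ hN k x₀ xb') :
    xb = xb' := by
  obtain ⟨y, hy, ha⟩ := h
  obtain ⟨y', hy', ha'⟩ := h'
  have e : y.left = y'.left := ext_comp _ _ fun i => (hy i).trans (hy' i).symm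
  exact Over.OverMorphism.ext (ha.unique (e ▸ ha'))

theorem IsMean.mod {xb : test t (𝟙 A) ⟶ X} (h : IsMean t hJ hN k x₀ xb) :
    tmap t (mkA J) rfl ≫ xb = x₀ := by
  obtain ⟨y, -, ha⟩ := h
  exact Over.OverMorphism.ext ha.mod

theorem exists_isMean (hk : ∀ i, tmap t (mkA J) rfl ≫ k i = x₀) :
    ∃ xb, IsMean t hJ hN k x₀ xb := by
  obtain ⟨y, hy⟩ := exists_tuple fun i => (k i).left
  have hyw : y ≫ X.hom = Spec.map (𝟙 A ≫ inc A N) ≫ t := ext_comp _ _ fun i => by
    rw [reassoc_of% (hy i), Over.w (k i), ← Spec.map_comp_assoc, Category.id_comp, inc_ev]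
    rfl
  have hmod : Spec.map (mkC (inc A N) J) ≫ y = Spec.map (inc₀ (inc A N) J) ≫ x₀.left := ext_mod _ _ fun i => by
    rw [← Spec.map_comp_assoc, ← Spec.map_comp_assoc, ← hk i, Over.comp_left, ← hy i]
    show _ = _ ≫ Spec.map (mkA J) ≫ Spec.map (ev i) ≫ y
    rw [← Spec.map_comp_assoc, ← Spec.map_comp_assoc]
    congr 2
  obtain ⟨xb, hxb⟩ := exists_isAvg (fnl hN) hJ y x₀.left hmod
  have hw : xb ≫ X.hom = Spec.map (𝟙 A) ≫ t := by
    refine (hxb.comp X.hom).unique ?_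
    have h := isAvg_const (fnl (A := A) hN) hJ (Spec.map (𝟙 A) ≫ t)
    rw [hyw, Over.w x₀]
    simpa [Spec.map_comp] using h
  exact ⟨Over.homMk xb hw, Over.homMk y hyw, hy, hxb⟩

theorem isMean_comp {xb : test t (𝟙 A) ⟶ X} (h : IsMean t hJ hN k x₀ xb) (F : X ⟶ X') :
    IsMean t hJ hN (fun i => k i ≫ F) (x₀ ≫ F) (xb ≫ F) := by
  obtain ⟨y, hy, ha⟩ := h
  exact ⟨y ≫ F, fun i => by rw [Over.comp_left, Over.comp_left, reassoc_of% (hy i)], ha.comp F.left⟩

theorem isMean_const (g : test t (𝟙 A) ⟶ X) :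
    IsMean t hJ hN (fun _ => g) (tmap t (mkA J) rfl ≫ g) g := by
  refine ⟨tmap t (inc A N) rfl ≫ g, fun i => ?_, isAvg_const _ hJ g.left⟩
  show Spec.map (ev i) ≫ Spec.map (inc A N) ≫ g.left = g.left
  rw [← Spec.map_comp_assoc, inc_ev, Spec.map_id, Category.id_comp]

theorem isMean_perm {xb : test t (𝟙 A) ⟶ X} (h : IsMean t hJ hN k x₀ xb) (σ : Idx.{u} N ≃ Idx.{u} N) :
    IsMean t hJ hN (fun i => k (σ i)) x₀ xb := by
  obtain ⟨y, hy, ha⟩ := h
  let ψ : Alg A N ⟶ Alg A N :=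
    CommRingCat.ofHom (RingHom.pi fun i => Pi.evalRingHom (fun _ : Idx.{u} N => (A : Type u)) (σ i))
  have hψ : (𝟙 A ≫ inc A N) ≫ ψ = 𝟙 A ≫ inc A N := rfl
  refine ⟨tmap t ψ hψ ≫ y, fun i => ?_, ?_⟩
  · show Spec.map (ev i) ≫ Spec.map ψ ≫ y.left = _
    rw [← Spec.map_comp_assoc]
    exact hy (σ i)
  · have h1 := ha.map (fnl hN) hJ (𝟙 A) ψ rfl le_rfl fun c => by
      show (↑hN.unit⁻¹ : A) * ∑ i, c (σ i) = (↑hN.unit⁻¹ : A) * ∑ i, c i
      rw [Equiv.sum_comp σ c]
    have e : CommRingCat.ofHom (Ideal.quotientMap J (𝟙 A : A ⟶ A).hom le_rfl) = 𝟙 (CommRingCat.of (A ⧸ J)) :=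
      CommRingCat.hom_ext (Ideal.Quotient.ringHom_ext rfl)
    erw [e] at h1
    simp only [Spec.map_id, Category.id_comp] at h1
    exact h1

end Avg

section Grp

variable {G : Over S} [GrpObj G] {t hJ hN}

theorem isMean_mul {k k' : Idx.{u} N → (test t (𝟙 A) ⟶ G)} {x₀ x₀' : test t (𝟙 A ≫ mkA J) ⟶ G}
    {a b : test t (𝟙 A) ⟶ G} (h : IsMean t hJ hN k x₀ a) (h' : IsMean t hJ hN k' x₀' b) :
    IsMean t hJ hN (fun i => k i * k' i) (x₀ * x₀') (a * b) := by
  obtain ⟨y, hy, ha⟩ := h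
  obtain ⟨y', hy', hb⟩ := h'
  refine ⟨y * y', fun i => ?_, IsAvg.mul ha hb⟩
  let e : test t (𝟙 A) ⟶ test t (𝟙 A ≫ inc A N) :=
    tmap t (ev i) (by rw [Category.assoc, inc_ev, Category.id_comp])
  have e1 : e ≫ y = k i := Over.OverMorphism.ext (hy i)
  have e2 : e ≫ y' = k' i := Over.OverMorphism.ext (hy' i)
  exact congrArg (fun f : test t (𝟙 A) ⟶ G => f.left) ((MonObj.comp_mul e y y').trans (by rw [e1, e2]))

theorem isMean_conj {k : Idx.{u} N → (test t (𝟙 A) ⟶ G)} {x₀ : test t (𝟙 A ≫ mkA J) ⟶ G}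
    {a : test t (𝟙 A) ⟶ G} (h : IsMean t hJ hN k x₀ a) (g : test t (𝟙 A) ⟶ G) :
    IsMean t hJ hN (fun i => g * k i * g⁻¹)
      ((tmap t (mkA J) rfl ≫ g) * x₀ * (tmap t (mkA J) rfl ≫ g⁻¹)) (g * a * g⁻¹) :=
  isMean_mul (isMean_mul (isMean_const g) h) (isMean_const g⁻¹)

include hJ hN in
/-- A point commuting modulo `J` with an `N`-torsion point is congruent to a commuting point. -/
theorem exists_commute (g z : test t (𝟙 A) ⟶ G) (hg : g ^ N = 1)
    (h : tmap t (φ' := 𝟙 A ≫ mkA J) (mkA J) rfl ≫ (g * z) = tmap t (φ' := 𝟙 A ≫ mkA J) (mkA J) rfl ≫ (z * g)) :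
    ∃ z' : test t (𝟙 A) ⟶ G, g * z' = z' * g ∧
      tmap t (φ' := 𝟙 A ≫ mkA J) (mkA J) rfl ≫ z' = tmap t (φ' := 𝟙 A ≫ mkA J) (mkA J) rfl ≫ z := by
  let r := tmap t (φ' := 𝟙 A ≫ mkA J) (mkA J) (rfl : 𝟙 A ≫ mkA J = _)
  let k : Idx.{u} N → (test t (𝟙 A) ⟶ G) := fun i => g ^ i.down.val * z * (g ^ i.down.val)⁻¹
  have hc : Commute (r ≫ g) (r ≫ z) := by
    show _ * _ = _ * _
    rw [← MonObj.comp_mul, ← MonObj.comp_mul]
    exact h
  have hk : ∀ i, r ≫ k i = r ≫ z := fun i => by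
    show r ≫ (g ^ _ * z * (g ^ _)⁻¹) = _
    rw [MonObj.comp_mul, MonObj.comp_mul, GrpObj.comp_inv, MonObj.comp_pow, (hc.pow_left _).eq, mul_inv_cancel_right]
  obtain ⟨a, ha⟩ := exists_isMean (hJ := hJ) (hN := hN) hk
  let σ : Idx.{u} N ≃ Idx.{u} N := Equiv.ulift.trans ((Equiv.addRight (1 : ZMod N)).trans Equiv.ulift.symm)
  have hshift : (fun i => g * k i * g⁻¹) = fun i => k (σ i) := funext fun i => by
    have hv : g ^ (i.down + 1).val = g * g ^ i.down.val := by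
      rw [← pow_succ', pow_eq_pow_mod (i.down.val + 1) hg]
      congr 1
      rw [ZMod.val_add, ← Nat.cast_one, ZMod.val_natCast, Nat.add_mod_mod]
    show g * k i * g⁻¹ = g ^ (i.down + 1).val * z * (g ^ (i.down + 1).val)⁻¹
    rw [hv]
    simp only [k, _root_.mul_inv_rev]
    group
  have e : (r ≫ g) * (r ≫ z) * (r ≫ g⁻¹) = r ≫ z := by
    rw [GrpObj.comp_inv, hc.eq, mul_inv_cancel_right]
  have h1 := isMean_conj ha g
  rw [hshift, e] at h1
  have h2 := h1.unique (isMean_perm ha σ)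
  exact ⟨a, mul_inv_eq_iff_eq_mul.1 h2, ha.mod⟩

include hJ hN in
/-- A point which is `N`-torsion modulo `J` is congruent to an `N`-torsion point. -/
theorem exists_torsion (g : test t (𝟙 A) ⟶ G)
    (h : (tmap t (φ' := 𝟙 A ≫ mkA J) (mkA J) rfl ≫ g) ^ N = 1) :
    ∃ g' : test t (𝟙 A) ⟶ G, g' ^ N = 1 ∧
      tmap t (φ' := 𝟙 A ≫ mkA J) (mkA J) rfl ≫ g' = tmap t (φ' := 𝟙 A ≫ mkA J) (mkA J) rfl ≫ g := by
  let r := tmap t (φ' := 𝟙 A ≫ mkA J) (mkA J) (rfl : 𝟙 A ≫ mkA J = _)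
  let p := g ^ N
  have hp : r ≫ p = 1 := (MonObj.comp_pow g N r).trans h
  let k : Idx.{u} N → (test t (𝟙 A) ⟶ G) := fun i => if i.down = 0 then p else 1
  have hk : ∀ i, r ≫ k i = 1 := fun i => by
    simp only [k]
    split <;> simp [hp]
  obtain ⟨a, ha⟩ := exists_isMean (hJ := hJ) (hN := hN) hk
  have hpow : ∀ m, m ≤ N → IsMean t hJ hN (fun i => if i.down.val < m then p else 1) 1 (a ^ m) := by
    intro m
    induction m with
    | zero =>
      intro _
      simpa using isMean_const (hJ := hJ) (hN := hN) (1 : test t (𝟙 A) ⟶ G)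
    | succ m ih =>
      intro hm
      have h1 := isMean_mul (ih (by omega)) (isMean_perm ha (Equiv.ulift.trans ((Equiv.addRight (-(m : ZMod N))).trans Equiv.ulift.symm)))
      rw [_root_.one_mul, ← pow_succ] at h1
      have e : (fun i : Idx.{u} N => (if i.down.val < m then p else 1) *
          k ((Equiv.ulift.trans ((Equiv.addRight (-(m : ZMod N))).trans Equiv.ulift.symm)) i)) =
          fun i => if i.down.val < m + 1 then p else 1 := funext fun i => by
        have hiff : i.down + -(m : ZMod N) = 0 ↔ i.down.val = m := by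
          rw [← sub_eq_add_neg, sub_eq_zero]
          refine ⟨fun h => by rw [h, ZMod.val_natCast, Nat.mod_eq_of_lt (by omega)], fun h => ?_⟩
          rw [← h, ZMod.natCast_zmod_val]
        simp only [k, Equiv.trans_apply, Equiv.coe_addRight, Equiv.ulift_apply, Equiv.ulift_symm_down, hiff]
        rcases lt_trichotomy i.down.val m with hlt | heq | hgt
        · rw [if_pos hlt, if_neg hlt.ne, if_pos (by omega), _root_.mul_one]
        · rw [if_neg (by omega), if_pos heq, if_pos (by omega), _root_.one_mul]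
        · rw [if_neg (by omega), if_neg (by omega), if_neg (by omega), _root_.one_mul]
      rwa [e] at h1
  have hN' : a ^ N = p := by
    have h1 := hpow N le_rfl
    rw [show (fun i : Idx.{u} N => if i.down.val < N then p else 1) = fun _ => p from
      funext fun i => if_pos (ZMod.val_lt _)] at h1
    have h2 := isMean_const (hJ := hJ) (hN := hN) p
    rw [show tmap t (φ' := 𝟙 A ≫ mkA J) (mkA J) rfl ≫ p = 1 from hp] at h2
    exact h1.unique h2
  have hcomm : g * a = a * g := by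
    have h1 := isMean_conj ha g
    have e : (fun i => g * k i * g⁻¹) = k := funext fun i => by
      simp only [k]
      split
      · rw [(Commute.self_pow g N).eq, mul_inv_cancel_right]
      · simp
    have e' : (r ≫ g) * 1 * (r ≫ g⁻¹) = 1 := by
      rw [_root_.mul_one, GrpObj.comp_inv, mul_inv_cancel]
    rw [e, e'] at h1
    exact mul_inv_eq_iff_eq_mul.1 (h1.unique ha)
  refine ⟨g * a⁻¹, ?_, ?_⟩
  · rw [(Commute.inv_right (show Commute g a from hcomm)).mul_pow, inv_pow, hN']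
    exact mul_inv_cancel _
  · rw [MonObj.comp_mul, GrpObj.comp_inv, show r ≫ a = 1 from ha.mod, inv_one, _root_.mul_one]

end Grp

end Groth.Agent.H87.CyclicAvg
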