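import Groth.Agent.H87.EtaleNil
import Groth.Agent.S8385
import Mathlib.AlgebraicGeometry.Morphisms.Finite

/-!
Etale morphisms over finite schemes over a complete noetherian local ring.
-/

set_option autoImplicit false
set_option linter.style.haveILetI false
universe u

open CategoryTheory CategoryTheory.Limits AlgebraicGeometry

namespace Groth.Agent.H87.EtaleAdic

/-- Two morphisms to a formally unramified scheme agreeing on a subscheme without proper open neighbourhood are
equal. -/
theorem eq_of_unramified' {X X₀ K Y : Scheme.{u}} (p : K ⟶ Y) [FormallyUnramified p] [LocallyOfFiniteType p]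
    (j : X₀ ⟶ X) (hj : ∀ U : X.Opens, Set.range j ⊆ (U : Set X) → U = ⊤) (a b : X ⟶ K) (h : a ≫ p = b ≫ p)
    (h0 : j ≫ a = j ≫ b) : a = b := by
  let L := pullback.lift a b h
  let l : X₀ ⟶ pullback (pullback.diagonal p) L := pullback.lift (j ≫ a) j (pullback.hom_ext
    (by rw [Category.assoc, Category.assoc, pullback.diagonal_fst, Category.comp_id]; rw [Category.assoc, pullback.lift_fst])
    (by rw [Category.assoc, Category.assoc, pullback.diagonal_snd, Category.comp_id]; rw [Category.assoc, pullback.lift_snd, h0]))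
  have hr : (pullback.snd (pullback.diagonal p) L).opensRange = ⊤ := by
    refine hj _ ?_
    rintro _ ⟨x₀, rfl⟩
    exact ⟨l x₀, by rw [← Scheme.Hom.comp_apply, pullback.lift_snd]⟩
  haveI : Surjective (pullback.snd (pullback.diagonal p) L) := ⟨fun x => by
    have : x ∈ (pullback.snd (pullback.diagonal p) L).opensRange := hr ▸ trivial
    exact this⟩
  haveI : IsIso (pullback.snd (pullback.diagonal p) L) :=
    (isIso_iff_isOpenImmersion_and_surjective _).2 ⟨inferInstance, inferInstance⟩
  have hc := congrArg (inv (pullback.snd (pullback.diagonal p) L) ≫ ·)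
    (pullback.condition (f := pullback.diagonal p) (g := L))
  simp only [IsIso.inv_hom_id_assoc] at hc
  have ha : L ≫ pullback.fst p p = a := pullback.lift_fst _ _ _
  have hb : L ≫ pullback.snd p p = b := pullback.lift_snd _ _ _
  rw [← ha, ← hb, ← hc]
  simp only [Category.assoc, pullback.diagonal_fst, pullback.diagonal_snd]

variable {A : Type u} [CommRing A] [IsLocalRing A]

/-- A quotient by an ideal with a power below another one is surjective on spectra. -/
theorem surjective_factor {B : Type u} [CommRing B] {I J : Ideal B} (hle : I ≤ J) (n : ℕ) (hJ : J ^ n ≤ I) :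
    Surjective (Spec.map (CommRingCat.ofHom (Ideal.Quotient.factor hle))) := by
  constructor
  intro (q : PrimeSpectrum (B ⧸ I))
  have hq : q ∈ Set.range (PrimeSpectrum.comap (Ideal.Quotient.factor hle)) := by
    rw [range_comap_of_surjective _ _ (Ideal.Quotient.factor_surjective hle),
      PrimeSpectrum.mem_zeroLocus]
    intro x hx
    obtain ⟨b, rfl⟩ := Ideal.Quotient.mk_surjective x
    have hb : b ∈ J := by
      rw [SetLike.mem_coe, RingHom.mem_ker, Ideal.Quotient.factor_mk, Ideal.Quotient.eq_zero_iff_mem] at hx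
      exact hx
    refine q.2.mem_of_pow_mem n ?_
    rw [← _root_.map_pow, Ideal.Quotient.eq_zero_iff_mem.2 (hJ (Ideal.pow_mem_pow hb n))]
    exact Submodule.zero_mem _
  exact hq

/-- Sections of etale morphisms to the spectrum of a finite algebra lift from the closed fibre. -/
theorem exists_section [IsNoetherianRing A] [IsAdicComplete (IsLocalRing.maximalIdeal A) A] {B : Type u} [CommRing B]
    [Algebra A B] [Module.Finite A B] {K : Scheme.{u}} (f : K ⟶ Spec (CommRingCat.of B)) [Etale f]
    (σ₀ : Spec (CommRingCat.of (B ⧸ Ideal.map (algebraMap A B) (IsLocalRing.maximalIdeal A))) ⟶ K)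
    (hσ : σ₀ ≫ f = Spec.map (CommRingCat.ofHom
      (Ideal.Quotient.mk (Ideal.map (algebraMap A B) (IsLocalRing.maximalIdeal A))))) :
    ∃ σ : Spec (CommRingCat.of B) ⟶ K, σ ≫ f = 𝟙 _ ∧ Spec.map (CommRingCat.ofHom
      (Ideal.Quotient.mk (Ideal.map (algebraMap A B) (IsLocalRing.maximalIdeal A)))) ≫ σ = σ₀ := by
  let J := Ideal.map (algebraMap A B) (IsLocalRing.maximalIdeal A)
  let I : ℕ → Ideal B := fun n => Ideal.map (algebraMap A B) ((IsLocalRing.maximalIdeal A) ^ n)
  let mk : ∀ P : Ideal B, Spec (CommRingCat.of (B ⧸ P)) ⟶ Spec (CommRingCat.of B) := fun P =>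
    Spec.map (CommRingCat.ofHom (Ideal.Quotient.mk P))
  let fac : ∀ {P Q : Ideal B}, P ≤ Q → (Spec (CommRingCat.of (B ⧸ Q)) ⟶ Spec (CommRingCat.of (B ⧸ P))) :=
    fun h => Spec.map (CommRingCat.ofHom (Ideal.Quotient.factor h))
  have hfm : ∀ {P Q : Ideal B} (h : P ≤ Q), fac h ≫ mk P = mk Q := fun h => by
    show Spec.map _ ≫ Spec.map _ = Spec.map _
    rw [← Spec.map_comp, ← CommRingCat.ofHom_comp, Ideal.Quotient.factor_comp_mk]
  have hff : ∀ {P Q R : Ideal B} (h : P ≤ Q) (h' : Q ≤ R), fac h' ≫ fac h = fac (h.trans h') := fun h h' => by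
    show Spec.map _ ≫ Spec.map _ = Spec.map _
    rw [← Spec.map_comp, ← CommRingCat.ofHom_comp, Ideal.Quotient.factor_comp]
  have hJ : ∀ n, I (n + 1) ≤ J := fun n => Ideal.map_mono (Ideal.pow_le_self n.succ_ne_zero)
  have hI : ∀ n, I (n + 1) ≤ I n := fun n => Ideal.map_mono (Ideal.pow_le_pow_right (Nat.le_succ n))
  have hpow : ∀ n, J ^ n ≤ I n := fun n => (Ideal.map_pow _ _ n).ge
  haveI : ∀ n, Surjective (fac (hJ n)) := fun n => surjective_factor (hJ n) (n + 1) (hpow (n + 1))
  haveI : ∀ {P Q : Ideal B} (h : P ≤ Q), IsClosedImmersion (fac h) := fun h =>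
    IsClosedImmersion.spec_of_surjective _ (Ideal.Quotient.factor_surjective h)
  have hlev : ∀ n, ∃ τ : Spec (CommRingCat.of (B ⧸ I (n + 1))) ⟶ K,
      τ ≫ f = mk (I (n + 1)) ∧ fac (hJ n) ≫ τ = σ₀ := fun n => by
    obtain ⟨σ, h1, h2⟩ := EtaleNil.exists_section (pullback.snd f (mk (I (n + 1)))) (fac (hJ n))
      (pullback.lift σ₀ (fac (hJ n)) (by rw [hfm]; exact hσ)) (pullback.lift_snd _ _ _)
    exact ⟨σ ≫ pullback.fst _ _, by rw [Category.assoc, pullback.condition, reassoc_of% h1],
      by rw [reassoc_of% h2, pullback.lift_fst]⟩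
  choose τ hτf hτ0 using hlev
  have hτ : ∀ n, fac (hI (n + 1)) ≫ τ (n + 1) = τ n := fun n =>
    EtaleNil.eq_of_unramified f (fac (hJ n)) _ _ (by rw [Category.assoc, hτf, hτf, hfm])
      (by rw [← Category.assoc, hff, hτ0, hτ0])
  let Y : Over (Spec (CommRingCat.of A)) := Over.mk (f ≫ Spec.map (CommRingCat.ofHom (algebraMap A B)))
  let u : ∀ n, Spec (CommRingCat.of (B ⧸ I n)) ⟶ Y.left := fun n => fac (hI n) ≫ τ n
  have huf : ∀ n, u n ≫ f = mk (I n) := fun n => by
    show (fac (hI n) ≫ τ n) ≫ f = _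
    rw [Category.assoc, hτf, hfm]
  obtain ⟨σ, hσY, hσn⟩ := (Groth.Agent.S8385.result A B Y).2 u (fun n => by
    show u n ≫ f ≫ _ = _
    rw [← Category.assoc, huf, CommRingCat.ofHom_comp, Spec.map_comp]) (fun n => by
    show fac (hI n) ≫ fac (hI (n + 1)) ≫ τ (n + 1) = fac (hI n) ≫ τ n
    rw [hτ])
  refine ⟨σ, ?_, ?_⟩
  · let P : Over (Spec (CommRingCat.of A)) := Over.mk (Spec.map (CommRingCat.ofHom (algebraMap A B)))
    refine (Groth.Agent.S8385.result A B P).1 (σ ≫ f) (𝟙 _) ((Category.assoc _ _ _).trans hσY) (Category.id_comp _)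
      fun n => ?_
    rw [← Category.assoc, Category.comp_id]
    exact (congrArg (· ≫ f) (hσn n)).trans (huf n)
  · have h1 : I 1 ≤ J := hJ 0
    show mk J ≫ σ = σ₀
    rw [← hfm h1, Category.assoc]
    refine (congrArg (fac h1 ≫ ·) (hσn 1)).trans ?_
    show fac h1 ≫ fac (hI 1) ≫ τ 1 = σ₀
    rw [← Category.assoc, hff, hτ0]

variable (X : Over (Spec (CommRingCat.of A))) [IsFinite X.hom]

/-- The closed point of the base. -/
noncomputable abbrev closedPt (A : Type u) [CommRing A] [IsLocalRing A] :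
    Spec (CommRingCat.of (A ⧸ IsLocalRing.maximalIdeal A)) ⟶ Spec (CommRingCat.of A) :=
  Spec.map (CommRingCat.ofHom (Ideal.Quotient.mk (IsLocalRing.maximalIdeal A)))

theorem range_closedPt : Set.range (closedPt A) = {IsLocalRing.closedPoint A} := by
  show Set.range (PrimeSpectrum.comap (Ideal.Quotient.mk (IsLocalRing.maximalIdeal A))) = _
  rw [range_comap_of_surjective _ _ Ideal.Quotient.mk_surjective, Ideal.mk_ker]
  ext q
  simp only [PrimeSpectrum.mem_zeroLocus, SetLike.coe_subset_coe]
  refine ⟨fun h => PrimeSpectrum.ext ((IsLocalRing.maximalIdeal.isMaximal A).eq_of_le q.2.ne_top h).symm, ?_⟩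
  rintro rfl
  exact le_rfl

/-- In a finite scheme over a local ring no proper open contains the closed fibre. -/
theorem eq_top_of_range_subset (U : X.left.Opens)
    (hU : Set.range (pullback.fst X.hom (closedPt A)) ⊆ (U : Set X.left)) : U = ⊤ := by
  refine eq_top_iff.2 fun x _ => ?_
  by_contra hx
  have hcl : IsClosed (X.hom '' (U : Set X.left)ᶜ) := X.hom.isClosedMap _ U.isOpen.isClosed_compl
  have hc : IsLocalRing.closedPoint A ∈ X.hom '' (U : Set X.left)ᶜ :=
    (IsLocalRing.specializes_closedPoint (X.hom x)).mem_closed hcl ⟨x, hx, rfl⟩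
  obtain ⟨y, hy, hy'⟩ := hc
  obtain ⟨p, hp⟩ : X.hom y ∈ Set.range (closedPt A) := by rw [range_closedPt]; exact hy'
  obtain ⟨z, hz, -⟩ := Scheme.Pullback.exists_preimage_pullback y p hp.symm
  exact hy (hU ⟨z, hz⟩)

/-- Sections of etale morphisms to finite schemes over a complete local ring lift from the closed fibre. -/
theorem exists_section_fin [IsNoetherianRing A] [IsAdicComplete (IsLocalRing.maximalIdeal A) A] {K : Scheme.{u}}
    (f : K ⟶ X.left) [Etale f] (σ₀ : pullback X.hom (closedPt A) ⟶ K)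
    (hσ : σ₀ ≫ f = pullback.fst X.hom (closedPt A)) :
    ∃ σ : X.left ⟶ K, σ ≫ f = 𝟙 _ ∧ pullback.fst X.hom (closedPt A) ≫ σ = σ₀ := by
  haveI : IsAffine X.left := isAffine_of_isAffineHom X.hom
  let B : Type u := Γ(X.left, ⊤)
  let e : X.left ≅ Spec (CommRingCat.of B) := X.left.isoSpec
  let φ : CommRingCat.of A ⟶ CommRingCat.of B := Spec.preimage (e.inv ≫ X.hom)
  have hφ : Spec.map φ = e.inv ≫ X.hom := Spec.map_preimage _
  letI := φ.hom.toAlgebra
  haveI : Module.Finite A B := by
    have : IsFinite (Spec.map φ) := by rw [hφ]; infer_instance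
    exact (IsFinite.SpecMap_iff φ).1 this
  let J := Ideal.map (algebraMap A B) (IsLocalRing.maximalIdeal A)
  let w : Spec (CommRingCat.of (B ⧸ J)) ⟶ pullback X.hom (closedPt A) :=
    pullback.lift (Spec.map (CommRingCat.ofHom (Ideal.Quotient.mk J)) ≫ e.inv)
      (Spec.map (CommRingCat.ofHom (Ideal.quotientMap J (algebraMap A B) Ideal.le_comap_map))) (by
        rw [Category.assoc, ← hφ, closedPt, ← Spec.map_comp, ← Spec.map_comp, ← CommRingCat.ofHom_comp,
          Ideal.quotientMap_comp_mk]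
        rfl)
  have hw : w ≫ pullback.fst _ _ ≫ e.hom = Spec.map (CommRingCat.ofHom (Ideal.Quotient.mk J)) := by
    rw [pullback.lift_fst_assoc, Category.assoc, Iso.inv_hom_id, Category.comp_id]
  haveI : IsClosedImmersion (closedPt A) := IsClosedImmersion.spec_of_surjective _ Ideal.Quotient.mk_surjective
  haveI : IsClosedImmersion (pullback.fst X.hom (closedPt A)) :=
    MorphismProperty.pullback_fst (P := @IsClosedImmersion) _ _ inferInstance
  haveI : Surjective w := ⟨fun z => by
    let y : PrimeSpectrum B := e.hom (pullback.fst X.hom (closedPt A) z)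
    have hy : (Spec.map φ) y ∈ Set.range (closedPt A) := ⟨pullback.snd X.hom (closedPt A) z, by
      show (closedPt A) (pullback.snd X.hom (closedPt A) z) = (Spec.map φ) (e.hom (pullback.fst X.hom (closedPt A) z))
      rw [hφ, ← Scheme.Hom.comp_apply, ← Scheme.Hom.comp_apply, ← Scheme.Hom.comp_apply, ← pullback.condition]
      simp⟩
    rw [range_closedPt] at hy
    obtain ⟨q, hq⟩ : y ∈ Set.range (PrimeSpectrum.comap (Ideal.Quotient.mk J)) := by
      rw [range_comap_of_surjective _ _ Ideal.Quotient.mk_surjective, Ideal.mk_ker,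
        PrimeSpectrum.mem_zeroLocus, SetLike.coe_subset_coe]
      exact Ideal.map_le_iff_le_comap.2 (congrArg PrimeSpectrum.asIdeal hy).ge
    refine ⟨q, (Scheme.Hom.isClosedEmbedding (pullback.fst X.hom (closedPt A))).injective
      (e.hom.isClosedEmbedding.injective ?_)⟩
    rw [← Scheme.Hom.comp_apply, ← Scheme.Hom.comp_apply, hw]
    exact hq⟩
  haveI : Etale (f ≫ e.hom) := inferInstance
  obtain ⟨σ, h1, h2⟩ := exists_section (A := A) (f ≫ e.hom) (w ≫ σ₀) (by
    rw [Category.assoc, reassoc_of% hσ, hw])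
  have hef : (e.hom ≫ σ) ≫ f = 𝟙 _ := by
    rw [← cancel_mono e.hom, Category.assoc, Category.assoc, h1, Category.id_comp, Category.comp_id]
  refine ⟨e.hom ≫ σ, hef, EtaleNil.eq_of_unramified f w _ _ ?_ ?_⟩
  · rw [Category.assoc, hef, Category.comp_id, hσ]
  · rw [reassoc_of% hw]
    exact h2

end Groth.Agent.H87.EtaleAdic
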