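import Mathlib.AlgebraicGeometry.Morphisms.Etale
import Mathlib.AlgebraicGeometry.Morphisms.FlatMono
import Mathlib.AlgebraicGeometry.Morphisms.ClosedImmersion

/-!
Etale morphisms are insensitive to surjective closed immersions.
-/

set_option autoImplicit false
set_option linter.style.haveILetI false
universe u

open CategoryTheory CategoryTheory.Limits AlgebraicGeometry

namespace Groth.Agent.H87.EtaleNil

/-- Two morphisms to a formally unramified scheme agreeing after a surjection are equal. -/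
theorem eq_of_unramified {X X₀ K Y : Scheme.{u}} (p : K ⟶ Y) [FormallyUnramified p] [LocallyOfFiniteType p]
    (ι : X₀ ⟶ X) [Surjective ι] (a b : X ⟶ K) (h : a ≫ p = b ≫ p) (h0 : ι ≫ a = ι ≫ b) : a = b := by
  let L := pullback.lift a b h
  let l : X₀ ⟶ pullback (pullback.diagonal p) L := pullback.lift (ι ≫ a) ι (pullback.hom_ext
    (by rw [Category.assoc, Category.assoc, pullback.diagonal_fst, Category.comp_id]; rw [Category.assoc, pullback.lift_fst])
    (by rw [Category.assoc, Category.assoc, pullback.diagonal_snd, Category.comp_id]; rw [Category.assoc, pullback.lift_snd, h0]))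
  haveI : Surjective (pullback.snd (pullback.diagonal p) L) := ⟨fun x => by
    obtain ⟨x₀, rfl⟩ := ι.surjective x
    exact ⟨l x₀, by rw [← Scheme.Hom.comp_apply, pullback.lift_snd]⟩⟩
  haveI : IsIso (pullback.snd (pullback.diagonal p) L) :=
    (isIso_iff_isOpenImmersion_and_surjective _).2 ⟨inferInstance, inferInstance⟩
  have hc := congrArg (inv (pullback.snd (pullback.diagonal p) L) ≫ ·)
    (pullback.condition (f := pullback.diagonal p) (g := L))
  simp only [IsIso.inv_hom_id_assoc] at hc
  have ha : L ≫ pullback.fst p p = a := pullback.lift_fst _ _ _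
  have hb : L ≫ pullback.snd p p = b := pullback.lift_snd _ _ _
  rw [← ha, ← hb, ← hc]
  simp only [Category.assoc, pullback.diagonal_fst, pullback.diagonal_snd]

/-- Sections of etale morphisms lift along surjective closed immersions. -/
theorem exists_section {H₀ H K : Scheme.{u}} (f : K ⟶ H) [Etale f] (ι : H₀ ⟶ H) [IsClosedImmersion ι] [Surjective ι]
    (σ₀ : H₀ ⟶ K) (hσ : σ₀ ≫ f = ι) : ∃ σ : H ⟶ K, σ ≫ f = 𝟙 H ∧ ι ≫ σ = σ₀ := by
  let s₀ : H₀ ⟶ pullback f ι := pullback.lift σ₀ (𝟙 H₀) (by rw [hσ, Category.id_comp])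
  have hs2 : s₀ ≫ pullback.snd f ι = 𝟙 H₀ := pullback.lift_snd _ _ _
  have hs1 : s₀ ≫ pullback.fst f ι = σ₀ := pullback.lift_fst _ _ _
  haveI : Etale (s₀ ≫ pullback.snd f ι) := by rw [hs2]; infer_instance
  haveI : Etale s₀ := Etale.of_comp s₀ (pullback.snd f ι)
  haveI : IsSplitMono s₀ := ⟨⟨⟨pullback.snd f ι, hs2⟩⟩⟩
  haveI : IsOpenImmersion s₀ := IsOpenImmersion.of_flat_of_mono s₀
  let c := pullback.fst f ι
  have hcinj : Function.Injective c := (Scheme.Hom.isClosedEmbedding c).injective
  have hq : Topology.IsQuotientMap c := (Scheme.Hom.isClosedEmbedding c).isClosedMap.isQuotientMap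
    c.continuous c.surjective
  have himg : Set.range σ₀ = c '' Set.range s₀ := by
    rw [← Set.range_comp, ← hs1]
    rfl
  have hpre : c ⁻¹' Set.range σ₀ = Set.range s₀ := by rw [himg, Set.preimage_image_eq _ hcinj]
  let O : K.Opens := ⟨Set.range σ₀, hq.isOpen_preimage.1 (hpre ▸ s₀.isOpenEmbedding.isOpen_range)⟩
  let g := O.ι ≫ f
  let σ₁ : H₀ ⟶ O := IsOpenImmersion.lift O.ι σ₀ (by rw [Scheme.Opens.range_ι]; exact subset_rfl)
  have hσ₁ : σ₁ ≫ g = ι := by rw [IsOpenImmersion.lift_fac_assoc, hσ]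
  haveI : Surjective g := ⟨fun x => by
    obtain ⟨x₀, rfl⟩ := ι.surjective x
    exact ⟨σ₁ x₀, by rw [← Scheme.Hom.comp_apply, hσ₁]⟩⟩
  haveI : Mono g := ⟨fun {W} a b hab => by
    have key : ∀ a' : W ⟶ O, a' ≫ g = a ≫ g →
        pullback.fst (a ≫ g) ι ≫ a' ≫ O.ι = pullback.snd (a ≫ g) ι ≫ σ₀ := by
      intro a' ha'
      let q : pullback (a ≫ g) ι ⟶ pullback f ι := pullback.lift (pullback.fst _ _ ≫ a' ≫ O.ι) (pullback.snd _ _) (by
        rw [← pullback.condition, Category.assoc, Category.assoc]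
        exact congrArg (pullback.fst _ _ ≫ ·) ha')
      have hq' : Set.range q ⊆ Set.range s₀ := by
        rintro _ ⟨w, rfl⟩
        rw [← hpre]
        show c (q w) ∈ (O : Set K)
        rw [← Scheme.Hom.comp_apply, pullback.lift_fst, Scheme.Hom.comp_apply, Scheme.Hom.comp_apply]
        exact Scheme.Opens.range_ι O ▸ ⟨_, rfl⟩
      have hr := IsOpenImmersion.lift_fac s₀ q hq'
      have h2 : q ≫ pullback.snd f ι = IsOpenImmersion.lift s₀ q hq' := by
        conv_lhs => rw [← hr]
        rw [Category.assoc, hs2, Category.comp_id]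
      have h3 : q ≫ pullback.fst f ι = IsOpenImmersion.lift s₀ q hq' ≫ σ₀ := by
        conv_lhs => rw [← hr]
        rw [Category.assoc, hs1]
      rw [pullback.lift_snd] at h2
      rw [pullback.lift_fst, ← h2] at h3
      exact h3
    haveI : Surjective (pullback.fst (a ≫ g) ι) := inferInstance
    refine eq_of_unramified g (pullback.fst (a ≫ g) ι) a b hab ?_
    rw [← cancel_mono O.ι, Category.assoc, Category.assoc, key a rfl, key b hab.symm]⟩
  haveI : IsOpenImmersion g := IsOpenImmersion.of_flat_of_mono g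
  haveI : IsIso g := (isIso_iff_isOpenImmersion_and_surjective _).2 ⟨inferInstance, inferInstance⟩
  refine ⟨inv g ≫ O.ι, by rw [Category.assoc]; exact IsIso.inv_hom_id g, ?_⟩
  rw [← hσ₁, Category.assoc, IsIso.hom_inv_id_assoc]
  exact IsOpenImmersion.lift_fac _ _ _

end Groth.Agent.H87.EtaleNil
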