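import Groth.Agent.H87.HomFam
import Groth.Agent.H87.Factor
import Groth.Prelude.Def_TwC
import Groth.Agent.Lib.MultSmooth.ClosedImm
import Groth.Agent.Lib.QfhGalois.Basic

/-!
# The functor of homomorphisms between split groups is constant
-/

set_option autoImplicit false
universe u

open CategoryTheory MonoidalCategory CartesianMonoidalCategory MonObj GrpObj AlgebraicGeometry
open CategoryTheory.Limits
open Groth.Agent.Lib.RedPts Groth.Agent.Lib.Tori
open Groth.Agent.H87.HomFam Groth.Agent.H87.HomFam.Fam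
open Groth.Agent.H87.CentralEq (lo)

namespace Groth.Agent.H87.HomFam

section Transport

variable {S : Scheme.{u}} {G H G' H' : Over S} [GrpObj G] [GrpObj H] [GrpObj G'] [GrpObj H']

/-- Transport of families along isomorphisms of groups. -/
noncomputable def Fam.mapIso (eG : Grp.mk G ≅ Grp.mk G') (eH : Grp.mk H ≅ Grp.mk H') {T : Scheme.{u}}
    {t : T ⟶ S} (F : Fam G H t) : Fam G' H' t where
  app Y y hy g := F.app Y y hy (g ≫ (BaseChange.overIso eG).inv) ≫ (BaseChange.overIso eH).hom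
  natural r y hy y' hy' g e := by
    rw [Category.assoc r g, F.natural r y hy y' hy' _ e, Category.assoc]
  mul Y y hy g g' := by
    have : IsMonHom (BaseChange.overIso eG).inv := inferInstanceAs (IsMonHom (BaseChange.overIso eG.symm).hom)
    rw [MonObj.mul_comp, F.mul, MonObj.mul_comp]

theorem Fam.mapIso_symm (eG : Grp.mk G ≅ Grp.mk G') (eH : Grp.mk H ≅ Grp.mk H') {T : Scheme.{u}}
    {t : T ⟶ S} (F : Fam G H t) : (F.mapIso eG eH).mapIso eG.symm eH.symm = F := by
  refine Fam.ext (funext fun Y => funext fun y => funext fun hy => funext fun g => ?_)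
  show (F.app Y y hy ((g ≫ (BaseChange.overIso eG).hom) ≫ (BaseChange.overIso eG).inv) ≫
    (BaseChange.overIso eH).hom) ≫ (BaseChange.overIso eH).inv = _
  simp

theorem Fam.mapIso_res (eG : Grp.mk G ≅ Grp.mk G') (eH : Grp.mk H ≅ Grp.mk H') {T T' : Scheme.{u}}
    {t : T ⟶ S} {t' : T' ⟶ S} (F : Fam G H t) (a : T' ⟶ T) (w : a ≫ t = t') :
    (F.res a w).mapIso eG eH = (F.mapIso eG eH).res a w := rfl

variable {U : Scheme.{u}} (j : U ⟶ S)

/-- Families on schemes over `U` as families of the base changed groups. -/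
noncomputable def Fam.toU {T : Scheme.{u}} {x : T ⟶ U} (F : Fam G H (x ≫ j)) :
    Fam (Red.bc j G) (Red.bc j H) x where
  app Y y hy g := BC.up j (F.app ((Over.map j).obj Y) y (by
    show y ≫ x ≫ j = Y.hom ≫ j
    rw [← Category.assoc, hy]) (BC.down j g))
  natural {Y Y'} r y hy y' hy' g e := by
    apply BC.down_injective
    rw [BC.down_comp, BC.down_comp, BC.down_up, BC.down_up]
    exact F.natural ((Over.map j).map r) y _ y' _ _ e
  mul Y y hy g g' := by
    rw [BC.down_mul, F.mul, BC.up_mul]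

/-- Inverse to `toU`. -/
noncomputable def Fam.ofU {T : Scheme.{u}} {x : T ⟶ U} (F : Fam (Red.bc j G) (Red.bc j H) x) :
    Fam G H (x ≫ j) where
  app Y y hy g :=
    (Over.homMk (𝟙 Y.left) (by
      show 𝟙 Y.left ≫ (y ≫ x) ≫ j = Y.hom
      rw [Category.id_comp, Category.assoc, hy]) : Y ⟶ (Over.map j).obj (Over.mk (y ≫ x))) ≫
    BC.down j (F.app (Over.mk (y ≫ x)) y rfl (BC.up j ((Over.homMk (𝟙 Y.left) (by
      show 𝟙 Y.left ≫ Y.hom = (y ≫ x) ≫ j
      rw [Category.id_comp, Category.assoc, hy]) : (Over.map j).obj (Over.mk (y ≫ x)) ⟶ Y) ≫ g)))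
  natural {Y Y'} r y hy y' hy' g e := by
    let r' : Over.mk (y' ≫ x) ⟶ Over.mk (y ≫ x) := Over.homMk r.left (by
      show r.left ≫ y ≫ x = y' ≫ x
      rw [← Category.assoc, e])
    let b : Y ⟶ (Over.map j).obj (Over.mk (y ≫ x)) := Over.homMk (𝟙 Y.left) (by
      show 𝟙 Y.left ≫ (y ≫ x) ≫ j = Y.hom
      rw [Category.id_comp, Category.assoc, hy])
    let a : (Over.map j).obj (Over.mk (y ≫ x)) ⟶ Y := Over.homMk (𝟙 Y.left) (by
      show 𝟙 Y.left ≫ Y.hom = (y ≫ x) ≫ j
      rw [Category.id_comp, Category.assoc, hy])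
    let b' : Y' ⟶ (Over.map j).obj (Over.mk (y' ≫ x)) := Over.homMk (𝟙 Y'.left) (by
      show 𝟙 Y'.left ≫ (y' ≫ x) ≫ j = Y'.hom
      rw [Category.id_comp, Category.assoc, hy'])
    let a' : (Over.map j).obj (Over.mk (y' ≫ x)) ⟶ Y' := Over.homMk (𝟙 Y'.left) (by
      show 𝟙 Y'.left ≫ Y'.hom = (y' ≫ x) ≫ j
      rw [Category.id_comp, Category.assoc, hy'])
    have h1 : a' ≫ r = (Over.map j).map r' ≫ a :=
      Over.OverMorphism.ext ((Category.id_comp _).trans (Category.comp_id _).symm)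
    have h2 : r ≫ b = b' ≫ (Over.map j).map r' :=
      Over.OverMorphism.ext ((Category.comp_id _).trans (Category.id_comp _).symm)
    show b' ≫ BC.down j (F.app _ y' rfl (BC.up j (a' ≫ r ≫ g))) = r ≫ b ≫ BC.down j (F.app _ y rfl (BC.up j (a ≫ g)))
    rw [reassoc_of% h2, ← BC.down_comp, ← F.natural r' y rfl y' rfl (BC.up j (a ≫ g)) e]
    congr 3
    apply BC.down_injective
    rw [BC.down_comp, BC.down_up, BC.down_up, reassoc_of% h1]
  mul Y y hy g g' := by
    rw [MonObj.comp_mul, BC.up_mul, F.mul, BC.down_mul, MonObj.comp_mul]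

theorem Fam.ofU_toU {T : Scheme.{u}} {x : T ⟶ U} (F : Fam G H (x ≫ j)) : Fam.ofU j (Fam.toU j F) = F := by
  refine Fam.ext (funext fun Y => funext fun y => funext fun hy => funext fun g => ?_)
  let b : Y ⟶ (Over.map j).obj (Over.mk (y ≫ x)) := Over.homMk (𝟙 Y.left) (by
    show 𝟙 Y.left ≫ (y ≫ x) ≫ j = Y.hom
    rw [Category.id_comp, Category.assoc, hy])
  let a : (Over.map j).obj (Over.mk (y ≫ x)) ⟶ Y := Over.homMk (𝟙 Y.left) (by
    show 𝟙 Y.left ≫ Y.hom = (y ≫ x) ≫ j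
    rw [Category.id_comp, Category.assoc, hy])
  have hba : b ≫ a = 𝟙 Y := Over.OverMorphism.ext (Category.id_comp _)
  show b ≫ BC.down j (BC.up j (F.app _ y _ (BC.down j (BC.up j (a ≫ g))))) = F.app Y y hy g
  rw [BC.down_up, BC.down_up, F.natural a y hy y _ g (Category.id_comp y), ← Category.assoc, hba,
    Category.id_comp]

theorem Fam.toU_res {T T' : Scheme.{u}} {x : T ⟶ U} {x' : T' ⟶ U} (F : Fam G H (x ≫ j)) (a : T' ⟶ T)
    (w : a ≫ x = x') : Fam.toU j (F.res a (by rw [← Category.assoc, w])) = (Fam.toU j F).res a w := rfl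

theorem Fam.toU_injective {T : Scheme.{u}} {x : T ⟶ U} {F F' : Fam G H (x ≫ j)}
    (h : Fam.toU j F = Fam.toU j F') : F = F' := by
  rw [← Fam.ofU_toU j F, h, Fam.ofU_toU]

theorem Fam.toU_ofU {T : Scheme.{u}} {x : T ⟶ U} (F : Fam (Red.bc j G) (Red.bc j H) x) :
    Fam.toU j (Fam.ofU j F) = F := by
  refine Fam.ext (funext fun Y => funext fun y => funext fun hy => funext fun g => ?_)
  let Y₁ : Over U := Over.mk (y ≫ x)
  let p : Y ⟶ Y₁ := Over.homMk (𝟙 _) ((Category.id_comp _).trans hy)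
  let q : Y₁ ⟶ Y := Over.homMk (𝟙 _) ((Category.id_comp _).trans hy.symm)
  have hpq : p ≫ q = 𝟙 Y := Over.OverMorphism.ext (Category.id_comp _)
  show BC.up j (((Over.map j).map p) ≫ BC.down j (F.app Y₁ y rfl (BC.up j ((Over.map j).map q ≫ BC.down j g)))) = _
  apply BC.down_injective
  rw [BC.down_up, ← BC.down_comp, ← F.natural p y rfl y hy _ (Category.id_comp y)]
  congr 2
  apply BC.down_injective
  rw [BC.down_comp, BC.down_up, ← Category.assoc, ← Functor.map_comp, hpq, CategoryTheory.Functor.map_id,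
    Category.id_comp]

/-- A representing scheme for the base changed groups represents on the schemes over `U`. -/
theorem repsOn_of_charts (A : Over U) {G₁ H₁ : Over U} [GrpObj G₁] [GrpObj H₁]
    (eG : Grp.mk (Red.bc j G) ≅ Grp.mk G₁) (eH : Grp.mk (Red.bc j H) ≅ Grp.mk H₁)
    (V : Fam G₁ H₁ A.hom) (hV : Reps A V) :
    RepsOn j A (Fam.ofU j (V.mapIso eG.symm eH.symm)) := by
  intro T x F
  obtain ⟨a, ⟨w, ha⟩, hu⟩ := hV T x ((Fam.toU j F).mapIso eG eH)
  refine ⟨a, ⟨w, Fam.toU_injective j ?_⟩, fun a' ⟨w', ha'⟩ => hu a' ⟨w', ?_⟩⟩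
  · rw [Fam.toU_res j _ a w, Fam.toU_ofU, ← Fam.mapIso_res, ha, Fam.mapIso_symm]
  · rw [← ha', Fam.toU_res j _ a' w', Fam.toU_ofU, ← Fam.mapIso_res]
    exact (Fam.mapIso_symm eG.symm eH.symm (V.res a' w')).symm

/-- Families over an empty scheme agree. -/
theorem Fam.eq_of_isEmpty {T : Scheme.{u}} [IsEmpty T] {t : T ⟶ S} (F F' : Fam G H t) : F = F' := by
  refine Fam.ext (funext fun Y => funext fun y => funext fun hy => funext fun g => ?_)
  have : IsEmpty Y.left := Function.isEmpty y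
  exact Over.OverMorphism.ext (isInitialOfIsEmpty.hom_ext _ _)

end Transport

section Split

variable {U : Scheme.{u}} {M N : Type} [AddCommGroup M] [AddCommGroup N]

/-- The constant family. -/
noncomputable def constFam (φ : N →+ M) {T : Scheme.{u}} (t : T ⟶ U) : Fam (Red.DS U M) (Red.DS U N) t where
  app Y _ _ g := g ≫ Red.DSmap U φ
  natural r _ _ _ _ g _ := Category.assoc r g _
  mul Y _ _ g g' := by
    have : IsMonHom (Red.DSmap U φ) := Gm.isMonHom_DSmap _
    exact MonObj.mul_comp g g' _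

theorem constFam_res (φ : N →+ M) {T T' : Scheme.{u}} {t : T ⟶ U} {t' : T' ⟶ U} (a : T' ⟶ T)
    (w : a ≫ t = t') : (constFam φ t).res a w = constFam φ t' := rfl

theorem constFam_injective {T : Scheme.{u}} (x : T) {t : T ⟶ U} {φ ψ : N →+ M}
    (h : constFam φ t = constFam ψ t) : φ = ψ := by
  let K := T.residueField x
  let k := T.fromSpecResidueField x
  apply Factor.eq_of_DSmap_eq (A := K)
  apply CentralEq.lo_injective (k ≫ t)
  have h1 := congr(($h).app ((Over.map (k ≫ t)).obj (Red.DS (Spec K) M))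
    ((Red.DS (Spec K) M).hom ≫ k) (Category.assoc _ _ _) (lo (k ≫ t) (𝟙 _)))
  rw [← Category.id_comp (Red.DSmap (Spec K) φ), ← Category.id_comp (Red.DSmap (Spec K) ψ),
    Factor.lo_DSmap, Factor.lo_DSmap]
  exact h1

/-- A family between split groups is locally constant. -/
theorem exists_constFam [AddGroup.FG N] {T : Scheme.{u}} {t : T ⟶ U}
    (F : Fam (Red.DS U M) (Red.DS U N) t) (x : T) :
    ∃ (φ : N →+ M) (O : T.Opens), x ∈ O ∧ F.res O.ι rfl = constFam φ (O.ι ≫ t) := by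
  obtain ⟨O₀, hO₀, hx, -⟩ := exists_isAffineOpen_mem_and_subset (X := T) (x := x) (U := ⊤) trivial
  let A : CommRingCat.{u} := Γ(T, O₀)
  let k : Spec A ⟶ T := hO₀.fromSpec
  let π : Spec A ⟶ U := k ≫ t
  let X₀ : Over (Spec A) := Red.DS (Spec A) M
  obtain ⟨w, hw⟩ := CentralEq.lo_surjective π
    (F.app ((Over.map π).obj X₀) (X₀.hom ≫ k) (Category.assoc _ _ _) (lo π (𝟙 X₀)))
  have hpt : ∀ (X : Over (Spec A)) (g : X ⟶ X₀),
      F.app ((Over.map π).obj X) (X.hom ≫ k) (Category.assoc _ _ _) (lo π g) = lo π (g ≫ w) := fun X g => by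
    rw [CentralEq.lo_comp, hw, ← F.natural ((Over.map π).map g) (X₀.hom ≫ k) _ (X.hom ≫ k)
      (Category.assoc _ _ _) _ ((Category.assoc _ _ _).symm.trans (congrArg (· ≫ k) (Over.w g))),
      ← CentralEq.lo_comp, Category.comp_id]
  have : IsMonHom w := HomDS.isMonHom_of_points w fun X a b => CentralEq.lo_injective π (by
    rw [CentralEq.lo_mul, ← hpt, ← hpt, ← hpt, CentralEq.lo_mul, F.mul])
  obtain ⟨x₀, rfl⟩ : x ∈ Set.range k := by rw [hO₀.range_fromSpec]; exact hx
  obtain ⟨φ, U', hx₀, hφ⟩ := LocalForm.exists_local_form_spec w x₀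
  refine ⟨φ, k ''ᵁ U', ⟨x₀, hx₀, rfl⟩, Fam.ext (funext fun Y => funext fun y => funext fun hy => funext fun g => ?_)⟩
  have hy' : Set.range (y ≫ (k ''ᵁ U').ι) ⊆ Set.range (U'.ι ≫ k) := by
    rintro _ ⟨p, rfl⟩
    obtain ⟨q, hq, hqp⟩ := (y p).2
    exact ⟨⟨q, hq⟩, hqp⟩
  let l : Y.left ⟶ (U' : Scheme.{u}) := IsOpenImmersion.lift (U'.ι ≫ k) (y ≫ (k ''ᵁ U').ι) hy'
  have hl : l ≫ U'.ι ≫ k = y ≫ (k ''ᵁ U').ι := IsOpenImmersion.lift_fac _ _ _
  let X : Over (Spec A) := Over.mk (l ≫ U'.ι)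
  have hX : X.hom ≫ π = Y.hom := by
    show (l ≫ U'.ι) ≫ k ≫ t = _
    rw [← Category.assoc, Category.assoc l, hl, Category.assoc]
    exact hy
  let ε : (Over.map π).obj X ⟶ Y := Over.homMk (𝟙 _) ((Category.id_comp _).trans hX.symm)
  let δ : Y ⟶ (Over.map π).obj X := Over.homMk (𝟙 _) ((Category.id_comp _).trans hX)
  have hδε : δ ≫ ε = 𝟙 Y := Over.OverMorphism.ext (Category.id_comp _)
  obtain ⟨g', hg'⟩ := CentralEq.lo_surjective π (ε ≫ g)
  show F.app Y (y ≫ (k ''ᵁ U').ι) _ g = g ≫ Red.DSmap U φ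
  have h1 : F.app ((Over.map π).obj X) (X.hom ≫ k) (Category.assoc _ _ _) (ε ≫ g) = ε ≫ g ≫ Red.DSmap U φ := by
    rw [← hg', hpt, hφ X (Over.homMk l rfl) g', Factor.lo_DSmap, hg', Category.assoc]
  rw [F.natural ε (y ≫ (k ''ᵁ U').ι) (by rw [Category.assoc]; exact hy) (X.hom ≫ k) (Category.assoc _ _ _) g
    (by
      show 𝟙 _ ≫ _ = (l ≫ U'.ι) ≫ k
      rw [Category.id_comp, Category.assoc, hl])] at h1
  have h2 := congrArg (δ ≫ ·) h1
  simpa only [← Category.assoc, hδε, Category.id_comp] using h2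

/-- **The constant scheme on `Hom(N, M)` represents the homomorphisms `D(M) ⟶ D(N)`**, the component
of index `φ` carrying the constant family `φ`. -/
theorem exists_reps_const' [AddGroup.FG N] :
    ∃ V : Fam (Red.DS U M) (Red.DS U N) (TwC.const U (N →+ M)).hom, Reps (TwC.const U (N →+ M)) V ∧
      ∀ φ : N →+ M, ∀ w, V.res (Sigma.ι (fun _ : N →+ M => U) φ) w = constFam φ (𝟙 U) := by
  classical
  let C := TwC.const U (N →+ M)
  let inC : (N →+ M) → (U ⟶ C.left) := fun φ => Sigma.ι (fun _ : N →+ M => U) φ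
  have hC : ∀ φ, inC φ ≫ C.hom = 𝟙 U := fun φ => Sigma.ι_desc _ _
  have hdisj : ∀ (φ ψ : N →+ M) (a b : U), inC φ a = inC ψ b → φ = ψ := fun φ ψ a b h => by
    by_contra hne
    exact (disjoint_opensRange_sigmaι (fun _ : N →+ M => U) φ ψ hne).le_bot
      ⟨⟨a, rfl⟩, ⟨b, h.symm⟩⟩
  have hex : ∀ c : C.left, ∃ φ a, inC φ a = c := fun c => (sigmaOpenCover (fun _ : N →+ M => U)).exists_eq c
  let P : C.left → Scheme.{u} := fun _ => U
  let phi : C.left → (N →+ M) := fun c => (hex c).choose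
  have hcov : Presieve.ofArrows P (fun c => inC (phi c)) ∈ Scheme.fpqcPrecoverage C.left :=
    Scheme.fppfPrecoverage_le_fpqcPrecoverage C.left
      ((Scheme.ofArrows_mem_precoverage_iff (P := @Flat ⊓ @LocallyOfFinitePresentation)).2
        ⟨fun c => ⟨c, (hex c).choose_spec⟩, fun c => ⟨inferInstance, inferInstance⟩⟩)
  obtain ⟨V, hV, -⟩ := exists_glue (G := Red.DS U M) (H := Red.DS U N) (t := C.hom) hcov
    (fun c => constFam (phi c) _) (fun W c d a b h => by
      rcases isEmpty_or_nonempty W with hW | ⟨⟨z⟩⟩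
      · exact Fam.eq_of_isEmpty _ _
      · have := congrArg (fun f => f z) h
        simp only [Scheme.Hom.comp_apply] at this
        rw [constFam_res, constFam_res, hdisj _ _ _ _ this])
  have hVφ : ∀ φ, V.res (inC φ) (hC φ) = constFam φ (𝟙 U) := fun φ => by
    rcases isEmpty_or_nonempty U with hU | ⟨⟨z⟩⟩
    · exact Fam.eq_of_isEmpty _ _
    · have hφ : phi (inC φ z) = φ := by
        obtain ⟨a, ha⟩ := (hex (inC φ z)).choose_spec
        exact hdisj _ _ _ _ ha
      have h := congrArg (fun F => Fam.res (t' := 𝟙 U) F (𝟙 U) (by rw [Category.id_comp, hC])) (hV (inC φ z))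
      simp only [constFam_res] at h
      have key : ∀ ψ, ψ = φ → V.res (inC ψ) (hC ψ) = constFam ψ (𝟙 U) → V.res (inC φ) (hC φ) = constFam φ (𝟙 U) :=
        fun ψ e he => e ▸ he
      exact key _ hφ ((Fam.res_one V _ _ _).symm.trans h)
  refine ⟨V, fun T x F => ?_, fun φ _ => hVφ φ⟩
  choose φ O hxO hF using fun p : T => exists_constFam F p
  have key : ∀ (φ' : N →+ M) (W : Scheme.{u}) (i : W ⟶ T) (_ : F.res i rfl = constFam φ' (i ≫ x))
      (a : T ⟶ C.left) (wa : a ≫ C.hom = x) (_ : V.res a wa = F), i ≫ a = i ≫ x ≫ inC φ' := by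
    intro φ' W i hi a wa ha
    refine Scheme.Cover.hom_ext ((W.openCoverOfIsOpenCover (fun ψ : N →+ M => (i ≫ a) ⁻¹ᵁ (inC ψ).opensRange)
      (TopologicalSpace.IsOpenCover.mk (top_le_iff.mp fun p _ => by
        obtain ⟨ψ, b, hb⟩ := hex ((i ≫ a) p)
        exact TopologicalSpace.Opens.mem_iSup.mpr ⟨ψ, b, hb⟩)))) _ _ fun ψ => ?_
    change ((i ≫ a) ⁻¹ᵁ (inC ψ).opensRange).ι ≫ i ≫ a = ((i ≫ a) ⁻¹ᵁ (inC ψ).opensRange).ι ≫ i ≫ x ≫ inC φ'
    let W' := (i ≫ a) ⁻¹ᵁ (inC ψ).opensRange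
    let b : (W' : Scheme.{u}) ⟶ U := IsOpenImmersion.lift (inC ψ) (W'.ι ≫ i ≫ a) (by
      rintro _ ⟨p, rfl⟩
      exact p.2)
    have hb : b ≫ inC ψ = W'.ι ≫ i ≫ a := IsOpenImmersion.lift_fac _ _ _
    have hb' : b = W'.ι ≫ i ≫ x := by
      have := congrArg (· ≫ C.hom) hb
      simpa [hC, wa] using this
    rcases isEmpty_or_nonempty (W' : Scheme.{u}) with hW | ⟨⟨p⟩⟩
    · exact isInitialOfIsEmpty.hom_ext _ _
    have h1 : constFam φ' (W'.ι ≫ i ≫ x) = constFam ψ (W'.ι ≫ i ≫ x) := by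
      have e1 := congrArg (fun F => Fam.res (t' := W'.ι ≫ i ≫ x) F W'.ι rfl) hi
      simp only [constFam_res, Fam.res_res] at e1
      rw [← e1, ← ha, Fam.res_res, ← constFam_res ψ b (show b ≫ 𝟙 U = _ by rw [Category.comp_id, hb']),
        ← hVφ ψ, Fam.res_res]
      exact V.res_congr (by rw [hb, Category.assoc]) _
    rw [← constFam_injective p h1] at hb
    rw [← hb, hb']
    simp only [Category.assoc]
    rfl
  let 𝒰 : T.OpenCover := T.openCoverOfIsOpenCover O
    (TopologicalSpace.IsOpenCover.mk (top_le_iff.mp fun p _ => TopologicalSpace.Opens.mem_iSup.mpr ⟨p, hxO p⟩))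
  have hcompat : ∀ p q : T, pullback.fst (O p).ι (O q).ι ≫ (O p).ι ≫ x ≫ inC (φ p) =
      pullback.snd (O p).ι (O q).ι ≫ (O q).ι ≫ x ≫ inC (φ q) := fun p q => by
    rcases isEmpty_or_nonempty ↥(pullback (O p).ι (O q).ι) with hW | ⟨⟨z⟩⟩
    · exact isInitialOfIsEmpty.hom_ext _ _
    have e1 := congrArg (fun F => Fam.res (t' := (pullback.fst (O p).ι (O q).ι ≫ (O p).ι) ≫ x) F
      (pullback.fst (O p).ι (O q).ι) (Category.assoc _ _ _).symm) (hF p)
    have e2 := congrArg (fun F => Fam.res (t' := (pullback.fst (O p).ι (O q).ι ≫ (O p).ι) ≫ x) F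
      (pullback.snd (O p).ι (O q).ι) (by rw [pullback.condition, Category.assoc])) (hF q)
    simp only [constFam_res, Fam.res_res] at e1 e2
    rw [F.res_congr pullback.condition, e2] at e1
    rw [constFam_injective z e1.symm, pullback.condition_assoc]
  let a : T ⟶ C.left := 𝒰.glueMorphisms (fun p => (O p).ι ≫ x ≫ inC (φ p)) hcompat
  have hOa : ∀ p, (O p).ι ≫ a = (O p).ι ≫ x ≫ inC (φ p) := fun p =>
    𝒰.ι_glueMorphisms _ hcompat p
  have haw : a ≫ C.hom = x := Scheme.Cover.hom_ext 𝒰 _ _ fun p => by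
    show (O p).ι ≫ a ≫ C.hom = (O p).ι ≫ x
    rw [reassoc_of% (hOa p), hC, Category.comp_id]
  have hcovT : Presieve.ofArrows (fun p => (O p : Scheme.{u})) (fun p => (O p).ι) ∈ Scheme.fpqcPrecoverage T :=
    Scheme.fppfPrecoverage_le_fpqcPrecoverage T
      ((Scheme.ofArrows_mem_precoverage_iff (P := @Flat ⊓ @LocallyOfFinitePresentation)).2
        ⟨fun p => ⟨p, ⟨p, hxO p⟩, rfl⟩, fun p => ⟨inferInstance, inferInstance⟩⟩)
  refine ⟨a, ⟨haw, ?_⟩, fun a' ⟨wa', ha'⟩ => ?_⟩
  · refine (exists_glue hcovT (fun p => F.res (O p).ι rfl) (fun W p q w v e => by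
      simp only [Fam.res_res]; exact F.res_congr e _)).unique (fun p => ?_) fun p => rfl
    rw [hF, Fam.res_res, V.res_congr (hOa p),
      ← constFam_res (φ p) ((O p).ι ≫ x) (Category.comp_id _), ← hVφ, Fam.res_res]
    exact V.res_congr (Category.assoc _ _ _).symm _
  · refine Scheme.Cover.hom_ext 𝒰 _ _ fun p => ?_
    show (O p).ι ≫ a' = (O p).ι ≫ a
    rw [hOa, key (φ p) _ (O p).ι (hF p) a' wa' ha']

/-- The constant scheme on `Hom(N, M)` represents the homomorphisms `D(M) ⟶ D(N)`. -/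
theorem exists_reps_const [AddGroup.FG N] :
    ∃ V : Fam (Red.DS U M) (Red.DS U N) (TwC.const U (N →+ M)).hom, Reps (TwC.const U (N →+ M)) V :=
  let ⟨V, h, _⟩ := exists_reps_const' (U := U) (M := M) (N := N); ⟨V, h⟩

end Split

end Groth.Agent.H87.HomFam

namespace Groth.Agent.H87.HomFam

/-- A constant scheme on a finite set is finite. -/
theorem isFinite_const (U : Scheme.{u}) (Φ : Type) [Finite Φ] : IsFinite (TwC.const U Φ).hom := by
  let e : (∐ fun _ : ULift.{u} Φ => U) ≅ ∐ fun _ : Φ => U :=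
    Sigma.whiskerEquiv Equiv.ulift fun _ => Iso.refl U
  have h := Groth.Agent.Lib.QfhGalois.isFinite_sigmaDesc (fun _ : ULift.{u} Φ => 𝟙 U) fun _ => inferInstance
  have he : e.hom ≫ (TwC.const U Φ).hom = Sigma.desc fun _ : ULift.{u} Φ => 𝟙 U :=
    Sigma.hom_ext _ _ fun p => by simp [e]
  rw [← he] at h
  exact (MorphismProperty.cancel_left_of_respectsIso @IsFinite e.hom _).1 h

/-- A constant scheme is étale. -/
theorem etale_const (U : Scheme.{u}) (Φ : Type) : Etale (TwC.const U Φ).hom := by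
  have : IsZariskiLocalAtSource @Etale.{u} :=
    HasRingHomProperty.instIsZariskiLocalAtSource (P := @Etale) (Q := RingHom.Etale)
  exact IsZariskiLocalAtSource.sigmaDesc (P := @Etale) fun _ => inferInstance

/-- A finite diagonalisable group over a nonzero ring is given by a finite group. -/
theorem finite_of_isFinite_spec (A : CommRingCat.{u}) [Nontrivial A] (N : Type) [AddCommGroup N]
    [IsFinite (Red.DS (Spec A) N).hom] : Finite N := by
  let inc : A ⟶ HomDS.ring (A := A) N := CommRingCat.ofHom MonoidAlgebra.singleOneRingHom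
  have := Groth.Agent.Lib.MultSmooth.isIso_univPt (A := A) (M := N)
  let u : HomDS.test (𝟙 (Spec A)) inc ⟶ Red.DS (Spec A) N := HomDS.univPt (𝟙 (Spec A)) N
  have : IsIso u := this
  have : IsIso u.left := inferInstanceAs (IsIso ((Over.forget _).map u))
  have h1 : IsFinite (u.left ≫ (Red.DS (Spec A) N).hom) :=
    (MorphismProperty.cancel_left_of_respectsIso @IsFinite u.left _).2 inferInstance
  rw [Over.w u] at h1
  have h1' : IsFinite (Spec.map inc) := by
    simpa only [HomDS.test, Over.mk_hom, Category.comp_id] using h1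
  rw [IsFinite.SpecMap_iff] at h1'
  have h2 : Module.Finite A (MonoidAlgebra A (Multiplicative N)) := RingHom.finite_algebraMap.1 h1'
  have : Finite (Multiplicative N) := Module.Finite.finite_basis (MonoidAlgebra.basis (Multiplicative N) A)
  exact Finite.of_equiv _ Multiplicative.toAdd

/-- A finite diagonalisable group over a nonempty base is given by a finite group. -/
theorem finite_of_isFinite {U : Scheme.{u}} (p : U) (N : Type) [AddCommGroup N]
    [IsFinite (Red.DS U N).hom] : Finite N := by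
  have hbc : IsFinite (Red.bc (U.fromSpecResidueField p) (Red.DS U N)).hom :=
    MorphismProperty.pullback_snd (P := @IsFinite) _ _ inferInstance
  let e := BaseChange.overIso (DS.dsBC N (U.fromSpecResidueField p))
  have : IsFinite (Red.DS (Spec (U.residueField p)) N).hom := by
    rw [← Over.w e.inv]
    have : IsIso e.inv.left := inferInstanceAs (IsIso ((Over.forget _).map e.inv))
    exact (MorphismProperty.cancel_left_of_respectsIso @IsFinite e.inv.left _).2 hbc
  exact finite_of_isFinite_spec (U.residueField p) N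

end Groth.Agent.H87.HomFam

namespace Groth.Agent.H87.HomFam

/-- A constant scheme is separated. -/
theorem isSeparated_const (U : Scheme.{u}) (Φ : Type) : IsSeparated (TwC.const U Φ).hom := by
  let C := TwC.const U Φ
  let inC : Φ → (U ⟶ C.left) := fun φ => Sigma.ι (fun _ : Φ => U) φ
  have hC : ∀ φ, inC φ ≫ C.hom = 𝟙 U := fun φ => Sigma.ι_desc _ _
  let p := pullback.fst C.hom C.hom
  let q := pullback.snd C.hom C.hom
  let W : Φ → Φ → (pullback C.hom C.hom).Opens := fun φ ψ => p ⁻¹ᵁ (inC φ).opensRange ⊓ q ⁻¹ᵁ (inC ψ).opensRange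
  have hdiag : ∀ φ z, z ∈ W φ φ → z ∈ Set.range (pullback.diagonal C.hom) := fun φ z hz => by
    let b₁ := IsOpenImmersion.lift (inC φ) ((W φ φ).ι ≫ p) (by rintro _ ⟨w, rfl⟩; exact w.2.1)
    let b₂ := IsOpenImmersion.lift (inC φ) ((W φ φ).ι ≫ q) (by rintro _ ⟨w, rfl⟩; exact w.2.2)
    have h₁ : b₁ ≫ inC φ = (W φ φ).ι ≫ p := IsOpenImmersion.lift_fac _ _ _
    have h₂ : b₂ ≫ inC φ = (W φ φ).ι ≫ q := IsOpenImmersion.lift_fac _ _ _
    have e1 : b₁ = ((W φ φ).ι ≫ p) ≫ C.hom := by rw [← h₁, Category.assoc, hC, Category.comp_id]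
    have e2 : b₂ = ((W φ φ).ι ≫ q) ≫ C.hom := by rw [← h₂, Category.assoc, hC, Category.comp_id]
    have h3 : ((W φ φ).ι ≫ p) ≫ pullback.diagonal C.hom = (W φ φ).ι := by
      apply pullback.hom_ext
      · rw [Category.assoc, pullback.diagonal_fst, Category.comp_id]
      · rw [Category.assoc, pullback.diagonal_snd, Category.comp_id, ← h₁, ← h₂, e1, e2]
        simp only [p, q, Category.assoc, pullback.condition_assoc]
    exact ⟨((W φ φ).ι ≫ p) ⟨z, hz⟩, (Scheme.Hom.comp_apply _ _ _).symm.trans congr(($h3).base ⟨z, hz⟩)⟩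
  constructor
  refine IsClosedImmersion.of_isPreimmersion _ (isOpen_compl_iff.mp (isOpen_iff_forall_mem_open.mpr fun z hz => ?_))
  obtain ⟨φ, a, ha⟩ := (sigmaOpenCover fun _ : Φ => U).exists_eq (p z)
  obtain ⟨ψ, b, hb⟩ := (sigmaOpenCover fun _ : Φ => U).exists_eq (q z)
  refine ⟨W φ ψ, fun w hw hw' => ?_, (W φ ψ).2, ⟨⟨a, ha⟩, ⟨b, hb⟩⟩⟩
  have hne : φ ≠ ψ := fun h => by
    subst h
    exact hz (hdiag φ z ⟨⟨a, ha⟩, ⟨b, hb⟩⟩)
  obtain ⟨c, rfl⟩ := hw'
  obtain ⟨⟨a', ha'⟩, ⟨b', hb'⟩⟩ := hw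
  have hp : p (pullback.diagonal C.hom c) = c := by
    rw [← Scheme.Hom.comp_apply, pullback.diagonal_fst]; rfl
  have hq : q (pullback.diagonal C.hom c) = c := by
    rw [← Scheme.Hom.comp_apply, pullback.diagonal_snd]; rfl
  rw [hp] at ha'
  rw [hq] at hb'
  exact (disjoint_opensRange_sigmaι (fun _ : Φ => U) φ ψ hne).le_bot ⟨⟨a', ha'⟩, ⟨b', hb'⟩⟩

/-- A constant scheme is ind-quasi-affine. -/
theorem indQA_const (U : Scheme.{u}) (Φ : Type) : MoreMor.IsIndQuasiAffineHom (TwC.const U Φ).hom := by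
  have := isSeparated_const U Φ
  have := etale_const U Φ
  have : LocallyQuasiFinite (TwC.const U Φ).hom :=
    IsZariskiLocalAtSource.sigmaDesc (P := @LocallyQuasiFinite) fun _ => inferInstance
  exact Groth.Agent.H54.IndQAff.of_locallyQuasiFinite _

/-- Reindexing a constant scheme. -/
noncomputable def constULift (U : Scheme.{u}) (Φ : Type) : TwC.const U Φ ≅ TwC.const U (ULift.{u} Φ) :=
  Over.isoMk (Sigma.whiskerEquiv Equiv.ulift fun _ => Iso.refl U).symm (by
    rw [Iso.symm_hom, Iso.inv_comp_eq]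
    refine Sigma.hom_ext _ _ fun p => ?_
    simp)

/-- An étale family which is jointly surjective is an fpqc family. -/
theorem mem_fpqc_of_etale {S : Scheme.{u}} {κ : Type u} {X : κ → Scheme.{u}} (f : ∀ i, X i ⟶ S)
    [∀ i, Etale (f i)] (hs : ∀ s : S, ∃ i, s ∈ Set.range (f i).base) :
    Presieve.ofArrows X f ∈ Scheme.fpqcPrecoverage S :=
  Scheme.fppfPrecoverage_le_fpqcPrecoverage S
    ((Scheme.ofArrows_mem_precoverage_iff (P := @Flat ⊓ @LocallyOfFinitePresentation)).2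
      ⟨fun s => by
        obtain ⟨i, x, hx⟩ := hs s
        exact ⟨i, x, hx⟩, fun i => ⟨inferInstance, inferInstance⟩⟩)

end Groth.Agent.H87.HomFam
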