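import Groth.Agent.H87.HomSmooth
import Groth.Agent.H87.SplitHom
import Groth.Agent.H87.Charts
import Groth.Agent.H1.Hopf
import Mathlib.AlgebraicGeometry.Morphisms.LocalFlatDescent

/-!
# Homomorphisms from a group of multiplicative type to a smooth affine group
-/

set_option autoImplicit false
universe u

open CategoryTheory CategoryTheory.Limits MonoidalCategory CartesianMonoidalCategory MonObj GrpObj
open AlgebraicGeometry
open Groth.Agent.Lib.Tori
open Groth.Agent.H87.HomFam Groth.Agent.H87.HomPts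

namespace Groth.Agent.H87.HomGlobal

set_option linter.style.haveILetI false

variable {S : Scheme.{u}} {H G : Over S} [GrpObj H] [GrpObj G]

/-- The piece over an affine chart. -/
theorem exists_repsOn [Smooth G.hom] [IsAffineHom G.hom] {A : Type u} [CommRing A] (f : Spec (.of A) ⟶ S)
    {M : Type} [AddCommGroup M] (e : Grp.mk (Red.bc f H) ≅ Grp.mk (Red.DS (Spec (.of A)) M)) :
    ∃ (P : Over (Spec (.of A))) (U : Fam H G (P.hom ≫ f)), RepsOn f P U ∧ Smooth P.hom ∧ IsSeparated P.hom ∧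
      MoreMor.IsIndQuasiAffineHom P.hom := by
  let G' := Red.bc f G
  haveI : IsAffineHom G'.hom := MorphismProperty.pullback_snd (P := @IsAffineHom) _ _ inferInstance
  haveI : Smooth G'.hom := MorphismProperty.pullback_snd (P := @Smooth) _ _ inferInstance
  haveI : IsAffine G'.left := isAffine_of_isAffineHom G'.hom
  obtain ⟨R, _, _, eG, heG⟩ := Groth.Agent.H1.Hopf.exists_iso (R := A) G'
  let eG' : Grp.mk G' ≅ Grp.mk (pt A R) := @BaseChange.grpIso _ G' (pt A R) _ _ eG heG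
  have hR : Smooth (stm A R) := by
    have h1 : ((Over.forget _).mapIso eG).inv ≫ G'.hom = stm A R := Over.w eG.inv
    rw [← h1]
    exact (MorphismProperty.cancel_left_of_respectsIso @Smooth _ _).2 ‹Smooth G'.hom›
  rw [HasRingHomProperty.Spec_iff (P := @Smooth)] at hR
  haveI : Algebra.Smooth A R := RingHom.smooth_algebraMap.1 hR
  obtain ⟨P, U, hU, hs, hsep, hi⟩ := HomSmooth.exists_reps (A := A) R M
  exact ⟨P, _, repsOn_of_charts f P e eG' U hU, hs, hsep, hi⟩

/-- **`Hom(H, G)` for charts on an fpqc cover.** -/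
theorem exists_of_charts [Smooth G.hom] [IsAffineHom G.hom] {κ : Type u} (A : κ → CommRingCat.{u})
    (f : ∀ i, Spec (A i) ⟶ S)
    (hcov : Presieve.ofArrows (fun i => Spec (A i)) f ∈ Scheme.fpqcPrecoverage S)
    (h : ∀ i, ∃ (M : Type) (_ : AddCommGroup M), Nonempty (Grp.mk (Red.bc (f i) H) ≅ Grp.mk (Red.DS (Spec (A i)) M))) :
    ∃ (R : Over S) (υ : H ⊗ R ⟶ G), AutFam.RepresentsHom H G R υ ∧ Smooth R.hom ∧ IsSeparated R.hom := by
  choose M iM e using h
  have h' : ∀ i, ∃ (P : Over (Spec (A i))) (U : Fam H G (P.hom ≫ f i)), RepsOn (f i) P U ∧ Smooth P.hom ∧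
      IsSeparated P.hom ∧ MoreMor.IsIndQuasiAffineHom P.hom := fun i => by
    letI := iM i
    exact exists_repsOn (f i) (e i).some
  choose P U hU hs hsep hi using h'
  obtain ⟨R, V, hV, hiso⟩ := exists_reps_of_indQA f hcov P U hU hi
  refine ⟨R, V.toMor, representsHom R V hV, ?_, ?_⟩
  · exact prop_of_pieces f hcov @Smooth inferInstance R P hiso hs
  · exact prop_of_pieces f hcov @IsSeparated inferInstance R P hiso hsep

/-- An fpqc covering which is locally split gives affine charts. -/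
theorem exists_charts_fpqc {S' : Scheme.{u}} (p : S' ⟶ S) [Flat p] [Surjective p]
    (hc : ∀ W : S.Opens, IsAffineOpen W → ∃ W' : S'.Opens, IsCompact (W' : Set S') ∧ p.base '' (W' : Set S') = (W : Set S))
    (h : ∀ s' : S', ∃ U : S'.Opens, s' ∈ U ∧ ∃ (M : Type) (_ : AddCommGroup M),
      Nonempty (Grp.mk (Red.bc (U.ι ≫ p) H) ≅ Grp.mk (Red.DS (U : Scheme.{u}) M))) :
    ∃ (κ : Type u) (A : κ → CommRingCat.{u}) (f : ∀ i, Spec (A i) ⟶ S),
      Presieve.ofArrows (fun i => Spec (A i)) f ∈ Scheme.fpqcPrecoverage S ∧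
      ∀ i, ∃ (M : Type) (_ : AddCommGroup M), Nonempty (Grp.mk (Red.bc (f i) H) ≅ Grp.mk (Red.DS (Spec (A i)) M)) := by
  choose U hU M iM e using h
  have hO : ∀ s' : S', ∃ O : S'.Opens, IsAffineOpen O ∧ s' ∈ O ∧ O ≤ U s' := fun s' =>
    exists_isAffineOpen_mem_and_subset (hU s')
  choose O hOa hsO hOU using hO
  have h0 := mem_fpqc p hc O fun x => ⟨x, hsO x⟩
  have h1 := Precoverage.comp_mem_coverings (J := Scheme.fpqcPrecoverage.{u}) _ h0
    (σ := fun _ => PUnit.{u + 1}) (Y := fun s' _ => Spec Γ(S', O s'))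
    (fun s' _ => (hOa s').isoSpec.inv)
    fun s' => by
      have h2 : Presieve.ofArrows (fun _ : PUnit.{u + 1} => Spec Γ(S', O s')) (fun _ => (hOa s').isoSpec.inv) ∈
          Scheme.zariskiPrecoverage (O s' : Scheme.{u}) :=
        (Scheme.coverOfIsIso (P := @IsOpenImmersion) (hOa s').isoSpec.inv).mem₀
      exact Scheme.zariskiPrecoverage_le_fpqcPrecoverage _ h2
  refine ⟨_, fun q : Σ _ : S', PUnit.{u + 1} => Γ(S', O q.1), _, h1, fun q => ?_⟩
  obtain ⟨s', -⟩ := q
  letI := iM s'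
  refine ⟨M s', iM s', ⟨?_⟩⟩
  exact BaseChange.bcCongr (by simp [Category.assoc]) H ≪≫
    Charts.resChart (e s').some ((hOa s').isoSpec.inv ≫ S'.homOfLE (hOU s'))

/-- **The theorem for groups of multiplicative type and finite type.** -/
theorem of_isMultTypeFT (hH : SGA3x.IsMultTypeFT H) [Smooth G.hom] [IsAffineHom G.hom] :
    ∃ (R : Over S) (υ : H ⊗ R ⟶ G), AutFam.RepresentsHom H G R υ ∧ Smooth R.hom ∧ IsSeparated R.hom := by
  obtain ⟨S', p, hp, hps, hc, h⟩ := hH
  obtain ⟨κ, A, f, hcov, hf⟩ := exists_charts_fpqc (H := H) p hc fun s' => by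
    obtain ⟨U, hU, M, iM, -, e⟩ := h s'
    exact ⟨U, hU, M, iM, e⟩
  exact exists_of_charts A f hcov hf

/-- **The theorem for tori.** -/
theorem of_isTorus (hH : Red.IsTorus H) [Smooth G.hom] [IsAffineHom G.hom] :
    ∃ (R : Over S) (υ : H ⊗ R ⟶ G), AutFam.RepresentsHom H G R υ ∧ Smooth R.hom ∧ IsSeparated R.hom := by
  obtain ⟨S', p, hp, hps, hc, h⟩ := hH
  obtain ⟨κ, A, f, hcov, hf⟩ := exists_charts_fpqc (H := H) p hc fun s' => by
    obtain ⟨U, hU, r, e⟩ := h s'
    exact ⟨U, hU, Fin r → ℤ, inferInstance, e⟩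
  exact exists_of_charts A f hcov hf

/-- **The theorem for quasi-isotrivial groups.** -/
theorem of_etale_locally
    (hH : TwC.Locally S TwC.Topology.etale (fun S' g =>
      ∃ (M : Type) (_ : AddCommGroup M), Nonempty (Grp.mk (Red.bc g H) ≅ Grp.mk (Red.DS S' M))))
    [Smooth G.hom] [IsAffineHom G.hom] :
    ∃ (R : Over S) (υ : H ⊗ R ⟶ G), AutFam.RepresentsHom H G R υ ∧ Smooth R.hom ∧ IsSeparated R.hom := by
  have hH' : ∀ s : S, ∃ (A : CommRingCat.{u}) (f : Spec A ⟶ S), Etale f ∧ s ∈ Set.range f.base ∧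
      ∃ (M : Type) (_ : AddCommGroup M), Nonempty (Grp.mk (Red.bc f H) ≅ Grp.mk (Red.DS (Spec A) M)) := by
    intro s
    obtain ⟨S', g, hg, ⟨x, rfl⟩, M, iM, ⟨e⟩⟩ := hH s
    obtain ⟨O, hO, hx, -⟩ := exists_isAffineOpen_mem_and_subset (show x ∈ (⊤ : S'.Opens) from trivial)
    refine ⟨Γ(S', O), hO.fromSpec ≫ g, inferInstance, ?_, M, iM, ⟨Charts.resChart e hO.fromSpec⟩⟩
    obtain ⟨y, rfl⟩ : x ∈ Set.range hO.fromSpec := by rw [hO.range_fromSpec]; exact hx
    exact ⟨y, Scheme.Hom.comp_apply _ _ _⟩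
  choose A f hf hs h using hH'
  exact exists_of_charts A f (mem_fpqc_of_etale f fun s => ⟨s, hs s⟩) h

end Groth.Agent.H87.HomGlobal
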