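import Groth.Agent.H87.ExtGlobal

/-!
# Extension of a homomorphism given on the generic fibre
-/

set_option autoImplicit false
universe u

open CategoryTheory CategoryTheory.Limits MonoidalCategory CartesianMonoidalCategory MonObj GrpObj
open AlgebraicGeometry
open Groth.Agent.Lib.RedPts Groth.Agent.H87.ExtPoint

namespace Groth.Agent.H87.ExtGeneric

set_option linter.style.haveILetI false

variable {S : Scheme.{u}} {H T : Over S}

theorem isConnected_fibre (H : Over S) (s : S)
    [ConnectedSpace ↥(Limits.pullback H.hom (S.fromSpecResidueField s))] :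
    _root_.IsConnected (H.hom ⁻¹' {s}) := by
  rw [← S.range_fromSpecResidueField s, ← Scheme.Pullback.range_fst, ← Set.image_univ]
  exact isConnected_univ.image _ (pullback.fst H.hom (S.fromSpecResidueField s)).continuous.continuousOn

variable [IsIntegral S] [GrpObj H] [GrpObj T] {S₁ : Scheme.{u}} (g' : S₁ ⟶ S)
  (k' : Spec (S.presheaf.stalk (genericPoint S)) ⟶ S₁) (hk : k' ≫ g' = gen S)

/-- A point over the generic point, as a point over `S₁`. -/
noncomputable abbrev lo (Y : Over S) (y : Y.left ⟶ Spec (S.presheaf.stalk (genericPoint S))) : Over S₁ :=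
  Over.mk (y ≫ k')

include hk in
theorem lo_w (Y : Over S) (y : Y.left ⟶ Spec (S.presheaf.stalk (genericPoint S))) (hy : y ≫ gen S = Y.hom) :
    ((Over.map g').obj (lo k' Y y)).hom = Y.hom := by
  show (y ≫ k') ≫ g' = Y.hom
  rw [Category.assoc, hk, hy]

variable {g' k'}

/-- The comparison. -/
noncomputable def inn (Y : Over S) (y : Y.left ⟶ Spec (S.presheaf.stalk (genericPoint S)))
    (hy : y ≫ gen S = Y.hom) : (Over.map g').obj (lo k' Y y) ⟶ Y :=
  Over.homMk (U := (Over.map g').obj (lo k' Y y)) (𝟙 Y.left) ((Category.id_comp _).trans (lo_w g' k' hk Y y hy).symm)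

/-- The inverse comparison. -/
noncomputable def out (Y : Over S) (y : Y.left ⟶ Spec (S.presheaf.stalk (genericPoint S)))
    (hy : y ≫ gen S = Y.hom) : Y ⟶ (Over.map g').obj (lo k' Y y) :=
  Over.homMk (V := (Over.map g').obj (lo k' Y y)) (𝟙 Y.left) ((Category.id_comp _).trans (lo_w g' k' hk Y y hy))

theorem out_inn (Y : Over S) (y : Y.left ⟶ Spec (S.presheaf.stalk (genericPoint S)))
    (hy : y ≫ gen S = Y.hom) : out hk Y y hy ≫ inn hk Y y hy = 𝟙 Y :=
  Over.OverMorphism.ext (Category.id_comp _)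

theorem inn_out (Y : Over S) (y : Y.left ⟶ Spec (S.presheaf.stalk (genericPoint S)))
    (hy : y ≫ gen S = Y.hom) : inn hk Y y hy ≫ out hk Y y hy = 𝟙 _ :=
  Over.OverMorphism.ext (Category.id_comp _)

variable (uη : Red.bc g' H ⟶ Red.bc g' T) [IsMonHom uη]

/-- The family of a homomorphism on the generic fibre. -/
noncomputable def fam : HomFam.Fam H T (gen S) where
  app Y y hy x := out hk Y y hy ≫ BC.down g' (BC.up g' (inn hk Y y hy ≫ x) ≫ uη)
  natural {Y Y'} r y hy y' hy' x e := by
    let r' : lo k' Y' y' ⟶ lo k' Y y := Over.homMk r.left (by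
      show r.left ≫ y ≫ k' = y' ≫ k'
      rw [← e, Category.assoc])
    have e1 : inn hk Y' y' hy' ≫ r = (Over.map g').map r' ≫ inn hk Y y hy :=
      Over.OverMorphism.ext ((Category.id_comp _).trans (Category.comp_id _).symm)
    have e2 : out hk Y' y' hy' ≫ (Over.map g').map r' = r ≫ out hk Y y hy :=
      Over.OverMorphism.ext ((Category.id_comp _).trans (Category.comp_id _).symm)
    have e3 : BC.up g' (inn hk Y' y' hy' ≫ r ≫ x) = r' ≫ BC.up g' (inn hk Y y hy ≫ x) := by
      apply BC.down_injective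
      rw [BC.down_comp, BC.down_up, BC.down_up, ← Category.assoc, e1, Category.assoc]
    show out hk Y' y' hy' ≫ BC.down g' (BC.up g' (inn hk Y' y' hy' ≫ r ≫ x) ≫ uη) =
      r ≫ out hk Y y hy ≫ BC.down g' (BC.up g' (inn hk Y y hy ≫ x) ≫ uη)
    rw [e3, Category.assoc r', BC.down_comp, ← Category.assoc, e2, Category.assoc]
  mul Y y hy x x' := by
    rw [comp_mul, BC.up_mul, MonObj.mul_comp, BC.down_mul, comp_mul]

variable [IsLocallyNoetherian S] [Smooth H.hom]

/-- **Homomorphisms on the generic fibre extend uniquely.** -/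
theorem existsUnique_of_bc {k : S₁ ⟶ Spec (S.presheaf.stalk (genericPoint S))} [IsIso k] (hk0 : k ≫ gen S = g')
    (uη : Red.bc g' H ⟶ Red.bc g' T) [IsMonHom uη]
    (hnorm : ∀ s : S, IsDomain (S.presheaf.stalk s) ∧ IsIntegrallyClosed (S.presheaf.stalk s))
    (hconn : ∀ s : S, _root_.IsConnected (H.hom ⁻¹' {s})) (hT : SGA3x.IsMultTypeFT T) :
    ∃! u : H ⟶ T, IsMonHom u ∧ (Over.pullback g').map u = uη := by
  have hk : inv k ≫ g' = gen S := by rw [← hk0, IsIso.inv_hom_id_assoc]
  obtain ⟨u, ⟨hu, hfam⟩, huniq⟩ := ExtGlobal.existsUnique_hom hnorm hconn hT (fam hk uη)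
  refine ⟨u, ⟨hu, ?_⟩, fun v hv => huniq v ⟨hv.1, fun Y y hy x => ?_⟩⟩
  · refine BC.down_injective ?_
    let Y : Over S := (Over.map g').obj (Red.bc g' H)
    let y := (Red.bc g' H).hom ≫ k
    have hy : y ≫ gen S = Y.hom := by
      show ((Red.bc g' H).hom ≫ k) ≫ gen S = (Red.bc g' H).hom ≫ g'
      rw [Category.assoc, hk0]
    let j : lo (inv k) Y y ⟶ Red.bc g' H := Over.homMk (U := lo (inv k) Y y) (V := Red.bc g' H) (𝟙 (Red.bc g' H).left) (by
      show 𝟙 _ ≫ (Red.bc g' H).hom = ((Red.bc g' H).hom ≫ k) ≫ inv k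
      rw [Category.id_comp, Category.assoc, IsIso.hom_inv_id, Category.comp_id])
    have hj : inn hk Y y hy = (Over.map g').map j := Over.OverMorphism.ext rfl
    have h := hfam Y y hy (BC.down g' (𝟙 (Red.bc g' H)))
    have h2 : BC.down g' ((Over.pullback g').map u) = BC.down g' (𝟙 (Red.bc g' H)) ≫ u := by
      rw [← BC.down_map, Category.id_comp]
    rw [h2, h]
    show out hk Y y hy ≫ BC.down g' (BC.up g' (inn hk Y y hy ≫ BC.down g' (𝟙 _)) ≫ uη) = BC.down g' uη
    rw [hj, ← BC.down_comp, BC.up_down, Category.comp_id, BC.down_comp, ← hj, ← Category.assoc, out_inn,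
      Category.id_comp]
  · show x ≫ v = out hk Y y hy ≫ BC.down g' (BC.up g' (inn hk Y y hy ≫ x) ≫ uη)
    rw [← hv.2, BC.down_map, BC.down_up, ← Category.assoc, ← Category.assoc, out_inn, Category.id_comp]

end Groth.Agent.H87.ExtGeneric
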