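import Groth.Agent.H87.ExtPoint
import Groth.Agent.Lib.RefHull.NormalAlg
import Groth.Agent.Lib.WeilExt.Local

/-!
# Extension of homomorphisms to groups of multiplicative type over a normal base
-/

set_option autoImplicit false
universe u

open CategoryTheory CategoryTheory.Limits MonoidalCategory CartesianMonoidalCategory MonObj GrpObj
open AlgebraicGeometry IsLocalRing
open Groth.Agent.H87.ExtPoint Groth.Agent.Lib.WeilExt.Generic

namespace Groth.Agent.H87.ExtGlobal

set_option linter.style.haveILetI false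
set_option linter.unusedSectionVars false

/-- A map from a local ring is injective if its point is a minimal point. -/
theorem injective_of_minimal {X : Scheme.{u}} (y : X) [IsDomain (X.presheaf.stalk y)] {L : Type u} [Field L]
    (f : X.presheaf.stalk y →+* L)
    (h : IsMinimalPt ((Spec.map (CommRingCat.ofHom f) ≫ X.fromSpecStalk y) (closedPoint L))) :
    Function.Injective f := by
  have hq : (Spec.map (CommRingCat.ofHom f) (closedPoint L)).asIdeal = RingHom.ker f := by
    show Ideal.comap f (maximalIdeal L) = RingHom.ker f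
    rw [isField_iff_maximalIdeal_eq.mp (Field.toIsField L), RingHom.ker_eq_comap_bot]
  rw [Scheme.Hom.comp_apply] at h
  let q : Spec (X.presheaf.stalk y) := Spec.map (CommRingCat.ofHom f) (closedPoint L)
  let z : Spec (X.presheaf.stalk y) := ⟨⊥, Ideal.isPrime_bot⟩
  have e := (X.fromSpecStalk y).isEmbedding.injective
    (h _ (((PrimeSpectrum.le_iff_specializes z q).1 (bot_le : (⊥ : Ideal _) ≤ q.asIdeal)).map
      (X.fromSpecStalk y).continuous))
  rw [RingHom.injective_iff_ker_eq_bot, ← hq]
  exact (congrArg PrimeSpectrum.asIdeal e).symm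

/-- The point of the generic point of a local ring is minimal. -/
theorem isMinimalPt_bot {X : Scheme.{u}} (x : X) [IsDomain (X.presheaf.stalk x)]
    (z : Spec (X.presheaf.stalk x)) (hz : z.asIdeal = ⊥) : IsMinimalPt (X.fromSpecStalk x z) := by
  intro w hw
  have : w ∈ Set.range (X.fromSpecStalk x) := by
    rw [Scheme.range_fromSpecStalk]
    exact hw.trans (by
      have := (specializes_closedPoint z).map (X.fromSpecStalk x).continuous
      rwa [Scheme.fromSpecStalk_closedPoint] at this)
  obtain ⟨q, rfl⟩ := this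
  have := (PrimeSpectrum.le_iff_specializes q z).2 ((X.fromSpecStalk x).isEmbedding.isInducing.specializes_iff.1 hw)
  rw [show q = z from PrimeSpectrum.ext (le_antisymm this (hz.trans_le bot_le))]

theorem apply_closedPoint_bot {O L : Type u} [CommRing O] [Field L] (f : O →+* L) (hf : Function.Injective f) :
    (Spec.map (CommRingCat.ofHom f) (closedPoint L)).asIdeal = ⊥ := by
  show Ideal.comap f (maximalIdeal L) = ⊥
  rw [isField_iff_maximalIdeal_eq.mp (Field.toIsField L), ← RingHom.ker_eq_comap_bot]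
  exact (RingHom.injective_iff_ker_eq_bot _).1 hf

variable {S : Scheme.{u}} [IsIntegral S] [IsLocallyNoetherian S] {H T : Over S} [GrpObj H] [GrpObj T]

/-- The value of a morphism on the point of an injective map agrees with the family. -/
def Agrees (F : HomFam.Fam H T (gen S)) (x : H.left) (φ : Spec (H.left.presheaf.stalk x) ⟶ T.left) : Prop :=
  φ ≫ T.hom = H.left.fromSpecStalk x ≫ H.hom ∧
  ∀ (L : Type u) [Field L] (f : H.left.presheaf.stalk x →+* L), Function.Injective f →
    ∀ (y₀ : Spec (.of L) ⟶ Spec (S.presheaf.stalk (genericPoint S)))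
      (hy₀ : y₀ ≫ gen S = Spec.map (CommRingCat.ofHom f) ≫ H.left.fromSpecStalk x ≫ H.hom),
      Spec.map (CommRingCat.ofHom f) ≫ φ =
        (F.app (Over.mk (Spec.map (CommRingCat.ofHom f) ≫ H.left.fromSpecStalk x ≫ H.hom)) y₀ hy₀
          (Over.homMk (Spec.map (CommRingCat.ofHom f) ≫ H.left.fromSpecStalk x) (Category.assoc _ _ _))).left

variable [Smooth H.hom]

theorem apply_generic (x : H.left) [IsDomain (H.left.presheaf.stalk x)] {L : Type u} [Field L]
    (f : H.left.presheaf.stalk x →+* L) (hf : Function.Injective f) :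
    (Spec.map (CommRingCat.ofHom f) ≫ H.left.fromSpecStalk x ≫ H.hom) (closedPoint L) = genericPoint S := by
  rw [Scheme.Hom.comp_apply, Scheme.Hom.comp_apply]
  exact Groth.Agent.Lib.WeilExt.Local.apply_minimal H.hom (isMinimalPt_bot x _ (apply_closedPoint_bot f hf))

/-- Agreement can be checked on the fraction field. -/
theorem agrees_of_frac (F : HomFam.Fam H T (gen S)) (x : H.left) [IsDomain (H.left.presheaf.stalk x)]
    (φ : Spec (H.left.presheaf.stalk x) ⟶ T.left) (hφ : φ ≫ T.hom = H.left.fromSpecStalk x ≫ H.hom)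
    (y₁ : Spec (.of (FractionRing (H.left.presheaf.stalk x))) ⟶ Spec (S.presheaf.stalk (genericPoint S)))
    (hy₁ : y₁ ≫ gen S = Spec.map (CommRingCat.ofHom (algebraMap (H.left.presheaf.stalk x) (FractionRing (H.left.presheaf.stalk x)))) ≫ H.left.fromSpecStalk x ≫ H.hom)
    (h : Spec.map (CommRingCat.ofHom (algebraMap (H.left.presheaf.stalk x) (FractionRing (H.left.presheaf.stalk x)))) ≫ φ =
        (F.app (Over.mk (Spec.map (CommRingCat.ofHom (algebraMap (H.left.presheaf.stalk x) (FractionRing (H.left.presheaf.stalk x)))) ≫ H.left.fromSpecStalk x ≫ H.hom)) y₁ hy₁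
          (Over.homMk (Spec.map (CommRingCat.ofHom (algebraMap (H.left.presheaf.stalk x) (FractionRing (H.left.presheaf.stalk x)))) ≫ H.left.fromSpecStalk x) (Category.assoc _ _ _))).left) :
    Agrees F x φ := by
  refine ⟨hφ, fun L _ f hf y₀ hy₀ => ?_⟩
  let am := algebraMap (H.left.presheaf.stalk x) (FractionRing (H.left.presheaf.stalk x))
  let c : FractionRing (H.left.presheaf.stalk x) →+* L := IsFractionRing.lift hf
  have hc : Spec.map (CommRingCat.ofHom f) = Spec.map (CommRingCat.ofHom c) ≫ Spec.map (CommRingCat.ofHom am) := by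
    rw [← Spec.map_comp]
    congr 1
    exact CommRingCat.hom_ext (RingHom.ext fun a => (IsFractionRing.lift_algebraMap hf a).symm)
  let r : Over.mk (Spec.map (CommRingCat.ofHom f) ≫ H.left.fromSpecStalk x ≫ H.hom) ⟶
      Over.mk (Spec.map (CommRingCat.ofHom am) ≫ H.left.fromSpecStalk x ≫ H.hom) :=
    Over.homMk (Spec.map (CommRingCat.ofHom c)) (by
      show _ ≫ _ = Spec.map (CommRingCat.ofHom f) ≫ H.left.fromSpecStalk x ≫ H.hom
      rw [hc, Category.assoc]
      rfl)
  have e := F.natural r y₁ hy₁ y₀ hy₀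
    (Over.homMk (Spec.map (CommRingCat.ofHom am) ≫ H.left.fromSpecStalk x) (Category.assoc _ _ _)) (by
      rw [← cancel_mono (gen S), Category.assoc, hy₁, hy₀]
      exact Over.w r)
  rw [show (Over.homMk (Spec.map (CommRingCat.ofHom f) ≫ H.left.fromSpecStalk x) (Category.assoc _ _ _) :
      Over.mk (Spec.map (CommRingCat.ofHom f) ≫ H.left.fromSpecStalk x ≫ H.hom) ⟶ H) =
    r ≫ Over.homMk (Spec.map (CommRingCat.ofHom am) ≫ H.left.fromSpecStalk x) (Category.assoc _ _ _) from
      Over.OverMorphism.ext ((congrArg (· ≫ H.left.fromSpecStalk x) hc).trans (Category.assoc _ _ _)), e]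
  exact ((congrArg (· ≫ φ) hc).trans (Category.assoc _ _ _)).trans (congrArg (Spec.map (CommRingCat.ofHom c) ≫ ·) h)

variable (hnorm : ∀ s : S, IsDomain (S.presheaf.stalk s) ∧ IsIntegrallyClosed (S.presheaf.stalk s))
  (hconn : ∀ s : S, _root_.IsConnected (H.hom ⁻¹' {s})) (hT : SGA3x.IsMultTypeFT T)
  (F : HomFam.Fam H T (gen S))

include hnorm hconn hT in
/-- The extension at a point of codimension at most one. -/
theorem exists_agrees_le_one (y : H.left) (h1 : ringKrullDim (H.left.presheaf.stalk y) ≤ 1) :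
    ∃ φ, Agrees F y φ := by
  haveI := (ExtNormal.normal_stalk hnorm H.hom y).1
  by_cases hy : H.hom y = genericPoint S
  · obtain ⟨ρ, -, -, hρ⟩ := exists_stalk_hom H.hom y _ hy
    let Y : Over S := Over.mk (H.left.fromSpecStalk y ≫ H.hom)
    let x : Y ⟶ H := Over.homMk (H.left.fromSpecStalk y) rfl
    let φ := F.app Y (Spec.map ρ) hρ x
    refine ⟨φ.left, Over.w φ, fun L _ f _ y₀ hy₀ => ?_⟩
    let r : Over.mk (Spec.map (CommRingCat.ofHom f) ≫ H.left.fromSpecStalk y ≫ H.hom) ⟶ Y :=
      Over.homMk (Spec.map (CommRingCat.ofHom f)) rfl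
    have e := F.natural r (Spec.map ρ) hρ y₀ hy₀ x (by
      rw [← cancel_mono (gen S), Category.assoc, hρ, hy₀]
      rfl)
    exact (congrArg CommaMorphism.left e).symm
  · obtain ⟨φ, hφ, hφF⟩ := exists_ext hnorm hconn hT F y hy h1
    obtain ⟨y₁, hy₁⟩ := exists_gen (Spec.map (CommRingCat.ofHom (algebraMap (H.left.presheaf.stalk y)
      (FractionRing (H.left.presheaf.stalk y)))) ≫ H.left.fromSpecStalk y ≫ H.hom)
      (apply_generic y _ (IsFractionRing.injective _ _))
    exact ⟨φ, agrees_of_frac F y φ hφ y₁ hy₁ (hφF y₁ hy₁)⟩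

include hnorm hconn hT in
/-- The extension at a point. -/
theorem exists_agrees (x : H.left) : ∃ φ, Agrees F x φ := by
  classical
  haveI : IsLocallyNoetherian H.left := LocallyOfFiniteType.isLocallyNoetherian H.hom
  haveI := (ExtNormal.normal_stalk hnorm H.hom x).1
  haveI := (ExtNormal.normal_stalk hnorm H.hom x).2
  haveI : IsAffineHom T.hom := MT.isAffineHom hT
  obtain ⟨_, ⟨U, hU, rfl⟩, hxU, -⟩ :=
    S.isBasis_affineOpens.exists_subset_of_mem_open (Set.mem_univ (H.hom x)) isOpen_univ
  let U' := T.hom ⁻¹ᵁ U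
  have hU' : IsAffineOpen U' := IsAffineOpen.preimage hU T.hom
  haveI : IsOpenImmersion hU'.fromSpec := hU'.isOpenImmersion_fromSpec
  -- morphisms over the local scheme at `x` land in the chart
  have hlift : ∀ {Q : Scheme.{u}} (a : Q ⟶ Spec (H.left.presheaf.stalk x)) (b : Q ⟶ T.left),
      b ≫ T.hom = a ≫ H.left.fromSpecStalk x ≫ H.hom → ∃ b' : Q ⟶ Spec Γ(T.left, U'), b' ≫ hU'.fromSpec = b := by
    intro Q a b h
    refine ⟨IsOpenImmersion.lift hU'.fromSpec b ?_, IsOpenImmersion.lift_fac _ _ _⟩
    rw [hU'.range_fromSpec]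
    rintro _ ⟨p, rfl⟩
    show T.hom (b p) ∈ U
    rw [← Scheme.Hom.comp_apply, h, Scheme.Hom.comp_apply, Scheme.Hom.comp_apply]
    have hsp : H.left.fromSpecStalk x (a p) ⤳ x := by
      have := (specializes_closedPoint (a p)).map (H.left.fromSpecStalk x).continuous
      rwa [Scheme.fromSpecStalk_closedPoint] at this
    exact (hsp.map H.hom.continuous).mem_open U.isOpen hxU
  let O := H.left.presheaf.stalk x
  let L := FractionRing O
  let am : Spec (.of L) ⟶ Spec O := Spec.map (CommRingCat.ofHom (algebraMap O L))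
  obtain ⟨y₁, hy₁⟩ := exists_gen (am ≫ H.left.fromSpecStalk x ≫ H.hom)
    (apply_generic x _ (IsFractionRing.injective O L))
  let a := F.app (Over.mk (am ≫ H.left.fromSpecStalk x ≫ H.hom)) y₁ hy₁
    (Over.homMk (am ≫ H.left.fromSpecStalk x) (Category.assoc _ _ _))
  obtain ⟨a', ha'⟩ := hlift am a.left (Over.w a)
  let gm : Γ(T.left, U') →+* L := (Spec.preimage a').hom
  have hgm : ∀ c, gm c ∈ (algebraMap O L).range := by
    intro c
    refine Groth.Agent.Lib.RefHull.NormalAlg.mem_range_of_forall_height_one (R := O) (gm c) fun P hP hP1 => ?_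
    let OP := Localization.AtPrime P
    letI algPL : Algebra OP L := (IsLocalization.lift (M := P.primeCompl) (g := algebraMap O L) fun s =>
      isUnit_iff_ne_zero.2 fun h => s.2 (by
        rw [IsFractionRing.injective O L (h.trans (map_zero _).symm)]
        exact P.zero_mem)).toAlgebra
    have hPL : ∀ r, algebraMap OP L (algebraMap O OP r) = algebraMap O L r := fun r => IsLocalization.lift_eq _ r
    let aP : Spec (.of OP) ⟶ Spec O := Spec.map (CommRingCat.ofHom (algebraMap O OP))
    let lP : Spec (.of L) ⟶ Spec (.of OP) := Spec.map (CommRingCat.ofHom (algebraMap OP L))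
    have hlP : lP ≫ aP = am := by
      rw [← Spec.map_comp]
      exact congrArg Spec.map (CommRingCat.hom_ext (RingHom.ext hPL))
    let zP : Spec (.of OP) ⟶ H.left := aP ≫ H.left.fromSpecStalk x
    let y := zP (closedPoint OP)
    let σ : H.left.presheaf.stalk y ⟶ CommRingCat.of OP := Scheme.stalkClosedPointTo zP
    have hσ : Spec.map σ ≫ H.left.fromSpecStalk y = zP := Scheme.Spec_stalkClosedPointTo_fromSpecStalk zP
    haveI := (ExtNormal.normal_stalk hnorm H.hom y).1
    have hbot : IsMinimalPt ((am ≫ H.left.fromSpecStalk x) (closedPoint L)) := by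
      rw [Scheme.Hom.comp_apply]
      exact isMinimalPt_bot x _ (apply_closedPoint_bot _ (IsFractionRing.injective O L))
    let f : H.left.presheaf.stalk y →+* L := (algebraMap OP L).comp σ.hom
    have hfS : Spec.map (CommRingCat.ofHom f) = lP ≫ Spec.map σ := Spec.map_comp σ _
    have hfpt : Spec.map (CommRingCat.ofHom f) ≫ H.left.fromSpecStalk y = am ≫ H.left.fromSpecStalk x := by
      rw [hfS, Category.assoc, hσ, ← Category.assoc, hlP]
    have hf : Function.Injective f := injective_of_minimal y f (by rw [hfpt]; exact hbot)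
    -- the point has codimension one
    have hdim : ringKrullDim (H.left.presheaf.stalk y) ≤ 1 := by
      rw [← Nat.cast_one, ← Ring.krullDimLE_iff, Ring.krullDimLE_one_iff_of_noZeroDivisors]
      intro Q hQ hQp
      let q : Spec (H.left.presheaf.stalk y) := ⟨Q, hQp⟩
      have hyx : y = H.left.fromSpecStalk x (aP (closedPoint OP)) := Scheme.Hom.comp_apply _ _ _
      have hqy : H.left.fromSpecStalk y q ⤳ y := by
        have := (specializes_closedPoint q).map (H.left.fromSpecStalk y).continuous
        rwa [Scheme.fromSpecStalk_closedPoint] at this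
      have hqx : H.left.fromSpecStalk y q ⤳ x := hqy.trans (by
        rw [hyx]
        have := (specializes_closedPoint (aP (closedPoint OP))).map (H.left.fromSpecStalk x).continuous
        rwa [Scheme.fromSpecStalk_closedPoint] at this)
      obtain ⟨p, hp⟩ : H.left.fromSpecStalk y q ∈ Set.range (H.left.fromSpecStalk x) := by
        rw [Scheme.range_fromSpecStalk]; exact hqx
      have hPc : (aP (closedPoint OP)).asIdeal = P := Localization.AtPrime.comap_maximalIdeal
      have hle : p.asIdeal ≤ P := hPc ▸ (PrimeSpectrum.le_iff_specializes _ _).2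
        ((H.left.fromSpecStalk x).isEmbedding.isInducing.specializes_iff.1 (by rw [hp, ← hyx]; exact hqy))
      by_cases hpb : p.asIdeal = ⊥
      · refine (hQ ?_).elim
        have hmin := isMinimalPt_bot x p hpb
        rw [hp] at hmin
        let z : Spec (H.left.presheaf.stalk y) := ⟨⊥, Ideal.isPrime_bot⟩
        have e := (H.left.fromSpecStalk y).isEmbedding.injective
          (hmin _ (((PrimeSpectrum.le_iff_specializes z q).1 (bot_le : (⊥ : Ideal _) ≤ Q)).map
            (H.left.fromSpecStalk y).continuous))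
        exact (congrArg PrimeSpectrum.asIdeal e).symm
      · have hpP : p.asIdeal = P := by
          by_contra hne
          have h1 := Ideal.height_strict_mono_of_isPrime (lt_of_le_of_ne hle hne)
          rw [hP1, ENat.lt_one_iff_eq_zero, Ideal.height_eq_zero_iff_eq_bot] at h1
          exact hpb h1
        have hq : q = closedPoint (H.left.presheaf.stalk y) :=
          (H.left.fromSpecStalk y).isEmbedding.injective (by
            rw [Scheme.fromSpecStalk_closedPoint, ← hp, hyx]
            exact congrArg _ (PrimeSpectrum.ext (hpP.trans hPc.symm)))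
        have hQm : Q = maximalIdeal _ := congrArg PrimeSpectrum.asIdeal hq
        exact hQm ▸ maximalIdeal.isMaximal _
    obtain ⟨ψ, hψ, hψF⟩ := exists_agrees_le_one hnorm hconn hT F y hdim
    have hbase : (Spec.map σ ≫ ψ) ≫ T.hom = aP ≫ H.left.fromSpecStalk x ≫ H.hom := by
      rw [Category.assoc, hψ, ← Category.assoc (Spec.map σ), hσ, Category.assoc]
    obtain ⟨b', hb'⟩ := hlift aP (Spec.map σ ≫ ψ) hbase
    have heq : lP ≫ b' = a' := by
      rw [← cancel_mono hU'.fromSpec, Category.assoc, hb', ha']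
      have hy₀ : y₁ ≫ gen S = Spec.map (CommRingCat.ofHom f) ≫ H.left.fromSpecStalk y ≫ H.hom :=
        hy₁.trans (((Category.assoc _ _ _).symm.trans (congrArg (· ≫ H.hom) hfpt.symm)).trans (Category.assoc _ _ _))
      rw [← Category.assoc, ← hfS, hψF L f hf y₁ hy₀]
      let i : Over.mk (Spec.map (CommRingCat.ofHom f) ≫ H.left.fromSpecStalk y ≫ H.hom) ⟶
          Over.mk (am ≫ H.left.fromSpecStalk x ≫ H.hom) := Over.homMk (𝟙 _) (by
        show 𝟙 _ ≫ am ≫ H.left.fromSpecStalk x ≫ H.hom = _ ≫ H.left.fromSpecStalk y ≫ H.hom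
        exact (Category.id_comp _).trans (((Category.assoc _ _ _).symm.trans
          (congrArg (· ≫ H.hom) hfpt.symm)).trans (Category.assoc _ _ _)))
      have e := F.natural i y₁ hy₁ y₁ hy₀
        (Over.homMk (am ≫ H.left.fromSpecStalk x) (Category.assoc _ _ _)) (Category.id_comp _)
      rw [show (Over.homMk (Spec.map (CommRingCat.ofHom f) ≫ H.left.fromSpecStalk y) (Category.assoc _ _ _) :
          Over.mk (Spec.map (CommRingCat.ofHom f) ≫ H.left.fromSpecStalk y ≫ H.hom) ⟶ H) =
        i ≫ Over.homMk (am ≫ H.left.fromSpecStalk x) (Category.assoc _ _ _) from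
          Over.OverMorphism.ext (hfpt.trans (Category.id_comp _).symm), e]
      exact Category.id_comp _
    have hring : Spec.preimage b' ≫ CommRingCat.ofHom (algebraMap OP L) = Spec.preimage a' :=
      Spec.map_injective (by rw [Spec.map_comp, Spec.map_preimage, Spec.map_preimage]; exact heq)
    obtain ⟨⟨num, den⟩, hnd⟩ := IsLocalization.surj P.primeCompl ((Spec.preimage b').hom c)
    refine ⟨num, den, den.2, ?_⟩
    rw [← hPL, ← hPL, show gm c = algebraMap OP L ((Spec.preimage b').hom c) from
      (ConcreteCategory.congr_hom hring c).symm, ← map_mul, mul_comm]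
    exact congrArg _ hnd
  let θ : O →+* L := algebraMap O L
  let eθ := RingEquiv.ofBijective θ.rangeRestrict
    ⟨fun p q hpq => IsFractionRing.injective O L (congrArg Subtype.val hpq), RingHom.rangeRestrict_surjective _⟩
  let α : Γ(T.left, U') →+* O := eθ.symm.toRingHom.comp (gm.codRestrict θ.range hgm)
  have hα : θ.comp α = gm := RingHom.ext fun c => congrArg Subtype.val (eθ.apply_symm_apply _)
  let φ : Spec O ⟶ T.left := Spec.map (CommRingCat.ofHom α) ≫ hU'.fromSpec
  have hφa : am ≫ φ = a.left := by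
    have hca : CommRingCat.ofHom α ≫ CommRingCat.ofHom θ = Spec.preimage a' := CommRingCat.hom_ext hα
    rw [← ha']
    exact (Category.assoc _ _ _).symm.trans (congrArg (· ≫ hU'.fromSpec)
      (((Spec.map_comp (CommRingCat.ofHom α) (CommRingCat.ofHom θ)).symm.trans (congrArg Spec.map hca)).trans
        (Spec.map_preimage a')))
  have hφb : φ ≫ T.hom = H.left.fromSpecStalk x ≫ H.hom := by
    haveI := hU.isOpenImmersion_fromSpec
    have hrange : ∀ g : Spec O ⟶ S, (∀ p, g p ∈ U) → ∃ g', g' ≫ hU.fromSpec = g := fun g hg =>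
      ⟨IsOpenImmersion.lift hU.fromSpec g (by rw [hU.range_fromSpec]; rintro _ ⟨p, rfl⟩; exact hg p),
        IsOpenImmersion.lift_fac _ _ _⟩
    obtain ⟨g₁, h₁⟩ := hrange (φ ≫ T.hom) fun p => by
      rw [Scheme.Hom.comp_apply]
      have : φ p ∈ Set.range hU'.fromSpec := ⟨Spec.map (CommRingCat.ofHom α) p, rfl⟩
      rw [hU'.range_fromSpec] at this
      exact this
    obtain ⟨g₂, h₂⟩ := hrange (H.left.fromSpecStalk x ≫ H.hom) fun p => by
      rw [Scheme.Hom.comp_apply]
      have hsp : H.left.fromSpecStalk x p ⤳ x := by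
        have := (specializes_closedPoint p).map (H.left.fromSpecStalk x).continuous
        rwa [Scheme.fromSpecStalk_closedPoint] at this
      exact (hsp.map H.hom.continuous).mem_open U.isOpen hxU
    rw [← h₁, ← h₂]
    congr 1
    have e : am ≫ g₁ = am ≫ g₂ := by
      rw [← cancel_mono hU.fromSpec, Category.assoc, Category.assoc, h₁, h₂, ← Category.assoc, hφa]
      exact Over.w a
    refine (Spec.map_preimage g₁).symm.trans (Eq.trans (congrArg Spec.map
      (CommRingCat.hom_ext (RingHom.ext fun r => IsFractionRing.injective O L ?_))) (Spec.map_preimage g₂))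
    have e' := congrArg Spec.preimage e
    rw [Spec.preimage_comp, Spec.preimage_comp, Spec.preimage_map] at e'
    exact ConcreteCategory.congr_hom e' r
  exact ⟨φ, agrees_of_frac F x φ hφb y₁ hy₁ hφa⟩

include hnorm in
/-- Morphisms to a separated scheme agreeing at the generic points of a smooth scheme are equal. -/
theorem eq_of_gen {X : Over S} [Smooth X.hom] {Y : Over S} [IsSeparated Y.hom] (a b : X ⟶ Y)
    (h : ∀ (ξ : X.left), IsMinimalPt ξ → X.left.fromSpecStalk ξ ≫ a.left = X.left.fromSpecStalk ξ ≫ b.left) :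
    a = b := by
  haveI : ∀ x : X.left, IsDomain (X.left.presheaf.stalk x) := fun x => (ExtNormal.normal_stalk hnorm X.hom x).1
  haveI : IsReduced X.left := Groth.Agent.Lib.WeilExt.Local.isReduced_of_domain
  exact Over.OverMorphism.ext (Groth.Agent.Lib.WeilExt.Local.eq_of_fromSpecStalk Y.hom a.left b.left
    ((Over.w a).trans (Over.w b).symm) h)

theorem isField_of_minimal {X : Scheme.{u}} {ξ : X} (hξ : IsMinimalPt ξ) [IsDomain (X.presheaf.stalk ξ)] :
    IsField (X.presheaf.stalk ξ) := by
  let z : Spec (X.presheaf.stalk ξ) := ⟨⊥, Ideal.isPrime_bot⟩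
  have h := (specializes_closedPoint z).map (X.fromSpecStalk ξ).continuous
  rw [Scheme.fromSpecStalk_closedPoint] at h
  have hz : z = closedPoint (X.presheaf.stalk ξ) := (X.fromSpecStalk ξ).isEmbedding.injective
    ((hξ _ h).trans Scheme.fromSpecStalk_closedPoint.symm)
  exact isField_iff_maximalIdeal_eq.mpr (congrArg PrimeSpectrum.asIdeal hz).symm

/-- At a minimal point the extension is given by the family. -/
theorem app_of_minimal {F : HomFam.Fam H T (gen S)} {ξ : H.left} [IsDomain (H.left.presheaf.stalk ξ)]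
    (hmin : IsMinimalPt ξ) {φ : Spec (H.left.presheaf.stalk ξ) ⟶ T.left} (hφ : Agrees F ξ φ)
    (Y : Over S) (y : Y.left ⟶ Spec (S.presheaf.stalk (genericPoint S))) (hy : y ≫ gen S = Y.hom) (x : Y ⟶ H)
    (l : Y.left ⟶ Spec (H.left.presheaf.stalk ξ)) (hl : l ≫ H.left.fromSpecStalk ξ = x.left) :
    (F.app Y y hy x).left = l ≫ φ := by
  letI := (isField_of_minimal hmin).toField
  obtain ⟨ρ, -, -, hρ⟩ := exists_stalk_hom H.hom ξ _ (Groth.Agent.Lib.WeilExt.Local.apply_minimal H.hom hmin)
  let i0 := Spec.map (CommRingCat.ofHom (RingHom.id (H.left.presheaf.stalk ξ)))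
  have hid : ∀ {Z : Scheme.{u}} (z : Spec (H.left.presheaf.stalk ξ) ⟶ Z), i0 ≫ z = z := fun z =>
    (congrArg (· ≫ z) (Spec.map_id (H.left.presheaf.stalk ξ))).trans (Category.id_comp z)
  have hρ' : Spec.map ρ ≫ gen S = i0 ≫ H.left.fromSpecStalk ξ ≫ H.hom :=
    hρ.trans (hid (H.left.fromSpecStalk ξ ≫ H.hom)).symm
  have e2 := hφ.2 (H.left.presheaf.stalk ξ) (RingHom.id _) Function.injective_id (Spec.map ρ) hρ'
  let r : Y ⟶ Over.mk (i0 ≫ H.left.fromSpecStalk ξ ≫ H.hom) :=
    Over.homMk l ((congrArg (l ≫ ·) (hid (H.left.fromSpecStalk ξ ≫ H.hom))).trans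
      ((Category.assoc _ _ _).symm.trans ((congrArg (· ≫ H.hom) hl).trans (Over.w x))))
  let x₀ : Over.mk (i0 ≫ H.left.fromSpecStalk ξ ≫ H.hom) ⟶ H :=
    Over.homMk (i0 ≫ H.left.fromSpecStalk ξ) (Category.assoc _ _ _)
  have hrx : r ≫ x₀ = x :=
    Over.OverMorphism.ext ((congrArg (l ≫ ·) (hid (H.left.fromSpecStalk ξ))).trans hl)
  have hyr : r.left ≫ Spec.map ρ = y := by
    rw [← cancel_mono (gen S), hy]
    exact (Category.assoc _ _ _).trans ((congrArg (l ≫ ·) hρ').trans (Over.w r))
  have e := F.natural r (Spec.map ρ) hρ' y hy x₀ hyr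
  rw [hrx] at e
  rw [e]
  exact congrArg (l ≫ ·) (e2.symm.trans (hid φ))

include hnorm hconn hT in
/-- **Extension of generic homomorphisms.** -/
theorem existsUnique_hom :
    ∃! u : H ⟶ T, IsMonHom u ∧ ∀ (Y : Over S) (y : Y.left ⟶ Spec (S.presheaf.stalk (genericPoint S)))
      (hy : y ≫ gen S = Y.hom) (x : Y ⟶ H), x ≫ u = F.app Y y hy x := by
  classical
  haveI : IsLocallyNoetherian H.left := LocallyOfFiniteType.isLocallyNoetherian H.hom
  haveI : IsAffineHom T.hom := MT.isAffineHom hT
  haveI : ∀ x : H.left, IsDomain (H.left.presheaf.stalk x) := fun x => (ExtNormal.normal_stalk hnorm H.hom x).1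
  haveI : LocallyOfFinitePresentation T.hom := MT.locallyOfFinitePresentation hT
  choose φ hφ using exists_agrees hnorm hconn hT F
  obtain ⟨g, hg, hgξ⟩ := Groth.Agent.Lib.WeilExt.Local.exists_of_local H.hom T.hom φ (fun x => (hφ x).1)
    (fun ξ x hsp hmin => by
      letI := (isField_of_minimal hmin).toField
      let f := (H.left.presheaf.stalkSpecializes hsp).hom
      have hf : Function.Injective f := injective_of_minimal x f (by
        rw [CommRingCat.ofHom_hom, Scheme.SpecMap_stalkSpecializes_fromSpecStalk, Scheme.fromSpecStalk_closedPoint]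
        exact hmin)
      obtain ⟨ρ, -, -, hρ⟩ := exists_stalk_hom H.hom ξ _ (Groth.Agent.Lib.WeilExt.Local.apply_minimal H.hom hmin)
      have hρ' : Spec.map ρ ≫ gen S = Spec.map (CommRingCat.ofHom f) ≫ H.left.fromSpecStalk x ≫ H.hom := by
        rw [hρ, ← Category.assoc, CommRingCat.ofHom_hom, Scheme.SpecMap_stalkSpecializes_fromSpecStalk]
      have e1 := (hφ x).2 (H.left.presheaf.stalk ξ) f hf (Spec.map ρ) hρ'
      have e3 := app_of_minimal hmin (hφ ξ) (Over.mk (Spec.map (CommRingCat.ofHom f) ≫ H.left.fromSpecStalk x ≫ H.hom))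
        (Spec.map ρ) hρ' (Over.homMk (Spec.map (CommRingCat.ofHom f) ≫ H.left.fromSpecStalk x) (Category.assoc _ _ _))
        (𝟙 (Spec (H.left.presheaf.stalk ξ))) ((Category.id_comp (H.left.fromSpecStalk ξ)).trans
          (Scheme.SpecMap_stalkSpecializes_fromSpecStalk hsp).symm)
      exact e1.trans (e3.trans (Category.id_comp (φ ξ))))
  let u : H ⟶ T := Over.homMk g hg
  -- agreement at the generic points
  have hgen : ∀ (ξ : H.left), IsMinimalPt ξ → ∀ (Y : Over S) (y : Y.left ⟶ Spec (S.presheaf.stalk (genericPoint S)))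
      (hy : y ≫ gen S = Y.hom) (x : Y ⟶ H) (l : Y.left ⟶ Spec (H.left.presheaf.stalk ξ)),
      l ≫ H.left.fromSpecStalk ξ = x.left → x ≫ u = F.app Y y hy x := by
    intro ξ hmin Y y hy x l hl
    refine Over.OverMorphism.ext ?_
    rw [app_of_minimal hmin (hφ ξ) Y y hy x l hl, ← hgξ ξ hmin]
    exact ((congrArg (· ≫ g) hl).symm.trans (Category.assoc _ _ _))
  -- agreement with the family
  have hfam : ∀ (Y : Over S) (y : Y.left ⟶ Spec (S.presheaf.stalk (genericPoint S)))
      (hy : y ≫ gen S = Y.hom) (x : Y ⟶ H), x ≫ u = F.app Y y hy x := by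
    let Z : Over S := Over.mk (gen S)
    letI : Field (S.presheaf.stalk (genericPoint S)) := inferInstanceAs (Field S.functionField)
    haveI : Smooth (snd H Z).left := inferInstanceAs (Smooth (pullback.snd H.hom (gen S)))
    haveI : IsReduced (H ⊗ Z).left := Groth.Agent.Lib.WeilExt.Basic.isReduced_of_smooth
      (R := S.presheaf.stalk (genericPoint S)) (snd H Z).left
    have key : fst H Z ≫ u = F.toMor := by
      refine Over.OverMorphism.ext (Groth.Agent.Lib.WeilExt.Local.eq_of_fromSpecStalk T.hom _ _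
        ((Over.w _).trans (Over.w F.toMor).symm) fun ζ hζ => ?_)
      let ξ := (fst H Z).left ζ
      have hmin : IsMinimalPt ξ := fun z hz => by
        have hzη : H.hom z = genericPoint S := by
          refine Specializes.antisymm ?_ ((genericPoint_spec S).specializes trivial) |>.eq
          have h1 : H.hom ξ ⤳ genericPoint S := by
            rw [← Scheme.Hom.comp_apply, Over.w (fst H Z)]
            show (H ⊗ Z).hom ζ ⤳ _
            rw [← Over.w (snd H Z), Scheme.Hom.comp_apply]
            have := (specializes_closedPoint ((snd H Z).left ζ)).map (gen S).continuous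
            rwa [Scheme.fromSpecStalk_closedPoint] at this
          exact (hz.map H.hom.continuous).trans h1
        obtain ⟨w, hw, -⟩ := Scheme.Pullback.exists_preimage_pullback (f := H.hom) (g := gen S) z
          (closedPoint _) (hzη.trans Scheme.fromSpecStalk_closedPoint.symm)
        have : w ⤳ ζ := by
          rw [← (pullback.fst H.hom (gen S)).isEmbedding.isInducing.specializes_iff, hw]
          exact hz
        rw [← hw, hζ w this]
        rfl
      obtain ⟨σ, -, -, hσ⟩ := exists_stalk_hom (fst H Z).left ζ ξ rfl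
      let Y : Over S := Over.mk ((H ⊗ Z).left.fromSpecStalk ζ ≫ (H ⊗ Z).hom)
      let z : Y ⟶ H ⊗ Z := Over.homMk ((H ⊗ Z).left.fromSpecStalk ζ) rfl
      have h1 := hgen ξ hmin Y (z ≫ snd H Z).left (Over.w (z ≫ snd H Z)) (z ≫ fst H Z) (Spec.map σ) hσ
      rw [← HomFam.Fam.lift_toMor F (z ≫ fst H Z) (z ≫ snd H Z), ← comp_lift, lift_fst_snd,
        Category.comp_id, Category.assoc] at h1
      exact congrArg CommaMorphism.left h1
    intro Y y hy x
    refine Eq.trans ?_ (HomFam.Fam.lift_toMor F x (Over.homMk y hy : Y ⟶ Z))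
    rw [← key]
    exact (lift_fst_assoc x (Over.homMk y hy : Y ⟶ Z) u).symm
  -- homomorphism
  have hsm : Smooth (H ⊗ H).hom := inferInstanceAs (Smooth (pullback.fst H.hom H.hom ≫ H.hom))
  have hmul : μ[H] ≫ u = (fst H H ≫ u) * (snd H H ≫ u) := by
    refine eq_of_gen hnorm _ _ fun ξ hmin => ?_
    let Y : Over S := Over.mk ((H ⊗ H).left.fromSpecStalk ξ ≫ (H ⊗ H).hom)
    let z : Y ⟶ H ⊗ H := Over.homMk ((H ⊗ H).left.fromSpecStalk ξ) rfl
    obtain ⟨ρ, -, -, hρ⟩ := exists_stalk_hom (H ⊗ H).hom ξ _
      (Groth.Agent.Lib.WeilExt.Local.apply_minimal (H ⊗ H).hom hmin)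
    have h : z ≫ μ[H] ≫ u = z ≫ ((fst H H ≫ u) * (snd H H ≫ u)) := by
      rw [comp_mul, ← Category.assoc z, ← Category.assoc z (fst H H), ← Category.assoc z (snd H H),
        hfam Y (Spec.map ρ) hρ, hfam Y (Spec.map ρ) hρ, hfam Y (Spec.map ρ) hρ, ← F.mul,
        ← comp_mul]
      congr 2
      rw [Hom.mul_def, lift_fst_snd, Category.id_comp]
    exact congrArg CommaMorphism.left h
  haveI hu : IsMonHom u := by
    refine HomDS.isMonHom_of_points u fun X a b => ?_
    have h := congrArg (lift a b ≫ ·) hmul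
    simp only [comp_mul, lift_fst_assoc, lift_snd_assoc] at h
    rwa [← Category.assoc, ← Hom.mul_def] at h
  refine ⟨u, ⟨hu, hfam⟩, fun v hv => eq_of_gen hnorm v u fun ξ hmin => ?_⟩
  let Y : Over S := Over.mk (H.left.fromSpecStalk ξ ≫ H.hom)
  let z : Y ⟶ H := Over.homMk (H.left.fromSpecStalk ξ) rfl
  obtain ⟨ρ, -, -, hρ⟩ := exists_stalk_hom H.hom ξ _ (Groth.Agent.Lib.WeilExt.Local.apply_minimal H.hom hmin)
  exact congrArg CommaMorphism.left ((hv.2 Y (Spec.map ρ) hρ z).trans (hfam Y (Spec.map ρ) hρ z).symm)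

end Groth.Agent.H87.ExtGlobal
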