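import Groth.Agent.Lib.DescAlg.SmoothNormal
import Mathlib.AlgebraicGeometry.Morphisms.Smooth
import Mathlib.AlgebraicGeometry.FunctionField
import Mathlib.RingTheory.DiscreteValuationRing.TFAE
import Mathlib.RingTheory.Ideal.GoingDown
import Mathlib.RingTheory.RingHom.Flat

/-!
# Local rings of schemes smooth over a normal scheme, and codimension one
-/

set_option autoImplicit false
universe u

open CategoryTheory AlgebraicGeometry IsLocalRing

namespace Groth.Agent.H87.ExtNormal

set_option linter.style.haveILetI false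

/-- The local rings of a scheme smooth over a normal locally Noetherian scheme are normal domains. -/
theorem normal_stalk {S X : Scheme.{u}} [IsLocallyNoetherian S]
    (hnorm : ∀ s : S, IsDomain (S.presheaf.stalk s) ∧ IsIntegrallyClosed (S.presheaf.stalk s))
    (f : X ⟶ S) [Smooth f] (x : X) :
    IsDomain (X.presheaf.stalk x) ∧ IsIntegrallyClosed (X.presheaf.stalk x) := by
  obtain ⟨_, ⟨U, hU, rfl⟩, hxU, -⟩ :=
    S.isBasis_affineOpens.exists_subset_of_mem_open (Set.mem_univ (f x)) isOpen_univ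
  obtain ⟨_, ⟨V, hV, rfl⟩, hxV, hle⟩ :=
    X.isBasis_affineOpens.exists_subset_of_mem_open (show x ∈ f ⁻¹ᵁ U from hxU) (f ⁻¹ᵁ U).isOpen
  have hA : EGA4.IsNormalRing Γ(S, U) := fun p hp => by
    have hmem : hU.fromSpec ⟨p, hp⟩ ∈ U := by
      rw [← SetLike.mem_coe, ← hU.range_fromSpec]
      exact ⟨_, rfl⟩
    letI : Algebra Γ(S, U) (S.presheaf.stalk (hU.fromSpec ⟨p, hp⟩)) :=
      TopCat.Presheaf.algebra_section_stalk S.presheaf ⟨_, hmem⟩
    haveI : IsLocalization p.primeCompl (S.presheaf.stalk (hU.fromSpec ⟨p, hp⟩)) :=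
      hU.isLocalization_stalk' ⟨p, hp⟩ hmem
    let e := (IsLocalization.algEquiv p.primeCompl (S.presheaf.stalk (hU.fromSpec ⟨p, hp⟩))
      (Localization.AtPrime p)).toRingEquiv
    obtain ⟨h1, h2⟩ := hnorm (hU.fromSpec ⟨p, hp⟩)
    exact ⟨MulEquiv.isDomain _ e.symm.toMulEquiv, IsIntegrallyClosed.of_equiv e⟩
  haveI : IsNoetherianRing Γ(S, U) := IsLocallyNoetherian.component_noetherian ⟨U, hU⟩
  letI := (f.appLE U V hle).hom.toAlgebra
  haveI : Algebra.Smooth Γ(S, U) Γ(X, V) :=
    HasRingHomProperty.appLE @Smooth f inferInstance ⟨U, hU⟩ ⟨V, hV⟩ hle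
  haveI := hV.isLocalization_stalk ⟨x, hxV⟩
  letI := TopCat.Presheaf.algebra_section_stalk X.presheaf ⟨x, hxV⟩
  let q := (hV.primeIdealOf ⟨x, hxV⟩).asIdeal
  let e := (IsLocalization.algEquiv q.primeCompl (Localization.AtPrime q)
    (X.presheaf.stalk x)).toRingEquiv
  obtain ⟨h1, h2⟩ := Groth.Agent.Lib.DescAlg.SmoothNormal.isNormalRing_of_smooth
    (B := Γ(X, V)) hA q
  exact ⟨MulEquiv.isDomain _ e.symm.toMulEquiv, IsIntegrallyClosed.of_equiv e⟩

/-- A normal Noetherian local domain of dimension at most one which is not a field is a discrete valuation ring. -/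
theorem isDVR {O : Type u} [CommRing O] [IsLocalRing O] [IsNoetherianRing O] [IsDomain O]
    [IsIntegrallyClosed O] (h1 : ∀ P : Ideal O, P ≠ ⊥ → P.IsPrime → P = maximalIdeal O) (h : ¬ IsField O) :
    IsDiscreteValuationRing O :=
  ((IsDiscreteValuationRing.TFAE O h).out 0 1).2
    ((((tfae_of_isNoetherianRing_of_isLocalRing_of_isDomain (R := O)).out 3 1 :
      (IsIntegrallyClosed O ∧ ∀ P : Ideal O, P ≠ ⊥ → P.IsPrime → P = maximalIdeal O) ↔ ValuationRing O)).1
      ⟨inferInstance, h1⟩)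

theorem prime_eq_maximal {O : Type u} [CommRing O] [IsLocalRing O] [IsDomain O]
    (h : ringKrullDim O ≤ 1) (P : Ideal O) (hne : P ≠ ⊥) (hP : P.IsPrime) : P = maximalIdeal O := by
  haveI : Ring.KrullDimLE 1 O := Ring.krullDimLE_iff.2 h
  exact eq_maximalIdeal (Ring.krullDimLE_one_iff_of_noZeroDivisors.1 inferInstance P hne hP)

/-- Dimension at most one descends along flat local maps of domains. -/
theorem prime_eq_maximal_of_flat {A B : Type u} [CommRing A] [IsLocalRing A] [CommRing B] [IsLocalRing B]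
    [IsDomain B] (φ : A →+* B) [IsLocalHom φ] (hφ : φ.Flat) (hinj : Function.Injective φ)
    (h : ringKrullDim B ≤ 1) (P : Ideal A) (hne : P ≠ ⊥) (hP : P.IsPrime) : P = maximalIdeal A := by
  algebraize [φ]
  haveI : Algebra.HasGoingDown A B := Algebra.HasGoingDown.of_flat
  haveI : (maximalIdeal B).LiesOver (maximalIdeal A) :=
    ⟨(show Ideal.comap φ (maximalIdeal B) = maximalIdeal A from
      ((local_hom_TFAE φ).out 0 4).1 ‹IsLocalHom φ›).symm⟩
  obtain ⟨Q, -, hQ, hQP⟩ := Ideal.exists_ideal_le_liesOver_of_le (p := P) (q := maximalIdeal A)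
    (maximalIdeal B) (le_maximalIdeal hP.ne_top)
  have hQne : Q ≠ ⊥ := fun e => hne (by
    rw [hQP.over, e, Ideal.under_def, ← RingHom.ker_eq_comap_bot]
    exact (RingHom.injective_iff_ker_eq_bot _).1 hinj)
  rw [hQP.over, prime_eq_maximal h Q hQne hQ]
  exact ((local_hom_TFAE φ).out 0 4).1 ‹IsLocalHom φ›

end Groth.Agent.H87.ExtNormal
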