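import Groth.Agent.H87.HomPts
import Groth.Agent.H87.MT
import Groth.Agent.H87.Charts
import Groth.Agent.H46.Dvr
import Mathlib.RingTheory.Ideal.GoingDown

/-!
# Generating characters of a group of multiplicative type over a dominating discrete valuation ring
-/

set_option autoImplicit false
universe u

open CategoryTheory CategoryTheory.Limits MonoidalCategory CartesianMonoidalCategory MonObj GrpObj
open AlgebraicGeometry IsLocalRing
open scoped TensorProduct
open Groth.Agent.Lib.RedPts Groth.Agent.Lib.Tori Groth.Agent.H87.HomPts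

namespace Groth.Agent.H87.ExtSplit

set_option linter.style.haveILetI false

variable {R : Type u} [CommRing R] {C : Type u} [CommRing C] [HopfAlgebra R C]

/-- The product of two points. -/
noncomputable def mulAlg {Q : Type u} [CommRing Q] [Algebra R Q] (γ γ' : C →ₐ[R] Q) : C →ₐ[R] Q :=
  (Algebra.TensorProduct.lift γ γ' fun _ _ => .all _ _).comp (Bialgebra.comulAlgHom R C)

theorem exists_alg {Q : Type u} [CommRing Q] [Algebra R Q] (x : pt R Q ⟶ pt R C) :
    ∃ γ : C →ₐ[R] Q, x = pm γ := by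
  refine ⟨⟨(Spec.preimage x.left).hom, fun a => ?_⟩, Over.OverMorphism.ext (Spec.map_preimage _).symm⟩
  have : CommRingCat.ofHom (algebraMap R C) ≫ Spec.preimage x.left = CommRingCat.ofHom (algebraMap R Q) :=
    Spec.map_injective (by rw [Spec.map_comp, Spec.map_preimage]; exact Over.w x)
  exact ConcreteCategory.congr_hom this a

theorem pm_injective {Q : Type u} [CommRing Q] [Algebra R Q] :
    Function.Injective (pm : (C →ₐ[R] Q) → (pt R Q ⟶ pt R C)) := fun γ γ' h =>
  AlgHom.coe_ringHom_injective (congrArg CommRingCat.Hom.hom (Spec.map_injective (congrArg CommaMorphism.left h)))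

theorem pm_mul {Q : Type u} [CommRing Q] [Algebra R Q] (γ γ' : C →ₐ[R] Q) :
    pm γ * pm γ' = pm (mulAlg γ γ') := by
  have key := (Spec.mapMulEquiv (R := R) (S := C) (T := Q)).map_mul (WithConv.toConv γ) (WithConv.toConv γ')
  have e : WithConv.toConv (mulAlg γ γ') = WithConv.toConv γ * WithConv.toConv γ' :=
    WithConv.ofConv_injective (AlgHom.ext fun c =>
      (AlgHom.convMul_apply (WithConv.toConv γ) (WithConv.toConv γ') c).symm)
  rw [← e] at key
  exact key.symm

section Chars

variable {D : Type u} [CommRing D] [Algebra R D]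

variable (D) in
/-- The first projection. -/
noncomputable def i₁ : D ⊗[R] C →ₐ[D] D ⊗[R] (C ⊗[R] C) :=
  Algebra.TensorProduct.map (AlgHom.id D D) Algebra.TensorProduct.includeLeft

variable (D) in
/-- The second projection. -/
noncomputable def i₂ : D ⊗[R] C →ₐ[D] D ⊗[R] (C ⊗[R] C) :=
  Algebra.TensorProduct.map (AlgHom.id D D) Algebra.TensorProduct.includeRight

variable (D C) in
/-- The comultiplication after base change. -/
noncomputable def dl : D ⊗[R] C →ₐ[D] D ⊗[R] (C ⊗[R] C) :=
  Algebra.TensorProduct.map (AlgHom.id D D) (Bialgebra.comulAlgHom R C)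

/-- `h` is a character. -/
def IsChar (h : D ⊗[R] C) : Prop := dl C D h = i₁ D h * i₂ D h

/-- Evaluation at a point. -/
noncomputable def ev {Q : Type u} [CommRing Q] [Algebra D Q] [Algebra R Q] [IsScalarTower R D Q]
    (γ : C →ₐ[R] Q) : D ⊗[R] C →ₐ[D] Q :=
  Algebra.TensorProduct.lift (Algebra.ofId D Q) γ fun _ _ => .all _ _

theorem ev_tmul {Q : Type u} [CommRing Q] [Algebra D Q] [Algebra R Q] [IsScalarTower R D Q]
    (γ : C →ₐ[R] Q) (d : D) (c : C) : ev γ (d ⊗ₜ c) = algebraMap D Q d * γ c := by simp [ev, Algebra.ofId_apply]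

theorem ev_mul {Q : Type u} [CommRing Q] [Algebra D Q] [Algebra R Q] [IsScalarTower R D Q]
    (γ γ' : C →ₐ[R] Q) {h : D ⊗[R] C} (hh : IsChar h) : ev (mulAlg γ γ') h = ev γ h * ev γ' h := by
  let l : D ⊗[R] (C ⊗[R] C) →ₐ[D] Q := Algebra.TensorProduct.lift (Algebra.ofId D Q)
    (Algebra.TensorProduct.lift γ γ' fun _ _ => .all _ _) fun _ _ => .all _ _
  have h0 : ev (mulAlg γ γ') = l.comp (dl C D) :=
    Algebra.TensorProduct.ext (by ext) (AlgHom.ext fun c => by simp [ev, mulAlg, l, dl])
  have h1 : ev γ = l.comp (i₁ D) :=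
    Algebra.TensorProduct.ext (by ext) (AlgHom.ext fun c => by simp [ev, l, i₁])
  have h2 : ev γ' = l.comp (i₂ D) :=
    Algebra.TensorProduct.ext (by ext) (AlgHom.ext fun c => by simp [ev, l, i₂])
  rw [h0, h1, h2, AlgHom.comp_apply, AlgHom.comp_apply, AlgHom.comp_apply, hh, map_mul]

variable {M : Type} [AddCommGroup M]

/-- A point over the base as a point over `D`. -/
noncomputable def toD (Q : Type u) [CommRing Q] [Algebra D Q] [Algebra R Q] [IsScalarTower R D Q] :
    (Over.map (stm R D)).obj (pt D Q) ⟶ pt R Q :=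
  Over.homMk (𝟙 (Spec (.of Q))) (by
    show 𝟙 _ ≫ stm R Q = stm D Q ≫ stm R D
    rw [Category.id_comp, ← Spec.map_comp, ← CommRingCat.ofHom_comp, ← IsScalarTower.algebraMap_eq])

/-- A point over `D` as a point over the base. -/
noncomputable def ofD (Q : Type u) [CommRing Q] [Algebra D Q] [Algebra R Q] [IsScalarTower R D Q] :
    pt R Q ⟶ (Over.map (stm R D)).obj (pt D Q) :=
  Over.homMk (𝟙 (Spec (.of Q))) (by
    show 𝟙 _ ≫ stm D Q ≫ stm R D = stm R Q
    rw [Category.id_comp, ← Spec.map_comp, ← CommRingCat.ofHom_comp, ← IsScalarTower.algebraMap_eq])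

set_option backward.isDefEq.respectTransparency false in
/-- **The characters of a chart.** -/
theorem exists_chars (e : Grp.mk (Red.bc (stm R D) (pt R C)) ≅ Grp.mk (Red.DS (Spec (.of D)) M)) :
    ∃ h : M → D ⊗[R] C, (∀ m m', h (m + m') = h m * h m') ∧ h 0 = 1 ∧ (∀ m, IsChar (h m)) ∧
      ∀ c : C, (1 : D) ⊗ₜ[R] c ∈ Submodule.span D (Set.range h) := by
  let ee := BaseChange.overIso e
  let pp : ∀ (Q : Type u) [CommRing Q] [Algebra D Q] [Algebra R Q] [IsScalarTower R D Q],
      (C →ₐ[R] Q) → (pt D Q ⟶ Red.DS (Spec (.of D)) M) := fun Q _ _ _ _ γ =>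
    BC.up (stm R D) (toD Q ≫ pm γ) ≫ ee.hom
  let val : ∀ (Q : Type u) [CommRing Q] [Algebra D Q] [Algebra R Q] [IsScalarTower R D Q],
      (C →ₐ[R] Q) → M → Q := fun Q _ _ _ _ γ m =>
    (Scheme.ΓSpecIso (.of Q)).hom (Gm.dsFn (pp Q γ) m)
  have val_add : ∀ (Q : Type u) [CommRing Q] [Algebra D Q] [Algebra R Q] [IsScalarTower R D Q]
      (γ : C →ₐ[R] Q) (m m' : M), val Q γ (m + m') = val Q γ m * val Q γ m' :=
    fun Q _ _ _ _ γ m m' => (congrArg _ (Gm.dsFn_add _ m m')).trans
      (map_mul (Scheme.ΓSpecIso (.of Q)).hom.hom _ _)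
  have val_zero : ∀ (Q : Type u) [CommRing Q] [Algebra D Q] [Algebra R Q] [IsScalarTower R D Q]
      (γ : C →ₐ[R] Q), val Q γ 0 = 1 :=
    fun Q _ _ _ _ γ => (congrArg _ (Gm.dsFn_zero _)).trans (map_one (Scheme.ΓSpecIso (.of Q)).hom.hom)
  have pp_mul : ∀ (Q : Type u) [CommRing Q] [Algebra D Q] [Algebra R Q] [IsScalarTower R D Q]
      (γ γ' : C →ₐ[R] Q), pp Q (mulAlg γ γ') = pp Q γ * pp Q γ' := fun Q _ _ _ _ γ γ' => by
    show BC.up (stm R D) (toD Q ≫ pm (mulAlg γ γ')) ≫ ee.hom = _
    rw [← pm_mul, comp_mul, BC.up_mul]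
    exact MonObj.mul_comp (BC.up (stm R D) (toD Q ≫ pm γ)) (BC.up (stm R D) (toD Q ≫ pm γ')) ee.hom
  have val_mul : ∀ (Q : Type u) [CommRing Q] [Algebra D Q] [Algebra R Q] [IsScalarTower R D Q]
      (γ γ' : C →ₐ[R] Q) (m : M), val Q (mulAlg γ γ') m = val Q γ m * val Q γ' m :=
    fun Q _ _ _ _ γ γ' m => by
      show (Scheme.ΓSpecIso (.of Q)).hom (Gm.dsFn (pp Q (mulAlg γ γ')) m) = _
      rw [pp_mul, Gm.dsFn_mul]
      exact map_mul (Scheme.ΓSpecIso (.of Q)).hom.hom _ _
  have val_nat : ∀ (Q Q' : Type u) [CommRing Q] [Algebra D Q] [Algebra R Q] [IsScalarTower R D Q]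
      [CommRing Q'] [Algebra D Q'] [Algebra R Q'] [IsScalarTower R D Q']
      (σ : Q →ₐ[D] Q') (γ : C →ₐ[R] Q) (m : M),
      val Q' ((σ.restrictScalars R).comp γ) m = σ (val Q γ m) := by
    intro Q Q' _ _ _ _ _ _ _ _ σ γ m
    have e1 : (Over.map (stm R D)).map (pm σ) ≫ toD Q = toD Q' ≫ pm (σ.restrictScalars R) :=
      Over.OverMorphism.ext ((Category.comp_id _).trans (Category.id_comp _).symm)
    have e2 : pp Q' ((σ.restrictScalars R).comp γ) = pm σ ≫ pp Q γ := by
      show BC.up (stm R D) (toD Q' ≫ pm _) ≫ ee.hom = pm σ ≫ BC.up (stm R D) (toD Q ≫ pm γ) ≫ ee.hom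
      rw [← pm_comp, ← Category.assoc (toD Q'), ← e1, Category.assoc, ← Category.assoc (pm σ)]
      congr 1
      apply BC.down_injective
      rw [BC.down_comp, BC.down_up, BC.down_up]
    show (Scheme.ΓSpecIso (.of Q')).hom (Gm.dsFn (pp Q' _) m) = _
    rw [e2, Gm.dsFn_comp]
    exact ConcreteCategory.congr_hom (Scheme.ΓSpecIso_naturality (CommRingCat.ofHom σ.toRingHom)) _
  have val_ext : ∀ (Q : Type u) [CommRing Q] [Algebra D Q] [Algebra R Q] [IsScalarTower R D Q]
      (γ γ' : C →ₐ[R] Q), (∀ m, val Q γ m = val Q γ' m) → γ = γ' := by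
    intro Q _ _ _ _ γ γ' h
    have e1 : pp Q γ = pp Q γ' := Gm.dsFn_ext fun m =>
      ((ConcreteCategory.isIso_iff_bijective (Scheme.ΓSpecIso (.of Q)).hom).mp inferInstance).1 (h m)
    have e2 : toD (R := R) (D := D) Q ≫ pm γ = toD (R := R) (D := D) Q ≫ pm γ' := by
      have := (cancel_mono ee.hom).1 e1
      rw [← BC.down_up (f := stm R D) (toD Q ≫ pm γ), this, BC.down_up]
    exact pm_injective (Over.OverMorphism.ext
      ((Category.id_comp _).symm.trans ((congrArg CommaMorphism.left e2).trans (Category.id_comp _))))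
  let h : M → D ⊗[R] C := fun m => val _ Algebra.TensorProduct.includeRight m
  have val_ev : ∀ (Q : Type u) [CommRing Q] [Algebra D Q] [Algebra R Q] [IsScalarTower R D Q]
      (γ : C →ₐ[R] Q) (m : M), val Q γ m = ev γ (h m) := by
    intro Q _ _ _ _ γ m
    show val Q γ m = ev γ (val (D ⊗[R] C) Algebra.TensorProduct.includeRight m)
    rw [← val_nat (D ⊗[R] C) Q (ev γ) Algebra.TensorProduct.includeRight m]
    congr 1
    exact AlgHom.ext fun c => by simp [ev_tmul]
  refine ⟨h, fun m m' => val_add _ _ m m', val_zero _ _, fun m => ?_, fun c => ?_⟩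
  · -- group-like
    let a₁ : C →ₐ[R] D ⊗[R] (C ⊗[R] C) :=
      Algebra.TensorProduct.includeRight.comp Algebra.TensorProduct.includeLeft
    let a₂ : C →ₐ[R] D ⊗[R] (C ⊗[R] C) :=
      Algebra.TensorProduct.includeRight.comp Algebra.TensorProduct.includeRight
    have e0 : mulAlg a₁ a₂ = Algebra.TensorProduct.includeRight.comp (Bialgebra.comulAlgHom R C) := by
      rw [mulAlg]
      congr 1
      exact Algebra.TensorProduct.ext' fun x y => by simp [a₁, a₂]
    have key := val_mul _ a₁ a₂ m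
    rw [e0] at key
    have f0 : (ev (Algebra.TensorProduct.includeRight.comp (Bialgebra.comulAlgHom R C)) :
        D ⊗[R] C →ₐ[D] D ⊗[R] (C ⊗[R] C)) = dl C D :=
      Algebra.TensorProduct.ext (by ext) (AlgHom.ext fun c => by simp [ev, dl])
    have f1 : (ev a₁ : D ⊗[R] C →ₐ[D] D ⊗[R] (C ⊗[R] C)) = i₁ D :=
      Algebra.TensorProduct.ext (by ext) (AlgHom.ext fun c => by simp [ev, i₁, a₁])
    have f2 : (ev a₂ : D ⊗[R] C →ₐ[D] D ⊗[R] (C ⊗[R] C)) = i₂ D :=
      Algebra.TensorProduct.ext (by ext) (AlgHom.ext fun c => by simp [ev, i₂, a₂])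
    rw [val_ev, val_ev, val_ev, f0, f1, f2] at key
    exact key
  · -- generation
    let N := Multiplicative M
    let Q₀ := MonoidAlgebra D N
    let u0 : pt D Q₀ ⟶ Red.DS (Spec (.of D)) M := Gm.dsPt (X := pt D Q₀)
      (((Scheme.ΓSpecIso (.of Q₀)).inv.hom : Q₀ →+* _).toMonoidHom.comp (MonoidAlgebra.of D N))
    obtain ⟨γ₀, hγ₀⟩ := exists_alg (ofD Q₀ ≫ BC.down (stm R D) (u0 ≫ ee.inv))
    have hval : ∀ m, val Q₀ γ₀ m = MonoidAlgebra.single (Multiplicative.ofAdd m) 1 := by
      intro m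
      show (Scheme.ΓSpecIso (.of Q₀)).hom (Gm.dsFn (BC.up (stm R D) (toD Q₀ ≫ pm γ₀) ≫ ee.hom) m) = _
      have e1 : toD Q₀ ≫ ofD Q₀ = 𝟙 ((Over.map (stm R D)).obj (pt D Q₀)) :=
        Over.OverMorphism.ext (Category.id_comp _)
      rw [← hγ₀, ← Category.assoc, e1, Category.id_comp, BC.up_down, Category.assoc, Iso.inv_hom_id,
        Category.comp_id, Gm.dsFn_dsPt]
      exact Iso.inv_hom_id_apply (Scheme.ΓSpecIso (.of Q₀)) _
    let hm : N →* D ⊗[R] C :=
      { toFun := fun n => h n.toAdd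
        map_one' := val_zero _ _
        map_mul' := fun a b => val_add _ _ _ _ }
    let Φ : Q₀ →ₐ[D] D ⊗[R] C := MonoidAlgebra.lift D _ _ hm
    have e2 : (Φ.restrictScalars R).comp γ₀ = Algebra.TensorProduct.includeRight :=
      val_ext _ _ _ fun m => by
        rw [val_nat, hval]
        show Φ _ = h m
        refine (MonoidAlgebra.lift_single hm _ _).trans ?_
        rw [one_smul]
        rfl
    rw [show (1 : D) ⊗ₜ[R] c = Φ (γ₀ c) from (AlgHom.congr_fun e2 c).symm]
    rw [MonoidAlgebra.lift_apply]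
    exact Submodule.sum_mem _ fun n _ => Submodule.smul_mem _ _ (Submodule.subset_span ⟨_, rfl⟩)

end Chars

section Descent

theorem map_smul' {B D : Type u} [CommRing B] [Algebra R B] [CommRing D] [Algebra R D] (f : B →ₐ[R] D)
    (s : B) (z : B ⊗[R] C) : Algebra.TensorProduct.map f (AlgHom.id R C) (s • z) =
      f s • Algebra.TensorProduct.map f (AlgHom.id R C) z := by
  induction z using TensorProduct.induction_on with
  | zero => simp
  | tmul b c => simp [TensorProduct.smul_tmul']
  | add x y hx hy => simp only [smul_add, map_add, hx, hy]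

theorem map_isChar {B D : Type u} [CommRing B] [Algebra R B] [CommRing D] [Algebra R D] (f : B →ₐ[R] D)
    (h : B ⊗[R] C) :
    (dl C D (Algebra.TensorProduct.map f (AlgHom.id R C) h) =
      Algebra.TensorProduct.map f (AlgHom.id R (C ⊗[R] C)) (dl C B h)) ∧
    (i₁ D (Algebra.TensorProduct.map f (AlgHom.id R C) h) =
      Algebra.TensorProduct.map f (AlgHom.id R (C ⊗[R] C)) (i₁ B h)) ∧
    i₂ D (Algebra.TensorProduct.map f (AlgHom.id R C) h) =
      Algebra.TensorProduct.map f (AlgHom.id R (C ⊗[R] C)) (i₂ B h) := by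
  induction h using TensorProduct.induction_on with
  | zero => simp
  | tmul b c => simp [dl, i₁, i₂]
  | add x y hx hy =>
    simp only [map_add]
    exact ⟨by rw [hx.1, hy.1], by rw [hx.2.1, hy.2.1], by rw [hx.2.2, hy.2.2]⟩

theorem exists_preimage_tensor {D : Type u} [CommRing D] [Algebra R D] (B : Subalgebra R D)
    (F : Finset (D × C)) (hF : ∀ p ∈ F, p.1 ∈ B) :
    ∃ g : B ⊗[R] C, Algebra.TensorProduct.map B.val (AlgHom.id R C) g = ∑ p ∈ F, p.1 ⊗ₜ[R] p.2 := by
  classical
  refine ⟨∑ p ∈ F.attach, (⟨p.1.1, hF _ p.2⟩ : B) ⊗ₜ[R] p.1.2, ?_⟩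
  rw [map_sum]
  exact F.sum_attach (fun p => p.1 ⊗ₜ[R] p.2)

variable [IsDomain R] [IsDiscreteValuationRing R]

/-- **Finitely many generating characters over a dominating discrete valuation ring.** -/
theorem exists_split [Module.Flat R C] [Algebra.FiniteType R C] {D : Type u} [CommRing D] [IsDomain D]
    [Algebra R D] (hinj : Function.Injective (algebraMap R D)) (P : Ideal D) [P.IsPrime]
    (hP : P.comap (algebraMap R D) = maximalIdeal R) {M : Type} [AddCommGroup M]
    (e : Grp.mk (Red.bc (stm R D) (pt R C)) ≅ Grp.mk (Red.DS (Spec (.of D)) M)) :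
    ∃ (W : Type u) (_ : CommRing W) (_ : IsDomain W) (_ : IsDiscreteValuationRing W) (_ : Algebra R W),
      Function.Injective (algebraMap R W) ∧ IsLocalHom (algebraMap R W) ∧
      ∃ G : Finset (W ⊗[R] C), (∀ g ∈ G, IsUnit g ∧ IsChar g) ∧
        ∀ c : C, (1 : W) ⊗ₜ[R] c ∈ Algebra.adjoin W (G : Set (W ⊗[R] C)) := by
  classical
  obtain ⟨h, hadd, h0, hch, hspan⟩ := exists_chars e
  obtain ⟨T, hT⟩ := (inferInstance : Algebra.FiniteType R C).out
  choose co hco using fun c => (Finsupp.mem_span_range_iff_exists_finsupp).1 (hspan c)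
  let F₀ : Finset M := T.biUnion fun t => (co t).support
  let F : Finset M := F₀ ∪ F₀.image (- ·)
  choose fs hfs using fun m => TensorProduct.exists_finset (h m)
  let U : Finset D := (T.biUnion fun t => (co t).support.image (co t)) ∪
    F.biUnion fun m => (fs m).image Prod.fst
  let B := Algebra.adjoin R (U : Set D)
  have hmem : ∀ d ∈ U, d ∈ B := fun d hd => Algebra.subset_adjoin hd
  have hlift : ∀ m ∈ F, ∃ g : B ⊗[R] C, Algebra.TensorProduct.map B.val (AlgHom.id R C) g = h m :=
    fun m hm => by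
      obtain ⟨g, hg⟩ := exists_preimage_tensor B (fs m) fun p hp => hmem _
        (Finset.mem_union_right _ (Finset.mem_biUnion.mpr ⟨m, hm, Finset.mem_image_of_mem _ hp⟩))
      exact ⟨g, hg.trans (hfs m).symm⟩
  choose! g hg using hlift
  have hinj2 : Function.Injective (Algebra.TensorProduct.map B.val (AlgHom.id R C)) :=
    Module.Flat.rTensor_preserves_injective_linearMap (M := C) B.val.toLinearMap Subtype.val_injective
  have hinj3 : Function.Injective (Algebra.TensorProduct.map B.val (AlgHom.id R (C ⊗[R] C))) :=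
    Module.Flat.rTensor_preserves_injective_linearMap (M := C ⊗[R] C) B.val.toLinearMap Subtype.val_injective
  have hneg : ∀ m ∈ F, -m ∈ F := by
    intro m hm
    rcases Finset.mem_union.mp hm with h' | h'
    · exact Finset.mem_union_right _ (Finset.mem_image_of_mem _ h')
    · obtain ⟨a, ha, rfl⟩ := Finset.mem_image.mp h'
      rw [neg_neg]
      exact Finset.mem_union_left _ ha
  have hunit : ∀ m ∈ F, g m * g (-m) = 1 := fun m hm => hinj2 (by
    rw [map_mul, hg m hm, hg _ (hneg m hm), ← hadd, add_neg_cancel, h0, map_one])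
  have hchar : ∀ m ∈ F, IsChar (g m) := fun m hm => hinj3 (by
    obtain ⟨e1, e2, e3⟩ := map_isChar B.val (g m)
    rw [map_mul, ← e1, ← e2, ← e3, hg m hm]
    exact hch m)
  have hgen : ∀ t ∈ T, (1 : B) ⊗ₜ[R] t ∈ Submodule.span B (g '' (F : Set M)) := by
    intro t ht
    have hb : ∀ m ∈ (co t).support, co t m ∈ B := fun m hm => hmem _
      (Finset.mem_union_left _ (Finset.mem_biUnion.mpr ⟨t, ht, Finset.mem_image_of_mem _ hm⟩))
    have hmF : ∀ m ∈ (co t).support, m ∈ F := fun m hm =>
      Finset.mem_union_left _ (Finset.mem_biUnion.mpr ⟨t, ht, hm⟩)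
    have : (1 : B) ⊗ₜ[R] t = ∑ m ∈ (co t).support.attach, (⟨co t m.1, hb _ m.2⟩ : B) • g m.1 := hinj2 (by
      rw [map_sum, Algebra.TensorProduct.map_tmul, map_one, AlgHom.id_apply, ← hco t, Finsupp.sum,
        ← Finset.sum_attach]
      refine Finset.sum_congr rfl fun m _ => ?_
      rw [map_smul', hg _ (hmF _ m.2)]
      rfl)
    rw [this]
    exact Submodule.sum_mem _ fun m _ => Submodule.smul_mem _ _
      (Submodule.subset_span ⟨_, hmF _ m.2, rfl⟩)
  -- dominate
  haveI : Algebra.FiniteType R B :=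
    (Subalgebra.fg_iff_finiteType _).1 (Subalgebra.fg_adjoin_finset U)
  haveI : IsNoetherianRing B := Algebra.FiniteType.isNoetherianRing R B
  let PB : Ideal B := P.comap B.val.toRingHom
  haveI : PB.IsPrime := Ideal.IsPrime.comap _
  let BP := Localization.AtPrime PB
  haveI : IsNoetherianRing BP := IsLocalization.isNoetherianRing PB.primeCompl BP inferInstance
  obtain ⟨ϖ, hϖ⟩ := IsDiscreteValuationRing.exists_irreducible R
  have hinjB : Function.Injective (algebraMap B BP) :=
    IsLocalization.injective BP (Ideal.primeCompl_le_nonZeroDivisors PB)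
  have hmax : ∀ r ∈ maximalIdeal R, algebraMap B BP (algebraMap R B r) ∈ maximalIdeal BP := fun r hr =>
    (IsLocalization.AtPrime.to_map_mem_maximal_iff BP PB _).2 (by
      show algebraMap R D r ∈ P
      rw [← Ideal.mem_comap, hP]
      exact hr)
  have hnf : ¬ IsField BP := fun hf => by
    have h1 := hmax ϖ ((mem_maximalIdeal ϖ).mpr hϖ.not_isUnit)
    rw [isField_iff_maximalIdeal_eq.mp hf, Submodule.mem_bot] at h1
    have h2 : algebraMap R B ϖ = 0 := hinjB (h1.trans (map_zero _).symm)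
    exact hϖ.ne_zero (hinj ((congrArg Subtype.val h2).trans (map_zero _).symm))
  obtain ⟨V, hV, hVmem, hVlt⟩ := Groth.Agent.H46.Dvr.exists_dvr_dominating (B := BP)
    (L := FractionRing BP) hnf
  let β : B →+* V := ((algebraMap BP (FractionRing BP)).comp (algebraMap B BP)).codRestrict
    V.toSubring fun b => hVmem _
  have hβ : Function.Injective β := fun a b hab =>
    hinjB (IsFractionRing.injective BP (FractionRing BP) (congrArg Subtype.val hab))
  letI algW : Algebra R V := (β.comp (algebraMap R B)).toAlgebra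
  let b : B →ₐ[R] V := { β with commutes' := fun r => rfl }
  refine ⟨V, inferInstance, inferInstance, hV, algW, hβ.comp fun x y hxy => hinj (congrArg Subtype.val hxy),
    ⟨fun r hr => ?_⟩, (F.image fun m => Algebra.TensorProduct.map b (AlgHom.id R C) (g m)), ?_, ?_⟩
  · by_contra hr'
    have h1 := hVlt _ (hmax r ((mem_maximalIdeal r).mpr hr'))
    have h2 : IsUnit (β (algebraMap R B r)) := hr
    exact h1.ne (V.valuation_unit h2.unit)
  · intro x hx
    obtain ⟨m, hm, rfl⟩ := Finset.mem_image.mp hx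
    refine ⟨IsUnit.map _ (IsUnit.of_mul_eq_one _ (hunit m hm)), ?_⟩
    obtain ⟨e1, e2, e3⟩ := map_isChar b (g m)
    rw [IsChar, e1, e2, e3, hchar m hm, map_mul]
  · intro c
    have hc : c ∈ Algebra.adjoin R (T : Set C) := by rw [hT]; trivial
    induction hc using Algebra.adjoin_induction with
    | mem t ht =>
      have key : ∀ z ∈ Submodule.span B (g '' (F : Set M)),
          Algebra.TensorProduct.map b (AlgHom.id R C) z ∈ Algebra.adjoin V
            ((F.image fun m => Algebra.TensorProduct.map b (AlgHom.id R C) (g m)) : Set (V ⊗[R] C)) := by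
        intro z hz
        induction hz using Submodule.span_induction with
        | zero => rw [map_zero]; exact zero_mem _
        | add u v _ _ hu hv => rw [map_add]; exact add_mem hu hv
        | smul s u _ hu =>
          rw [map_smul']
          exact Subalgebra.smul_mem _ hu (b s)
        | mem u hu =>
          obtain ⟨m, hm, rfl⟩ := hu
          exact Algebra.subset_adjoin (Finset.mem_coe.mpr (Finset.mem_image_of_mem _ hm))
      have h1 := key _ (hgen t ht)
      rwa [Algebra.TensorProduct.map_tmul, map_one] at h1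
    | algebraMap r =>
      rw [Algebra.algebraMap_eq_smul_one, TensorProduct.tmul_smul, ← algebraMap_smul V r]
      exact Subalgebra.smul_mem _ (one_mem _) _
    | add u v _ _ hu hv => rw [TensorProduct.tmul_add]; exact add_mem hu hv
    | mul u v _ _ hu hv =>
      rw [show (1 : V) ⊗ₜ[R] (u * v) = ((1 : V) ⊗ₜ[R] u) * ((1 : V) ⊗ₜ[R] v) by simp]
      exact mul_mem hu hv

end Descent

end Groth.Agent.H87.ExtSplit
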