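import Groth.Agent.H87.ExtUnit
import Groth.Agent.H87.ExtSplit
import Groth.Agent.H87.ExtNormal
import Groth.Agent.H87.Normal
import Groth.Agent.H87.HomFam
import Groth.Agent.H1.Hopf
import Groth.Agent.Lib.ActSep.Exists

/-!
# Extension in codimension one of homomorphisms to groups of multiplicative type
-/

set_option autoImplicit false
universe u

open CategoryTheory CategoryTheory.Limits MonoidalCategory CartesianMonoidalCategory MonObj GrpObj
open AlgebraicGeometry IsLocalRing
open scoped TensorProduct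
open Groth.Agent.Lib.RedPts Groth.Agent.Lib.Tori Groth.Agent.H87.HomPts Groth.Agent.Lib.ModelFibre.Stalk

namespace Groth.Agent.H87.ExtPoint

set_option linter.style.haveILetI false
set_option linter.unusedSectionVars false

theorem exists_stalk_hom {X Y : Scheme.{u}} (f : X ⟶ Y) (x : X) (y : Y) (h : f x = y) :
    ∃ σ : Y.presheaf.stalk y ⟶ X.presheaf.stalk x, IsLocalHom σ.hom ∧
      (Flat f → σ.hom.Flat) ∧ Spec.map σ ≫ Y.fromSpecStalk y = X.fromSpecStalk x ≫ f := by
  subst h
  exact ⟨f.stalkMap x, inferInstanceAs (IsLocalHom (f.stalkMap x).hom), fun _ => Flat.stalkMap f x,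
    Scheme.SpecMap_stalkMap_fromSpecStalk f⟩

variable {S : Scheme.{u}} [IsIntegral S]

/-- The generic point as a scheme. -/
noncomputable abbrev gen (S : Scheme.{u}) [IsIntegral S] : Spec (S.presheaf.stalk (genericPoint S)) ⟶ S :=
  S.fromSpecStalk (genericPoint S)

theorem exists_gen {L : Type u} [Field L] (z : Spec (.of L) ⟶ S)
    (h : z (closedPoint L) = genericPoint S) :
    ∃ y : Spec (.of L) ⟶ Spec (S.presheaf.stalk (genericPoint S)), y ≫ gen S = z := by
  have key : ∀ x, z (closedPoint L) = x →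
      ∃ y : Spec (.of L) ⟶ Spec (S.presheaf.stalk x), y ≫ S.fromSpecStalk x = z := by
    rintro _ rfl
    exact ⟨Spec.map (Scheme.stalkClosedPointTo z), Scheme.Spec_stalkClosedPointTo_fromSpecStalk z⟩
  exact key _ h

theorem bot_apply (s : S) [IsDomain (S.presheaf.stalk s)] (q : Spec (S.presheaf.stalk s))
    (hq : q.asIdeal = ⊥) : S.fromSpecStalk s q = genericPoint S := by
  have : genericPoint S ∈ Set.range (S.fromSpecStalk s) := by
    rw [Scheme.range_fromSpecStalk]
    exact (genericPoint_spec S).specializes trivial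
  obtain ⟨p, hp⟩ := this
  refine Specializes.antisymm ?_ ((genericPoint_spec S).specializes trivial) |>.eq
  rw [← hp]
  exact ((PrimeSpectrum.le_iff_specializes _ _).1 (hq.trans_le bot_le : q.asIdeal ≤ p.asIdeal)).map
    (S.fromSpecStalk s).continuous

variable [IsLocallyNoetherian S] {H T : Over S} [GrpObj H] [GrpObj T]

set_option backward.isDefEq.respectTransparency false in
/-- **Extension at points of codimension one.** -/
theorem exists_ext (hnorm : ∀ s : S, IsDomain (S.presheaf.stalk s) ∧ IsIntegrallyClosed (S.presheaf.stalk s))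
    [Smooth H.hom] (hconn : ∀ s : S, _root_.IsConnected (H.hom ⁻¹' {s}))
    (hT : SGA3x.IsMultTypeFT T) (F : HomFam.Fam H T (gen S)) (y : H.left)
    (hy : H.hom y ≠ genericPoint S) [IsDomain (H.left.presheaf.stalk y)]
    (h1 : ringKrullDim (H.left.presheaf.stalk y) ≤ 1) :
    ∃ φ : Spec (H.left.presheaf.stalk y) ⟶ T.left, φ ≫ T.hom = H.left.fromSpecStalk y ≫ H.hom ∧
      ∀ (y₀ : Spec (.of (FractionRing (H.left.presheaf.stalk y))) ⟶ Spec (S.presheaf.stalk (genericPoint S)))
        (hy₀ : y₀ ≫ gen S = Spec.map (CommRingCat.ofHom (algebraMap (H.left.presheaf.stalk y) (FractionRing (H.left.presheaf.stalk y)))) ≫ H.left.fromSpecStalk y ≫ H.hom),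
        Spec.map (CommRingCat.ofHom (algebraMap (H.left.presheaf.stalk y) (FractionRing (H.left.presheaf.stalk y)))) ≫ φ =
          (F.app (Over.mk (Spec.map (CommRingCat.ofHom (algebraMap (H.left.presheaf.stalk y) (FractionRing (H.left.presheaf.stalk y)))) ≫ H.left.fromSpecStalk y ≫ H.hom)) y₀ hy₀
            (Over.homMk (Spec.map (CommRingCat.ofHom (algebraMap (H.left.presheaf.stalk y) (FractionRing (H.left.presheaf.stalk y)))) ≫ H.left.fromSpecStalk y) (Category.assoc _ _ _))).left := by
  classical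
  haveI : IsLocallyNoetherian H.left := LocallyOfFiniteType.isLocallyNoetherian H.hom
  obtain ⟨ρ, hρl, hρf, hρ⟩ := exists_stalk_hom H.hom y _ rfl
  let R := S.presheaf.stalk (H.hom y)
  haveI := (hnorm (H.hom y)).1
  haveI := (hnorm (H.hom y)).2
  haveI := hρl
  have hρi : Function.Injective ρ.hom := by
    letI := ρ.hom.toAlgebra
    haveI : Module.Flat R (H.left.presheaf.stalk y) := hρf inferInstance
    haveI : IsLocalHom (algebraMap R (H.left.presheaf.stalk y)) := hρl
    haveI : Module.FaithfullyFlat R (H.left.presheaf.stalk y) := Module.FaithfullyFlat.of_flat_of_isLocalHom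
    exact FaithfulSMul.algebraMap_injective R (H.left.presheaf.stalk y)
  have hRf : ¬ IsField R := fun hf => hy (by
    have h := bot_apply (H.hom y) (closedPoint R) (isField_iff_maximalIdeal_eq.mp hf)
    rwa [Scheme.fromSpecStalk_closedPoint] at h)
  haveI : IsDiscreteValuationRing R := ExtNormal.isDVR
    (ExtNormal.prime_eq_maximal_of_flat ρ.hom (hρf inferInstance) hρi h1) hRf
  have hOf : ¬ IsField (H.left.presheaf.stalk y) := fun hf => by
    refine hRf (isField_iff_maximalIdeal_eq.mpr ?_)
    rw [← (show Ideal.comap ρ.hom (maximalIdeal _) = maximalIdeal R from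
      ((local_hom_TFAE ρ.hom).out 0 4).1 hρl), isField_iff_maximalIdeal_eq.mp hf, ← RingHom.ker_eq_comap_bot]
    exact (RingHom.injective_iff_ker_eq_bot _).1 hρi
  haveI := (ExtNormal.normal_stalk hnorm H.hom y).2
  haveI : IsDiscreteValuationRing (H.left.presheaf.stalk y) := ExtNormal.isDVR
    (fun P hP hP' => ExtNormal.prime_eq_maximal h1 P hP hP') hOf
  let j : Spec (.of R) ⟶ S := S.fromSpecStalk (H.hom y)
  -- the group over the local ring
  let TR := Red.bc j T
  haveI : IsAffineHom T.hom := MT.isAffineHom hT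
  haveI : IsAffineHom TR.hom := MorphismProperty.pullback_snd (P := @IsAffineHom) _ _ inferInstance
  haveI : IsAffine TR.left := isAffine_of_isAffineHom TR.hom
  obtain ⟨C, _, _, eT₀, heT₀⟩ := Groth.Agent.H1.Hopf.exists_iso (R := R) TR
  let eT : Grp.mk TR ≅ Grp.mk (pt R C) := @BaseChange.grpIso _ TR (pt R C) _ _ eT₀ heT₀
  let ee := BaseChange.overIso eT
  have hTR : SGA3x.IsMultTypeFT TR := Normal.multTypeFT_bc hT j
  have hstm : stm R C = ee.inv.left ≫ TR.hom := (Over.w ee.inv).symm
  haveI : IsIso ee.inv.left := inferInstanceAs (IsIso ((Over.forget _).map ee.inv))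
  haveI : Module.Flat R C := by
    have h : Flat (stm R C) := by
      rw [hstm]
      exact (MorphismProperty.cancel_left_of_respectsIso @Flat _ _).2 (MT.flat hTR)
    rw [HasRingHomProperty.Spec_iff (P := @Flat)] at h
    exact (RingHom.flat_algebraMap_iff).1 h
  haveI : Algebra.FiniteType R C := by
    haveI := MT.locallyOfFinitePresentation hTR
    have h : LocallyOfFiniteType (stm R C) := by
      rw [hstm]
      infer_instance
    rw [HasRingHomProperty.Spec_iff (P := @LocallyOfFiniteType)] at h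
    exact RingHom.finiteType_algebraMap.1 h
  -- a dominating discrete valuation ring with generating characters
  obtain ⟨S', f, hf, hs, -, hloc⟩ := hTR
  obtain ⟨s', hs'⟩ := f.surjective (closedPoint R)
  obtain ⟨U, hU, M, iM, -, ⟨e₀⟩⟩ := hloc s'
  obtain ⟨O, hO, hsO, hOU⟩ := exists_isAffineOpen_mem_and_subset (X := S') (x := s') (U := U) hU
  let D := Γ(S', O)
  letI algD : Algebra R D := (Spec.preimage (hO.fromSpec ≫ f)).hom.toAlgebra
  have hD : stm R D = hO.fromSpec ≫ f := Spec.map_preimage _
  haveI : Module.Flat R D := by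
    haveI : IsOpenImmersion hO.fromSpec := hO.isOpenImmersion_fromSpec
    have h : Flat (stm R D) := by rw [hD]; infer_instance
    rw [HasRingHomProperty.Spec_iff (P := @Flat)] at h
    exact (RingHom.flat_algebraMap_iff).1 h
  let P := (hO.primeIdealOf ⟨s', hsO⟩).asIdeal
  haveI hPover : P.LiesOver (maximalIdeal R) := ⟨(congrArg PrimeSpectrum.asIdeal (show
      stm R D (hO.primeIdealOf ⟨s', hsO⟩) = closedPoint R by
    rw [hD, Scheme.Hom.comp_apply]; exact (congrArg f (hO.fromSpec_primeIdealOf ⟨s', hsO⟩)).trans hs')).symm⟩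
  obtain ⟨q, hqP, hq, hqo⟩ := Ideal.exists_ideal_le_liesOver_of_le (p := (⊥ : Ideal R))
    (q := maximalIdeal R) P bot_le
  haveI := hq
  have hinjD : Function.Injective (algebraMap R (D ⧸ q)) := by
    rw [RingHom.injective_iff_ker_eq_bot, IsScalarTower.algebraMap_eq R D (D ⧸ q), ← RingHom.comap_ker,
      Ideal.Quotient.algebraMap_eq, Ideal.mk_ker]
    exact hqo.over.symm
  haveI : (P.map (Ideal.Quotient.mk q)).IsPrime :=
    Ideal.map_isPrime_of_surjective Ideal.Quotient.mk_surjective (by rwa [Ideal.mk_ker])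
  have hP' : (P.map (Ideal.Quotient.mk q)).comap (algebraMap R (D ⧸ q)) = maximalIdeal R := by
    rw [IsScalarTower.algebraMap_eq R D (D ⧸ q), ← Ideal.comap_comap, Ideal.Quotient.algebraMap_eq,
      Ideal.comap_map_of_surjective _ Ideal.Quotient.mk_surjective, ← RingHom.ker_eq_comap_bot,
      Ideal.mk_ker, sup_eq_left.2 hqP]
    exact hPover.over.symm
  let h' : Spec (.of (D ⧸ q)) ⟶ (U : Scheme.{u}) :=
    Spec.map (CommRingCat.ofHom (Ideal.Quotient.mk q)) ≫ hO.isoSpec.inv ≫ S'.homOfLE hOU
  have hh' : stm R (D ⧸ q) = h' ≫ U.ι ≫ f := by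
    simp only [h', Category.assoc, Scheme.homOfLE_ι_assoc]
    rw [show hO.isoSpec.inv ≫ O.ι ≫ f = stm R D from (Category.assoc _ _ _).symm.trans hD.symm,
      ← Spec.map_comp]
    rfl
  letI := iM
  let e : Grp.mk (Red.bc (stm R (D ⧸ q)) (pt R C)) ≅ Grp.mk (Red.DS (Spec (.of (D ⧸ q))) M) :=
    BaseChange.bcMapIso _ eT.symm ≪≫ BaseChange.bcCongr hh' TR ≪≫ Charts.resChart e₀ h'
  obtain ⟨W, _, _, _, algW, hWi, hWl, G, hG, hGgen⟩ := ExtSplit.exists_split hinjD _ hP' e
  let w : Spec (.of W) ⟶ S := stm R W ≫ j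
  let X := Red.bc w H
  haveI : Smooth X.hom := MorphismProperty.pullback_snd (P := @Smooth) _ _ inferInstance
  have hwc : w (closedPoint W) = H.hom y := by
    show (stm R W ≫ j) (closedPoint W) = _
    rw [Scheme.Hom.comp_apply, show stm R W (closedPoint W) = closedPoint R from
      PrimeSpectrum.ext (((local_hom_TFAE (algebraMap R W)).out 0 4).1 hWl)]
    exact Scheme.fromSpecStalk_closedPoint
  -- the generic point of the special fibre
  let c : Spec (.of (ResidueField W)) ⟶ Spec (.of W) := Spec.map (CommRingCat.ofHom (residue W))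
  haveI : IsLocalHom (CommRingCat.ofHom (residue W)).hom := inferInstanceAs (IsLocalHom (residue W))
  have hrc : Set.range c = {closedPoint W} := by
    ext p
    constructor
    · rintro ⟨z, rfl⟩
      rw [Subsingleton.elim z (closedPoint _)]
      exact IsLocalRing.comap_closedPoint _
    · rintro rfl
      exact ⟨closedPoint _, IsLocalRing.comap_closedPoint _⟩
  haveI : IrreducibleSpace (H ⊗ Over.mk (c ≫ w)).left :=
    Groth.Agent.Lib.ActSep.irreducibleSpace_geomFibre hconn (c ≫ w)
  have hirr : IsIrreducible (X.hom ⁻¹' {closedPoint W}) := by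
    haveI : IrreducibleSpace ↥(pullback (pullback.snd H.hom w) c) := by
      haveI : IrreducibleSpace ↥(pullback H.hom (c ≫ w)) := ‹IrreducibleSpace (H ⊗ Over.mk (c ≫ w)).left›
      exact (pullbackLeftPullbackSndIso H.hom w c).inv.homeomorph.surjective.irreducibleSpace
        (pullbackLeftPullbackSndIso H.hom w c).inv.continuous
    rw [← hrc]
    refine Eq.subst (motive := IsIrreducible) (Scheme.Pullback.range_fst (pullback.snd H.hom w) c) ?_
    rw [← Set.image_univ]
    exact (IrreducibleSpace.isIrreducible_univ _).image _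
      (pullback.fst (pullback.snd H.hom w) c).continuous.continuousOn
  obtain ⟨ξ, hξg⟩ := QuasiSober.sober hirr (IsClosed.preimage X.hom.continuous
    ((PrimeSpectrum.isClosed_singleton_iff_isMaximal _).2 (maximalIdeal.isMaximal W)))
  have hξc : X.hom ξ = closedPoint W := hξg.mem
  have hgen : ∀ z : X.left, X.hom z = closedPoint W → ξ ⤳ z := fun z hz => hξg.specializes hz
  let pr : X.left ⟶ H.left := pullback.fst H.hom w
  have hprs : H.hom (pr ξ) = H.hom y := by
    rw [← Scheme.Hom.comp_apply, show pr ≫ H.hom = X.hom ≫ w from pullback.condition,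
      Scheme.Hom.comp_apply, hξc, hwc]
  have hprξ : pr ξ = y := by
    obtain ⟨z, hz1, hz2⟩ := Scheme.Pullback.exists_preimage_pullback (f := H.hom) (g := w) y
      (closedPoint W) hwc.symm
    have hsp : pr ξ ⤳ y := hz1 ▸ (hgen z hz2).map pr.continuous
    obtain ⟨p, hp⟩ : pr ξ ∈ Set.range (H.left.fromSpecStalk y) := by
      rw [Scheme.range_fromSpecStalk]; exact hsp
    have hpc : Spec.map ρ p = closedPoint R := (S.fromSpecStalk (H.hom y)).isEmbedding.injective (by
      rw [← Scheme.Hom.comp_apply, hρ, Scheme.Hom.comp_apply, hp, hprs]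
      exact Scheme.fromSpecStalk_closedPoint.symm)
    have hpc' : p.asIdeal.comap ρ.hom = maximalIdeal R := congrArg PrimeSpectrum.asIdeal hpc
    have hpne : p.asIdeal ≠ ⊥ := fun h0 => hRf (isField_iff_maximalIdeal_eq.mpr (by
      rw [← hpc', h0, ← RingHom.ker_eq_comap_bot]
      exact (RingHom.injective_iff_ker_eq_bot _).1 hρi))
    have : p = closedPoint (H.left.presheaf.stalk y) :=
      PrimeSpectrum.ext (ExtNormal.prime_eq_maximal h1 _ hpne p.2)
    rw [← hp, this, Scheme.fromSpecStalk_closedPoint]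
  obtain ⟨σ, hσl, -, hσ⟩ := exists_stalk_hom pr ξ y hprξ
  letI algO' : Algebra W (X.left.presheaf.stalk ξ) := (baseHom X.hom ξ).toAlgebra
  haveI : IsLocallyNoetherian X.left := LocallyOfFiniteType.isLocallyNoetherian X.hom
  have hdim' := Groth.Agent.Lib.WeilExt.Generic.ringKrullDim_stalk_le_one X.hom (y := ξ)
    fun z hz e => (hz.antisymm (hgen z (e.trans hξc))).eq
  obtain ⟨hloc', hdom', hdvr', hmap', -⟩ :=
    Groth.Agent.Lib.WeilExt.LftPoints.exists_stalk_unramified X.hom ξ hξc hdim'
  haveI := hdom'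
  haveI := hdvr'
  -- compatibility of the base maps
  have hcompat : ρ ≫ σ = CommRingCat.ofHom (algebraMap R W) ≫ CommRingCat.ofHom (baseHom X.hom ξ) := by
    apply Spec.map_injective
    rw [← cancel_mono j, Spec.map_comp, Spec.map_comp, Category.assoc, Category.assoc, hρ,
      reassoc_of% hσ, show pr ≫ H.hom = X.hom ≫ w from pullback.condition, reassoc_of% (fromSpecStalk_comp X.hom ξ)]
  obtain ⟨ϖ, hϖ⟩ := IsDiscreteValuationRing.exists_irreducible R
  have hWO : Function.Injective (baseHom X.hom ξ) := by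
    obtain ⟨π, hπ⟩ := IsDiscreteValuationRing.exists_irreducible W
    have hπ0 : baseHom X.hom ξ π ≠ 0 := fun h0 =>
      (IsDiscreteValuationRing.not_isField (X.left.presheaf.stalk ξ)) (isField_iff_maximalIdeal_eq.mpr (by
        rw [← hmap', hπ.maximalIdeal_eq, Ideal.map_span, Set.image_singleton, h0]
        exact Ideal.span_singleton_eq_bot.2 rfl))
    rw [injective_iff_map_eq_zero]
    intro a ha
    by_contra ha0
    obtain ⟨n, v, rfl⟩ := IsDiscreteValuationRing.eq_unit_mul_pow_irreducible ha0 hπ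
    rw [map_mul, map_pow, mul_eq_zero] at ha
    rcases ha with ha | ha
    · exact (v.isUnit.map (baseHom X.hom ξ)).ne_zero ha
    · exact hπ0 (pow_eq_zero_iff'.mp ha).1
  have hσi : Function.Injective σ.hom := by
    have hker : RingHom.ker σ.hom = ⊥ := by
      by_contra hne
      have hmax := ExtNormal.prime_eq_maximal h1 _ hne (RingHom.ker_isPrime σ.hom)
      have hm : ρ.hom ϖ ∈ RingHom.ker σ.hom := by
        rw [hmax, mem_maximalIdeal]
        exact fun hu => hϖ.not_isUnit (IsUnit.of_map ρ.hom ϖ hu)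
      have : baseHom X.hom ξ (algebraMap R W ϖ) = 0 :=
        (ConcreteCategory.congr_hom hcompat ϖ).symm.trans hm
      exact hϖ.ne_zero (hWi (hWO (this.trans (map_zero _).symm) |>.trans (map_zero _).symm))
    exact (RingHom.injective_iff_ker_eq_bot _).2 hker
  -- the points of the generic fibre as algebra maps
  have hpt : ∀ (L : Type u) [Field L] [Algebra R L], Function.Injective (algebraMap R L) →
      ∃ y₀ : Spec (.of L) ⟶ Spec (S.presheaf.stalk (genericPoint S)), y₀ ≫ gen S = stm R L ≫ j :=
    fun L _ _ hinj => exists_gen _ (by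
      rw [Scheme.Hom.comp_apply]
      refine bot_apply (H.hom y) _ ?_
      show Ideal.comap (algebraMap R L) (maximalIdeal L) = ⊥
      rw [isField_iff_maximalIdeal_eq.mp (Field.toIsField L), ← RingHom.ker_eq_comap_bot]
      exact (RingHom.injective_iff_ker_eq_bot _).1 hinj)
  choose Y₀ hY₀ using hpt
  let uu : ∀ (L : Type u) [Field L] [Algebra R L], Function.Injective (algebraMap R L) →
      (Over.mk (stm R L ≫ j) ⟶ H) → (pt R L ⟶ pt R C) := fun L _ _ hinj x =>
    BC.up (X := pt R L) j (F.app (Over.mk (stm R L ≫ j)) (Y₀ L hinj) (hY₀ L hinj) x) ≫ ee.hom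
  let Ψ : ∀ (L : Type u) [Field L] [Algebra R L], Function.Injective (algebraMap R L) →
      (Over.mk (stm R L ≫ j) ⟶ H) → (C →ₐ[R] L) := fun L _ _ hinj x =>
    (ExtSplit.exists_alg (uu L hinj x)).choose
  have hΨ : ∀ (L : Type u) [Field L] [Algebra R L] (hinj : Function.Injective (algebraMap R L))
      (x : Over.mk (stm R L ≫ j) ⟶ H), pm (Ψ L hinj x) = uu L hinj x := fun L _ _ hinj x =>
    (ExtSplit.exists_alg (uu L hinj x)).choose_spec.symm
  have Ψ_mul : ∀ (L : Type u) [Field L] [Algebra R L] (hinj : Function.Injective (algebraMap R L))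
      (x x' : Over.mk (stm R L ≫ j) ⟶ H),
      Ψ L hinj (x * x') = ExtSplit.mulAlg (Ψ L hinj x) (Ψ L hinj x') := fun L _ _ hinj x x' => by
    refine ExtSplit.pm_injective ?_
    rw [← ExtSplit.pm_mul, hΨ, hΨ, hΨ]
    show BC.up (X := pt R L) j (F.app _ _ _ (x * x')) ≫ ee.hom = _
    rw [F.mul, BC.up_mul]
    exact MonObj.mul_comp _ _ ee.hom
  let tr : ∀ {L L' : Type u} [Field L] [Algebra R L] [Field L'] [Algebra R L'], (L →ₐ[R] L') →
      (Over.mk (stm R L' ≫ j) ⟶ Over.mk (stm R L ≫ j)) := fun s => (Over.map j).map (pm s)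
  have Ψ_nat : ∀ (L L' : Type u) [Field L] [Algebra R L] [Field L'] [Algebra R L']
      (hinj : Function.Injective (algebraMap R L)) (hinj' : Function.Injective (algebraMap R L'))
      (s : L →ₐ[R] L') (x : Over.mk (stm R L ≫ j) ⟶ H),
      Ψ L' hinj' (tr s ≫ x) = s.comp (Ψ L hinj x) := fun L L' _ _ _ _ hinj hinj' s x => by
    refine ExtSplit.pm_injective ?_
    rw [← pm_comp, hΨ, hΨ]
    show BC.up (X := pt R L') j (F.app _ _ _ (tr s ≫ x)) ≫ ee.hom = pm s ≫ BC.up (X := pt R L) j _ ≫ ee.hom
    have e1 : F.app _ (Y₀ L' hinj') (hY₀ L' hinj') (tr s ≫ x) =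
        tr s ≫ F.app _ (Y₀ L hinj) (hY₀ L hinj) x := by
      refine F.natural (tr s) _ _ _ _ x ?_
      rw [← cancel_mono (gen S), Category.assoc, hY₀, hY₀]
      exact Over.w (tr s)
    erw [e1]
    rw [← Category.assoc (pm s)]
    congr 1
    apply BC.down_injective
    rw [BC.down_comp, BC.down_up, BC.down_up]
  -- the values of the characters
  let dn : ∀ (L : Type u) [Field L] [Algebra W L] [Algebra R L] [IsScalarTower R W L],
      (pt W L ⟶ X) → (Over.mk (stm R L ≫ j) ⟶ H) := fun L _ _ _ _ x =>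
    (Over.homMk (𝟙 (Spec (.of L))) (by
      show 𝟙 _ ≫ stm W L ≫ stm R W ≫ j = stm R L ≫ j
      rw [Category.id_comp, ← Category.assoc, ← Spec.map_comp, ← CommRingCat.ofHom_comp,
        ← IsScalarTower.algebraMap_eq]) : Over.mk (stm R L ≫ j) ⟶ (Over.map w).obj (pt W L)) ≫ BC.down w x
  let UV : W ⊗[R] C → ∀ (L : Type u) [Field L] [Algebra W L],
      Function.Injective (algebraMap W L) → (pt W L ⟶ X) → L := fun g L _ _ hinj x =>
    letI : Algebra R L := ((algebraMap W L).comp (algebraMap R W)).toAlgebra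
    haveI : IsScalarTower R W L := IsScalarTower.of_algebraMap_eq fun r => rfl
    ExtSplit.ev (Ψ L (hinj.comp hWi) (dn L x)) g
  let U' : ∀ g ∈ G, ExtUnit.UVal X := fun g hg =>
    { val := UV g
      ne_zero := fun L _ _ hinj x => by
        letI : Algebra R L := ((algebraMap W L).comp (algebraMap R W)).toAlgebra
        haveI : IsScalarTower R W L := IsScalarTower.of_algebraMap_eq fun r => rfl
        exact ((hG g hg).1.map (ExtSplit.ev (Ψ L (hinj.comp hWi) (dn L x)))).ne_zero
      natural := fun L L' _ _ _ _ hinj hinj' s x => by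
        letI : Algebra R L := ((algebraMap W L).comp (algebraMap R W)).toAlgebra
        haveI : IsScalarTower R W L := IsScalarTower.of_algebraMap_eq fun r => rfl
        letI : Algebra R L' := ((algebraMap W L').comp (algebraMap R W)).toAlgebra
        haveI : IsScalarTower R W L' := IsScalarTower.of_algebraMap_eq fun r => rfl
        show ExtSplit.ev (Ψ L' (hinj'.comp hWi) (dn L' (pm s ≫ x))) g = s (ExtSplit.ev (Ψ L (hinj.comp hWi) (dn L x)) g)
        have e1 : dn L' (pm s ≫ x) = tr (s.restrictScalars R) ≫ dn L x := by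
          refine Over.OverMorphism.ext ?_
          show 𝟙 _ ≫ ((pm s).left ≫ x.left) ≫ pullback.fst H.hom w =
            (pm (s.restrictScalars R)).left ≫ 𝟙 _ ≫ x.left ≫ pullback.fst H.hom w
          rw [Category.id_comp, Category.id_comp, Category.assoc]
          rfl
        rw [e1, Ψ_nat L L' (hinj.comp hWi) (hinj'.comp hWi)]
        refine AlgHom.congr_fun (?_ : _ = s.comp (ExtSplit.ev (Ψ L (hinj.comp hWi) (dn L x)))) g
        exact Algebra.TensorProduct.ext (by ext) (AlgHom.ext fun c => by simp [ExtSplit.ev])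
      mul := fun L _ _ hinj x x' => by
        letI : Algebra R L := ((algebraMap W L).comp (algebraMap R W)).toAlgebra
        haveI : IsScalarTower R W L := IsScalarTower.of_algebraMap_eq fun r => rfl
        show ExtSplit.ev (Ψ L (hinj.comp hWi) (dn L (x * x'))) g = _
        have e1 : dn L (x * x') = dn L x * dn L x' := by
          show _ ≫ BC.down w (x * x') = _
          erw [BC.down_mul (f := w) x x', comp_mul]
        rw [e1, Ψ_mul]
        exact ExtSplit.ev_mul _ _ (hG g hg).2 }
  let L := FractionRing (H.left.presheaf.stalk y)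
  let L' := FractionRing (X.left.presheaf.stalk ξ)
  letI : Algebra R (H.left.presheaf.stalk y) := ρ.hom.toAlgebra
  have hinjL : Function.Injective (algebraMap R L) := by
    rw [IsScalarTower.algebraMap_eq R (H.left.presheaf.stalk y) L, RingHom.coe_comp]
    exact (IsFractionRing.injective (H.left.presheaf.stalk y) L).comp hρi
  have hinjL' : Function.Injective (algebraMap W L') := by
    rw [IsScalarTower.algebraMap_eq W (X.left.presheaf.stalk ξ) L', RingHom.coe_comp]
    exact (IsFractionRing.injective (X.left.presheaf.stalk ξ) L').comp hWO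
  let jL : L →+* L' := IsFractionRing.lift (A := H.left.presheaf.stalk y)
    (g := (algebraMap (X.left.presheaf.stalk ξ) L').comp σ.hom)
    ((IsFractionRing.injective (X.left.presheaf.stalk ξ) L').comp hσi)
  have hjL : ∀ a, jL (algebraMap (H.left.presheaf.stalk y) L a) = algebraMap (X.left.presheaf.stalk ξ) L' (σ.hom a) :=
    fun a => IsFractionRing.lift_algebraMap _ a
  letI algRL' : Algebra R L' := ((algebraMap W L').comp (algebraMap R W)).toAlgebra
  haveI : IsScalarTower R W L' := IsScalarTower.of_algebraMap_eq fun r => rfl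
  let sL : L →ₐ[R] L' :=
    { jL with
      commutes' := fun r => by
        show jL (algebraMap R L r) = algebraMap W L' (algebraMap R W r)
        rw [IsScalarTower.algebraMap_apply R (H.left.presheaf.stalk y) L, hjL,
          IsScalarTower.algebraMap_apply W (X.left.presheaf.stalk ξ) L']
        exact congrArg _ (ConcreteCategory.congr_hom hcompat r) }
  have hLy : stm R L ≫ j =
      Spec.map (CommRingCat.ofHom (algebraMap (H.left.presheaf.stalk y) L)) ≫ H.left.fromSpecStalk y ≫ H.hom := by
    rw [← hρ, ← Category.assoc, ← Spec.map_comp]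
    rfl
  let xL : Over.mk (stm R L ≫ j) ⟶ H :=
    Over.homMk (Spec.map (CommRingCat.ofHom (algebraMap (H.left.presheaf.stalk y) L)) ≫ H.left.fromSpecStalk y)
      ((Category.assoc _ _ _).trans hLy.symm)
  let gx := Ψ L hinjL xL
  let x' : pt W L' ⟶ X := pm (IsScalarTower.toAlgHom W (X.left.presheaf.stalk ξ) L') ≫ ExtUnit.stPt ξ
  have hx' : dn L' x' = tr sL ≫ xL := by
    refine Over.OverMorphism.ext ?_
    show 𝟙 _ ≫ (Spec.map (CommRingCat.ofHom (algebraMap (X.left.presheaf.stalk ξ) L')) ≫ X.left.fromSpecStalk ξ) ≫ pr =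
      Spec.map (CommRingCat.ofHom jL) ≫ Spec.map (CommRingCat.ofHom (algebraMap (H.left.presheaf.stalk y) L)) ≫ H.left.fromSpecStalk y
    rw [Category.id_comp, Category.assoc, ← hσ, ← Category.assoc, ← Category.assoc, ← Spec.map_comp, ← Spec.map_comp]
    congr 2
    exact CommRingCat.hom_ext (RingHom.ext fun a => (hjL a).symm)
  have hval : ∀ g ∈ G, ∃ v : (X.left.presheaf.stalk ξ)ˣ,
      algebraMap (X.left.presheaf.stalk ξ) L' v = ExtSplit.ev (sL.comp gx) g := by
    intro g hg
    obtain ⟨v, hv⟩ := ExtUnit.exists_unit X ξ hξc hgen (U' g hg) hinjL'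
    refine ⟨v, hv.trans ?_⟩
    show ExtSplit.ev (Ψ L' (hinjL'.comp hWi) (dn L' x')) g = _
    rw [hx', Ψ_nat L L' hinjL (hinjL'.comp hWi)]
  have hrange : ∀ c : C, ExtSplit.ev (sL.comp gx) ((1 : W) ⊗ₜ[R] c) ∈
      (IsScalarTower.toAlgHom W (X.left.presheaf.stalk ξ) L').range := by
    intro c
    have h2 : Algebra.adjoin W (G : Set (W ⊗[R] C)) ≤
        (IsScalarTower.toAlgHom W (X.left.presheaf.stalk ξ) L').range.comap (ExtSplit.ev (sL.comp gx)) := by
      refine Algebra.adjoin_le fun g hg => ?_
      obtain ⟨v, hv⟩ := hval g hg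
      exact ⟨v, hv⟩
    exact h2 (hGgen c)
  let θ : X.left.presheaf.stalk ξ →+* L' := algebraMap (X.left.presheaf.stalk ξ) L'
  let eθ := RingEquiv.ofBijective θ.rangeRestrict
    ⟨fun a b hab => IsFractionRing.injective (X.left.presheaf.stalk ξ) L' (congrArg Subtype.val hab),
      RingHom.rangeRestrict_surjective _⟩
  let β : C →+* X.left.presheaf.stalk ξ := eθ.symm.toRingHom.comp
    ((sL.comp gx).toRingHom.codRestrict θ.range fun c => by
      obtain ⟨a, ha⟩ := hrange c
      refine ⟨a, ha.trans ?_⟩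
      rw [ExtSplit.ev_tmul, map_one, _root_.one_mul]
      rfl)
  haveI := hσl
  obtain ⟨α, hα⟩ := Groth.Agent.Lib.WeilExt.LftPoints.exists_factor_dominated σ.hom θ
    (IsFractionRing.injective (X.left.presheaf.stalk ξ) L') jL (RingHom.ext fun a => (hjL a).symm) β gx.toRingHom
    (RingHom.ext fun c => congrArg Subtype.val (eθ.apply_symm_apply _))
  let αA : C →ₐ[R] H.left.presheaf.stalk y :=
    { α with
      commutes' := fun r => IsFractionRing.injective (H.left.presheaf.stalk y) L (by
        show algebraMap _ L (α (algebraMap R C r)) = _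
        rw [← RingHom.comp_apply, hα, ← IsScalarTower.algebraMap_apply R (H.left.presheaf.stalk y) L]
        exact gx.commutes r) }
  let φR : pt R (H.left.presheaf.stalk y) ⟶ TR := pm αA ≫ ee.inv
  refine ⟨(BC.down j φR).left, (Over.w (BC.down j φR)).trans hρ, fun y₀ hy₀ => ?_⟩
  have e1 : (Over.map j).map (pm (IsScalarTower.toAlgHom R (H.left.presheaf.stalk y) L)) ≫ BC.down j φR =
      F.app _ (Y₀ L hinjL) (hY₀ L hinjL) xL := by
    rw [← BC.down_comp]
    refine Eq.trans ?_ (BC.down_up (f := j) (X := pt R L) (F.app _ (Y₀ L hinjL) (hY₀ L hinjL) xL))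
    congr 1
    rw [← cancel_mono ee.hom]
    simp only [φR, Category.assoc, Iso.inv_hom_id, Category.comp_id]
    refine (pm_comp _ _).trans ?_
    rw [show (IsScalarTower.toAlgHom R (H.left.presheaf.stalk y) L).comp αA = gx from
      AlgHom.coe_ringHom_injective hα]
    exact hΨ L hinjL xL
  refine (congrArg CommaMorphism.left e1).trans ?_
  let i0 : Over.mk (stm R L ≫ j) ⟶ Over.mk (Spec.map (CommRingCat.ofHom
      (algebraMap (H.left.presheaf.stalk y) L)) ≫ H.left.fromSpecStalk y ≫ H.hom) :=
    Over.homMk (𝟙 _) ((Category.id_comp _).trans hLy.symm)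
  have e2 := F.natural i0 y₀ hy₀ (Y₀ L hinjL) (hY₀ L hinjL)
    (Over.homMk (Spec.map (CommRingCat.ofHom (algebraMap (H.left.presheaf.stalk y) L)) ≫ H.left.fromSpecStalk y)
      (Category.assoc _ _ _))
    (by
      rw [← cancel_mono (gen S), Category.assoc, hY₀, hy₀]
      exact (Category.id_comp _).trans hLy.symm)
  rw [show xL = i0 ≫ Over.homMk (Spec.map (CommRingCat.ofHom (algebraMap (H.left.presheaf.stalk y) L)) ≫ H.left.fromSpecStalk y) (Category.assoc _ _ _) from
    Over.OverMorphism.ext (Category.id_comp _).symm, e2]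
  exact Category.id_comp _

end Groth.Agent.H87.ExtPoint
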