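import Groth.Agent.H87.GmFibre
import Groth.Agent.H87.Charts
import Groth.Agent.H87.SplitMax
import Groth.Agent.Lib.FinCond.Components
import Groth.Agent.S5274

/-!
# Split subtori over a normal base extend from open subschemes
-/

set_option autoImplicit false
universe u

open CategoryTheory CategoryTheory.Limits MonoidalCategory CartesianMonoidalCategory MonObj GrpObj
open AlgebraicGeometry
open Groth.Agent.Lib.RedPts Groth.Agent.Lib.Tori Groth.Agent.H87.ExtPoint

namespace Groth.Agent.H87.ExtSplitTorus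

set_option linter.style.haveILetI false

variable {S : Scheme.{u}}

/-- A morphism which is a monomorphism on a nonempty open of a connected base is one everywhere. -/
theorem mono_of_open [ConnectedSpace ↥S] {G H : Over S} [GrpObj G] [GrpObj H] (hG : SGA3x.IsMultTypeFT G)
    (hH : SGA3x.IsMultTypeFT H) (u : G ⟶ H) [IsMonHom u] (U : S.Opens) (s : S) (hs : s ∈ U)
    (h : Mono ((Over.pullback U.ι).map u).left) : Mono u := by
  obtain ⟨V, hVc, hV, hVm⟩ := S5274.result G H hG hH u
  haveI : (MorphismProperty.monomorphisms Scheme.{u}).IsStableUnderBaseChange := inferInstance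
  let g : Spec (S.residueField s) ⟶ (U : Scheme.{u}) := IsOpenImmersion.lift U.ι (S.fromSpecResidueField s) (by
    rw [S.range_fromSpecResidueField, Scheme.Opens.range_ι]
    exact Set.singleton_subset_iff.2 hs)
  have h1 : Charts.Fib (MorphismProperty.monomorphisms Scheme.{u}) (S.fromSpecResidueField s) u :=
    Charts.fib_congr _ (IsOpenImmersion.lift_fac _ _ _) u
      (Charts.fib_base (P := MorphismProperty.monomorphisms Scheme.{u}) g (MorphismProperty.monomorphisms.infer_property _))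
  have huniv : (V : Set S) = Set.univ :=
    IsClopen.eq_univ ⟨hVc, V.isOpen⟩ ⟨s, (hV s).2 h1⟩
  have htop : V = ⊤ := TopologicalSpace.Opens.ext huniv
  haveI : IsIso V.ι := by
    haveI : Surjective V.ι := ⟨fun x => ⟨⟨x, by rw [htop]; trivial⟩, rfl⟩⟩
    exact isIso_of_isOpenImmersion_of_opensRange_eq_top _ (by rw [Scheme.Opens.opensRange_ι]; exact htop)
  have h2 : Charts.Fib (MorphismProperty.monomorphisms Scheme.{u}) (inv V.ι ≫ V.ι) u :=
    Charts.fib_base (P := MorphismProperty.monomorphisms Scheme.{u}) (inv V.ι) (MorphismProperty.monomorphisms.infer_property _)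
  have h3 : Charts.Fib (MorphismProperty.monomorphisms Scheme.{u}) (𝟙 S) u :=
    Charts.fib_congr _ (IsIso.inv_hom_id V.ι) u h2
  have h4 := (Charts.iff_natIso (P := MorphismProperty.monomorphisms Scheme.{u}) Over.pullbackId u).1 h3
  haveI : Mono u.left := h4
  exact Over.mono_of_mono_left u

variable [IsIntegral S] [IsLocallyNoetherian S]

set_option backward.isDefEq.respectTransparency false in
/-- A split torus mapped over a nonempty open extends. -/
theorem exists_extend (hnorm : ∀ s : S, IsDomain (S.presheaf.stalk s) ∧ IsIntegrallyClosed (S.presheaf.stalk s))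
    {T : Over S} [GrpObj T] (hT : SGA3x.IsMultTypeFT T) (r : ℕ) (U : S.Opens) (hU : genericPoint S ∈ U)
    (k : Red.bc U.ι (Red.DS S (Fin r → ℤ)) ⟶ Red.bc U.ι T) [IsMonHom k] :
    ∃ lam : Red.DS S (Fin r → ℤ) ⟶ T, IsMonHom lam ∧ (Over.pullback U.ι).map lam = k := by
  let H := Red.DS S (Fin r → ℤ)
  haveI : Smooth H.hom := DS.smooth S (Fin r → ℤ)
  haveI : IsAffineHom T.hom := MT.isAffineHom hT
  let k' : Spec (S.presheaf.stalk (genericPoint S)) ⟶ (U : Scheme.{u}) := U.fromSpecStalkOfMem (genericPoint S) hU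
  have hk : k' ≫ U.ι = gen S := Scheme.Opens.fromSpecStalkOfMem_ι U _ hU
  obtain ⟨lam, ⟨hlam, hfam⟩, -⟩ := ExtGlobal.existsUnique_hom hnorm
    (fun s => GmFibre.isConnected_fibre_ds r s) hT (ExtGeneric.fam hk k)
  refine ⟨lam, hlam, ?_⟩
  let X := Red.bc U.ι H
  haveI : Smooth X.hom := MorphismProperty.pullback_snd (P := @Smooth) _ _ inferInstance
  haveI : Smooth (X.hom ≫ U.ι) := inferInstance
  haveI : ∀ x : X.left, IsDomain (X.left.presheaf.stalk x) := fun x =>
    (ExtNormal.normal_stalk hnorm (X.hom ≫ U.ι) x).1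
  haveI : IsReduced X.left := Groth.Agent.Lib.WeilExt.Local.isReduced_of_domain
  haveI : IsSeparated (Red.bc U.ι T).hom := MorphismProperty.pullback_snd (P := @IsSeparated) _ _ inferInstance
  refine Over.OverMorphism.ext (Groth.Agent.Lib.WeilExt.Local.eq_of_fromSpecStalk (Red.bc U.ι T).hom _ _
    ((Over.w _).trans (Over.w k).symm) fun ξ hξ => ?_)
  obtain ⟨ρ, -, -, hρ⟩ := exists_stalk_hom (X.hom ≫ U.ι) ξ _
    (Groth.Agent.Lib.WeilExt.Local.apply_minimal (X.hom ≫ U.ι) hξ)
  let Yz : Over (U : Scheme.{u}) := Over.mk (X.left.fromSpecStalk ξ ≫ X.hom)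
  let z : Yz ⟶ X := Over.homMk (X.left.fromSpecStalk ξ) rfl
  let Y : Over S := (Over.map U.ι).obj Yz
  have hy : Spec.map ρ ≫ gen S = Y.hom := by
    rw [hρ]; exact (Category.assoc _ _ _).symm
  have hyk : Spec.map ρ ≫ k' = Yz.hom := by
    rw [← cancel_mono U.ι, Category.assoc, hk, hρ]
    exact (Category.assoc _ _ _).symm
  let j : ExtGeneric.lo k' Y (Spec.map ρ) ⟶ Yz :=
    Over.homMk (U := ExtGeneric.lo k' Y (Spec.map ρ)) (V := Yz) (𝟙 Yz.left) ((Category.id_comp _).trans hyk.symm)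
  have hj : ExtGeneric.inn hk Y (Spec.map ρ) hy = (Over.map U.ι).map j := Over.OverMorphism.ext rfl
  have h := hfam Y (Spec.map ρ) hy (BC.down U.ι z)
  have e : BC.down U.ι (z ≫ (Over.pullback U.ι).map lam) = BC.down U.ι (z ≫ k) := by
    rw [BC.down_map, h]
    show ExtGeneric.out hk Y _ hy ≫ BC.down U.ι (BC.up U.ι (ExtGeneric.inn hk Y _ hy ≫ BC.down U.ι z) ≫ k) = _
    rw [hj, ← BC.down_comp, BC.up_down, Category.assoc, BC.down_comp, ← hj, ← Category.assoc,
      ExtGeneric.out_inn, Category.id_comp]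
  exact congrArg CommaMorphism.left (BC.down_injective e)

/-- **Split subtori of open subschemes lie in the maximal one.** -/
theorem exists_factor [ConnectedSpace ↥S]
    (hnorm : ∀ s : S, IsDomain (S.presheaf.stalk s) ∧ IsIntegrallyClosed (S.presheaf.stalk s))
    {T T₀ : Over S} [GrpObj T] [GrpObj T₀] (hT : SGA3x.IsMultTypeFT T) (j₀ : T₀ ⟶ T)
    (hmax : ∀ (T' : Over S) [GrpObj T'] (j' : T' ⟶ T) [IsMonHom j'] [Mono j'] (r' : ℕ),
      Red.IsSplitTorusWith (Fin r' → ℤ) T' → ∃ g : T' ⟶ T₀, g ≫ j₀ = j')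
    (U : S.Opens) (T' : Over (U : Scheme.{u})) [GrpObj T'] (j' : T' ⟶ Red.bc U.ι T) [IsMonHom j'] [Mono j']
    (r' : ℕ) (hT' : Red.IsSplitTorusWith (Fin r' → ℤ) T') :
    ∃ g : T' ⟶ Red.bc U.ι T₀, g ≫ (Over.pullback U.ι).map j₀ = j' := by
  by_cases hU : genericPoint S ∈ U
  · obtain ⟨e⟩ := hT'
    let ee := BaseChange.overIso (DS.dsBC (S := S) (Fin r' → ℤ) U.ι)
    let ei := BaseChange.overIso e
    haveI : IsMonHom ei.inv := inferInstanceAs (IsMonHom (BaseChange.overIso e.symm).hom)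
    obtain ⟨lam, hlam, hl⟩ := exists_extend hnorm hT r' U hU (ee.hom ≫ ei.inv ≫ j')
    haveI : Mono lam := mono_of_open (GmFibre.isMultTypeFT_of_isTorus (Basic.isTorus_of_isSplit
      (T := Red.DS S (Fin r' → ℤ)) ⟨Iso.refl _⟩)) hT lam U _ hU (by rw [hl]; infer_instance)
    obtain ⟨g, hg⟩ := hmax (Red.DS S (Fin r' → ℤ)) lam r' ⟨Iso.refl _⟩
    refine ⟨ei.hom ≫ ee.inv ≫ (Over.pullback U.ι).map g, ?_⟩
    rw [Category.assoc, Category.assoc, ← Functor.map_comp, hg, hl]
    simp
  · haveI : IsEmpty ↥(U : Scheme.{u}) := ⟨fun x =>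
      hU (((genericPoint_spec S).specializes (Set.mem_univ x.1)).mem_open U.isOpen x.2)⟩
    haveI : IsEmpty ↥T'.left := ⟨fun x => IsEmpty.false (T'.hom x)⟩
    refine ⟨Over.homMk ((isInitialOfIsEmpty (X := T'.left)).to _)
      ((isInitialOfIsEmpty (X := T'.left)).hom_ext _ _), Over.OverMorphism.ext ?_⟩
    exact (isInitialOfIsEmpty (X := T'.left)).hom_ext _ _

end Groth.Agent.H87.ExtSplitTorus
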