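import Groth.Agent.H87.HomPts
import Groth.Agent.Lib.WeilExt.LftPoints
import Groth.Agent.Lib.GrpSch.Translate

/-!
# Multiplicative units on the generic fibre of a smooth group over a discrete valuation ring

If the special fibre of a smooth group over a discrete valuation ring is irreducible, a multiplicative
unit on the generic fibre has order zero along the special fibre.
-/

set_option autoImplicit false
universe u

open CategoryTheory CategoryTheory.Limits MonoidalCategory CartesianMonoidalCategory MonObj GrpObj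
open AlgebraicGeometry IsLocalRing
open Groth.Agent.H87.HomPts Groth.Agent.Lib.ModelFibre.Stalk

namespace Groth.Agent.H87.ExtUnit

set_option linter.style.haveILetI false
set_option linter.unusedSectionVars false

variable {W : Type u} [CommRing W]

/-- A multiplicative function with non-zero values on the points of `X` with values in fields over the
fraction field of `W`. -/
structure UVal (X : Over (Spec (.of W))) [GrpObj X] where
  /-- the values -/
  val : ∀ (L : Type u) [Field L] [Algebra W L], Function.Injective (algebraMap W L) → (pt W L ⟶ X) → L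
  ne_zero : ∀ (L : Type u) [Field L] [Algebra W L] (h : Function.Injective (algebraMap W L))
    (x : pt W L ⟶ X), val L h x ≠ 0
  natural : ∀ (L L' : Type u) [Field L] [Algebra W L] [Field L'] [Algebra W L']
    (h : Function.Injective (algebraMap W L)) (h' : Function.Injective (algebraMap W L'))
    (σ : L →ₐ[W] L') (x : pt W L ⟶ X), val L' h' (pm σ ≫ x) = σ (val L h x)
  mul : ∀ (L : Type u) [Field L] [Algebra W L] (h : Function.Injective (algebraMap W L))
    (x x' : pt W L ⟶ X), val L h (x * x') = val L h x * val L h x'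

/-- The tautological point with values in the local ring. -/
noncomputable def stPt {X : Over (Spec (.of W))} (ξ : X.left) :
    letI := (baseHom X.hom ξ).toAlgebra
    pt W (X.left.presheaf.stalk ξ) ⟶ X :=
  letI := (baseHom X.hom ξ).toAlgebra
  Over.homMk (X.left.fromSpecStalk ξ) (fromSpecStalk_comp X.hom ξ)

/-- The map of local rings of a morphism over the base, as an algebra map. -/
theorem exists_stalk_algHom {P X : Over (Spec (.of W))} (p : P ⟶ X) (ζ : P.left) (ξ : X.left)
    (h : p.left ζ = ξ) :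
    letI := (baseHom X.hom ξ).toAlgebra
    letI := (baseHom P.hom ζ).toAlgebra
    ∃ σ : X.left.presheaf.stalk ξ →ₐ[W] P.left.presheaf.stalk ζ, IsLocalHom σ.toRingHom ∧
      stPt ζ ≫ p = pm σ ≫ stPt ξ := by
  subst h
  letI := (baseHom X.hom (p.left ζ)).toAlgebra
  letI := (baseHom P.hom ζ).toAlgebra
  have hcomm : CommRingCat.ofHom (baseHom X.hom (p.left ζ)) ≫ p.left.stalkMap ζ =
      CommRingCat.ofHom (baseHom P.hom ζ) := Spec.map_injective (by
    rw [Spec.map_comp, ← fromSpecStalk_comp, ← fromSpecStalk_comp,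
      Scheme.SpecMap_stalkMap_fromSpecStalk_assoc, Over.w p])
  refine ⟨{ (p.left.stalkMap ζ).hom with commutes' := fun w => ConcreteCategory.congr_hom hcomm w },
    ?_, Over.OverMorphism.ext ?_⟩
  · exact inferInstanceAs (IsLocalHom (p.left.stalkMap ζ).hom)
  · exact (Scheme.SpecMap_stalkMap_fromSpecStalk p.left).symm

variable [IsDomain W] [IsDiscreteValuationRing W]

/-- **The order along the special fibre is zero.** -/
theorem exists_unit (X : Over (Spec (.of W))) [GrpObj X] [Smooth X.hom] (ξ : X.left)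
    (hξ : X.hom ξ = closedPoint W) (hgen : ∀ z : X.left, X.hom z = closedPoint W → ξ ⤳ z)
    (U : UVal X) :
    letI := (baseHom X.hom ξ).toAlgebra
    ∀ [IsDomain (X.left.presheaf.stalk ξ)] (hinj : Function.Injective (algebraMap W (FractionRing (X.left.presheaf.stalk ξ)))),
      ∃ v : (X.left.presheaf.stalk ξ)ˣ,
        algebraMap (X.left.presheaf.stalk ξ) (FractionRing (X.left.presheaf.stalk ξ)) v =
          U.val _ hinj (pm (IsScalarTower.toAlgHom W (X.left.presheaf.stalk ξ)
            (FractionRing (X.left.presheaf.stalk ξ))) ≫ stPt ξ) := by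
  letI := (baseHom X.hom ξ).toAlgebra
  intro _ hinj
  haveI : IsLocallyNoetherian X.left := LocallyOfFiniteType.isLocallyNoetherian X.hom
  have h1 : ringKrullDim (X.left.presheaf.stalk ξ) ≤ 1 := Groth.Agent.Lib.WeilExt.Generic.ringKrullDim_stalk_le_one X.hom
    fun z hz e => (hz.antisymm (hgen z (e.trans hξ))).eq
  obtain ⟨hloc, hdom, hdvr, hmap, -⟩ :=
    Groth.Agent.Lib.WeilExt.LftPoints.exists_stalk_unramified X.hom ξ hξ h1
  haveI := hdvr
  obtain ⟨ϖ, hϖ⟩ := IsDiscreteValuationRing.exists_irreducible W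
  have hϖO : Irreducible (algebraMap W (X.left.presheaf.stalk ξ) ϖ) := by
    rw [IsDiscreteValuationRing.irreducible_iff_uniformizer, ← hmap, hϖ.maximalIdeal_eq,
      Ideal.map_span, Set.image_singleton]
    rfl
  -- a point of the special fibre of the square
  let P := X ⊗ X
  haveI : Smooth P.hom := inferInstanceAs (Smooth (pullback.fst X.hom X.hom ≫ X.hom))
  haveI : IsLocallyNoetherian P.left := LocallyOfFiniteType.isLocallyNoetherian P.hom
  obtain ⟨z₀, hz₀, -⟩ := Scheme.Pullback.exists_preimage_pullback (f := X.hom) (g := X.hom) ξ ξ rfl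
  have hz₀c : P.hom z₀ = closedPoint W := by
    show (pullback.fst X.hom X.hom ≫ X.hom) z₀ = _
    rw [Scheme.Hom.comp_apply, hz₀, hξ]
  haveI : Nonempty P.left := ⟨z₀⟩
  obtain ⟨ζ, hζc, hζmin⟩ : ∃ ζ : P.left, P.hom ζ = closedPoint W ∧
      ∀ z, z ⤳ ζ → P.hom z = closedPoint W → z = ζ := by
    have hcl : IsClosed (P.hom ⁻¹' {closedPoint W}) :=
      IsClosed.preimage P.hom.continuous ((PrimeSpectrum.isClosed_singleton_iff_isMaximal _).2
        (maximalIdeal.isMaximal W))
    obtain ⟨C, hC, hsub⟩ := exists_mem_irreducibleComponents_subset_of_isIrreducible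
      ({⟨z₀, hz₀c⟩} : Set (P.hom ⁻¹' {closedPoint W})) isIrreducible_singleton
    let C' : Set P.left := Subtype.val '' C
    have hC'i : IsIrreducible C' := hC.1.image _ continuous_subtype_val.continuousOn
    have hC'c : IsClosed C' := hcl.isClosedMap_subtype_val _ (isClosed_of_mem_irreducibleComponents C hC)
    obtain ⟨ζ, hζ⟩ := QuasiSober.sober hC'i hC'c
    obtain ⟨ζ', hζ'C, hζ'⟩ := hζ.mem
    refine ⟨ζ, by rw [← hζ']; exact ζ'.2, fun z hz hzc => ?_⟩
    let D : Set (P.hom ⁻¹' {closedPoint W}) := closure {⟨z, hzc⟩}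
    have hCD : C ⊆ D := fun c hc => by
      rw [closure_subtype, Set.image_singleton]
      exact (hz.trans (hζ.specializes ⟨c, hc, rfl⟩)).mem_closure
    have hzC := hC.2 (isIrreducible_singleton.closure : IsIrreducible D) hCD
      (subset_closure (Set.mem_singleton (⟨z, hzc⟩ : P.hom ⁻¹' {closedPoint W})))
    exact (hz.antisymm (hζ.specializes ⟨_, hzC, rfl⟩)).eq
  -- its images
  have himg : ∀ (p : P ⟶ X), Flat p.left → p.left ζ = ξ := by
    intro p hp
    have hc : X.hom (p.left ζ) = closedPoint W := by rw [← Scheme.Hom.comp_apply, Over.w p, hζc]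
    obtain ⟨z, hz, hzξ⟩ := Flat.generalizingMap p.left (hgen _ hc)
    have : z = ζ := hζmin z hz (by rw [← Over.w p, Scheme.Hom.comp_apply, hzξ, hξ])
    exact this ▸ hzξ
  have hf1 : Flat (fst X X).left := Groth.Agent.Lib.GrpSch.fst_left_of X (inferInstance : Flat X.hom)
  have hf2 : Flat (snd X X).left := Groth.Agent.Lib.GrpSch.snd_left_of X (inferInstance : Flat X.hom)
  have hfm : Flat μ[X].left := Groth.Agent.Lib.GrpSch.act_left_of
    (Groth.Agent.Lib.GrpSch.regularAction X) (P := @Flat) inferInstance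
  letI := (baseHom P.hom ζ).toAlgebra
  obtain ⟨s₁, hs₁, e₁⟩ := exists_stalk_algHom (fst X X) ζ ξ (himg _ hf1)
  obtain ⟨s₂, hs₂, e₂⟩ := exists_stalk_algHom (snd X X) ζ ξ (himg _ hf2)
  obtain ⟨sm, hsm, em⟩ := exists_stalk_algHom μ[X] ζ ξ (himg _ hfm)
  have h1' : ringKrullDim (P.left.presheaf.stalk ζ) ≤ 1 :=
    Groth.Agent.Lib.WeilExt.Generic.ringKrullDim_stalk_le_one P.hom
      fun z hz e => hζmin z hz (e.trans hζc)
  obtain ⟨hloc', hdom', hdvr', hmap', -⟩ :=
    Groth.Agent.Lib.WeilExt.LftPoints.exists_stalk_unramified P.hom ζ hζc h1'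
  haveI := hdom'
  haveI := hdvr'
  have hϖO' : Irreducible (algebraMap W (P.left.presheaf.stalk ζ) ϖ) := by
    rw [IsDiscreteValuationRing.irreducible_iff_uniformizer, ← hmap', hϖ.maximalIdeal_eq,
      Ideal.map_span, Set.image_singleton]
    rfl
  have hinjs : ∀ s : (X.left.presheaf.stalk ξ) →ₐ[W] (P.left.presheaf.stalk ζ), IsLocalHom s.toRingHom → Function.Injective s := by
    intro s _
    rw [injective_iff_map_eq_zero]
    intro a ha
    by_contra ha0
    obtain ⟨n, v, rfl⟩ := IsDiscreteValuationRing.eq_unit_mul_pow_irreducible ha0 hϖO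
    rw [map_mul, map_pow, AlgHom.commutes, mul_eq_zero] at ha
    rcases ha with ha | ha
    · exact (v.isUnit.map s).ne_zero ha
    · exact hϖO'.ne_zero (pow_eq_zero_iff'.mp ha).1
  let L := FractionRing (X.left.presheaf.stalk ξ)
  let L' := FractionRing (P.left.presheaf.stalk ζ)
  have hinj' : Function.Injective (algebraMap W L') := by
    rw [IsScalarTower.algebraMap_eq W (P.left.presheaf.stalk ζ) L', RingHom.coe_comp]
    refine (IsFractionRing.injective (P.left.presheaf.stalk ζ) L').comp ((injective_iff_map_eq_zero _).2 fun a ha => ?_)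
    by_contra ha0
    obtain ⟨n, v, rfl⟩ := IsDiscreteValuationRing.eq_unit_mul_pow_irreducible ha0 hϖ
    rw [map_mul, map_pow, mul_eq_zero] at ha
    rcases ha with ha | ha
    · exact (v.isUnit.map (algebraMap W (P.left.presheaf.stalk ζ))).ne_zero ha
    · exact hϖO'.ne_zero (pow_eq_zero_iff'.mp ha).1
  -- extensions to the fraction fields
  have hext : ∀ s : (X.left.presheaf.stalk ξ) →ₐ[W] (P.left.presheaf.stalk ζ), IsLocalHom s.toRingHom → ∃ σ : L →ₐ[W] L',
      ∀ a, σ (algebraMap (X.left.presheaf.stalk ξ) L a) = algebraMap (P.left.presheaf.stalk ζ) L' (s a) := by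
    intro s hs
    refine ⟨IsFractionRing.liftAlgHom (A := (X.left.presheaf.stalk ξ)) (g := (IsScalarTower.toAlgHom W (P.left.presheaf.stalk ζ) L').comp s)
      ((IsFractionRing.injective (P.left.presheaf.stalk ζ) L').comp (hinjs s hs)), fun a => ?_⟩
    simp
  obtain ⟨σ₁, hσ₁⟩ := hext s₁ hs₁
  obtain ⟨σ₂, hσ₂⟩ := hext s₂ hs₂
  obtain ⟨σm, hσm⟩ := hext sm hsm
  let x₀ : pt W L ⟶ X := pm (IsScalarTower.toAlgHom W (X.left.presheaf.stalk ξ) L) ≫ stPt ξ
  let z : pt W L' ⟶ P := pm (IsScalarTower.toAlgHom W (P.left.presheaf.stalk ζ) L') ≫ stPt ζ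
  have hpt : ∀ (p : P ⟶ X) (s : (X.left.presheaf.stalk ξ) →ₐ[W] (P.left.presheaf.stalk ζ)) (σ : L →ₐ[W] L'), stPt ζ ≫ p = pm s ≫ stPt ξ →
      (∀ a, σ (algebraMap (X.left.presheaf.stalk ξ) L a) = algebraMap (P.left.presheaf.stalk ζ) L' (s a)) → z ≫ p = pm σ ≫ x₀ := by
    intro p s σ e hσ
    simp only [z, x₀, Category.assoc, e]
    rw [← Category.assoc, ← Category.assoc, pm_comp, pm_comp]
    congr 2
    exact AlgHom.ext fun a => (hσ a).symm
  have hzm : z ≫ μ[X] = (z ≫ fst X X) * (z ≫ snd X X) := by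
    rw [Hom.mul_def, ← comp_lift, lift_fst_snd, Category.comp_id]
  rw [hpt _ sm σm em hσm, hpt _ s₁ σ₁ e₁ hσ₁, hpt _ s₂ σ₂ e₂ hσ₂] at hzm
  have key := congrArg (U.val L' hinj') hzm
  rw [U.mul, U.natural L L' hinj hinj', U.natural L L' hinj hinj', U.natural L L' hinj hinj'] at key
  set f := U.val L hinj x₀ with hf
  -- the order
  obtain ⟨a, b, hb, hab⟩ := IsFractionRing.div_surjective (A := (X.left.presheaf.stalk ξ)) f
  have hb0 : b ≠ 0 := nonZeroDivisors.ne_zero hb
  have ha0 : a ≠ 0 := fun h => U.ne_zero L hinj x₀ (by rw [← hf, ← hab, h, map_zero, zero_div])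
  obtain ⟨i, va, rfl⟩ := IsDiscreteValuationRing.eq_unit_mul_pow_irreducible ha0 hϖO
  obtain ⟨j, vb, rfl⟩ := IsDiscreteValuationRing.eq_unit_mul_pow_irreducible hb0 hϖO
  let π : L' := algebraMap (P.left.presheaf.stalk ζ) L' (algebraMap W (P.left.presheaf.stalk ζ) ϖ)
  have hval : ∀ (s : (X.left.presheaf.stalk ξ) →ₐ[W] (P.left.presheaf.stalk ζ)) (σ : L →ₐ[W] L'), (∀ a, σ (algebraMap (X.left.presheaf.stalk ξ) L a) = algebraMap (P.left.presheaf.stalk ζ) L' (s a)) →
      ∃ w : (P.left.presheaf.stalk ζ)ˣ, σ f * π ^ j = algebraMap (P.left.presheaf.stalk ζ) L' w * π ^ i := by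
    intro s σ hσ
    refine ⟨Units.map s.toRingHom.toMonoidHom (va * vb⁻¹), ?_⟩
    have hb' : algebraMap (X.left.presheaf.stalk ξ) L (↑vb * algebraMap W (X.left.presheaf.stalk ξ) ϖ ^ j) ≠ 0 := fun h =>
      hb0 (IsFractionRing.injective (X.left.presheaf.stalk ξ) L (h.trans (map_zero _).symm))
    have e : f * algebraMap (X.left.presheaf.stalk ξ) L (↑vb * algebraMap W (X.left.presheaf.stalk ξ) ϖ ^ j) = algebraMap (X.left.presheaf.stalk ξ) L (↑va * algebraMap W (X.left.presheaf.stalk ξ) ϖ ^ i) := by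
      rw [← hab, div_mul_cancel₀ _ hb']
    have e' := congrArg σ e
    simp only [map_mul, map_pow, hσ, AlgHom.commutes] at e'
    change σ f * (algebraMap (P.left.presheaf.stalk ζ) L' (s vb) * π ^ j) = algebraMap (P.left.presheaf.stalk ζ) L' (s va) * π ^ i at e'
    show σ f * π ^ j = algebraMap (P.left.presheaf.stalk ζ) L' (s ↑(va * vb⁻¹)) * π ^ i
    have hu : algebraMap (P.left.presheaf.stalk ζ) L' (s ↑vb⁻¹) * algebraMap (P.left.presheaf.stalk ζ) L' (s ↑vb) = 1 := by
      rw [← map_mul, ← map_mul, Units.inv_mul, map_one, map_one]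
    rw [Units.val_mul, map_mul, map_mul]
    linear_combination (algebraMap (P.left.presheaf.stalk ζ) L' (s ↑vb⁻¹)) * e' - σ f * π ^ j * hu
  obtain ⟨w₁, hw₁⟩ := hval s₁ σ₁ hσ₁
  obtain ⟨w₂, hw₂⟩ := hval s₂ σ₂ hσ₂
  obtain ⟨wm, hwm⟩ := hval sm σm hσm
  have hπ : π ≠ 0 := fun h => hϖO'.ne_zero (IsFractionRing.injective (P.left.presheaf.stalk ζ) L' (h.trans (map_zero _).symm))
  have e3 : algebraMap (P.left.presheaf.stalk ζ) L' (↑wm * algebraMap W (P.left.presheaf.stalk ζ) ϖ ^ (i + j)) =
      algebraMap (P.left.presheaf.stalk ζ) L' (↑(w₁ * w₂) * algebraMap W (P.left.presheaf.stalk ζ) ϖ ^ (i + i)) := by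
    rw [Units.val_mul, map_mul, map_mul, map_mul, map_pow, map_pow]
    show _ * π ^ (i + j) = _ * π ^ (i + i)
    rw [key] at hwm
    linear_combination (-(π ^ j)) * hwm + σ₂ f * π ^ j * hw₁ + algebraMap (P.left.presheaf.stalk ζ) L' ↑w₁ * π ^ i * hw₂
  have hij := IsDiscreteValuationRing.unit_mul_pow_congr_pow hϖO' hϖO' wm (w₁ * w₂) (i + j) (i + i)
    (IsFractionRing.injective (P.left.presheaf.stalk ζ) L' e3)
  obtain rfl : i = j := by omega
  refine ⟨va * vb⁻¹, ?_⟩
  rw [← hab, map_mul, map_mul, Units.val_mul, map_mul]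
  have hvb : algebraMap (X.left.presheaf.stalk ξ) L ↑vb ≠ 0 := (vb.isUnit.map _).ne_zero
  have hp : algebraMap (X.left.presheaf.stalk ξ) L (algebraMap W (X.left.presheaf.stalk ξ) ϖ ^ i) ≠ 0 := fun h =>
    pow_ne_zero i hϖO.ne_zero (IsFractionRing.injective (X.left.presheaf.stalk ξ) L (h.trans (map_zero _).symm))
  have hu : algebraMap (X.left.presheaf.stalk ξ) L ↑vb⁻¹ * algebraMap (X.left.presheaf.stalk ξ) L ↑vb = 1 := by rw [← map_mul, Units.inv_mul, map_one]
  rw [mul_div_mul_right _ _ hp, eq_div_iff hvb]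
  linear_combination (algebraMap (X.left.presheaf.stalk ξ) L ↑va) * hu

end Groth.Agent.H87.ExtUnit
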