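import Groth.Agent.H87.CoactTrivial
import Mathlib.RingTheory.FiniteType
import Mathlib.RingTheory.Finiteness.Nakayama
import Mathlib.RingTheory.Localization.AtPrime.Basic
import Mathlib.RingTheory.LocalRing.ResidueField.Ideal
import Mathlib.RingTheory.Adjoin.Basic
import Mathlib.Tactic.LinearCombination

/-!
# A grading of a finite type algebra which is trivial on all fibres is trivial
-/

set_option autoImplicit false
universe u v

namespace Groth.Agent.H87.FibAlg

open MonoidAlgebra

variable {A B : Type u} [CommRing A] [CommRing B] [Algebra A B] {N : Type v} [CommGroup N]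

theorem eq_bot_of_forall_maximal {I : Ideal B} (hI : I.FG)
    (h : ∀ q : Ideal B, q.IsMaximal → ∃ s ∉ q, ∀ e ∈ I, s * e ∈ q * I) : I = ⊥ := by
  classical
  by_contra hne
  have hann : Module.annihilator B I ≠ ⊤ := by
    rw [Ne, Ideal.eq_top_iff_one, Module.mem_annihilator]
    intro h1
    apply hne
    rw [eq_bot_iff]
    intro e he
    simpa using congrArg Subtype.val (h1 ⟨e, he⟩)
  obtain ⟨q, hq, hqle⟩ := Ideal.exists_le_maximal _ hann
  obtain ⟨s, hs, hse⟩ := h q hq
  obtain ⟨t, c, hc, htc⟩ := hq.exists_inv hs
  have hle : I ≤ q • I := by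
    intro e he
    rw [smul_eq_mul, show e = t * (s * e) + c * e by linear_combination -e * htc]
    exact add_mem (Ideal.mul_mem_left _ t (hse e he)) (Ideal.mul_mem_mul hc he)
  obtain ⟨r, hr, hr0⟩ := Submodule.exists_sub_one_mem_and_smul_eq_zero_of_fg_of_le_smul q I hI hle
  have hrq : r ∈ q := hqle (Module.mem_annihilator.mpr fun e => Subtype.ext (hr0 e.1 e.2))
  exact hq.ne_top ((Ideal.eq_top_iff_one _).mpr (by simpa using sub_mem hrq hr))

theorem eq_inc [DecidableEq N] [Algebra.FiniteType A B] (ρ : B →+* MonoidAlgebra B N)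
    (hε : ∀ b, ((ρ b).coeff.sum fun _ r => r) = b)
    (hco : ∀ b m, ρ ((ρ b).coeff m) = single m ((ρ b).coeff m))
    (hbase : ∀ a : A, ρ (algebraMap A B a) = single 1 (algebraMap A B a))
    (hfib : ∀ (p : Ideal A), p.IsPrime → ∀ b m, m ≠ 1 →
      ∃ s ∉ p, algebraMap A B s * (ρ b).coeff m ∈ p.map (algebraMap A B)) :
    ρ = singleOneRingHom := by
  classical
  obtain ⟨F, hF⟩ := (Algebra.FiniteType.out : (⊤ : Subalgebra A B).FG)
  let T : Finset (B × N) := F.biUnion fun x => ((ρ x).coeff.support.erase 1).image fun m => (x, m)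
  let c : B × N → B := fun y => (ρ y.1).coeff y.2
  let I : Ideal B := Ideal.span (c '' (T : Set (B × N)))
  have hne : ∀ y ∈ T, y.2 ≠ 1 := by
    intro y hy
    simp only [T, Finset.mem_biUnion, Finset.mem_image, Finset.mem_erase] at hy
    obtain ⟨x, -, m, ⟨hm, -⟩, rfl⟩ := hy
    exact hm
  -- all coefficients away from the unit lie in `I`
  have hall : ∀ b m, m ≠ 1 → (ρ b).coeff m ∈ I := by
    intro b m hm
    have hb : b ∈ Algebra.adjoin A (F : Set B) := hF ▸ Algebra.mem_top
    induction hb using Algebra.adjoin_induction generalizing m with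
    | mem x hx =>
      by_cases h0 : (ρ x).coeff m = 0
      · rw [h0]; exact zero_mem _
      · refine Ideal.subset_span ⟨(x, m), ?_, rfl⟩
        simp only [T, Finset.coe_biUnion, Set.mem_iUnion, Finset.coe_image, Set.mem_image]
        exact ⟨x, hx, m, Finset.mem_erase.mpr ⟨hm, Finsupp.mem_support_iff.mpr h0⟩, rfl⟩
    | algebraMap r => rw [hbase, coeff_single, Finsupp.single_eq_of_ne hm]; exact zero_mem _
    | add x y _ _ hx hy => rw [map_add, coeff_add, Finsupp.add_apply]; exact add_mem (hx m hm) (hy m hm)
    | mul x y _ _ hx hy =>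
      rw [map_mul, ← Ideal.Quotient.eq_zero_iff_mem]
      have key : ∀ z : MonoidAlgebra B N, (∀ n, n ≠ 1 → z.coeff n ∈ I) →
          MonoidAlgebra.mapRingHom N (Ideal.Quotient.mk I) z =
            single 1 (Ideal.Quotient.mk I (z.coeff 1)) := by
        intro z hz
        ext n
        rw [coeff_mapRingHom, coeff_single, Finsupp.single_apply]
        split_ifs with h
        · rw [h]
        · exact Ideal.Quotient.eq_zero_iff_mem.mpr (hz n (Ne.symm h))
      rw [← coeff_mapRingHom (Ideal.Quotient.mk I), map_mul, key _ hx, key _ hy, single_mul_single,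
        coeff_single, _root_.mul_one, Finsupp.single_eq_of_ne hm]
  -- hence `I = ⊥`
  have hbot : I = ⊥ := by
    refine eq_bot_of_forall_maximal (Submodule.fg_span (T.finite_toSet.image _)) fun q hq => ?_
    let p := q.comap (algebraMap A B)
    have hp : p.IsPrime := hq.isPrime.comap _
    have hpq : p.map (algebraMap A B) ≤ q := Ideal.map_comap_le
    have step : ∀ y : B × N, ∃ s : A, s ∉ p ∧ (y ∈ T → algebraMap A B s * c y ∈ q * I) := by
      intro y
      by_cases hy : y ∈ T
      · obtain ⟨s, hs, hmem⟩ := hfib p hp y.1 y.2 (hne y hy)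
        refine ⟨s, hs, fun _ => ?_⟩
        have h2 : ∀ z ∈ p.map (algebraMap A B), ∀ r, (ρ (r * z)).coeff y.2 ∈ q * I := by
          intro z hz
          induction hz using Submodule.span_induction with
          | mem z hz =>
            obtain ⟨a, ha, rfl⟩ := hz
            intro r
            rw [map_mul, hbase, coeff_mul_single_one, Ideal.mul_comm q I]
            exact Ideal.mul_mem_mul (hall r y.2 (hne y hy)) (hpq (Ideal.mem_map_of_mem _ ha))
          | zero => intro r; simp
          | add z w _ _ hz hw =>
            intro r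
            rw [_root_.mul_add, map_add, coeff_add, Finsupp.add_apply]
            exact add_mem (hz r) (hw r)
          | smul k z _ hz => intro r; rw [smul_eq_mul, ← _root_.mul_assoc]; exact hz (r * k)
        have := h2 _ hmem 1
        rwa [_root_.one_mul, map_mul, hbase, coeff_single_one_mul, hco, coeff_single,
          Finsupp.single_eq_same] at this
      · exact ⟨1, fun h => hp.ne_top ((Ideal.eq_top_iff_one _).mpr h), fun h => absurd h hy⟩
    choose s hs hse using step
    refine ⟨algebraMap A B (∏ y ∈ T, s y), ?_, ?_⟩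
    · intro h
      obtain ⟨y, -, hy⟩ := hp.prod_mem_iff.mp (show ∏ y ∈ T, s y ∈ p from h)
      exact hs y hy
    · intro e he
      induction he using Submodule.span_induction with
      | mem e he =>
        obtain ⟨y, hy, rfl⟩ := he
        rw [← Finset.mul_prod_erase T s hy, map_mul, _root_.mul_comm (algebraMap A B (s y)),
          _root_.mul_assoc]
        exact Ideal.mul_mem_left _ _ (hse y hy)
      | zero => simp
      | add e e' _ _ h h' => rw [_root_.mul_add]; exact add_mem h h'
      | smul k e _ h => rw [smul_eq_mul, _root_.mul_left_comm]; exact Ideal.mul_mem_left _ _ h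
  refine RingHom.ext fun b => ?_
  rw [singleOneRingHom_apply]
  have h0 : ∀ m, m ≠ 1 → (ρ b).coeff m = 0 := fun m hm => by simpa [hbot] using hall b m hm
  have heq : ρ b = single 1 ((ρ b).coeff 1) := by
    ext m
    rw [coeff_single, Finsupp.single_apply]
    split_ifs with h
    · rw [h]
    · exact h0 m (Ne.symm h)
  have h1 := hε b
  rw [heq, coeff_single, Finsupp.sum_single_index rfl] at h1
  rwa [h1] at heq

end Groth.Agent.H87.FibAlg
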