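import Groth.Agent.H87.Rigid
import Groth.Agent.H87.FibAlg
import Mathlib.AlgebraicGeometry.Morphisms.FiniteType
import Mathlib.AlgebraicGeometry.ResidueField

/-!
# An action of a locally diagonalisable group which is trivial on every fibre is trivial
-/

set_option autoImplicit false
universe u

open CategoryTheory MonoidalCategory CartesianMonoidalCategory MonObj GrpObj AlgebraicGeometry
open CategoryTheory.Limits
open Groth.Agent.Lib.RedPts Groth.Agent.H87.Rigid

namespace Groth.Agent.H87.Fibres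

variable {S S' : Scheme.{u}} {g : S' ⟶ S} {M : Type} [AddCommGroup M] {G X : Over S} [GrpObj G]
  (e : Grp.mk (Red.bc g G) ≅ Grp.mk (Red.DS S' M)) (a : AlgGrp.Action G X)
  (h0 : ∀ (s : S) (Y : Over S) (_ : Y ⟶ Over.mk (S.fromSpecResidueField s)) (γ : Y ⟶ G) (x : Y ⟶ X),
    lift γ x ≫ a.act = x)

include h0 in
theorem triv_of_field {V : S.Opens} (hV : IsAffineOpen V) {L : Type u} [Field L] {D : CommRingCat.{u}}
    (κ : Γ(S, V) ⟶ CommRingCat.of L) (ψ : CommRingCat.of L ⟶ D) : Triv e a hV (κ ≫ ψ) := by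
  intro t ht ch y
  let k : Spec (CommRingCat.of L) ⟶ S := Spec.map κ ≫ hV.fromSpec
  let q : Spec (CommRingCat.of L) ⟶ Spec (S.residueField (k (IsLocalRing.closedPoint L))) :=
    Spec.map (S.descResidueField (Scheme.stalkClosedPointTo k))
  have hk : q ≫ S.fromSpecResidueField (k (IsLocalRing.closedPoint L)) = k :=
    Scheme.descResidueField_stalkClosedPointTo_fromSpecResidueField L S k
  let p : (Over.map g).obj (Over.mk t) ⟶ Over.mk (S.fromSpecResidueField (k (IsLocalRing.closedPoint L))) :=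
    Over.homMk (Spec.map ψ ≫ q) (by
      show (Spec.map ψ ≫ q) ≫ S.fromSpecResidueField _ = t ≫ g
      rw [Category.assoc, hk, ht, Spec.map_comp, Category.assoc])
  rw [actPt, h0 _ _ p _ _, BC.up_down]

set_option maxHeartbeats 400000 in
include e h0 in
theorem trivial_pt_of_fibres [LocallyOfFiniteType X.hom]
    {T : Over S'} (γ : (Over.map g).obj T ⟶ G) (x : (Over.map g).obj T ⟶ X) :
    lift γ x ≫ a.act = x := by
  refine trivial_pt e a (fun p => ?_) γ x
  obtain ⟨V, hV, hpV, -⟩ := exists_isAffineOpen_mem_and_subset (X := S)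
    (x := ((Red.bc g X).hom ≫ g).base p) (U := ⊤) trivial
  obtain ⟨U, hU, hpU, hUV⟩ := exists_isAffineOpen_mem_and_subset (X := S')
    (x := (Red.bc g X).hom.base p) (U := g ⁻¹ᵁ V) hpV
  obtain ⟨W, hW, hpW, hWU⟩ := exists_isAffineOpen_mem_and_subset (X := (Red.bc g X).left)
    (x := p) (U := (Red.bc g X).hom ⁻¹ᵁ U) hpU
  have hWV : W ≤ ((Red.bc g X).hom ≫ g) ⁻¹ᵁ V := fun z hz => hUV (hWU hz)
  refine ⟨V, hV, W, hW, hWV, hpW, fun {C t} χ y hy =>
    trivial_of_chart e a hV hW hWV χ y hy (fun {K} hK κ => ?_) (fun ρ hε hco hbase _ hok => ?_)⟩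
  · letI := hK.toField
    exact triv_of_field e a h0 hV κ (𝟙 _)
  · classical
    have hlft : LocallyOfFiniteType (Red.bc g X).hom :=
      inferInstanceAs (LocallyOfFiniteType (pullback.snd X.hom g))
    set η' := (Red.bc g X).hom.appLE U W hWU with hη'
    have hft : η'.hom.FiniteType :=
      LocallyOfFiniteType.finiteType_appLE (Red.bc g X).hom hU hW hWU
    algebraize [η'.hom]
    refine FibAlg.eq_inc (A := Γ(S', U)) ρ.hom (CoactTrivial.counit_of_lift ρ.hom hε)
      (CoactTrivial.coassoc_of_lift ρ.hom hco) (fun z => hbase U hU hWU z) fun q hq b m hm => ?_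
    let B := Γ((Red.bc g X).left, W)
    let Bq := Localization (Algebra.algebraMapSubmonoid B q.primeCompl)
    let K : Ideal Bq := (q.map (algebraMap Γ(S', U) B)).map (algebraMap B Bq)
    let φ₀ : B →+* Bq ⧸ K := (Ideal.Quotient.mk K).comp (algebraMap B Bq)
    let f : Γ(S', U) →+* Bq ⧸ K := φ₀.comp (algebraMap Γ(S', U) B)
    have hker : ∀ z ∈ q, f z = 0 := fun z hz => Ideal.Quotient.eq_zero_iff_mem.mpr
      (Ideal.mem_map_of_mem _ (Ideal.mem_map_of_mem _ hz))
    have hunit : ∀ z ∈ q.primeCompl, IsUnit (f z) := fun z hz =>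
      ((IsLocalization.map_units Bq (⟨algebraMap Γ(S', U) B z, z, hz, rfl⟩ :
        Algebra.algebraMapSubmonoid B q.primeCompl))).map (Ideal.Quotient.mk K)
    let g₀ : Γ(S', U) ⧸ q →+* Bq ⧸ K := Ideal.Quotient.lift q f hker
    have hg₀ : ∀ z : nonZeroDivisors (Γ(S', U) ⧸ q), IsUnit (g₀ z) := by
      rintro ⟨z, hz⟩
      obtain ⟨z, rfl⟩ := Ideal.Quotient.mk_surjective z
      exact hunit z fun h => nonZeroDivisors.ne_zero hz (Ideal.Quotient.eq_zero_iff_mem.mpr h)
    let L := FractionRing (Γ(S', U) ⧸ q)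
    let j : L →+* Bq ⧸ K := IsLocalization.lift hg₀
    let D : CommRingCat.{u} := CommRingCat.of (MonoidAlgebra (Bq ⧸ K) (Multiplicative M))
    let φ : Γ((Red.bc g X).left, W) ⟶ D :=
      CommRingCat.ofHom (MonoidAlgebra.singleOneRingHom.comp φ₀)
    let κ : Γ(S, V) ⟶ CommRingCat.of L :=
      g.appLE V U hUV ≫ CommRingCat.ofHom ((algebraMap _ L).comp (Ideal.Quotient.mk q))
    let ψ : CommRingCat.of L ⟶ D := CommRingCat.ofHom (MonoidAlgebra.singleOneRingHom.comp j)
    have hfac : ((Red.bc g X).hom ≫ g).appLE V W hWV ≫ φ = κ ≫ ψ := by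
      rw [← Scheme.Hom.appLE_comp_appLE (Red.bc g X).hom g V U W hUV hWU]
      apply CommRingCat.hom_ext
      refine RingHom.ext fun z => ?_
      show (MonoidAlgebra.singleOneRingHom : Bq ⧸ K →+* MonoidAlgebra (Bq ⧸ K) (Multiplicative M))
          (f ((g.appLE V U hUV).hom z)) =
        (MonoidAlgebra.singleOneRingHom : Bq ⧸ K →+* MonoidAlgebra (Bq ⧸ K) (Multiplicative M))
          (j (algebraMap (Γ(S', U) ⧸ q) L (Ideal.Quotient.mk q ((g.appLE V U hUV).hom z))))
      rw [IsLocalization.lift_eq]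
      rfl
    have h := hok D φ (by rw [hfac]; exact triv_of_field e a h0 hV κ ψ)
      (MonoidAlgebra.of (Bq ⧸ K) (Multiplicative M)) b
    have hl : ∀ z : MonoidAlgebra B (Multiplicative M),
        (MonoidAlgebra.liftNCRingHom φ.hom (show Multiplicative M →* D from MonoidAlgebra.of (Bq ⧸ K) (Multiplicative M))
          (fun _ _ => Commute.all (S := D) _ _) z : MonoidAlgebra (Bq ⧸ K) (Multiplicative M)).coeff m =
        φ₀ (z.coeff m) := by
      intro z
      induction z using MonoidAlgebra.induction_linear with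
      | zero => rw [map_zero]; simp
      | add z z' hz hz' =>
        rw [map_add]
        erw [MonoidAlgebra.coeff_add, Finsupp.add_apply, hz, hz']
        simp
      | single n r =>
        rw [MonoidAlgebra.liftNCRingHom_single]
        show (MonoidAlgebra.single (1 : Multiplicative M) (φ₀ r) * MonoidAlgebra.single n 1 : MonoidAlgebra (Bq ⧸ K) (Multiplicative M)).coeff m = _
        simp [Finsupp.single_apply, apply_ite φ₀]
    have h0' : φ₀ ((ρ.hom b).coeff m) = 0 := by
      rw [← hl]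
      refine (congrArg (fun z => MonoidAlgebra.coeff z m) h).trans ?_
      show (MonoidAlgebra.single (1 : Multiplicative M) (φ₀ b)).coeff m = 0
      rw [MonoidAlgebra.coeff_single, Finsupp.single_eq_of_ne hm]
    obtain ⟨s, ⟨s', hs', rfl⟩, hs⟩ :=
      (IsLocalization.algebraMap_mem_map_algebraMap_iff (Algebra.algebraMapSubmonoid B q.primeCompl) Bq
        (q.map (algebraMap Γ(S', U) B)) ((ρ.hom b).coeff m)).mp (Ideal.Quotient.eq_zero_iff_mem.mp h0')
    exact ⟨s', hs', hs⟩

/-- An action of a group fpqc-locally diagonalisable on a scheme locally of finite type which is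
trivial on every fibre is trivial. -/
theorem act_trivial {S : Scheme.{u}} (G X : Over S) [GrpObj G] [LocallyOfFiniteType X.hom]
    {S' : Scheme.{u}} (f : S' ⟶ S) [Flat f] [Surjective f]
    (hloc : ∀ s' : S', ∃ U : S'.Opens, s' ∈ U ∧ ∃ (M : Type) (_ : AddCommGroup M),
      Nonempty (Grp.mk (Red.bc (U.ι ≫ f) G) ≅ Grp.mk (Red.DS (U : Scheme.{u}) M)))
    (a : AlgGrp.Action G X)
    (h0 : ∀ (s : S) (Y : Over S) (_ : Y ⟶ Over.mk (S.fromSpecResidueField s)) (γ : Y ⟶ G) (x : Y ⟶ X),
      lift γ x ≫ a.act = x)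
    (Y : Over S) (γ : Y ⟶ G) (x : Y ⟶ X) : lift γ x ≫ a.act = x := by
  choose U hU M iM hM using hloc
  refine LocalEq.ext_of_local f _ _ U hU fun s' => ?_
  rw [comp_lift_assoc]
  exact trivial_pt_of_fibres (hM s').some a h0 _ _

/-- Conjugation through a homomorphism. -/
noncomputable def conjAction {S : Scheme.{u}} {G H : Over S} [GrpObj G] [GrpObj H] (u : G ⟶ H) [IsMonHom u] :
    AlgGrp.Action G H where
  act := (fst G H ≫ u) * snd G H * (fst G H ≫ u)⁻¹
  one_act := by
    rw [comp_mul, comp_mul, comp_inv, whiskerRight_fst_assoc, whiskerRight_snd, IsMonHom.one_hom u,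
      leftUnitor_hom]
    have h1 : fst (𝟙_ (Over S)) H ≫ η[H] = 1 := by
      rw [Hom.one_def, toUnit_unique (fst (𝟙_ (Over S)) H) (toUnit _)]
    rw [h1, inv_one, _root_.mul_one, _root_.one_mul]
  mul_act := by
    simp only [comp_mul, comp_inv, whiskerLeft_fst_assoc, whiskerLeft_snd, associator_hom_fst_assoc,
      associator_hom_snd_fst_assoc, associator_hom_snd_snd, whiskerRight_fst_assoc, whiskerRight_snd]
    have hμ : μ[G] ≫ u = (fst G G ≫ u) * (snd G G ≫ u) := by
      rw [IsMonHom.mul_hom u, Hom.mul_def]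
      congr 1
    rw [hμ, comp_mul]
    group

theorem conjAction_act {S : Scheme.{u}} {G H : Over S} [GrpObj G] [GrpObj H] (u : G ⟶ H) [IsMonHom u]
    {Y : Over S} (g : Y ⟶ G) (h : Y ⟶ H) :
    lift g h ≫ (conjAction u).act = (g ≫ u) * h * (g ≫ u)⁻¹ := by
  simp [conjAction, comp_mul, comp_inv]

end Groth.Agent.H87.Fibres
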