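import Groth.Agent.H87.CentralFinEtale
import Groth.Agent.H87.SplitHom
import Groth.Agent.H87.Normal
import Groth.Agent.H87.Locus
import Groth.Agent.H87.MT
import Groth.Agent.Lib.GrpSch.SmoothReduced
import Groth.Agent.Lib.MTBridge.SpecHopf
import Mathlib.GroupTheory.Perm.Cycle.Type

/-!
Finite smooth groups of multiplicative type are killed, locally, by integers invertible on the base.
-/

set_option autoImplicit false
set_option linter.style.haveILetI false
universe u

open CategoryTheory CategoryTheory.Limits MonoidalCategory CartesianMonoidalCategory MonObj GrpObj AlgebraicGeometry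
open Groth.Agent.Lib.RedPts Groth.Agent.Lib.Tori

namespace Groth.Agent.H87.FinEtaleData

/-- A finite group with reduced group algebra over a field has order invertible in the field. -/
theorem natCard_ne_zero (K : Type u) [Field K] (M : Type) [AddCommGroup M] [Finite M]
    [_root_.IsReduced (MonoidAlgebra K (Multiplicative M))] : (Nat.card M : K) ≠ 0 := by
  intro h0
  obtain ⟨p, hp⟩ := CharP.exists K
  rcases (CharP.char_is_prime_or_zero K p) with hpp | hp0
  · haveI := Fact.mk hpp
    have hdvd : p ∣ Nat.card (Multiplicative M) := (CharP.cast_eq_zero_iff K p _).1 h0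
    obtain ⟨x, hx⟩ := exists_prime_orderOf_dvd_card' p hdvd
    let e := MonoidAlgebra.of K (Multiplicative M) x
    haveI : CharP (MonoidAlgebra K (Multiplicative M)) p :=
      charP_of_injective_algebraMap (algebraMap K (MonoidAlgebra K (Multiplicative M))).injective p
    have h1 : (e - 1) ^ p = 0 := by
      rw [sub_pow_char, one_pow, ← _root_.map_pow, ← hx, pow_orderOf_eq_one, _root_.map_one, sub_self]
    have h2 : e = MonoidAlgebra.of K (Multiplicative M) 1 := by
      rw [_root_.map_one, ← sub_eq_zero]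
      exact IsReduced.eq_zero _ ⟨p, h1⟩
    have h3 : x = 1 := MonoidAlgebra.of_injective h2
    rw [h3, orderOf_one] at hx
    exact hpp.one_lt.ne hx
  · subst hp0
    haveI := CharP.charP_to_charZero K
    exact Nat.card_ne_zero.2 ⟨⟨0⟩, inferInstance⟩ (Nat.cast_eq_zero.1 h0)

open Groth.Agent.Lib.MTBridge in
/-- A group of multiplicative type whose geometric points of the base see it finite and smooth is killed locally by
an integer invertible there. -/
theorem killedLocally' {S : Scheme.{u}} (H : Over S) [GrpObj H] (hH : SGA3x.IsMultTypeFT H)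
    (hfib : ∀ (K : Type u) [Field K] (t : Spec (CommRingCat.of K) ⟶ S),
      IsFinite (Red.bc t H).hom ∧ Smooth (Red.bc t H).hom) : CentralFinEtale.KilledLocally H := by
  intro s
  obtain ⟨S', f, hf, hsurj, hc, hloc⟩ := id hH
  obtain ⟨s', rfl⟩ := hsurj.surj s
  obtain ⟨U, hsU, M, iM, -, ⟨c⟩⟩ := hloc s'
  letI := iM
  obtain ⟨q, rfl⟩ : s' ∈ Set.range U.ι := by rw [Scheme.Opens.range_ι]; exact hsU
  let K : Type u := (U : Scheme.{u}).residueField q
  let φ : Spec (CommRingCat.of K) ⟶ (U : Scheme.{u}) := (U : Scheme.{u}).fromSpecResidueField q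
  let t : Spec (CommRingCat.of K) ⟶ S := φ ≫ U.ι ≫ f
  have hq : t (IsLocalRing.closedPoint K) = f (U.ι q) := by
    show (φ ≫ U.ι ≫ f) (IsLocalRing.closedPoint K) = _
    rw [Scheme.Hom.comp_apply, Scheme.Hom.comp_apply]
    exact congrArg (fun x => f (U.ι x)) ((U : Scheme.{u}).fromSpecResidueField_apply q _)
  obtain ⟨eo, heo⟩ : ∃ eo : Red.bc t H ≅ Red.DS (Spec (CommRingCat.of K)) M, IsMonHom eo.hom :=
    ⟨BaseChange.overIso (Charts.resChart c φ), BaseChange.isMonHom_overIso _⟩
  haveI := heo
  haveI : IsIso eo.inv.left := inferInstanceAs (IsIso ((Over.forget _).map eo.inv))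
  haveI := (hfib K t).1
  haveI := (hfib K t).2
  haveI : IsFinite (Red.DS (Spec (CommRingCat.of K)) M).hom := by rw [← Over.w eo.inv]; infer_instance
  haveI : Smooth (Red.DS (Spec (CommRingCat.of K)) M).hom := by rw [← Over.w eo.inv]; infer_instance
  haveI : Finite M := HomFam.finite_of_isFinite_spec (CommRingCat.of K) M
  haveI : _root_.IsReduced (MonoidAlgebra K (Multiplicative M)) := by
    obtain ⟨g⟩ : Nonempty (Red.DS (Spec (CommRingCat.of K)) M ≅ GA K (MonoidAlgebra K (Multiplicative M))) :=
      ⟨BaseChange.overIso (dsSpec K M)⟩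
    obtain ⟨r, hr⟩ : ∃ r : Spec (CommRingCat.of (MonoidAlgebra K (Multiplicative M))) ⟶
        (Red.DS (Spec (CommRingCat.of K)) M).left, IsIso r :=
      ⟨g.inv.left, inferInstanceAs (IsIso ((Over.forget _).map g.inv))⟩
    haveI := hr
    haveI : AlgebraicGeometry.IsReduced (Red.DS (Spec (CommRingCat.of K)) M).left :=
      Lib.GrpSch.isReduced_of_smooth_field (Red.DS (Spec (CommRingCat.of K)) M).hom
    haveI : AlgebraicGeometry.IsReduced (Spec (CommRingCat.of (MonoidAlgebra K (Multiplicative M)))) :=
      isReduced_of_isOpenImmersion r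
    exact isReduced_of_injective (Scheme.ΓSpecIso (CommRingCat.of (MonoidAlgebra K (Multiplicative M)))).inv.hom
      (ConcreteCategory.bijective_of_isIso (Scheme.ΓSpecIso (CommRingCat.of (MonoidAlgebra K (Multiplicative M)))).inv).1
  let n := Nat.card M
  have hn : (n : K) ≠ 0 := natCard_ne_zero K M
  haveI : IsAffineHom H.hom := MT.isAffineHom hH
  haveI : IsSeparated H.hom := inferInstance
  let pw : H ⟶ H := (𝟙 H) ^ n
  haveI : IsMonHom pw := HomDS.isMonHom_of_points pw fun X a b => by
    rw [MonObj.comp_pow, MonObj.comp_pow, MonObj.comp_pow, Category.comp_id, Category.comp_id, Category.comp_id,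
      (show Commute a b from Normal.comm hH a b).mul_pow]
  obtain ⟨U₀, -, hU₀, hk⟩ := Locus.exists_trivial_locus pw hH (Or.inr (MT.locallyOfFinitePresentation hH))
  have hkt : Locus.Kills pw t := by
    rw [Locus.kills_iff_map_eq_one, CentralFinEtale.map_pow, CategoryTheory.Functor.map_id]
    rw [← cancel_mono eo.hom, MonObj.pow_comp _ _ eo.hom, Category.id_comp, MonObj.one_comp eo.hom]
    refine Gm.dsFn_ext fun m => ?_
    rw [Gm.dsFn_pow, Gm.dsFn_one, ← Gm.dsFn_nsmul, card_nsmul_eq_zero']
    exact Gm.dsFn_zero eo.hom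
  have hmem : f (U.ι q) ∈ U₀ := by
    show f (U.ι q) ∈ (U₀ : Set S)
    rw [hU₀, ← hq]
    exact (Locus.kills_point_iff pw t).1 hkt
  refine ⟨U₀ ⊓ S.basicOpen (n : Γ(S, ⊤)), n, ⟨hmem, ?_⟩, fun L _ l hl => ?_, fun Y y hY => ?_⟩
  · have hu : IsUnit (n : Γ(Spec (CommRingCat.of K), ⊤)) := by
      rw [← map_natCast (Scheme.ΓSpecIso (CommRingCat.of K)).inv.hom]
      exact (isUnit_iff_ne_zero.2 hn).map _
    have : IsLocalRing.closedPoint K ∈ t ⁻¹ᵁ S.basicOpen (n : Γ(S, ⊤)) := by
      rw [Scheme.preimage_basicOpen_top, map_natCast, Scheme.basicOpen_of_isUnit _ hu]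
      trivial
    show f (U.ι q) ∈ S.basicOpen (n : Γ(S, ⊤))
    rw [← hq]
    exact this
  · intro h0
    have hmem' : IsLocalRing.closedPoint L ∈ l ⁻¹ᵁ S.basicOpen (n : Γ(S, ⊤)) := (hl ⟨_, rfl⟩).2
    rw [Scheme.preimage_basicOpen_top, map_natCast,
      ← map_natCast (Scheme.ΓSpecIso (CommRingCat.of L)).inv.hom n, h0, _root_.map_zero, Scheme.basicOpen_zero] at hmem'
    exact hmem'
  · let p : Y ⟶ Over.mk U₀.ι := Over.homMk (IsOpenImmersion.lift U₀.ι Y.hom (by
      rw [Scheme.Opens.range_ι]
      exact hY.trans Set.inter_subset_left)) (IsOpenImmersion.lift_fac _ _ _)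
    have h := hk Y p y
    rw [MonObj.comp_pow, Category.comp_id] at h
    exact h

/-- A finite smooth group of multiplicative type is killed locally by an integer invertible there. -/
theorem killedLocally {S : Scheme.{u}} (H : Over S) [GrpObj H] (hH : SGA3x.IsMultTypeFT H)
    [IsFinite H.hom] [Smooth H.hom] : CentralFinEtale.KilledLocally H :=
  killedLocally' H hH fun _ _ t => ⟨inferInstanceAs (IsFinite (pullback.snd H.hom t)),
    inferInstanceAs (Smooth (pullback.snd H.hom t))⟩

/-- The same, from a surjective closed subscheme of the base. -/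
theorem killedLocally_of_mod {S S₀ : Scheme.{u}} (i : S₀ ⟶ S) [IsClosedImmersion i] [Surjective i]
    (H : Over S) [GrpObj H] (hH : SGA3x.IsMultTypeFT H) [IsFinite (Red.bc i H).hom] [Smooth (Red.bc i H).hom] :
    CentralFinEtale.KilledLocally H :=
  killedLocally' H hH fun K _ t => by
    haveI : IsIso (pullback.fst t i) := isIso_of_isClosedImmersion_of_surjective _
    let w : Spec (CommRingCat.of K) ⟶ S₀ := inv (pullback.fst t i) ≫ pullback.snd t i
    have hw : w ≫ i = t := by rw [Category.assoc, ← pullback.condition, IsIso.inv_hom_id_assoc]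
    let ε := BaseChange.overIso (BaseChange.bcCongr hw.symm H ≪≫ BaseChange.bcComp w i H)
    haveI : IsIso ε.hom.left := inferInstanceAs (IsIso ((Over.forget _).map ε.hom))
    rw [← Over.w ε.hom]
    haveI : IsFinite (Red.bc w (Red.bc i H)).hom := inferInstanceAs (IsFinite (pullback.snd (Red.bc i H).hom w))
    haveI : Smooth (Red.bc w (Red.bc i H)).hom := inferInstanceAs (Smooth (pullback.snd (Red.bc i H).hom w))
    exact ⟨inferInstance, inferInstance⟩

end Groth.Agent.H87.FinEtaleData
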