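import Groth.Agent.H87.FinSubMod
import Groth.Agent.Lib.SmWeil.CartanAux
import Groth.Agent.Lib.DescAlg.Descends
import Mathlib.GroupTheory.FiniteAbelian.Basic

/-!
# The moduli of finite subgroups of multiplicative type
-/

set_option autoImplicit false
set_option linter.style.haveILetI false
universe u

open CategoryTheory MonoidalCategory CartesianMonoidalCategory MonObj GrpObj AlgebraicGeometry
open CategoryTheory.Limits
open Groth.Agent.Lib Groth.Agent.Lib.RedPts Groth.Agent.H87.MonoHom Groth.Agent.H87.SubIn Groth.Agent.H87.MonoRel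

namespace Groth.Agent.H87.FinSubAll

/-- A carrier type without operations. -/
def Carrier (n : ℕ) : Type := Fin n

instance (n : ℕ) : Finite (Carrier n) := inferInstanceAs (Finite (Fin n))

/-- Representatives of the finite abelian groups up to isomorphism. -/
theorem exists_types : ∃ (I : Type u) (Mf : I → Type) (_ : ∀ i, AddCommGroup (Mf i)) (_ : ∀ i, Finite (Mf i)),
    (∀ i j, (Mf i ≃+ Mf j) → i = j) ∧ ∀ (N : Type) [AddCommGroup N] [Finite N], ∃ i, Nonempty (Mf i ≃+ N) := by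
  let R : Setoid (Σ n : ℕ, AddCommGroup (Carrier n)) :=
    { r := fun a b => Nonempty (@AddEquiv (Carrier a.1) (Carrier b.1) a.2.toAdd b.2.toAdd)
      iseqv := ⟨fun a => ⟨@AddEquiv.refl _ a.2.toAdd⟩, fun {a b} ⟨e⟩ => ⟨@AddEquiv.symm _ _ a.2.toAdd b.2.toAdd e⟩,
        fun {a b c} ⟨e⟩ ⟨e'⟩ => ⟨@AddEquiv.trans _ _ _ a.2.toAdd b.2.toAdd c.2.toAdd e e'⟩⟩ }
  refine ⟨ULift.{u} (Quotient R), fun i => Carrier i.down.out.1, fun i => i.down.out.2, fun i => inferInstance,
    fun i j e => ULift.ext _ _ ?_, fun N _ _ => ?_⟩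
  · exact (Quotient.out_eq i.down).symm.trans ((Quotient.sound (s := R) ⟨e⟩).trans (Quotient.out_eq j.down))
  · let e : N ≃ Carrier (Nat.card N) := Finite.equivFin N
    letI inst : AddCommGroup (Carrier (Nat.card N)) := e.symm.addCommGroup
    let p : Σ n : ℕ, AddCommGroup (Carrier n) := ⟨Nat.card N, inst⟩
    refine ⟨ULift.up (Quotient.mk R p), ?_⟩
    obtain ⟨h⟩ : R (Quotient.mk R p).out p := Quotient.mk_out (s := R) p
    letI := (Quotient.mk R p).out.2
    exact ⟨h.trans (e.symm.addEquiv)⟩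

variable {S : Scheme.{u}} (G : Over S) [GrpObj G] [IsAffineHom G.hom] [LocallyOfFinitePresentation G.hom]

set_option maxHeartbeats 1600000 in
/-- **The universal finite subgroup of multiplicative type.** -/
theorem exists_univ_types :
    ∃ (M : Over S) (K : Over M.left) (_ : GrpObj K) (j : K ⟶ Red.bc M.hom G),
      (∀ m : ↥M.left, ∃ U : M.left.Opens, m ∈ U ∧ IsClosed (U : Set ↥M.left) ∧ IsAffineHom (U.ι ≫ M.hom)) ∧
      IsMonHom j ∧ Mono j ∧ IsImmersion j.left ∧ SGA3x.IsMultTypeFT K ∧ IsFinite K.hom ∧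
      LocallyOfFinitePresentation M.hom ∧
      (∃ (I : Type u) (Mf : I → Type) (_ : ∀ i, AddCommGroup (Mf i)) (_ : ∀ i, Finite (Mf i)) (U : I → M.left.Opens),
        (∀ i j, (Mf i ≃+ Mf j) → i = j) ∧
        (∀ (N : Type) [AddCommGroup N] [Finite N], ∃ i, Nonempty (Mf i ≃+ N)) ∧
        (∀ m, ∃ i, m ∈ U i) ∧ (∀ i, IsAffineHom ((U i).ι ≫ M.hom)) ∧
        ∀ i (m : M.left), m ∈ U i → ∃ (X : Scheme.{u}) (x : X ⟶ M.left) (y : X), x y = m ∧
          Nonempty (Grp.mk (Red.bc x K) ≅ Grp.mk (Red.DS X (Mf i)))) ∧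
      ∀ (T : Scheme.{u}) (t : T ⟶ S) (K' : Over T) [GrpObj K'] (j' : K' ⟶ Red.bc t G) [IsMonHom j'] [Mono j'],
        SGA3x.IsMultTypeFT K' → IsFinite K'.hom →
        ∃! v : T ⟶ M.left, v ≫ M.hom = t ∧
          ∀ (W : Scheme.{u}) (w : W ⟶ T) (g : W ⟶ G.left), In j' w g ↔ In j (w ≫ v) g := by
  obtain ⟨I, Mf, iMf, fMf, hdist, hrep⟩ := exists_types.{u}
  choose E a iam iamono Mc q Z gZ z izm izmono hMa hMp hq hIn hrel hEx using
    fun i => FinSubMod.exists_type (G := G) (Mf i)
  haveI := fun i => hMa i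
  haveI := fun i => hMp i
  haveI := fun i => (hq i).1
  haveI := fun i => (hq i).2.1
  haveI := fun i => (hq i).2.2.1
  haveI := fun i => (hq i).2.2.2
  letI := gZ
  haveI := iam; haveI := iamono; haveI := izm; haveI := izmono
  let M : Over S := Over.mk (Sigma.desc fun i => (Mc i).hom)
  let ι' : ∀ i, (Mc i).left ⟶ M.left := fun i => Sigma.ι (fun i => (Mc i).left) i
  have hι : ∀ i, ι' i ≫ M.hom = (Mc i).hom := fun i => Sigma.ι_desc _ _
  haveI : ∀ i, IsOpenImmersion (ι' i) := fun i => inferInstanceAs (IsOpenImmersion (Sigma.ι (fun i => (Mc i).left) i))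
  have hsurjM : ∀ m : M.left, ∃ i y, ι' i y = m := fun m => by
    obtain ⟨y, hy⟩ := (sigmaOpenCover fun i => (Mc i).left).covers m
    exact ⟨_, y, hy⟩
  let kι : ∀ i, (Z i).left ⟶ ∐ fun i => (Z i).left := fun i => Sigma.ι (fun i => (Z i).left) i
  let K : Over M.left := Over.mk (Limits.Sigma.map fun i => (Z i).hom)
  have hkK : ∀ i, kι i ≫ K.hom = (Z i).hom ≫ ι' i := fun i =>
    Limits.Sigma.ι_map (fun i => (Z i).hom) i
  let gK : K.left ⟶ G.left := Sigma.desc fun i => gmap G (z i)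
  have hkg : ∀ i, kι i ≫ gK = gmap G (z i) := fun i => Sigma.ι_desc _ _
  let j : K ⟶ Red.bc M.hom G := Over.homMk (pullback.lift gK K.hom (Sigma.hom_ext _ _ fun i => by
    show kι i ≫ gK ≫ G.hom = kι i ≫ K.hom ≫ M.hom
    rw [← Category.assoc, hkg, ← Category.assoc (kι i) K.hom, hkK, Category.assoc (Z i).hom, hι]
    exact gmap_hom (z i))) (pullback.lift_snd _ _ _)
  have hgj : gmap G j = gK := pullback.lift_fst _ _ _
  -- factorisation through a summand
  have hfac : ∀ (i : I) {W : Scheme.{u}} (k : W ⟶ K.left) (w : W ⟶ (Mc i).left), k ≫ K.hom = w ≫ ι' i →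
      ∃ l : W ⟶ (Z i).left, l ≫ kι i = k ∧ l ≫ (Z i).hom = w := by
    intro i W k w hk
    have hr : Set.range k ⊆ Set.range (kι i) := by
      rintro _ ⟨x, rfl⟩
      obtain ⟨y, hy⟩ := (sigmaOpenCover fun i => (Z i).left).covers (k x)
      generalize (sigmaOpenCover fun i => (Z i).left).idx (k x) = i' at y hy
      have h1 : ι' i' ((Z i').hom y) = ι' i (w x) := by
        rw [← Scheme.Hom.comp_apply, ← hkK, ← Scheme.Hom.comp_apply, ← hk, Scheme.Hom.comp_apply, Scheme.Hom.comp_apply]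
        exact congrArg K.hom hy
      have h3 : i' = i := congrArg Sigma.fst ((sigmaι_eq_iff _ _ _ _ _).mp h1)
      subst h3
      exact ⟨y, hy⟩
    haveI : IsOpenImmersion (kι i) := inferInstanceAs (IsOpenImmersion (Sigma.ι (fun i => (Z i).left) i))
    refine ⟨IsOpenImmersion.lift (kι i) k hr, IsOpenImmersion.lift_fac _ _ _, ?_⟩
    rw [← cancel_mono (ι' i), Category.assoc, ← hkK, IsOpenImmersion.lift_fac_assoc, hk]
  have inK : ∀ (i : I) {W : Scheme.{u}} (w : W ⟶ (Mc i).left) (g : W ⟶ G.left),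
      In j (w ≫ ι' i) g ↔ In (z i) w g := by
    intro i W w g
    constructor
    · rintro ⟨k, h1, h2⟩
      obtain ⟨l, rfl, hl⟩ := hfac i k w h1
      exact ⟨l, hl, by rw [← hkg, ← hgj, ← Category.assoc]; exact h2⟩
    · rintro ⟨l, rfl, rfl⟩
      exact ⟨l ≫ kι i, by rw [Category.assoc, hkK, Category.assoc], by rw [hgj, Category.assoc, hkg]⟩
  have loc : ∀ {W : Scheme.{u}} (w : W ⟶ M.left) (x : W), ∃ (i : I) (V : W.Opens) (w' : (V : Scheme.{u}) ⟶ (Mc i).left),
      x ∈ V ∧ V.ι ≫ w = w' ≫ ι' i := by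
    intro W w x
    obtain ⟨i, y, hy⟩ := hsurjM (w x)
    have hr : Set.range ((w ⁻¹ᵁ (ι' i).opensRange).ι ≫ w) ⊆ Set.range (ι' i) := by
      rintro _ ⟨v, rfl⟩
      exact v.2
    exact ⟨i, w ⁻¹ᵁ (ι' i).opensRange, IsOpenImmersion.lift (ι' i) _ hr, ⟨y, hy⟩,
      (IsOpenImmersion.lift_fac _ _ _).symm⟩
  haveI hjmono : Mono j := mono_of_In fun {W} b c h1 h2 => Scheme.hom_ext_of_forall _ _ fun x => by
    obtain ⟨i, V, w, hx, hw⟩ := loc (b ≫ K.hom) x
    obtain ⟨l, hl, hlw⟩ := hfac i (V.ι ≫ b) w (by rw [Category.assoc]; exact hw)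
    obtain ⟨l', hl', hlw'⟩ := hfac i (V.ι ≫ c) w (by rw [Category.assoc, ← h1]; exact hw)
    refine ⟨V, hx, ?_⟩
    have h3 : l ≫ gmap G (z i) = l' ≫ gmap G (z i) := by
      rw [← hkg, ← Category.assoc l, ← Category.assoc l', hl, hl', Category.assoc, Category.assoc, ← hgj, h2]
    rw [← hl, ← hl', hom_ext_In (j := z i) (hlw.trans hlw'.symm) h3]
  have hgrp : ∀ {W : Scheme.{u}} (w : W ⟶ M.left),
      In j w (1 : Over.mk (w ≫ M.hom) ⟶ G).left ∧
        (∀ b c : Over.mk (w ≫ M.hom) ⟶ G, In j w b.left → In j w c.left → In j w (b * c).left) ∧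
        ∀ b : Over.mk (w ≫ M.hom) ⟶ G, In j w b.left → In j w b⁻¹.left := by
    intro W w
    have main : ∀ (i : I) (V : W.Opens) (w' : (V : Scheme.{u}) ⟶ (Mc i).left), V.ι ≫ w = w' ≫ ι' i →
        ∃ r : Over.mk (w' ≫ (Mc i).hom) ⟶ Over.mk (w ≫ M.hom), r.left = V.ι := fun i V w' h =>
      ⟨Over.homMk V.ι (by
        show V.ι ≫ w ≫ M.hom = w' ≫ (Mc i).hom
        rw [← Category.assoc, h, Category.assoc, hι]), rfl⟩
    refine ⟨In.glue fun x => ?_, fun b c hb hc => In.glue fun x => ?_, fun b hb => In.glue fun x => ?_⟩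
    all_goals
      obtain ⟨i, V, w', hx, hw⟩ := loc w x
      obtain ⟨r, hr⟩ := main i V w' hw
      refine ⟨V, hx, ?_⟩
      rw [hw, inK, ← hr, ← Over.comp_left]
    · rw [MonObj.comp_one]; exact (In.grp (z i) w').1
    · rw [MonObj.comp_mul]
      refine (In.grp (z i) w').2.1 _ _ ?_ ?_
      · rw [Over.comp_left, hr, ← inK, ← hw]; exact hb.comp _
      · rw [Over.comp_left, hr, ← inK, ← hw]; exact hc.comp _
    · rw [GrpObj.comp_inv]
      refine (In.grp (z i) w').2.2 _ ?_
      rw [Over.comp_left, hr, ← inK, ← hw]; exact hb.comp _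
  obtain ⟨gKo, hjm⟩ := exists_grpObj_of_In j hgrp
  letI := gKo; haveI := hjm
  -- separation
  have sep : ∀ {W : Scheme.{u}} (m m' : W ⟶ M.left), m ≫ M.hom = m' ≫ M.hom →
      (∀ (W' : Scheme.{u}) (r : W' ⟶ W) (g : W' ⟶ G.left), In j (r ≫ m) g ↔ In j (r ≫ m') g) → m = m' := by
    intro W m m' hS h
    refine Scheme.hom_ext_of_forall _ _ fun x => ?_
    obtain ⟨i, V₁, w₁, hx₁, hw₁⟩ := loc m x
    obtain ⟨i', V₂, w₂, hx₂, hw₂⟩ := loc m' x
    let V := V₁ ⊓ V₂
    let w := W.homOfLE (inf_le_left : V ≤ V₁) ≫ w₁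
    let w' := W.homOfLE (inf_le_right : V ≤ V₂) ≫ w₂
    have hw : V.ι ≫ m = w ≫ ι' i := by
      rw [Category.assoc, ← hw₁, ← Category.assoc, Scheme.homOfLE_ι]
    have hw' : V.ι ≫ m' = w' ≫ ι' i' := by
      rw [Category.assoc, ← hw₂, ← Category.assoc, Scheme.homOfLE_ι]
    refine ⟨V, ⟨hx₁, hx₂⟩, ?_⟩
    let p₁ := pullback.fst w (q i).left
    let p₂ := pullback.fst (p₁ ≫ w') (q i').left
    let p := p₂ ≫ p₁
    haveI : Flat p₁ := MorphismProperty.pullback_fst (P := @Flat) _ _ inferInstance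
    haveI : Surjective p₁ := MorphismProperty.pullback_fst (P := @Surjective) _ _ inferInstance
    haveI : Flat p₂ := MorphismProperty.pullback_fst (P := @Flat) _ _ inferInstance
    haveI : Surjective p₂ := MorphismProperty.pullback_fst (P := @Surjective) _ _ inferInstance
    haveI : Flat p := inferInstance
    haveI : Surjective p := inferInstance
    let e := p₂ ≫ pullback.snd w (q i).left
    let e' := pullback.snd (p₁ ≫ w') (q i').left
    have he : e ≫ (q i).left = p ≫ w := (Category.assoc _ _ _).trans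
      ((congrArg (p₂ ≫ ·) pullback.condition.symm).trans (Category.assoc _ _ _).symm)
    have he' : e' ≫ (q i').left = p ≫ w' := pullback.condition.symm.trans (Category.assoc _ _ _).symm
    let t := p ≫ V.ι ≫ m ≫ M.hom
    have key : w ≫ (Mc i).hom = V.ι ≫ m ≫ M.hom :=
      (congrArg (w ≫ ·) (hι i).symm).trans ((Category.assoc _ _ _).symm.trans
        ((congrArg (· ≫ M.hom) hw.symm).trans (Category.assoc _ _ _)))
    have key' : w' ≫ (Mc i').hom = V.ι ≫ m ≫ M.hom :=
      (congrArg (w' ≫ ·) (hι i').symm).trans ((Category.assoc _ _ _).symm.trans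
        ((congrArg (· ≫ M.hom) hw'.symm).trans ((Category.assoc _ _ _).trans (congrArg (V.ι ≫ ·) hS.symm))))
    have het : e ≫ (E i).hom = t := (congrArg (e ≫ ·) (Over.w (q i)).symm).trans ((Category.assoc _ _ _).symm.trans
      ((congrArg (· ≫ (Mc i).hom) he).trans ((Category.assoc _ _ _).trans (congrArg (p ≫ ·) key))))
    have het' : e' ≫ (E i').hom = t := (congrArg (e' ≫ ·) (Over.w (q i')).symm).trans ((Category.assoc _ _ _).symm.trans
      ((congrArg (· ≫ (Mc i').hom) he').trans ((Category.assoc _ _ _).trans (congrArg (p ≫ ·) key'))))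
    have hsame : ∀ (W' : Scheme.{u}) (r : W' ⟶ _) (g : W' ⟶ G.left),
        In (a i) (r ≫ e) g ↔ In (a i') (r ≫ e') g := by
      intro W' r g
      have e1 : (r ≫ e) ≫ (q i).left = r ≫ p ≫ w := (Category.assoc _ _ _).trans (congrArg (r ≫ ·) he)
      have e2 : (r ≫ e') ≫ (q i').left = r ≫ p ≫ w' := (Category.assoc _ _ _).trans (congrArg (r ≫ ·) he')
      have e3 : (r ≫ p ≫ w) ≫ ι' i = (r ≫ p ≫ V.ι) ≫ m := by
        simp only [Category.assoc]
        exact congrArg (r ≫ p ≫ ·) hw.symm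
      have e4 : (r ≫ p ≫ w') ≫ ι' i' = (r ≫ p ≫ V.ι) ≫ m' := by
        simp only [Category.assoc]
        exact congrArg (r ≫ p ≫ ·) hw'.symm
      refine (hIn i (r ≫ e) g).symm.trans (Iff.trans ?_ (hIn i' (r ≫ e') g))
      rw [e1, e2, ← inK, ← inK, e3, e4]
      exact h W' (r ≫ p ≫ V.ι) g
    obtain ⟨y, -⟩ := p.surjective ⟨x, hx₁, hx₂⟩
    obtain ⟨φ, -⟩ := exists_local_rel (a i) (a i') e het e' het' hsame y
    obtain rfl : i = i' := hdist i i' φ.symm
    have h2 := hrel i t e e' het het' hsame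
    rw [he, he'] at h2
    haveI := Flat.epi_of_flat_of_surjective p
    rw [hw, hw', (cancel_epi p).mp h2]
  -- the cover
  let E' : Scheme.{u} := ∐ fun i => (E i).left
  let π : E' ⟶ M.left := Sigma.desc fun i => (q i).left ≫ ι' i
  have hπ : ∀ i, Sigma.ι (fun i => (E i).left) i ≫ π = (q i).left ≫ ι' i := fun i => Sigma.ι_desc _ _
  haveI : Flat π := IsZariskiLocalAtSource.sigmaDesc (P := @Flat) fun i => inferInstance
  haveI : LocallyOfFinitePresentation π :=
    IsZariskiLocalAtSource.sigmaDesc (P := @LocallyOfFinitePresentation) fun i => inferInstance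
  haveI : Surjective π := ⟨fun m => by
    obtain ⟨i, y, rfl⟩ := hsurjM m
    obtain ⟨e, rfl⟩ := (q i).left.surjective y
    exact ⟨Sigma.ι (fun i => (E i).left) i e, by rw [← Scheme.Hom.comp_apply, hπ, Scheme.Hom.comp_apply]⟩⟩
  have hcov : Tori.Basic.IsQCCover π := SmWeil.CartanAux.isQCCover_of_isOpenMap π π.isOpenMap
  have hloc : ∀ x : E', ∃ U : E'.Opens, x ∈ U ∧ ∃ (N : Type) (iN : AddCommGroup N), Finite N ∧
      Nonempty (Grp.mk (Red.bc (U.ι ≫ π) K) ≅ Grp.mk (Red.DS (U : Scheme.{u}) N)) := by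
    intro x
    obtain ⟨y, hy⟩ := (sigmaOpenCover fun i => (E i).left).covers x
    generalize (sigmaOpenCover fun i => (E i).left).idx x = i at y hy
    let ιE := Sigma.ι (fun i => (E i).left) i
    refine ⟨ιE.opensRange, ⟨y, hy⟩, Mf i, iMf i, fMf i, ?_⟩
    let e := ιE.isoOpensRange.inv
    have he : ιE.opensRange.ι ≫ π = (e ≫ (q i).left) ≫ ι' i := by
      rw [← Scheme.Hom.isoOpensRange_inv_comp ιE, Category.assoc, hπ, Category.assoc]
    obtain ⟨v, hv1, hv2, -, hv4⟩ := exists_restr (a i) e (rfl : e ≫ (E i).hom = e ≫ (E i).hom)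
    obtain ⟨j'', hj1, hj2, -, hj4⟩ := exists_pull (t' := e ≫ (E i).hom) (ιE.opensRange.ι ≫ π) (by
      rw [he, Category.assoc, hι, Category.assoc, Over.w (q i)]) j
    obtain ⟨φ, hφ⟩ := exists_iso_of_In j'' v fun W w g => by
      rw [hj4, he, ← Category.assoc, inK, ← Category.assoc, hIn]
      exact (hv4 w g).symm
    haveI : IsMonHom φ.hom := HomDS.isMonHom_of_points _ fun X b c => by
      rw [← cancel_mono v, Category.assoc, hφ, MonObj.mul_comp, MonObj.mul_comp, Category.assoc, Category.assoc, hφ]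
    exact ⟨Tori.BaseChange.grpIso φ ≪≫ Tori.DS.dsBC (Mf i) (e ≫ (E i).hom)⟩
  have hKfin : IsFinite K.hom := MT.prop_of_locally_DS @IsFinite K (fun N _ => Finite N) π hcov hloc
    fun X N _ hN => isFinite_DS N
  have hKmt : SGA3x.IsMultTypeFT K := ⟨E', π, inferInstance, inferInstance, hcov, fun x => by
    obtain ⟨U, hU, N, iN, hN, h⟩ := hloc x
    exact ⟨U, hU, N, iN, inferInstance, h⟩⟩
  have hjimm : IsImmersion j.left := by
    haveI : IsAffineHom (Red.bc M.hom G).hom := MorphismProperty.pullback_snd (P := @IsAffineHom) _ _ inferInstance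
    haveI : IsFinite (j.left ≫ (Red.bc M.hom G).hom) := by rw [Over.w j]; exact hKfin
    haveI : IsFinite j.left := IsFinite.of_comp j.left (Red.bc M.hom G).hom
    haveI : Mono j.left := ⟨fun b c h => hom_ext_In (j := j)
      (by rw [← Over.w j, ← Category.assoc, h, Category.assoc])
      (by rw [gmap, ← Category.assoc, h, Category.assoc])⟩
    haveI := (IsClosedImmersion.iff_isFinite_and_mono j.left).2 ⟨inferInstance, inferInstance⟩
    infer_instance
  have hMfp : LocallyOfFinitePresentation M.hom :=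
    IsZariskiLocalAtSource.sigmaDesc (P := @LocallyOfFinitePresentation) fun i => inferInstance
  refine ⟨M, K, gKo, j, ?_, hjm, hjmono, hjimm, hKmt, hKfin, hMfp, ?_, ?_⟩
  · intro m
    obtain ⟨i, y, rfl⟩ := hsurjM m
    refine ⟨(ι' i).opensRange, ⟨y, rfl⟩, ?_, ?_⟩
    · rw [← isOpen_compl_iff, isOpen_iff_forall_mem_open]
      intro m hm
      obtain ⟨i', y', rfl⟩ := hsurjM m
      refine ⟨(ι' i').opensRange, ?_, (ι' i').opensRange.isOpen, ⟨y', rfl⟩⟩
      rintro _ ⟨y₁, rfl⟩ ⟨y₂, h2⟩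
      obtain ⟨rfl⟩ := (sigmaι_eq_iff _ _ _ _ _).mp h2
      exact hm ⟨y', rfl⟩
    · rw [← Scheme.Hom.isoOpensRange_inv_comp (ι' i), Category.assoc, hι]
      infer_instance
  · refine ⟨I, Mf, iMf, fMf, fun i => (ι' i).opensRange, hdist, hrep, fun m => ?_, fun i => ?_, fun i m hm => ?_⟩
    · obtain ⟨i, y, rfl⟩ := hsurjM m
      exact ⟨i, y, rfl⟩
    · rw [← Scheme.Hom.isoOpensRange_inv_comp (ι' i), Category.assoc, hι]
      infer_instance
    · obtain ⟨y, rfl⟩ := hm
      obtain ⟨e, rfl⟩ := (q i).left.surjective y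
      let x := (q i).left ≫ ι' i
      obtain ⟨v, hv1, hv2, -, hv4⟩ := exists_restr (a i) (𝟙 (E i).left) (Category.id_comp (E i).hom)
      obtain ⟨j'', hj1, hj2, -, hj4⟩ := exists_pull (t' := (E i).hom) x (by
        rw [Category.assoc, hι, Over.w (q i)]) j
      obtain ⟨φ, hφ⟩ := exists_iso_of_In j'' v fun W w g => by
        rw [hj4, ← Category.assoc, inK, hIn]
        exact ((hv4 w g).trans (by rw [Category.comp_id])).symm
      haveI : IsMonHom φ.hom := HomDS.isMonHom_of_points _ fun X b c => by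
        rw [← cancel_mono v, Category.assoc, hφ, MonObj.mul_comp, MonObj.mul_comp, Category.assoc, Category.assoc, hφ]
      exact ⟨(E i).left, x, e, rfl, ⟨Tori.BaseChange.grpIso φ ≪≫ Tori.DS.dsBC (Mf i) (E i).hom⟩⟩
  · intro T t K' _ j' _ _ hK' hK'f
    let Good : ∀ {W : Scheme.{u}}, (W ⟶ T) → (W ⟶ M.left) → Prop := fun {W} f m => m ≫ M.hom = f ≫ t ∧
      ∀ (W' : Scheme.{u}) (r : W' ⟶ W) (g : W' ⟶ G.left), In j' (r ≫ f) g ↔ In j (r ≫ m) g
    have guniq : ∀ {W : Scheme.{u}} (f : W ⟶ T) (m m' : W ⟶ M.left), Good f m → Good f m' → m = m' :=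
      fun f m m' h h' => sep m m' (h.1.trans h'.1.symm) fun W' r g => (h.2 W' r g).symm.trans (h'.2 W' r g)
    have gres : ∀ {W W' : Scheme.{u}} (f : W ⟶ T) (m : W ⟶ M.left) (r : W' ⟶ W), Good f m → Good (r ≫ f) (r ≫ m) :=
      fun f m r h => ⟨by rw [Category.assoc, h.1, Category.assoc], fun W'' r' g => by
        rw [← Category.assoc, ← Category.assoc]; exact h.2 _ _ g⟩
    obtain ⟨S', f, hfl, hfs, hfc, hch⟩ := hK'
    haveI := hfl; haveI := hfs
    have hchart : ∀ s : S', ∃ (U : S'.Opens) (m : (U : Scheme.{u}) ⟶ M.left), s ∈ U ∧ Good (U.ι ≫ f) m := by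
      intro s
      obtain ⟨U, hU, N, iN, -, ⟨eN⟩⟩ := hch s
      letI := iN
      let uT := U.ι ≫ f
      haveI : IsFinite (Red.bc uT K').hom := MorphismProperty.pullback_snd (P := @IsFinite) _ _ hK'f
      haveI : IsFinite (Red.DS (U : Scheme.{u}) N).hom := by
        let e' := Tori.BaseChange.overIso eN
        haveI : IsIso e'.inv.left := inferInstanceAs (IsIso ((Over.forget _).map e'.inv))
        rw [← Over.w e'.inv]
        exact (MorphismProperty.cancel_left_of_respectsIso @IsFinite e'.inv.left _).2 inferInstance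
      haveI := HomFam.finite_of_isFinite (U := (U : Scheme.{u})) ⟨s, hU⟩ N
      obtain ⟨i, ⟨e₀⟩⟩ := hrep N
      obtain ⟨jU, hjU1, hjU2, -, hjU4⟩ := exists_pull (t' := uT ≫ t) uT rfl j'
      let d : Red.DS (U : Scheme.{u}) (Mf i) ≅ Red.DS (U : Scheme.{u}) N :=
        { hom := Red.DSmap _ e₀.symm.toAddMonoidHom
          inv := Red.DSmap _ e₀.toAddMonoidHom
          hom_inv_id := by
            rw [Factor.DSmap_comp, show e₀.symm.toAddMonoidHom.comp e₀.toAddMonoidHom = AddMonoidHom.id _ by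
              ext m; simp, SplitMax.DSmap_id]
          inv_hom_id := by
            rw [Factor.DSmap_comp, show e₀.toAddMonoidHom.comp e₀.symm.toAddMonoidHom = AddMonoidHom.id _ by
              ext m; simp, SplitMax.DSmap_id] }
      haveI : IsMonHom d.hom := Gm.isMonHom_DSmap _
      let ψ : Grp.mk (Red.bc (uT ≫ t) (Red.DS S (Mf i))) ≅ Grp.mk (Red.bc uT K') :=
        Tori.DS.dsBC (Mf i) (uT ≫ t) ≪≫ Tori.BaseChange.grpIso d ≪≫ eN.symm
      let ψ' := Tori.BaseChange.overIso ψ
      haveI : IsMonHom ψ'.hom := show IsMonHom (Tori.BaseChange.overIso ψ).hom from inferInstance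
      obtain ⟨e, he, hev⟩ := hEx i (uT ≫ t) (ψ'.hom ≫ jU)
      refine ⟨U, (e ≫ (q i).left) ≫ ι' i, hU, ?_, fun W r g => ?_⟩
      · rw [Category.assoc, hι, Category.assoc, Over.w (q i)]; exact he
      · rw [← hjU4, ← in_iso ψ' jU, hev, ← Category.assoc r, inK, ← Category.assoc, hIn]
    choose U m hU hG using hchart
    let 𝒰 := S'.openCoverOfIsOpenCover U
      (.mk (eq_top_iff.mpr fun x _ => TopologicalSpace.Opens.mem_iSup.mpr ⟨x, hU x⟩))
    have hov : ∀ x y, pullback.fst (U x).ι (U y).ι ≫ m x = pullback.snd _ _ ≫ m y := fun x y =>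
      guniq (pullback.fst (U x).ι (U y).ι ≫ (U x).ι ≫ f) _ _ (gres _ _ _ (hG x))
        (pullback.condition_assoc (f := (U x).ι) (g := (U y).ι) f ▸ gres _ _ _ (hG y))
    let m' : S' ⟶ M.left := 𝒰.glueMorphisms m hov
    have hm' : ∀ x, (U x).ι ≫ m' = m x := Scheme.Cover.ι_glueMorphisms 𝒰 m hov
    have hGm' : Good f m' := by
      refine ⟨Scheme.hom_ext_of_forall _ _ fun x => ⟨U x, hU x, ?_⟩, fun W r g => ?_⟩
      · rw [← Category.assoc, hm', (hG x).1, Category.assoc]
      · have hp : ∀ y : W, (r ⁻¹ᵁ U (r y)).ι ≫ r = r ∣_ U (r y) ≫ (U (r y)).ι :=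
          fun y => (morphismRestrict_ι r _).symm
        constructor
        · intro h
          refine In.glue fun y => ⟨r ⁻¹ᵁ U (r y), hU (r y), ?_⟩
          have h1 := h.comp (r ⁻¹ᵁ U (r y)).ι
          rw [← Category.assoc, hp, Category.assoc, (hG (r y)).2] at h1
          rw [← Category.assoc, hp, Category.assoc, hm']
          exact h1
        · intro h
          refine In.glue fun y => ⟨r ⁻¹ᵁ U (r y), hU (r y), ?_⟩
          have h1 := h.comp (r ⁻¹ᵁ U (r y)).ι
          rw [← Category.assoc, hp, Category.assoc, hm'] at h1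
          rw [← Category.assoc, hp, Category.assoc, (hG (r y)).2]
          exact h1
    have hmem := SubgroupDescent.cover_mem (π := f) hfc
    have hsh : ∀ Y : Scheme.{u},
        (Presieve.ofArrows (fun _ : PUnit.{u + 1} => S') (fun _ => f)).IsSheafFor (yoneda.obj Y) :=
      fun Y => Groth.Agent.Lib.DescAlg.DDFam.Cover.isSheafFor_yoneda hmem Y
    obtain ⟨v, hv, -⟩ := (Presieve.isSheafFor_arrows_iff _ _).1 (hsh M.left) (fun _ => m')
      (fun i i' W b c hbc => by
        have hbc' : b ≫ f = c ≫ f := hbc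
        exact guniq (b ≫ f) _ _ (gres _ _ _ hGm') (hbc' ▸ gres _ _ _ hGm'))
    have hv' : f ≫ v = m' := hv PUnit.unit
    have hvS : v ≫ M.hom = t := (hsh S).isSeparatedFor.ext fun W b hb => by
      obtain ⟨i⟩ := hb
      show f ≫ v ≫ M.hom = f ≫ t
      rw [← Category.assoc, hv', hGm'.1]
    refine ⟨v, ⟨hvS, fun W w g => ?_⟩, ?_⟩
    · have hfst : Tori.Basic.IsQCCover (pullback.fst w f) := Tori.Basic.isQCCover_pullback_snd hfc w
      haveI : Flat (pullback.fst w f) := MorphismProperty.pullback_fst (P := @Flat) _ _ inferInstance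
      haveI : Surjective (pullback.fst w f) := MorphismProperty.pullback_fst (P := @Surjective) _ _ inferInstance
      constructor
      · intro h
        refine In.descend (pullback.fst w f) hfst ?_
        have h1 := h.comp (pullback.fst w f)
        rw [pullback.condition, hGm'.2, ← hv', ← Category.assoc, ← pullback.condition, Category.assoc] at h1
        exact h1
      · intro h
        refine In.descend (pullback.fst w f) hfst ?_
        have h1 := h.comp (pullback.fst w f)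
        rw [← Category.assoc, pullback.condition, Category.assoc, hv', ← hGm'.2] at h1
        rw [pullback.condition]
        exact h1
    · rintro v₁ ⟨hv₁, h₁⟩
      exact guniq (𝟙 T) v₁ v ⟨by rw [hv₁, Category.id_comp], fun W r g => by
          rw [Category.comp_id]; exact h₁ W r g⟩
        ⟨by rw [hvS, Category.id_comp], fun W r g => by
          rw [Category.comp_id]
          have hfst : Tori.Basic.IsQCCover (pullback.fst r f) := Tori.Basic.isQCCover_pullback_snd hfc r
          haveI : Flat (pullback.fst r f) := MorphismProperty.pullback_fst (P := @Flat) _ _ inferInstance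
          haveI : Surjective (pullback.fst r f) := MorphismProperty.pullback_fst (P := @Surjective) _ _ inferInstance
          constructor
          · intro h
            refine In.descend (pullback.fst r f) hfst ?_
            have h1 := h.comp (pullback.fst r f)
            rw [pullback.condition, hGm'.2, ← hv', ← Category.assoc, ← pullback.condition, Category.assoc] at h1
            exact h1
          · intro h
            refine In.descend (pullback.fst r f) hfst ?_
            have h1 := h.comp (pullback.fst r f)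
            rw [← Category.assoc, pullback.condition, Category.assoc, hv', ← hGm'.2] at h1
            rw [pullback.condition]
            exact h1⟩

/-- **The universal finite subgroup of multiplicative type.** -/
theorem exists_univ :
    ∃ (M : Over S) (K : Over M.left) (_ : GrpObj K) (j : K ⟶ Red.bc M.hom G),
      (∀ m : ↥M.left, ∃ U : M.left.Opens, m ∈ U ∧ IsClosed (U : Set ↥M.left) ∧ IsAffineHom (U.ι ≫ M.hom)) ∧
      IsMonHom j ∧ Mono j ∧ IsImmersion j.left ∧ SGA3x.IsMultTypeFT K ∧ IsFinite K.hom ∧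
      LocallyOfFinitePresentation M.hom ∧
      ∀ (T : Scheme.{u}) (t : T ⟶ S) (K' : Over T) [GrpObj K'] (j' : K' ⟶ Red.bc t G) [IsMonHom j'] [Mono j'],
        SGA3x.IsMultTypeFT K' → IsFinite K'.hom →
        ∃! v : T ⟶ M.left, v ≫ M.hom = t ∧
          ∀ (W : Scheme.{u}) (w : W ⟶ T) (g : W ⟶ G.left), In j' w g ↔ In j (w ≫ v) g := by
  obtain ⟨M, K, gK, j, h1, h2, h3, h4, h5, h6, h7, -, h8⟩ := exists_univ_types G
  exact ⟨M, K, gK, j, h1, h2, h3, h4, h5, h6, h7, h8⟩

end Groth.Agent.H87.FinSubAll
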