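import Groth.Agent.H87.MonoRel
import Groth.Agent.Lib.FreeAct.Basic
import Groth.Agent.Lib.GrpdQuot.OfEqvRel
import Groth.Agent.S0593
import Groth.Agent.Lib.SmoothDesc.Scheme

/-!
# Subgroups isomorphic to a given finite diagonalisable group: the quotient of the monomorphisms
-/

set_option autoImplicit false
set_option linter.style.haveILetI false
universe u

open CategoryTheory MonoidalCategory CartesianMonoidalCategory MonObj GrpObj AlgebraicGeometry
open CategoryTheory.Limits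
open Groth.Agent.Lib Groth.Agent.Lib.RedPts Groth.Agent.H87.MonoHom Groth.Agent.H87.SubIn Groth.Agent.H87.MonoRel

namespace Groth.Agent.H87.FinSubMod

variable {S : Scheme.{u}} {G : Over S} [GrpObj G]

set_option maxHeartbeats 1000000 in
/-- The moduli of subgroups isomorphic to `D(M)`. -/
theorem exists_type [IsAffineHom G.hom] [LocallyOfFinitePresentation G.hom] (M : Type) [AddCommGroup M] [Finite M] :
    ∃ (E : Over S) (a : Red.bc E.hom (Red.DS S M) ⟶ Red.bc E.hom G) (_ : IsMonHom a) (_ : Mono a)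
      (Mc : Over S) (q : E ⟶ Mc) (Z : Over Mc.left) (_ : GrpObj Z) (z : Z ⟶ Red.bc Mc.hom G),
      IsMonHom z ∧ Mono z ∧ IsAffineHom Mc.hom ∧ LocallyOfFinitePresentation Mc.hom ∧
      (IsFinite q.left ∧ Flat q.left ∧ LocallyOfFinitePresentation q.left ∧ Surjective q.left) ∧
      (∀ {W : Scheme.{u}} (w : W ⟶ E.left) (g : W ⟶ G.left), In z (w ≫ q.left) g ↔ In a w g) ∧
      (∀ {T : Scheme.{u}} (t : T ⟶ S) (e e' : T ⟶ E.left), e ≫ E.hom = t → e' ≫ E.hom = t →
        (∀ (W : Scheme.{u}) (w : W ⟶ T) (g : W ⟶ G.left), In a (w ≫ e) g ↔ In a (w ≫ e') g) →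
          e ≫ q.left = e' ≫ q.left) ∧
      ∀ {T : Scheme.{u}} (t : T ⟶ S) (v : Red.bc t (Red.DS S M) ⟶ Red.bc t G) [IsMonHom v] [Mono v],
        ∃ e : T ⟶ E.left, e ≫ E.hom = t ∧
          ∀ (W : Scheme.{u}) (w : W ⟶ T) (g : W ⟶ G.left), In v w g ↔ In a (w ≫ e) g := by
  obtain ⟨E, a, iam, iamono, hEa, hEp, hE⟩ := exists_monoHom (G := G) M
  haveI := iam; haveI := iamono; haveI := hEa; haveI := hEp
  -- translations
  have hsh : ∀ x : AddAut M, ∃ e : E.left ⟶ E.left, ∃ he : e ≫ E.hom = E.hom,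
      bm (Red.DS S M) e he ≫ gmap G a = (dsm E.hom x.toAddMonoidHom).left ≫ gmap G a := by
    intro x
    haveI : IsMonHom (dsm E.hom x.toAddMonoidHom) := isMonHom_dsm _ _
    haveI : IsIso (dsm E.hom x.toAddMonoidHom) :=
      ⟨dsm E.hom x.symm.toAddMonoidHom, by
        rw [← Functor.map_comp, Factor.DSmap_comp, show x.toAddMonoidHom.comp x.symm.toAddMonoidHom = AddMonoidHom.id M by
          ext m; simp, SplitMax.DSmap_id, CategoryTheory.Functor.map_id], by
        rw [← Functor.map_comp, Factor.DSmap_comp, show x.symm.toAddMonoidHom.comp x.toAddMonoidHom = AddMonoidHom.id M by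
          ext m; simp, SplitMax.DSmap_id, CategoryTheory.Functor.map_id]⟩
    obtain ⟨e, ⟨he, h⟩, -⟩ := hE E.hom (dsm E.hom x.toAddMonoidHom ≫ a)
    exact ⟨e, he, h.trans (Category.assoc _ _ _)⟩
  choose sh hshw hsh using hsh
  have huniq : ∀ {T : Scheme.{u}} (t : T ⟶ S) (e e' : T ⟶ E.left) (he : e ≫ E.hom = t) (he' : e' ≫ E.hom = t),
      bm (Red.DS S M) e he ≫ gmap G a = bm (Red.DS S M) e' he' ≫ gmap G a → e = e' := by
    intro T t e e' he he' h
    obtain ⟨v, h1, h2, h3, -⟩ := exists_restr a e he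
    obtain ⟨b, -, hb⟩ := hE t v
    exact (hb e ⟨he, h3.symm⟩).trans (hb e' ⟨he', h.symm.trans h3.symm⟩).symm
  have hmove : ∀ {T : Scheme.{u}} (t : T ⟶ S) (e : T ⟶ E.left) (he : e ≫ E.hom = t) (x : AddAut M)
      (hex : (e ≫ sh x) ≫ E.hom = t),
      bm (Red.DS S M) (e ≫ sh x) hex ≫ gmap G a = (dsm t x.toAddMonoidHom).left ≫ bm (Red.DS S M) e he ≫ gmap G a := by
    intro T t e he x hex
    rw [← bm_comp (Red.DS S M) e he (sh x) (hshw x) (e ≫ sh x) hex rfl, Category.assoc, hsh, ← Category.assoc,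
      bm_dsm, Category.assoc]
  have hw : ∀ {T : Scheme.{u}} {t : T ⟶ S} (e : T ⟶ E.left), e ≫ E.hom = t → ∀ x, (e ≫ sh x) ≫ E.hom = t :=
    fun e he x => by rw [Category.assoc, hshw]; exact he
  have hcomp : ∀ x y : AddAut M, sh y ≫ sh x = sh (x + y) := by
    intro x y
    refine huniq E.hom _ _ (hw _ (hshw y) x) (hshw _) ?_
    rw [hmove E.hom (sh y) (hshw y) x, hsh, hsh, ← Category.assoc, ← Over.comp_left, ← Functor.map_comp,
      Factor.DSmap_comp]
    rfl
  have hone : sh 0 = 𝟙 E.left := by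
    refine huniq E.hom _ _ (hshw 0) (Category.id_comp _) ?_
    rw [hsh, show (0 : AddAut M).toAddMonoidHom = AddMonoidHom.id M from rfl, dsm, SplitMax.DSmap_id,
      CategoryTheory.Functor.map_id]
    refine congrArg (· ≫ gmap G a) ?_
    apply pullback.hom_ext
    · rw [bm_fst]; exact Category.id_comp _
    · rw [bm_snd, Category.comp_id]; exact Category.id_comp _
  let shI : AddAut M → Aut E := fun x => Over.isoMk
    { hom := sh x
      inv := sh (-x)
      hom_inv_id := by rw [hcomp, neg_add_cancel, hone]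
      inv_hom_id := by rw [hcomp, add_neg_cancel, hone] } (hshw x)
  let Γ := ULift.{u} (Multiplicative (AddAut M))
  let φ : Γ →* Aut E :=
    { toFun := fun x => shI x.down.toAdd
      map_one' := Iso.ext (Over.OverMorphism.ext hone)
      map_mul' := fun x y => Iso.ext (Over.OverMorphism.ext (hcomp x.down.toAdd y.down.toAdd).symm) }
  have hfree : ∀ (g : Γ) (x : E.left), g ≠ 1 →
      E.left.fromSpecResidueField x ≫ (φ g).hom.left ≠ E.left.fromSpecResidueField x := by
    intro g x hg hfix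
    apply hg
    let k := E.left.fromSpecResidueField x
    have hk : k ≫ sh g.down.toAdd = k := hfix
    obtain ⟨v, hv1, hv2, hv3, -⟩ := exists_restr a k (rfl : k ≫ E.hom = k ≫ E.hom)
    have h1 := hmove (k ≫ E.hom) k rfl g.down.toAdd (hw k rfl _)
    have h2 : ∀ (e : Spec (E.left.residueField x) ⟶ E.left) (he : e ≫ E.hom = k ≫ E.hom), e = k →
        bm (Red.DS S M) e he ≫ gmap G a = gmap G v := by rintro e he rfl; exact hv3.symm
    rw [h2 _ _ hk, ← hv3, ← Category.assoc] at h1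
    have h3 : dsm (k ≫ E.hom) g.down.toAdd.toAddMonoidHom ≫ v = v := hom_ext_gmap h1.symm
    have h4 : dsm (k ≫ E.hom) g.down.toAdd.toAddMonoidHom = 𝟙 _ := by
      rw [← cancel_mono v, h3, Category.id_comp]
    have h5 : g.down.toAdd.toAddMonoidHom = AddMonoidHom.id M :=
      dsm_injective (IsLocalRing.closedPoint (E.left.residueField x)) (h4.trans
        (by rw [dsm, SplitMax.DSmap_id, CategoryTheory.Functor.map_id]))
    exact ULift.ext _ _ (AddEquiv.ext fun m => DFunLike.congr_fun h5 m)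
  -- the groupoid
  let c : Cofan (fun _ : Γ => E) := Cofan.mk (∐ fun _ : Γ => E) (Sigma.ι fun _ : Γ => E)
  have hc : IsColimit c := coproductIsCoproduct _
  let s : c.pt ⟶ E := Sigma.desc fun _ => 𝟙 E
  let tm : c.pt ⟶ E := Sigma.desc fun g => (φ g).hom
  have hs : ∀ g, c.inj g ≫ s = 𝟙 E := fun g => Sigma.ι_desc _ _
  have ht : ∀ g, c.inj g ≫ tm = (φ g).hom := fun g => Sigma.ι_desc _ _
  have hR := FreeAct.isEtaleEqvRel φ hfree hs ht hc
  haveI : Finite (AddAut M) := DFunLike.finite _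
  haveI : IsFinite s.left := FreeAct.isFinite_of_inj hc s fun g => by rw [hs]; infer_instance
  haveI : IsFinite tm.left := FreeAct.isFinite_of_inj hc tm fun g => by rw [ht]; infer_instance
  haveI : Etale s.left := hR.etale_left
  haveI : Etale tm.left := hR.etale_right
  obtain ⟨Mc, q, ⟨hqf, hqfl, hqp⟩, hqs, sq⟩ := GrpdQuot.exists_scheme_quotient_of_eqvRel hR.toIsEqvRel (by
    intro x
    obtain ⟨V, hV, hxV, -⟩ := exists_isAffineOpen_mem_and_subset (X := S) (x := E.hom x) (U := ⊤) trivial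
    refine ⟨E.hom ⁻¹ᵁ V, hV.preimage E.hom, fun r hr => ?_⟩
    show E.hom (tm.left r) ∈ V
    rw [← Scheme.Hom.comp_apply, Over.w tm, ← Over.w s, Scheme.Hom.comp_apply, hr]
    exact hxV)
  haveI := hqf; haveI := hqfl; haveI := hqp; haveI := hqs
  have hqw : q.left ≫ Mc.hom = E.hom := Over.w q
  -- equal images
  have hqshift : ∀ (g : Γ), (φ g).hom.left ≫ q.left = q.left := by
    intro g
    have h := congrArg ((c.inj g).left ≫ ·) sq.w
    simp only [← Category.assoc, ← Over.comp_left] at h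
    rw [hs, ht] at h
    exact h.trans (by simp)
  have hrel : ∀ {T : Scheme.{u}} (t : T ⟶ S) (e e' : T ⟶ E.left), e ≫ E.hom = t → e' ≫ E.hom = t →
      (∀ (W : Scheme.{u}) (w : W ⟶ T) (g : W ⟶ G.left), In a (w ≫ e) g ↔ In a (w ≫ e') g) →
        e ≫ q.left = e' ≫ q.left := by
    intro T t e e' he he' h
    refine Scheme.hom_ext_of_forall _ _ fun x => ?_
    obtain ⟨f, O, hx, hf⟩ := exists_local_rel a a e he e' he' h x
    refine ⟨O, hx, ?_⟩
    have h1 : (O.ι ≫ e) ≫ E.hom = O.ι ≫ t := by rw [Category.assoc, he]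
    have h2 : (O.ι ≫ e') ≫ E.hom = O.ι ≫ t := by rw [Category.assoc, he']
    have h3 : O.ι ≫ e = (O.ι ≫ e') ≫ sh f :=
      huniq (O.ι ≫ t) _ _ h1 (hw _ h2 f) ((hf h1 h2).trans (hmove _ _ h2 f _).symm)
    have h4 : sh f ≫ q.left = q.left := hqshift (ULift.up (Multiplicative.ofAdd f))
    rw [← Category.assoc, h3, Category.assoc, h4, Category.assoc]
  have hsame : ∀ {T : Scheme.{u}} (e e' : T ⟶ E.left), e ≫ q.left = e' ≫ q.left →
      ∀ (g : T ⟶ G.left), In a e' g → In a e g := by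
    intro T e e' hee g hg
    obtain ⟨r, hr1, hr2⟩ := sq.exists_lift e e' hee
    refine In.glue fun x => ?_
    let R : Over S := Over.mk (r ≫ c.pt.hom)
    obtain ⟨V, g₁, -, b, -, hxV, hb, -⟩ := FreeAct.exists_components hc (Over.homMk r : R ⟶ c.pt) (Over.homMk r) x
    refine ⟨V, hxV, ?_⟩
    have hb' : b.left ≫ (c.inj g₁).left = V.ι ≫ r := congrArg CommaMorphism.left hb
    have he' : V.ι ≫ e' = b.left := by
      rw [← hr2, ← Category.assoc, ← hb', Category.assoc, ← Over.comp_left, hs]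
      exact Category.comp_id _
    have he : V.ι ≫ e = b.left ≫ sh g₁.down.toAdd := by
      rw [← hr1, ← Category.assoc, ← hb', Category.assoc, ← Over.comp_left, ht]
      rfl
    obtain ⟨k, hk1, hk2⟩ := hg.comp V.ι
    rw [he'] at hk1
    let t' := b.left ≫ E.hom
    obtain ⟨v, -, -, hv3, hv4⟩ := exists_restr a b.left (rfl : _ = t')
    obtain ⟨v', -, -, hv3', hv4'⟩ := exists_restr a (b.left ≫ sh g₁.down.toAdd) (hw _ (rfl : _ = t') _)
    have hvv : v' = dsm t' g₁.down.toAdd.toAddMonoidHom ≫ v := hom_ext_gmap (by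
      rw [hv3', hmove t' b.left rfl g₁.down.toAdd (hw _ rfl _), ← hv3]
      exact (Category.assoc _ _ _).symm)
    let iso : Red.bc t' (Red.DS S M) ≅ Red.bc t' (Red.DS S M) :=
      { hom := dsm t' g₁.down.toAdd.toAddMonoidHom
        inv := dsm t' g₁.down.toAdd.symm.toAddMonoidHom
        hom_inv_id := by
          rw [← Functor.map_comp, Factor.DSmap_comp, show g₁.down.toAdd.toAddMonoidHom.comp g₁.down.toAdd.symm.toAddMonoidHom = AddMonoidHom.id M by
            ext m; simp, SplitMax.DSmap_id, CategoryTheory.Functor.map_id]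
        inv_hom_id := by
          rw [← Functor.map_comp, Factor.DSmap_comp, show g₁.down.toAdd.symm.toAddMonoidHom.comp g₁.down.toAdd.toAddMonoidHom = AddMonoidHom.id M by
            ext m; simp, SplitMax.DSmap_id, CategoryTheory.Functor.map_id] }
    have hin : In a b.left (V.ι ≫ g) := ⟨k, hk1, hk2⟩
    have h1 : In v (𝟙 _) (V.ι ≫ g) := (hv4 _ _).2 (by rwa [Category.id_comp])
    rw [← in_iso iso, ← show v' = iso.hom ≫ v from hvv, hv4', Category.id_comp, ← he] at h1
    exact h1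
  -- descent
  obtain ⟨a₂, ha1, ha2, ha3⟩ := exists_congr hqw.symm a
  haveI : IsMonHom (bcIso q.left Mc.hom G).hom := isMonHom_bcIso (G := G) q.left Mc.hom
  let z' : Red.bc E.hom (Red.DS S M) ⟶ Red.bc q.left (Red.bc Mc.hom G) := a₂ ≫ (bcIso q.left Mc.hom G).hom
  haveI : IsMonHom z' := inferInstance
  haveI : Mono z' := inferInstance
  haveI : IsFinite (Red.DS S M).hom := isFinite_DS M
  haveI : IsFinite (Red.bc E.hom (Red.DS S M)).hom := MorphismProperty.pullback_snd (P := @IsFinite) _ _ inferInstance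
  have hz1 : SubgroupDescent.toG z' ≫ pullback.fst G.hom Mc.hom = gmap G a := by
    show ((a₂.left ≫ (bcIso q.left Mc.hom G).hom.left) ≫ pullback.fst (Red.bc Mc.hom G).hom q.left) ≫ _ = _
    rw [Category.assoc, Category.assoc]
    exact (congrArg (a₂.left ≫ ·) ((Category.assoc _ _ _).symm.trans
      ((congrArg (· ≫ pullback.fst G.hom Mc.hom) (bcIso_hom_fst _ _ _)).trans (bm_fst _ _ _)))).trans ha3
  have hz2 : SubgroupDescent.toG z' ≫ pullback.snd G.hom Mc.hom = (Red.bc E.hom (Red.DS S M)).hom ≫ q.left :=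
    SubgroupDescent.toG_hom z'
  have hinv : SubgroupDescent.Invariant z' := by
    intro T v x hx
    have hx' : x ≫ q.left = (v ≫ (Red.bc E.hom (Red.DS S M)).hom) ≫ q.left := hx.trans (Category.assoc _ _ _).symm
    obtain ⟨w, hw1, hw2⟩ := hsame x _ hx' (v ≫ gmap G a) ((in_hom a).comp v)
    refine ⟨w, hw1, pullback.hom_ext ?_ ?_⟩
    · rw [Category.assoc, Category.assoc, hz1]; exact hw2
    · rw [Category.assoc, Category.assoc, hz2, ← Category.assoc, hw1, hx]
  have hcov : Tori.Basic.IsQCCover q.left := Tori.Basic.isQCCover_of_qc _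
  obtain ⟨Z, gZ, z, hzm, hzmono, ⟨ψ, -, hψ⟩, -⟩ := SubgroupDescent.exists_descent hcov z' hinv
  letI := gZ; haveI := hzm; haveI := hzmono
  have hIn : ∀ {W : Scheme.{u}} (w : W ⟶ E.left) (g : W ⟶ G.left), In z (w ≫ q.left) g ↔ In a w g := by
    have hl : ψ.hom.left ≫ gmap G a = pullback.fst Z.hom q.left ≫ gmap G z := by
      rw [← hz1]
      show ψ.hom.left ≫ (z'.left ≫ pullback.fst (Red.bc Mc.hom G).hom q.left) ≫ pullback.fst G.hom Mc.hom = _
      rw [← Category.assoc, ← Category.assoc ψ.hom.left, ← Over.comp_left, hψ]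
      exact (congrArg (· ≫ pullback.fst G.hom Mc.hom) (pullback.lift_fst _ _ _)).trans (Category.assoc _ _ _)
    intro W w g
    constructor
    · rintro ⟨k, h1, h2⟩
      refine ⟨pullback.lift k w h1 ≫ ψ.hom.left, ?_, ?_⟩
      · rw [Category.assoc, Over.w ψ.hom]; exact pullback.lift_snd _ _ _
      · rw [Category.assoc, hl]; exact (pullback.lift_fst_assoc _ _ _ _).trans h2
    · rintro ⟨k, h1, h2⟩
      refine ⟨k ≫ ψ.inv.left ≫ pullback.fst Z.hom q.left, ?_, ?_⟩
      · rw [Category.assoc, Category.assoc, pullback.condition, ← Category.assoc ψ.inv.left]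
        exact (congrArg (k ≫ · ≫ q.left) (Over.w ψ.inv)).trans ((Category.assoc _ _ _).symm.trans (congrArg (· ≫ q.left) h1))
      · rw [Category.assoc, Category.assoc, ← hl, ← Category.assoc ψ.inv.left, ← Over.comp_left, Iso.inv_hom_id]
        exact (congrArg (k ≫ ·) (Category.id_comp _)).trans h2
  refine ⟨E, a, iam, iamono, Mc, q, Z, gZ, z, hzm, hzmono, ?_, ?_, ⟨hqf, hqfl, hqp, hqs⟩, hIn, hrel, ?_⟩
  · refine ⟨fun V hV => ?_⟩
    haveI : IsAffine ((q.left ⁻¹ᵁ (Mc.hom ⁻¹ᵁ V) : E.left.Opens) : Scheme.{u}) := by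
      have := hV.preimage E.hom
      rw [← hqw] at this
      exact this
    haveI : Surjective (q.left ∣_ (Mc.hom ⁻¹ᵁ V)) := IsZariskiLocalAtTarget.restrict (P := @Surjective) inferInstance _
    haveI : UniversallyClosed (q.left ∣_ (Mc.hom ⁻¹ᵁ V)) :=
      IsZariskiLocalAtTarget.restrict (P := @UniversallyClosed) inferInstance _
    exact S0593.result _ _ (q.left ∣_ (Mc.hom ⁻¹ᵁ V))
  · haveI : LocallyOfFinitePresentation (q.left ≫ Mc.hom) := by rw [hqw]; exact hEp
    exact SmoothDesc.Scheme.locallyOfFinitePresentation_of_comp q.left Mc.hom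
  · intro T t v _ _
    obtain ⟨e, ⟨he, hev⟩, -⟩ := hE t v
    obtain ⟨v₀, h1, h2, h3, h4⟩ := exists_restr a e he
    have : v = v₀ := hom_ext_gmap (hev.symm.trans h3.symm)
    exact ⟨e, he, fun W w g => this ▸ h4 w g⟩

end Groth.Agent.H87.FinSubMod
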