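import Groth.Prelude.Def_SGA3x
import Groth.Prelude.Def_TwC
import Groth.Agent.Lib.RedPts.BC
import Groth.Agent.Lib.RedPts.Gm
import Groth.Agent.Lib.GrpSch.Basic
import Groth.Agent.H87.CoactTrivial
import Mathlib.RingTheory.LocalRing.ResidueField.Ideal
import Groth.Agent.H87.LocalEq

/-!
# Rigidity: an action of a locally diagonalisable group which is trivial modulo a locally nilpotent
ideal is trivial
-/

set_option autoImplicit false
universe u

open CategoryTheory MonoidalCategory CartesianMonoidalCategory MonObj GrpObj AlgebraicGeometry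
open CategoryTheory.Limits
open Groth.Agent.Lib.RedPts

namespace Groth.Agent.H87.Rigid

/-- A ring map killing the ideal of a closed subscheme factors through it. -/
theorem exists_factor {S S₀ : Scheme.{u}} (i₀ : S₀ ⟶ S) [IsClosedImmersion i₀]
    {V : S.Opens} (hV : IsAffineOpen V) {C : CommRingCat.{u}} (φ : Γ(S, V) ⟶ C)
    (hφ : i₀.ker.ideal ⟨V, hV⟩ ≤ RingHom.ker φ.hom) :
    ∃ q : Spec C ⟶ S₀, q ≫ i₀ = Spec.map φ ≫ hV.fromSpec := by
  have hsurj : Function.Surjective (i₀.app V) := Scheme.Hom.app_surjective i₀ V hV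
  let ψ : Γ(S₀, i₀ ⁻¹ᵁ V) →+* C :=
    (i₀.app V).hom.liftOfSurjective hsurj ⟨φ.hom, by
      intro a ha
      apply hφ
      rwa [Scheme.Hom.ker_apply]⟩
  have hψ : i₀.app V ≫ CommRingCat.ofHom ψ = φ := by
    ext a
    exact RingHom.liftOfSurjective_comp_apply _ hsurj ⟨φ.hom, _⟩ a
  refine ⟨Spec.map (CommRingCat.ofHom ψ) ≫ (hV.preimage i₀).fromSpec, ?_⟩
  rw [Category.assoc, ← IsAffineOpen.SpecMap_appLE_fromSpec i₀ hV (hV.preimage i₀) le_rfl,
    Scheme.Hom.appLE_eq_app, ← Category.assoc, ← Spec.map_comp, hψ]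

section Chart

variable {S S' S₀ : Scheme.{u}} {g : S' ⟶ S} {M : Type} [AddCommGroup M] {G X : Over S} [GrpObj G]
  (e : Grp.mk (Red.bc g G) ≅ Grp.mk (Red.DS S' M)) (a : AlgGrp.Action G X)

/-- The point of `G` attached to a character through the trivialisation. -/
noncomputable def pt {T : Over S'} (χ : Multiplicative M →* Γ(T.left, ⊤)) : (Over.map g).obj T ⟶ G :=
  BC.down g (Gm.dsPt χ ≫ e.inv.hom.hom)

theorem pt_mul {T : Over S'} (χ χ' : Multiplicative M →* Γ(T.left, ⊤)) :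
    pt e (χ * χ') = pt e χ * pt e χ' := by
  have h : (Gm.dsPt (χ * χ') : T ⟶ Red.DS S' M) = Gm.dsPt χ * Gm.dsPt χ' := Gm.dsFn_ext fun m => by
    simp [Gm.dsFn_mul]
  rw [pt, h, MonObj.mul_comp, BC.down_mul]
  rfl

theorem pt_one (T : Over S') : pt e (1 : Multiplicative M →* Γ(T.left, ⊤)) = 1 := by
  have h : (Gm.dsPt 1 : T ⟶ Red.DS S' M) = 1 := Gm.dsFn_ext fun m => by simp [Gm.dsFn_one]
  rw [pt, h, MonObj.one_comp, BC.down_one]

theorem pt_surjective {T : Over S'} (p : (Over.map g).obj T ⟶ G) : ∃ χ, pt e χ = p := by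
  let q : T ⟶ Red.DS S' M := BC.up g p ≫ e.hom.hom.hom
  refine ⟨{ toFun := fun m => Gm.dsFn q m.toAdd
            map_one' := Gm.dsFn_zero q
            map_mul' := fun m n => Gm.dsFn_add q _ _ }, ?_⟩
  have h : Gm.dsPt _ = q := Gm.dsFn_ext fun m => Gm.dsFn_dsPt (X := T)
    { toFun := fun m => Gm.dsFn q m.toAdd
      map_one' := Gm.dsFn_zero q
      map_mul' := fun m n => Gm.dsFn_add q _ _ } m
  have hi : e.hom.hom.hom ≫ e.inv.hom.hom = 𝟙 _ := congr(($(e.hom_inv_id)).hom.hom)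
  rw [pt, h, Category.assoc, hi, Category.comp_id, BC.down_up]

theorem map_pt {T T' : Over S'} (h : T' ⟶ T) (χ : Multiplicative M →* Γ(T.left, ⊤)) :
    (Over.map g).map h ≫ pt e χ = pt e ((h.left.appTop.hom : _ →* _).comp χ) := by
  have hh : h ≫ Gm.dsPt χ = Gm.dsPt ((h.left.appTop.hom : _ →* _).comp χ) := Gm.dsFn_ext fun m => by
    simp [Gm.dsFn_comp]
  rw [pt, pt, ← BC.down_comp, reassoc_of% hh]

/-- The action on points. -/
noncomputable def actPt {T : Over S'} (χ : Multiplicative M →* Γ(T.left, ⊤)) (x : T ⟶ Red.bc g X) :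
    T ⟶ Red.bc g X :=
  BC.up g (lift (pt e χ) (BC.down g x) ≫ a.act)

theorem comp_actPt {T T' : Over S'} (h : T' ⟶ T) (χ : Multiplicative M →* Γ(T.left, ⊤))
    (x : T ⟶ Red.bc g X) :
    h ≫ actPt e a χ x = actPt e a ((h.left.appTop.hom : _ →* _).comp χ) (h ≫ x) := by
  apply BC.down_injective
  rw [BC.down_comp, actPt, actPt, BC.down_up, BC.down_up, comp_lift_assoc, map_pt, BC.down_comp]

theorem actPt_one {T : Over S'} (x : T ⟶ Red.bc g X) : actPt e a 1 x = x := by
  rw [actPt, pt_one, Groth.Agent.Lib.GrpSch.act_one, BC.up_down]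

theorem actPt_mul {T : Over S'} (χ χ' : Multiplicative M →* Γ(T.left, ⊤)) (x : T ⟶ Red.bc g X) :
    actPt e a (χ * χ') x = actPt e a χ (actPt e a χ' x) := by
  simp only [actPt, BC.down_up, pt_mul, Groth.Agent.Lib.GrpSch.act_mul]

variable {V : S.Opens} (hV : IsAffineOpen V)
  {W : (Red.bc g X).left.Opens} (hW : IsAffineOpen W) (hWV : W ≤ ((Red.bc g X).hom ≫ g) ⁻¹ᵁ V)

/-- The action is trivial on all `D`-points lying over `κ : Γ(S, V) ⟶ D`. -/
def Triv {D : CommRingCat.{u}} (κ : Γ(S, V) ⟶ D) : Prop :=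
  ∀ (t : Spec D ⟶ S'), t ≫ g = Spec.map κ ≫ hV.fromSpec →
    ∀ (ch : Multiplicative M →* Γ(Spec D, ⊤)) (y : Over.mk t ⟶ Red.bc g X), actPt e a ch y = y

/-- The ring map giving the coaction `ρ` and the information it carries. -/
def CoactOK (ρ : Γ((Red.bc g X).left, W) ⟶
    CommRingCat.of (MonoidAlgebra Γ((Red.bc g X).left, W) (Multiplicative M))) : Prop :=
  ∀ (D : CommRingCat.{u}) (φ : Γ((Red.bc g X).left, W) ⟶ D),
    Triv e a hV (((Red.bc g X).hom ≫ g).appLE V W hWV ≫ φ) →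
    ∀ (ch : Multiplicative M →* D) (b : Γ((Red.bc g X).left, W)),
      MonoidAlgebra.liftNCRingHom φ.hom ch (fun _ _ => Commute.all _ _) (ρ.hom b) = φ.hom b

include e a hV hW hWV in
/-- On an affine chart, an action which is trivial on field points is trivial as soon as the
algebraic criterion `halg` for the coaction holds. -/
theorem trivial_of_chart {C : CommRingCat.{u}} {t : Spec C ⟶ S'}
    (χ : Multiplicative M →* Γ(Spec C, ⊤)) (x : Over.mk t ⟶ Red.bc g X)
    (hx : Set.range x.left.base ⊆ (W : Set (Red.bc g X).left))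
    (hpt : ∀ {K : CommRingCat.{u}}, IsField K → ∀ κ : Γ(S, V) ⟶ K, Triv e a hV κ)
    (halg : ∀ ρ : Γ((Red.bc g X).left, W) ⟶
        CommRingCat.of (MonoidAlgebra Γ((Red.bc g X).left, W) (Multiplicative M)),
      (∀ b, MonoidAlgebra.liftNCRingHom (RingHom.id _) (1 : Multiplicative M →* _)
        (CoactTrivial.commute_aux _ _) (ρ.hom b) = b) →
      (∀ b,
        MonoidAlgebra.liftNCRingHom (MonoidAlgebra.singleOneRingHom)
          (((MonoidAlgebra.of _ (Multiplicative M × Multiplicative M)).comp (MonoidHom.inl _ _)) *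
            ((MonoidAlgebra.of _ (Multiplicative M × Multiplicative M)).comp (MonoidHom.inr _ _)))
          (CoactTrivial.commute_aux _ _) (ρ.hom b) =
        MonoidAlgebra.liftNCRingHom ((MonoidAlgebra.liftNCRingHom MonoidAlgebra.singleOneRingHom
            ((MonoidAlgebra.of _ (Multiplicative M × Multiplicative M)).comp (MonoidHom.inr _ _))
            (CoactTrivial.commute_aux _ _)).comp ρ.hom)
          ((MonoidAlgebra.of _ (Multiplicative M × Multiplicative M)).comp (MonoidHom.inl _ _))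
          (CoactTrivial.commute_aux _ _) (ρ.hom b)) →
      (∀ (U : S'.Opens) (_ : IsAffineOpen U) (hWU : W ≤ (Red.bc g X).hom ⁻¹ᵁ U) (z : Γ(S', U)),
        ρ.hom (((Red.bc g X).hom.appLE U W hWU).hom z) =
          MonoidAlgebra.single 1 (((Red.bc g X).hom.appLE U W hWU).hom z)) →
      (∀ z, ρ.hom ((((Red.bc g X).hom ≫ g).appLE V W hWV).hom z) =
        MonoidAlgebra.single 1 ((((Red.bc g X).hom ≫ g).appLE V W hWV).hom z)) →
      CoactOK e a hV hWV ρ → ρ.hom = MonoidAlgebra.singleOneRingHom) :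
    actPt e a χ x = x := by
  classical
  let B : CommRingCat.{u} := Γ((Red.bc g X).left, W)
  let N := Multiplicative M
  let w : Spec B ⟶ (Red.bc g X).left := hW.fromSpec
  let τ : Spec B ⟶ S' := w ≫ (Red.bc g X).hom
  let θ : Γ(S, V) ⟶ B := ((Red.bc g X).hom ≫ g).appLE V W hWV
  have hθ : Spec.map θ ≫ hV.fromSpec = τ ≫ g := by
    simp only [θ, τ, w, Category.assoc]
    exact IsAffineOpen.SpecMap_appLE_fromSpec _ hV hW hWV
  let toG (D : CommRingCat.{u}) : D →* Γ(Spec D, ⊤) := ((Scheme.ΓSpecIso D).inv.hom : D →+* _)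
  let lft {D : CommRingCat.{u}} (φ : B ⟶ D) (ch : N →* D) : CommRingCat.of (MonoidAlgebra B N) ⟶ D :=
    CommRingCat.ofHom (MonoidAlgebra.liftNCRingHom φ.hom ch fun _ _ => Commute.all _ _)
  let inc : B ⟶ CommRingCat.of (MonoidAlgebra B N) := CommRingCat.ofHom MonoidAlgebra.singleOneRingHom
  let t₁ : Over S' := Over.mk (Spec.map inc ≫ τ)
  let x₁ : t₁ ⟶ Red.bc g X := Over.homMk (Spec.map inc ≫ w) (Category.assoc _ _ _)
  let χ₁ : N →* Γ(t₁.left, ⊤) := (toG (CommRingCat.of (MonoidAlgebra B N))).comp (MonoidAlgebra.of B N)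
  have gen : ∀ {D : CommRingCat.{u}} {t : Spec D ⟶ S'} (φ : B ⟶ D) (ch : N →* D)
      (y : Over.mk t ⟶ Red.bc g X), y.left = Spec.map φ ≫ w →
      (actPt e a ((toG D).comp ch) y).left = Spec.map (lft φ ch) ≫ (actPt e a χ₁ x₁).left := by
    intro D t φ ch y hy
    have hl : inc ≫ lft φ ch = φ := by
      ext b
      simp [inc, lft]
    have ht : Spec.map (lft φ ch) ≫ t₁.hom = t := by
      show Spec.map (lft φ ch) ≫ Spec.map inc ≫ τ = t
      rw [← Category.assoc, ← Spec.map_comp, hl]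
      show Spec.map φ ≫ w ≫ _ = t
      rw [← Category.assoc, ← hy]
      exact Over.w y
    let h : Over.mk t ⟶ t₁ := Over.homMk (Spec.map (lft φ ch)) ht
    have h1 : h ≫ x₁ = y := by
      apply Over.OverMorphism.ext
      show Spec.map (lft φ ch) ≫ Spec.map inc ≫ w = y.left
      rw [← Category.assoc, ← Spec.map_comp, hl, hy]
    have h2 : ((RingHom.toMonoidHom h.left.appTop.hom).comp χ₁) =
        ((toG D).comp ch : N →* Γ((Over.mk t).left, ⊤)) := by
      ext m
      show (Spec.map (lft φ ch)).appTop ((Scheme.ΓSpecIso _).inv (MonoidAlgebra.single m 1)) = _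
      rw [← CommRingCat.comp_apply, ← Scheme.ΓSpecIso_inv_naturality, CommRingCat.comp_apply]
      refine congrArg (fun z => (Scheme.ΓSpecIso D).inv z) ?_
      show (MonoidAlgebra.liftNCRingHom φ.hom ch fun _ _ => Commute.all _ _) (MonoidAlgebra.single m 1) = ch m
      exact (MonoidAlgebra.liftNCRingHom_single φ.hom ch _ m 1).trans (by rw [map_one, _root_.one_mul])
    rw [← h2, ← h1]
    exact (congr(($(comp_actPt e a h χ₁ x₁)).left)).symm
  -- the universal action lands in the chart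
  have hrange : Set.range (actPt e a χ₁ x₁).left.base ⊆ Set.range w.base := by
    rintro _ ⟨d, rfl⟩
    have : d.asIdeal.IsPrime := d.2
    let D : CommRingCat.{u} := CommRingCat.of d.asIdeal.ResidueField
    let ψ : CommRingCat.of (MonoidAlgebra B N) ⟶ D :=
      CommRingCat.ofHom (algebraMap _ d.asIdeal.ResidueField)
    let p : ↥(Spec D) := (⟨⊥, Ideal.isPrime_bot⟩ : PrimeSpectrum d.asIdeal.ResidueField)
    have hp : (Spec.map ψ).base p = d := by
      apply PrimeSpectrum.ext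
      show Ideal.comap (algebraMap _ d.asIdeal.ResidueField) ⊥ = d.asIdeal
      exact Ideal.ker_algebraMap_residueField d.asIdeal
    let h : Over.mk (Spec.map ψ ≫ t₁.hom) ⟶ t₁ := Over.homMk (Spec.map ψ)
    have htr : actPt e a ((RingHom.toMonoidHom h.left.appTop.hom).comp χ₁) (h ≫ x₁) = h ≫ x₁ :=
      hpt (K := D) (Field.toIsField d.asIdeal.ResidueField) (θ ≫ inc ≫ ψ) _ (by
        rw [Spec.map_comp, Spec.map_comp]
        simp only [Category.assoc, hθ]
        rfl) _ _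
    have := congr(($((comp_actPt e a h χ₁ x₁).trans htr)).left.base p)
    rw [← hp]
    exact ⟨(Spec.map inc).base ((Spec.map ψ).base p), this.symm⟩
  obtain ⟨ρ, hρ⟩ := Spec.map_surjective (IsOpenImmersion.lift w _ hrange)
  have hρw : Spec.map ρ ≫ w = (actPt e a χ₁ x₁).left := by rw [hρ, IsOpenImmersion.lift_fac]
  have gen' : ∀ {D : CommRingCat.{u}} {t : Spec D ⟶ S'} (φ : B ⟶ D) (ch : N →* D)
      (y : Over.mk t ⟶ Red.bc g X), y.left = Spec.map φ ≫ w →
      (actPt e a ((toG D).comp ch) y).left = Spec.map (ρ ≫ lft φ ch) ≫ w := by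
    intro D t φ ch y hy
    rw [gen φ ch y hy, ← hρw, Spec.map_comp, Category.assoc]
  -- counit
  have hε : ρ ≫ lft (𝟙 B) 1 = 𝟙 B := by
    have h := gen' (t := τ) (𝟙 B) 1 (Over.homMk w) (by simp)
    rw [MonoidHom.comp_one, actPt_one] at h
    apply Spec.map_injective
    rw [← cancel_mono w, ← h]
    simp
  -- invariance of the base
  have hbase : θ ≫ ρ = θ ≫ inc := by
    apply Spec.map_injective
    rw [← cancel_mono hV.fromSpec]
    simp only [Spec.map_comp, Category.assoc, hθ]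
    simp only [τ, ← Category.assoc, hρw]
    congr 1
    rw [Over.w]
    simp [t₁, τ]
  have hbase' : ∀ (U : S'.Opens) (_ : IsAffineOpen U) (hWU : W ≤ (Red.bc g X).hom ⁻¹ᵁ U) (z : Γ(S', U)),
      ρ.hom (((Red.bc g X).hom.appLE U W hWU).hom z) =
        MonoidAlgebra.single 1 (((Red.bc g X).hom.appLE U W hWU).hom z) := by
    intro U hU hWU z
    have hθ' : Spec.map ((Red.bc g X).hom.appLE U W hWU) ≫ hU.fromSpec = τ :=
      IsAffineOpen.SpecMap_appLE_fromSpec _ hU hW hWU
    have h : (Red.bc g X).hom.appLE U W hWU ≫ ρ = (Red.bc g X).hom.appLE U W hWU ≫ inc := by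
      apply Spec.map_injective
      rw [← cancel_mono hU.fromSpec]
      simp only [Spec.map_comp, Category.assoc, hθ']
      simp only [τ, ← Category.assoc, hρw]
      rw [Over.w]
      simp [t₁, τ]
    exact congr((CommRingCat.Hom.hom $h) z)
  -- coassociativity
  let B₂ : CommRingCat.{u} := CommRingCat.of (MonoidAlgebra B (N × N))
  let inc2 : B ⟶ B₂ := CommRingCat.ofHom MonoidAlgebra.singleOneRingHom
  let ch₁ : N →* B₂ := (MonoidAlgebra.of B (N × N)).comp (MonoidHom.inl N N)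
  let ch₂ : N →* B₂ := (MonoidAlgebra.of B (N × N)).comp (MonoidHom.inr N N)
  have hco : ρ ≫ lft inc2 (ch₁ * ch₂) = ρ ≫ lft (ρ ≫ lft inc2 ch₂) ch₁ := by
    let t : Spec B₂ ⟶ S' := Spec.map inc2 ≫ τ
    let y : Over.mk t ⟶ Red.bc g X := Over.homMk (Spec.map inc2 ≫ w) (Category.assoc _ _ _)
    have e2 := gen' inc2 ch₂ y rfl
    have e1 := gen' (t := t) _ ch₁ _ e2
    have e12 := gen' inc2 (ch₁ * ch₂) y rfl
    have hm : (toG B₂).comp (ch₁ * ch₂) = (toG B₂).comp ch₁ * (toG B₂).comp ch₂ := by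
      ext m
      simp
    rw [hm, actPt_mul, e1] at e12
    exact (Spec.map_injective ((cancel_mono w).mp e12)).symm
  -- triviality where the action is known to be trivial
  have hok : CoactOK e a hV hWV ρ := by
    intro D φ hφ ch b
    let t : Spec D ⟶ S' := Spec.map φ ≫ τ
    let y : Over.mk t ⟶ Red.bc g X := Over.homMk (Spec.map φ ≫ w) (Category.assoc _ _ _)
    have ht : t ≫ g = Spec.map (θ ≫ φ) ≫ hV.fromSpec := by
      show (Spec.map φ ≫ τ) ≫ g = _
      rw [Spec.map_comp, Category.assoc]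
      exact (congrArg (Spec.map φ ≫ ·) hθ.symm).trans (Category.assoc _ _ _).symm
    have h := gen' φ ch y rfl
    rw [hφ t ht _ y] at h
    exact (congr((CommRingCat.Hom.hom $(Spec.map_injective ((cancel_mono w).mp h))) b)).symm
  have hρ1 : ρ = inc := CommRingCat.hom_ext
    (halg ρ (fun b => congr((CommRingCat.Hom.hom $hε) b)) (fun b => congr((CommRingCat.Hom.hom $hco) b))
      hbase' (fun z => congr((CommRingCat.Hom.hom $hbase) z)) hok)
  -- conclusion
  obtain ⟨φ, hφ⟩ := Spec.map_surjective (IsOpenImmersion.lift w x.left (by rwa [hW.range_fromSpec]))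
  have hy : x.left = Spec.map φ ≫ w := by rw [hφ, IsOpenImmersion.lift_fac]
  have hχ : χ = (toG C).comp (((Scheme.ΓSpecIso C).hom.hom : Γ(Spec C, ⊤) →* C).comp χ) := by
    ext m
    simp [toG]
  apply Over.OverMorphism.ext
  rw [hχ, gen' φ _ x hy, hy]
  congr 2
  rw [hρ1]
  ext b
  simp [inc, lft]

/-- A criterion for triviality, to be checked on affine charts. -/
theorem trivial_pt
    (hloc : ∀ p : (Red.bc g X).left, ∃ (V : S.Opens) (hV : IsAffineOpen V) (W : (Red.bc g X).left.Opens)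
      (_ : IsAffineOpen W) (hWV : W ≤ ((Red.bc g X).hom ≫ g) ⁻¹ᵁ V), p ∈ W ∧
      ∀ {C : CommRingCat.{u}} {t : Spec C ⟶ S'} (χ : Multiplicative M →* Γ(Spec C, ⊤))
        (x : Over.mk t ⟶ Red.bc g X), Set.range x.left.base ⊆ (W : Set (Red.bc g X).left) →
        actPt e a χ x = x)
    {T : Over S'} (γ : (Over.map g).obj T ⟶ G) (x : (Over.map g).obj T ⟶ X) :
    lift γ x ≫ a.act = x := by
  obtain ⟨χ, rfl⟩ := pt_surjective e γ
  suffices actPt e a χ (BC.up g x) = BC.up g x by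
    have := congr(BC.down g $this)
    rwa [actPt, BC.down_up, BC.down_up] at this
  let x' := BC.up g x
  have loc : ∀ p : T.left, ∃ O : T.left.Opens, p ∈ O ∧
      O.ι ≫ (actPt e a χ x').left = O.ι ≫ x'.left := by
    intro p
    obtain ⟨V, hV, W, hW, hWV, hpW, htriv⟩ := hloc (x'.left.base p)
    obtain ⟨O, hO, hpO, hOW⟩ := exists_isAffineOpen_mem_and_subset (X := T.left)
      (x := p) (U := x'.left ⁻¹ᵁ W) hpW
    refine ⟨O, hpO, ?_⟩
    let h : Over.mk (hO.fromSpec ≫ T.hom) ⟶ T := Over.homMk hO.fromSpec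
    have hr : Set.range (h ≫ x').left.base ⊆ (W : Set (Red.bc g X).left) := by
      rintro _ ⟨q, rfl⟩
      exact hOW (hO.range_fromSpec ▸ Set.mem_range_self q : hO.fromSpec.base q ∈ (O : Set T.left))
    have := congr(($((comp_actPt e a h χ x').trans
      (htriv _ (h ≫ x') hr))).left)
    rw [← cancel_epi hO.isoSpec.inv]
    exact (Category.assoc _ _ _).symm.trans (this.trans (Category.assoc _ _ _))
  choose O hpO hO using loc
  apply Over.OverMorphism.ext
  exact Scheme.Cover.hom_ext (T.left.openCoverOfIsOpenCover O (TopologicalSpace.IsOpenCover.mk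
    (eq_top_iff.mpr fun q _ => TopologicalSpace.Opens.mem_iSup.mpr ⟨q, hpO q⟩))) _ _ hO

variable (i₀ : S₀ ⟶ S) [IsClosedImmersion i₀]

theorem triv_of_factor (h0 : ∀ (Y : Over S) (p : Y ⟶ Over.mk i₀) (γ : Y ⟶ G) (x : Y ⟶ X), lift γ x ≫ a.act = x)
    {V : S.Opens} (hV : IsAffineOpen V) {D : CommRingCat.{u}} (κ : Γ(S, V) ⟶ D)
    (hκ : i₀.ker.ideal ⟨V, hV⟩ ≤ RingHom.ker κ.hom) : Triv e a hV κ := by
  obtain ⟨q, hq⟩ := exists_factor i₀ hV κ hκ
  intro t ht ch y
  rw [actPt, h0 _ (Over.homMk q (by rw [Over.map_obj_hom]; exact hq.trans ht.symm)) _ _, BC.up_down]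

include e in
theorem trivial_pt_of_nilpotent
    (h0 : ∀ (Y : Over S) (p : Y ⟶ Over.mk i₀) (γ : Y ⟶ G) (x : Y ⟶ X), lift γ x ≫ a.act = x)
    (hnil : ∀ x : S, ∃ U : S.affineOpens, x ∈ (U : S.Opens) ∧ IsNilpotent (i₀.ker.ideal U))
    {T : Over S'} (γ : (Over.map g).obj T ⟶ G) (x : (Over.map g).obj T ⟶ X) :
    lift γ x ≫ a.act = x := by
  refine trivial_pt e a (fun p => ?_) γ x
  obtain ⟨⟨V, hV⟩, hpV, hn⟩ := hnil (((Red.bc g X).hom ≫ g).base p)
  obtain ⟨W, hW, hpW, hWV⟩ := exists_isAffineOpen_mem_and_subset (X := (Red.bc g X).left)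
    (x := p) (U := ((Red.bc g X).hom ≫ g) ⁻¹ᵁ V) hpV
  refine ⟨V, hV, W, hW, hWV, hpW, fun {C t} χ y hy =>
    trivial_of_chart e a hV hW hWV χ y hy (fun {K} hK κ => ?_) (fun ρ hε hco _ hbase hok => ?_)⟩
  · refine triv_of_factor e a i₀ h0 hV κ fun z hz => ?_
    obtain ⟨n, hn⟩ := hn
    have hz0 : z ^ n = 0 := by
      have := Ideal.pow_mem_pow hz n
      rwa [hn, Ideal.zero_eq_bot, Ideal.mem_bot] at this
    have : IsDomain K := hK.isDomain
    exact IsNilpotent.eq_zero ⟨n, by rw [← map_pow, hz0, map_zero]⟩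
  · set θ := ((Red.bc g X).hom ≫ g).appLE V W hWV with hθ
    let E : Set Γ((Red.bc g X).left, W) := θ.hom '' (i₀.ker.ideal ⟨V, hV⟩ : Set Γ(S, V))
    have hE : IsNilpotent (Ideal.span E) := by
      obtain ⟨n, hn⟩ := hn
      refine ⟨n, ?_⟩
      change (Ideal.map θ.hom (i₀.ker.ideal ⟨V, hV⟩)) ^ n = 0
      rw [← Ideal.map_pow, hn, Ideal.zero_eq_bot, Ideal.map_bot]
      rfl
    refine CoactTrivial.eq_inc ρ.hom hε hco E hE (by rintro _ ⟨z, -, rfl⟩; exact hbase z) ?_
    intro b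
    refine hok (CommRingCat.of (MonoidAlgebra (Γ((Red.bc g X).left, W) ⧸ Ideal.span E) (Multiplicative M)))
      (CommRingCat.ofHom (MonoidAlgebra.singleOneRingHom.comp (Ideal.Quotient.mk _)))
      (triv_of_factor e a i₀ h0 hV _ fun z hz => ?_) _ b
    have h : Ideal.Quotient.mk (Ideal.span E) (θ.hom z) = 0 :=
      Ideal.Quotient.eq_zero_iff_mem.mpr (Ideal.subset_span ⟨z, hz, rfl⟩)
    show MonoidAlgebra.singleOneRingHom (Ideal.Quotient.mk (Ideal.span E) (θ.hom z)) = 0
    rw [h, map_zero]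

end Chart

/-- An action of a group which is fpqc-locally diagonalisable, trivial modulo a locally nilpotent
ideal, is trivial. -/
theorem act_trivial {S S₀ : Scheme.{u}} (i₀ : S₀ ⟶ S) [IsClosedImmersion i₀]
    (hnil : ∀ x : S, ∃ U : S.affineOpens, x ∈ (U : S.Opens) ∧ IsNilpotent (i₀.ker.ideal U))
    (G X : Over S) [GrpObj G] (hG : TwC.Locally S TwC.Topology.fpqc
      (fun S' f => ∃ (M : Type) (_ : AddCommGroup M), Nonempty (Grp.mk (Red.bc f G) ≅ Grp.mk (Red.DS S' M))))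
    (a : AlgGrp.Action G X)
    (h0 : ∀ (Y : Over S) (p : Y ⟶ Over.mk i₀) (g : Y ⟶ G) (x : Y ⟶ X), lift g x ≫ a.act = x)
    (Y : Over S) (g : Y ⟶ G) (x : Y ⟶ X) : lift g x ≫ a.act = x := by
  obtain ⟨S', f, hf, hs, -, hloc⟩ := hG
  choose U hU M iM hM using hloc
  refine LocalEq.ext_of_local f _ _ U hU fun s' => ?_
  rw [comp_lift_assoc]
  exact trivial_pt_of_nilpotent (hM s').some a i₀ h0 hnil _ _

end Groth.Agent.H87.Rigid
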