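import Groth.Agent.H87.FreeAlg
import Groth.Agent.H87.Rigid
import Groth.Agent.H87.Mono
import Groth.Agent.H87.EqLocus
import Mathlib.AlgebraicGeometry.Morphisms.FlatDescent
import Mathlib.AlgebraicGeometry.Morphisms.Proper
import Mathlib.AlgebraicGeometry.ZariskisMainTheorem

/-!
# The graph of a free action of a diagonalisable group on an affine scheme is a closed immersion
-/

set_option autoImplicit false
universe u

open CategoryTheory MonoidalCategory CartesianMonoidalCategory MonObj GrpObj AlgebraicGeometry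
open CategoryTheory.Limits
open Groth.Agent.Lib.RedPts Groth.Agent.Lib.Tori
open Groth.Agent.H87.Locus (toG)

namespace Groth.Agent.H87.FreeAct

instance descendsAlong_isClosedImmersion :
    MorphismProperty.DescendsAlong @IsClosedImmersion.{u} (@Surjective ⊓ @Flat ⊓ @QuasiCompact) := by
  have : (@IsClosedImmersion : MorphismProperty Scheme.{u}) =
      ((@UniversallyClosed : MorphismProperty Scheme.{u}) ⊓
        (@LocallyOfFiniteType : MorphismProperty Scheme.{u}) : MorphismProperty Scheme.{u}) ⊓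
      MorphismProperty.monomorphisms Scheme.{u} := by
    ext X Y f
    refine ⟨fun h ↦ ⟨⟨inferInstance, inferInstance⟩, (inferInstance : Mono f)⟩, fun ⟨⟨h1, h2⟩, h3⟩ ↦ ?_⟩
    have : Mono f := h3
    exact (IsClosedImmersion.iff_isProper_and_mono f).2 ⟨{ }, inferInstance⟩
  exact this ▸ inferInstance

variable {S : Scheme.{u}} {G X : Over S} [GrpObj G] (a : AlgGrp.Action G X)
  {A : CommRingCat.{u}} {t : Spec A ⟶ S} {M : Type} [AddCommGroup M]
  (e : Grp.mk (Red.bc t G) ≅ Grp.mk (Red.DS (Spec A) M))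

include e in
theorem fib_closed [IsAffineHom X.hom]
    (hfree : ∀ (Y : Over S) (g : Y ⟶ G) (x : Y ⟶ X), lift g x ≫ a.act = x → g = 1) :
    Charts.Fib @IsClosedImmersion t (lift a.act (snd G X)) := by
  classical
  let N := Multiplicative M
  let X' := Red.bc t X
  have : IsAffineHom X'.hom := inferInstanceAs (IsAffineHom (pullback.snd X.hom t))
  have : IsAffine X'.left := isAffine_of_isAffineHom X'.hom
  let B : CommRingCat.{u} := Γ(X'.left, ⊤)
  let w : Spec B ⟶ X'.left := X'.left.isoSpec.inv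
  let τ : Spec B ⟶ Spec A := w ≫ X'.hom
  let lft {D : CommRingCat.{u}} (φ : B ⟶ D) (ch : N →* D) : CommRingCat.of (MonoidAlgebra B N) ⟶ D :=
    CommRingCat.ofHom (MonoidAlgebra.liftNCRingHom φ.hom ch fun _ _ => Commute.all _ _)
  let inc : B ⟶ CommRingCat.of (MonoidAlgebra B N) := CommRingCat.ofHom MonoidAlgebra.singleOneRingHom
  let t₁ : Over (Spec A) := Over.mk (Spec.map inc ≫ τ)
  let x₁ : t₁ ⟶ X' := Over.homMk (Spec.map inc ≫ w) (Category.assoc _ _ _)
  let χ₁ : N →* Γ(t₁.left, ⊤) := (toG (CommRingCat.of (MonoidAlgebra B N))).comp (MonoidAlgebra.of B N)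
  have hlft : ∀ {D : CommRingCat.{u}} (φ : B ⟶ D) (ch : N →* D), inc ≫ lft φ ch = φ := by
    intro D φ ch
    ext b
    simp [inc, lft]
  have hlfts : ∀ {D : CommRingCat.{u}} (φ : B ⟶ D) (ch : N →* D) (m : N),
      (lft φ ch).hom (MonoidAlgebra.single m 1) = ch m := fun φ ch m =>
    (MonoidAlgebra.liftNCRingHom_single φ.hom ch (fun _ _ => Commute.all _ _) m 1).trans (by rw [map_one, _root_.one_mul])
  have gen : ∀ {D : CommRingCat.{u}} {t' : Spec D ⟶ Spec A} (φ : B ⟶ D) (ch : N →* D)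
      (y : Over.mk t' ⟶ X'), y.left = Spec.map φ ≫ w →
      (Rigid.actPt e a ((toG D).comp ch) y).left = Spec.map (lft φ ch) ≫ (Rigid.actPt e a χ₁ x₁).left := by
    intro D t' φ ch y hy
    have ht : Spec.map (lft φ ch) ≫ t₁.hom = t' := by
      show Spec.map (lft φ ch) ≫ Spec.map inc ≫ τ = t'
      rw [← Category.assoc, ← Spec.map_comp, hlft]
      show Spec.map φ ≫ w ≫ _ = t'
      rw [← Category.assoc, ← hy]
      exact Over.w y
    let h : Over.mk t' ⟶ t₁ := Over.homMk (Spec.map (lft φ ch)) ht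
    have h1 : h ≫ x₁ = y := by
      apply Over.OverMorphism.ext
      show Spec.map (lft φ ch) ≫ Spec.map inc ≫ w = y.left
      rw [← Category.assoc, ← Spec.map_comp, hlft, hy]
    have h2 : ((RingHom.toMonoidHom h.left.appTop.hom).comp χ₁) =
        ((toG D).comp ch : N →* Γ((Over.mk t').left, ⊤)) := by
      ext m
      show (Spec.map (lft φ ch)).appTop ((Scheme.ΓSpecIso _).inv (MonoidAlgebra.single m 1)) = _
      rw [← CommRingCat.comp_apply, ← Scheme.ΓSpecIso_inv_naturality, CommRingCat.comp_apply]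
      exact congrArg (fun z => (Scheme.ΓSpecIso D).inv z) (hlfts φ ch m)
    rw [← h2, ← h1]
    exact (congr(($(Rigid.comp_actPt e a h χ₁ x₁)).left)).symm
  obtain ⟨ρ, hρ⟩ := Spec.map_surjective ((Rigid.actPt e a χ₁ x₁).left ≫ X'.left.isoSpec.hom)
  have hρw : Spec.map ρ ≫ w = (Rigid.actPt e a χ₁ x₁).left := by
    rw [hρ]
    simp [w]
  have gen' : ∀ {D : CommRingCat.{u}} {t' : Spec D ⟶ Spec A} (φ : B ⟶ D) (ch : N →* D)
      (y : Over.mk t' ⟶ X'), y.left = Spec.map φ ≫ w →
      (Rigid.actPt e a ((toG D).comp ch) y).left = Spec.map (ρ ≫ lft φ ch) ≫ w := by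
    intro D t' φ ch y hy
    rw [gen φ ch y hy, ← hρw, Spec.map_comp, Category.assoc]
  have hε : ρ ≫ lft (𝟙 B) 1 = 𝟙 B := by
    have h := gen' (t' := τ) (𝟙 B) 1 (Over.homMk w) (by simp)
    rw [MonoidHom.comp_one, Rigid.actPt_one] at h
    apply Spec.map_injective
    rw [← cancel_mono w, ← h]
    exact ((congrArg (· ≫ w) (Spec.map_id B)).trans (Category.id_comp w)).symm
  let B₂ : CommRingCat.{u} := CommRingCat.of (MonoidAlgebra B (N × N))
  let inc2 : B ⟶ B₂ := CommRingCat.ofHom MonoidAlgebra.singleOneRingHom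
  let ch₁ : N →* B₂ := (MonoidAlgebra.of B (N × N)).comp (MonoidHom.inl N N)
  let ch₂ : N →* B₂ := (MonoidAlgebra.of B (N × N)).comp (MonoidHom.inr N N)
  have hco : ρ ≫ lft inc2 (ch₁ * ch₂) = ρ ≫ lft (ρ ≫ lft inc2 ch₂) ch₁ := by
    let t' : Spec B₂ ⟶ Spec A := Spec.map inc2 ≫ τ
    let y : Over.mk t' ⟶ X' := Over.homMk (Spec.map inc2 ≫ w) (Category.assoc _ _ _)
    have e2 := gen' inc2 ch₂ y rfl
    have e1 := gen' (t' := t') _ ch₁ _ e2
    have e12 := gen' inc2 (ch₁ * ch₂) y rfl
    have hm : (toG B₂).comp (ch₁ * ch₂) = (toG B₂).comp ch₁ * (toG B₂).comp ch₂ := by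
      ext m
      simp
    rw [hm, Rigid.actPt_mul, e1] at e12
    exact (Spec.map_injective ((cancel_mono w).mp e12)).symm
  have hfree' : ∀ (D : Type u) [CommRing D] (φ : B →+* D) (ch : N →* D),
      (∀ b, MonoidAlgebra.liftNCRingHom φ ch (fun _ _ => Commute.all _ _) (ρ.hom b) = φ b) → ch = 1 := by
    intro D _ φ ch hfix
    let D' : CommRingCat.{u} := CommRingCat.of D
    let φ' : B ⟶ D' := CommRingCat.ofHom φ
    let y : Over.mk (Spec.map φ' ≫ τ) ⟶ X' := Over.homMk (Spec.map φ' ≫ w) (Category.assoc _ _ _)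
    have h1 : Rigid.actPt e a ((toG D').comp ch) y = y := by
      apply Over.OverMorphism.ext
      rw [gen' φ' ch y rfl]
      show Spec.map (ρ ≫ lft φ' ch) ≫ w = Spec.map φ' ≫ w
      refine congrArg (fun z => Spec.map z ≫ w) (CommRingCat.hom_ext (RingHom.ext fun b => ?_))
      exact hfix b
    have h2 := congrArg (BC.down t) h1
    rw [Rigid.actPt, BC.down_up] at h2
    have h3 := Mono.pt_injective e ((hfree _ _ _ h2).trans (Rigid.pt_one e _).symm)
    exact MonoidHom.ext fun m => HomDS.toG_injective D' ((DFunLike.congr_fun h3 m).trans (map_one _).symm)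
  have key := FreeAlg.closure_eq_top (ρ := ρ.hom)
    (CoactTrivial.counit_of_lift ρ.hom fun b => congr((CommRingCat.Hom.hom $hε) b))
    (CoactTrivial.coassoc_of_lift ρ.hom fun b => congr((CommRingCat.Hom.hom $hco) b)) hfree'
  -- the comparison with the base change
  let f := (Over.pullback t).map (lift a.act (snd G X))
  let Y := Red.bc t (G ⊗ X)
  let Z := Red.bc t (X ⊗ X)
  let Θ : t₁ ⟶ Y := BC.up t (lift (Rigid.pt e χ₁) (BC.down t x₁))
  let γ : (Over.map t).obj Y ⟶ G := BC.down t (𝟙 Y) ≫ fst G X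
  let y : Y ⟶ X' := (Over.pullback t).map (snd G X)
  obtain ⟨χ, hχ⟩ := Rigid.pt_surjective e γ
  let D : CommRingCat.{u} := Γ(Y.left, ⊤)
  let r : Y ⟶ t₁ := Over.homMk (Y.left.toSpecΓ ≫ Spec.map (lft (D := D) y.left.appTop χ)) (by
    show (Y.left.toSpecΓ ≫ Spec.map _) ≫ Spec.map inc ≫ τ = Y.hom
    rw [Category.assoc, ← Category.assoc (Spec.map _), ← Spec.map_comp, hlft, ← Category.assoc,
      ← Scheme.toSpecΓ_naturality, ← Over.w y]
    simp [τ, w, ← Scheme.isoSpec_hom])
  have hrx : r ≫ x₁ = y := by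
    apply Over.OverMorphism.ext
    show (Y.left.toSpecΓ ≫ Spec.map _) ≫ Spec.map inc ≫ w = y.left
    rw [Category.assoc, ← Category.assoc (Spec.map _), ← Spec.map_comp, hlft, ← Category.assoc,
      ← Scheme.toSpecΓ_naturality]
    simp [w, ← Scheme.isoSpec_hom]
  have hχr : ((r.left.appTop.hom : _ →* _).comp χ₁) = χ := by
    ext m
    show (Y.left.toSpecΓ ≫ Spec.map (lft (D := D) y.left.appTop χ)).appTop
      ((Scheme.ΓSpecIso _).inv (MonoidAlgebra.single m 1)) = χ m
    rw [Scheme.Hom.comp_appTop, CommRingCat.comp_apply, HomDS.appTop_SpecMap_apply, Iso.inv_hom_id_apply]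
    refine (congrArg (fun z => Y.left.toSpecΓ.appTop ((Scheme.ΓSpecIso D).inv z)) (hlfts _ _ m)).trans ?_
    rw [← CommRingCat.comp_apply, Scheme.toSpecΓ_appTop]
    simp [D]
  have hrΘ : r ≫ Θ = 𝟙 Y := by
    apply BC.down_injective
    rw [BC.down_comp, BC.down_up]
    apply CartesianMonoidalCategory.hom_ext
    · rw [Category.assoc, lift_fst, Rigid.map_pt, hχr, hχ]
    · rw [Category.assoc, lift_snd, ← BC.down_comp, hrx, ← BC.down_map, Category.id_comp]
  have hΘ₁ : Θ ≫ f ≫ (Over.pullback t).map (fst X X) = Rigid.actPt e a χ₁ x₁ := by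
    rw [← Functor.map_comp, lift_fst]
    apply BC.down_injective
    rw [BC.down_map, BC.down_up, Rigid.actPt, BC.down_up]
  have hΘ₂ : Θ ≫ f ≫ (Over.pullback t).map (snd X X) = x₁ := by
    rw [← Functor.map_comp, lift_snd]
    apply BC.down_injective
    rw [BC.down_map, BC.down_up, lift_snd]
  let R : Subring (MonoidAlgebra B N) :=
    ((Scheme.ΓSpecIso (CommRingCat.of (MonoidAlgebra B N))).hom.hom.comp (Θ ≫ f).left.appTop.hom).range
  have : IsIso w := inferInstanceAs (IsIso X'.left.isoSpec.inv)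
  have : IsIso w.appTop := inferInstanceAs (IsIso (Scheme.Γ.map w.op))
  have hwbij : ∀ b : B, ∃ c : B, (Scheme.ΓSpecIso B).hom (w.appTop c) = b := fun b =>
    ((ConcreteCategory.isIso_iff_bijective (w.appTop ≫ (Scheme.ΓSpecIso B).hom)).mp inferInstance).2 b
  have hmem : ∀ (q : Z ⟶ X') (ψ : B ⟶ CommRingCat.of (MonoidAlgebra B N)),
      (Θ ≫ f ≫ q).left = Spec.map ψ ≫ w → ∀ b, ψ b ∈ R := by
    intro q ψ hq b
    obtain ⟨c, hc⟩ := hwbij b
    refine ⟨q.left.appTop c, ?_⟩
    show (Scheme.ΓSpecIso _).hom ((Θ ≫ f).left.appTop (q.left.appTop c)) = ψ b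
    rw [← CommRingCat.comp_apply q.left.appTop, ← Scheme.Hom.comp_appTop, ← Over.comp_left, Category.assoc, hq,
      Scheme.Hom.comp_appTop, CommRingCat.comp_apply, HomDS.appTop_SpecMap_apply, hc]
    exact Iso.inv_hom_id_apply (Scheme.ΓSpecIso _) (ψ b)
  have hR : R = ⊤ := key R
    (fun b => hmem ((Over.pullback t).map (snd X X)) inc (by rw [hΘ₂]; rfl) b)
    (fun b => hmem ((Over.pullback t).map (fst X X)) ρ (by rw [hΘ₁, hρw]) b)
  have : IsAffine (Red.bc t G).left := by
    have : IsAffineHom (Red.DS (Spec A) M).hom := DS.isAffineHom _ M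
    have : IsAffine (Red.DS (Spec A) M).left := isAffine_of_isAffineHom (Red.DS (Spec A) M).hom
    have : IsIso (BaseChange.overIso e).hom.left :=
      inferInstanceAs (IsIso ((Over.forget _).map (BaseChange.overIso e).hom))
    exact IsAffine.of_isIso (BaseChange.overIso e).hom.left
  have : IsAffine Y.left := by
    have : IsAffineHom ((Over.pullback t).map (fst G X)).left :=
      Charts.fib_of @IsAffineHom t (fst G X)
        (show IsAffineHom (pullback.fst G.hom X.hom) from MorphismProperty.pullback_fst _ _ inferInstance)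
    exact isAffine_of_isAffineHom ((Over.pullback t).map (fst G X)).left
  have : IsAffine Z.left := by
    have : IsAffineHom (pullback.fst X.hom X.hom) := MorphismProperty.pullback_fst _ _ inferInstance
    have : IsAffineHom (X ⊗ X).hom := inferInstanceAs (IsAffineHom (pullback.fst X.hom X.hom ≫ X.hom))
    have : IsAffineHom Z.hom := inferInstanceAs (IsAffineHom (pullback.snd (X ⊗ X).hom t))
    exact isAffine_of_isAffineHom Z.hom
  refine IsClosedImmersion.of_surjective_of_isAffine f.left fun z => ?_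
  obtain ⟨c, hc⟩ : (Scheme.ΓSpecIso _).hom (Θ.left.appTop z) ∈ R := hR ▸ Subring.mem_top _
  refine ⟨c, ?_⟩
  have h1 : Θ.left.appTop (f.left.appTop c) = Θ.left.appTop z :=
    ((ConcreteCategory.isIso_iff_bijective (Scheme.ΓSpecIso (CommRingCat.of (MonoidAlgebra B N))).hom).mp
      inferInstance).1 hc
  have hl : ∀ x, r.left.appTop (Θ.left.appTop x) = x := fun x => by
    rw [← CommRingCat.comp_apply, ← Scheme.Hom.comp_appTop, ← Over.comp_left, hrΘ]
    simp [Y]
  exact (hl _).symm.trans ((congrArg r.left.appTop h1).trans (hl z))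

/-- The graph of a free action on an affine scheme is a closed immersion. -/
theorem graph_closed [IsAffineHom X.hom]
    (hG : TwC.Locally S TwC.Topology.fpqc
      (fun S' f => ∃ (M : Type) (_ : AddCommGroup M), Nonempty (Grp.mk (Red.bc f G) ≅ Grp.mk (Red.DS S' M))))
    (hfree : ∀ (Y : Over S) (g : Y ⟶ G) (x : Y ⟶ X), lift g x ≫ a.act = x → g = 1) :
    IsClosedImmersion (lift a.act (snd G X)).left := by
  obtain ⟨S', f, hf, hs, hc, hloc⟩ := hG
  let P : MorphismProperty Scheme.{u} := @IsClosedImmersion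
  have h1 : Charts.Fib P f (lift a.act (snd G X)) := Charts.fib_of_cover P fun s' => by
    obtain ⟨O, hO, M', iM, ⟨eO⟩⟩ := hloc s'
    obtain ⟨V, hV, hVs, hVO⟩ := exists_isAffineOpen_mem_and_subset (X := S') (x := s') (U := O) hO
    let k : Spec Γ(S', V) ⟶ (O : Scheme.{u}) :=
      IsOpenImmersion.lift O.ι hV.fromSpec (by rw [hV.range_fromSpec, Scheme.Opens.range_ι]; exact hVO)
    have hk : k ≫ O.ι ≫ f = hV.fromSpec ≫ f := by
      rw [← Category.assoc, IsOpenImmersion.lift_fac]
    refine ⟨V, hVs, Charts.fib_congr P ?_ _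
      (Charts.fib_base P hV.isoSpec.hom (fib_closed a (BaseChange.bcCongr hk.symm G ≪≫ Charts.resChart eO k) hfree))⟩
    rw [← Category.assoc]
    exact congrArg (· ≫ f) hV.isoSpec_hom_fromSpec
  exact (Charts.iff_natIso P Over.pullbackId _).mp (CentralEq.fib_id_of_cover P f hc _ h1)

end Groth.Agent.H87.FreeAct
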