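import Groth.Agent.H87.CoactTrivial
import Mathlib.RingTheory.Ideal.Maximal
import Mathlib.RingTheory.Ideal.Quotient.Basic
import Mathlib.GroupTheory.QuotientGroup.Basic
import Mathlib.Algebra.MonoidAlgebra.Basic

/-!
# A free grading is strongly graded

If the coaction of `D(N)` on an algebra is free then, together with the constants, its image
generates the whole group algebra.
-/

set_option autoImplicit false
universe u v

namespace Groth.Agent.H87.FreeAlg

open MonoidAlgebra

variable {B : Type u} [CommRing B] {N : Type v} [CommGroup N] (ρ : B →+* MonoidAlgebra B N)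

/-- `x` is homogeneous of weight `m`. -/
def Hom (m : N) (x : B) : Prop := ρ x = single m x

variable {ρ}

theorem Hom.mul {m n : N} {x y : B} (hx : Hom ρ m x) (hy : Hom ρ n y) : Hom ρ (m * n) (x * y) := by
  simp only [Hom, map_mul] at *
  rw [hx, hy, single_mul_single]

variable (hε : ∀ b, ((ρ b).coeff.sum fun _ r => r) = b)
  (hco : ∀ b m, ρ ((ρ b).coeff m) = single m ((ρ b).coeff m))

/-- An ideal stable under taking homogeneous components. -/
def Stable (ρ : B →+* MonoidAlgebra B N) (I : Ideal B) : Prop := ∀ x ∈ I, ∀ n, (ρ x).coeff n ∈ I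

theorem coeff_mul_hom {n : N} {x : B} (hx : Hom ρ n x) (r : B) (k : N) :
    (ρ (r * x)).coeff k = (ρ r).coeff (k * n⁻¹) * x := by
  rw [map_mul, hx, coeff_mul_single_eq_coeff_mul _ fun y _ => eq_mul_inv_iff_mul_eq.symm]

theorem stable_span {E : Set B} (hE : ∀ x ∈ E, ∃ n, Hom ρ n x) : Stable ρ (Ideal.span E) := by
  have h : ∀ y ∈ Ideal.span E, ∀ (r : B) (k : N), (ρ (r * y)).coeff k ∈ Ideal.span E := by
    intro y hy
    induction hy using Submodule.span_induction with
    | mem x hx =>
      intro r k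
      obtain ⟨n, hn⟩ := hE x hx
      rw [coeff_mul_hom hn]
      exact Ideal.mul_mem_left _ _ (Ideal.subset_span hx)
    | zero => intro r k; simp
    | add x y _ _ hx hy =>
      intro r k
      rw [mul_add, map_add, coeff_add, Finsupp.add_apply]
      exact add_mem (hx r k) (hy r k)
    | smul s x _ hx => intro r k; rw [smul_eq_mul, ← mul_assoc]; exact hx (r * s) k
  intro x hx k
  simpa using h x hx 1 k

theorem Stable.sup {I J : Ideal B} (hI : Stable ρ I) (hJ : Stable ρ J) : Stable ρ (I ⊔ J) := by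
  intro x hx n
  obtain ⟨a, ha, b, hb, rfl⟩ := Submodule.mem_sup.mp hx
  rw [map_add, coeff_add, Finsupp.add_apply]
  exact Submodule.add_mem_sup (hI a ha n) (hJ b hb n)

include hco in
/-- In a stable proper ideal which is maximal as such, every homogeneous element outside is invertible. -/
theorem exists_inverse {I : Ideal B} (hI : Stable ρ I)
    (hmax : ∀ J : Ideal B, Stable ρ J → I ≤ J → J ≠ ⊤ → J = I) {n : N} {x : B} (hx : Hom ρ n x) (hxI : x ∉ I) :
    ∃ y, Hom ρ n⁻¹ y ∧ y * x - 1 ∈ I := by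
  have hJ : Stable ρ (I ⊔ Ideal.span {x}) :=
    hI.sup (stable_span fun z hz => ⟨n, by rw [Set.mem_singleton_iff.mp hz]; exact hx⟩)
  have htop : I ⊔ Ideal.span {x} = ⊤ := by
    by_contra hne
    exact hxI ((hmax _ hJ le_sup_left hne) ▸ Submodule.mem_sup_right (Ideal.mem_span_singleton_self x))
  obtain ⟨a, ha, b, hb, hab⟩ := Submodule.mem_sup.mp ((Ideal.eq_top_iff_one _).mp htop)
  obtain ⟨r, rfl⟩ := Ideal.mem_span_singleton'.mp hb
  refine ⟨(ρ r).coeff n⁻¹, hco r n⁻¹, ?_⟩
  have h1 := congrArg (fun z : MonoidAlgebra B N => z.coeff 1) (congrArg ρ hab)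
  simp only [map_add, coeff_add, Finsupp.add_apply, map_one] at h1
  rw [coeff_mul_hom hx, one_mul, MonoidAlgebra.one_def, coeff_single, Finsupp.single_eq_same] at h1
  rw [← h1]
  simpa using neg_mem (hI a ha 1)

include hε hco in
/-- If the grading is free then every weight space generates the unit ideal. -/
theorem span_hom_eq_top
    (hfree : ∀ (D : Type (max u v)) [CommRing D] (φ : B →+* D) (ch : N →* D),
      (∀ b, liftNCRingHom φ ch (fun _ _ => Commute.all _ _) (ρ b) = φ b) → ch = 1) (m : N) :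
    Ideal.span {x | Hom ρ m x} = ⊤ := by
  classical
  by_contra hne
  let 𝒮 : Set (Ideal B) := {J | Stable ρ J ∧ J ≠ ⊤}
  obtain ⟨I, hle, ⟨hI, hItop⟩, hmax⟩ := zorn_le_nonempty₀ 𝒮 (fun c hc hchain y hy => by
    refine ⟨sSup c, ⟨fun x hx n => ?_, fun h => ?_⟩, fun z hz => le_sSup hz⟩
    · obtain ⟨J, hJ, hxJ⟩ := (Submodule.mem_sSup_of_directed ⟨y, hy⟩ hchain.directedOn).mp hx
      exact le_sSup hJ ((hc hJ).1 x hxJ n)
    · obtain ⟨J, hJ, h1⟩ := (Submodule.mem_sSup_of_directed ⟨y, hy⟩ hchain.directedOn).mp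
        ((Ideal.eq_top_iff_one _).mp h)
      exact (hc hJ).2 ((Ideal.eq_top_iff_one _).mpr h1))
    (Ideal.span {x | Hom ρ m x}) ⟨stable_span fun x hx => ⟨m, hx⟩, hne⟩
  have hmax' : ∀ J : Ideal B, Stable ρ J → I ≤ J → J ≠ ⊤ → J = I := fun J h1 h2 h3 =>
    le_antisymm (hmax ⟨h1, h3⟩ h2) h2
  let Γ' : Subgroup N :=
    { carrier := {n | ∃ x, Hom ρ n x ∧ x ∉ I}
      one_mem' := ⟨1, by simp [Hom, MonoidAlgebra.one_def], fun h => hItop ((Ideal.eq_top_iff_one _).mpr h)⟩
      mul_mem' := by
        rintro p q ⟨x, hx, hxI⟩ ⟨y, hy, hyI⟩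
        refine ⟨x * y, hx.mul hy, fun h => hyI ?_⟩
        obtain ⟨z, hz, hzx⟩ := exists_inverse hco hI hmax' hx hxI
        have : y = z * (x * y) - (z * x - 1) * y := by ring
        rw [this]
        exact sub_mem (Ideal.mul_mem_left _ _ h) (Ideal.mul_mem_right _ _ hzx)
      inv_mem' := by
        rintro p ⟨x, hx, hxI⟩
        obtain ⟨z, hz, hzx⟩ := exists_inverse hco hI hmax' hx hxI
        refine ⟨z, hz, fun h => hItop ((Ideal.eq_top_iff_one _).mpr ?_)⟩
        have : (1 : B) = z * x - (z * x - 1) := by ring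
        rw [this]
        exact sub_mem (Ideal.mul_mem_right _ _ h) hzx }
  have hm : m ∉ Γ' := fun ⟨x, hx, hxI⟩ => hxI (hle (Ideal.subset_span hx))
  let D := MonoidAlgebra (B ⧸ I) (N ⧸ Γ')
  let φ : B →+* D := singleOneRingHom.comp (Ideal.Quotient.mk I)
  let ch : N →* D := (MonoidAlgebra.of (B ⧸ I) (N ⧸ Γ')).comp (QuotientGroup.mk' Γ')
  have : Nontrivial (B ⧸ I) := Ideal.Quotient.nontrivial_iff.mpr hItop
  have hch := hfree D φ ch fun b => by
    conv_lhs => rw [← MonoidAlgebra.sum_coeff_single (ρ b)]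
    conv_rhs => rw [← hε b]
    rw [map_finsuppSum, map_finsuppSum]
    refine Finsupp.sum_congr fun n _ => ?_
    refine (liftNCRingHom_single _ _ _ n _).trans ?_
    by_cases hn : n ∈ Γ'
    · simp only [ch, MonoidHom.comp_apply, QuotientGroup.mk'_apply, (QuotientGroup.eq_one_iff n).mpr hn, map_one,
        mul_one]
    · have h0 : (ρ b).coeff n ∈ I := by
        by_contra h
        exact hn ⟨_, hco b n, h⟩
      simp only [φ, RingHom.comp_apply, Ideal.Quotient.eq_zero_iff_mem.mpr h0, map_zero, zero_mul]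
  exact hm ((QuotientGroup.eq_one_iff m).mp
    (MonoidAlgebra.of_injective ((DFunLike.congr_fun hch m).trans (map_one _).symm)))

include hε hco in
/-- A free coaction is surjective together with the constants. -/
theorem closure_eq_top
    (hfree : ∀ (D : Type (max u v)) [CommRing D] (φ : B →+* D) (ch : N →* D),
      (∀ b, liftNCRingHom φ ch (fun _ _ => Commute.all _ _) (ρ b) = φ b) → ch = 1)
    (R : Subring (MonoidAlgebra B N)) (hinc : ∀ b, single 1 b ∈ R) (hρ : ∀ b, ρ b ∈ R) : R = ⊤ := by
  suffices h : ∀ z : MonoidAlgebra B N, z ∈ R from eq_top_iff.mpr fun z _ => h z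
  intro z
  induction z using MonoidAlgebra.induction_linear with
  | zero => exact zero_mem R
  | add a b ha hb => exact add_mem ha hb
  | single m r =>
    have hr : r ∈ Ideal.span {x | Hom ρ m x} := span_hom_eq_top hε hco hfree m ▸ Submodule.mem_top
    induction hr using Submodule.span_induction with
    | mem x hx => exact hx ▸ hρ x
    | zero => rw [single_zero]; exact zero_mem R
    | add a b _ _ ha hb => rw [single_add]; exact add_mem ha hb
    | smul s x _ hx =>
      have : single m (s • x) = single 1 s * single m x := by rw [single_mul_single, one_mul, smul_eq_mul]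
      rw [this]
      exact mul_mem (hinc s) hx

end Groth.Agent.H87.FreeAlg
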