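import Groth.Agent.H87.SubDS
import Mathlib.GroupTheory.FiniteAbelian.Basic
import Mathlib.RingTheory.LocalRing.Module
import Mathlib.RingTheory.Support

/-!
# Closed subgroups of a product of diagonalisable groups: when they are graphs

`I : Ideal A[Γ × Δ]` stands for a closed subgroup of `D_A(Γ) × D_A(Δ)` whose projection to
`D_A(Γ)` is a monomorphism.  If it is not a graph at a prime `p`, then it is nowhere a graph near `p`.
-/

set_option autoImplicit false
universe u

open TensorProduct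
open Groth.Agent.H87.SubDS

namespace Groth.Agent.H87.GraphDS

theorem exists_not_dvd_add {G : Type} [AddCommGroup G] [AddGroup.FG G] {g : G} (hg : g ≠ 0) :
    ∃ n : ℕ, 0 < n ∧ ∀ r : G, n • r ≠ g := by
  classical
  obtain ⟨k, ι, hι, p, hp, e, ⟨f⟩⟩ := AddCommGroup.equiv_free_prod_directSum_zmod G
  by_contra h
  push Not at h
  apply hg
  apply f.injective
  rw [map_zero]
  refine Prod.ext ?_ ?_
  · refine Finsupp.ext fun j => ?_
    obtain ⟨r, hr⟩ := h (((f g).1 j).natAbs + 1) (Nat.succ_pos _)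
    have h1 := congrArg (fun z => (f z).1 j) hr
    simp only [map_nsmul, Prod.smul_fst, Finsupp.smul_apply, nsmul_eq_mul] at h1
    have h2 : ((((f g).1 j).natAbs + 1 : ℕ) : ℤ) ∣ (f g).1 j := ⟨_, h1.symm⟩
    exact Int.eq_zero_of_dvd_of_natAbs_lt_natAbs h2 (by omega)
  · obtain ⟨r, hr⟩ := h (∏ i, p i ^ e i) (Finset.prod_pos fun i _ => pow_pos (hp i).pos _)
    have h1 := congrArg (fun z => (f z).2) hr
    simp only [map_nsmul, Prod.smul_snd] at h1
    rw [← h1]
    refine DFinsupp.ext fun i => ?_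
    obtain ⟨c, hc⟩ := Finset.dvd_prod_of_mem (fun i => p i ^ e i) (Finset.mem_univ i)
    rw [DFinsupp.smul_apply, nsmul_eq_mul, hc, Nat.cast_mul, ZMod.natCast_self, zero_mul, zero_mul]
    rfl

theorem exists_not_pow {G : Type} [CommGroup G] [Monoid.FG G] {g : G} (hg : g ≠ 1) :
    ∃ n : ℕ, 0 < n ∧ ∀ r : G, r ^ n ≠ g := by
  have : AddMonoid.FG (Additive G) := inferInstance
  have : AddGroup.FG (Additive G) := AddGroup.fg_iff_addMonoid_fg.mpr this
  obtain ⟨n, hn, h⟩ := exists_not_dvd_add (g := Additive.ofMul g) (fun h => hg (ofMul_eq_zero.mp h))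
  exact ⟨n, hn, fun r hr => h (Additive.ofMul r) (congrArg Additive.ofMul hr)⟩

variable {A : Type u} [CommRing A]

theorem kill_pow {M : Type} [CommGroup M] {I : Ideal (MonoidAlgebra A M)} (hS : IsSubgroup I) {D : Type u}
    [CommRing D] [Algebra A D] {c : M →* D} (h : Kill I c) : ∀ n : ℕ, Kill I (c ^ n)
  | 0 => by rw [pow_zero]; exact hS.kill_one D
  | n + 1 => by rw [pow_succ]; exact hS.mul D _ _ (kill_pow hS h n) h

section Field

variable {M : Type} [CommGroup M] [Monoid.FG M] {I : Ideal (MonoidAlgebra A M)} (hS : IsSubgroup I) {k : Type u}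
  [Field k] [Algebra A k]

omit [Monoid.FG M] in
include hS in
theorem nontrivial_ext : Nontrivial (MonoidAlgebra k M ⧸ ext I k) := by
  refine Ideal.Quotient.nontrivial_iff.mpr fun htop => ?_
  have h1 : (1 : MonoidAlgebra k M) ∈ ext I k := htop ▸ Submodule.mem_top
  simpa using le_ker_lift (hS.kill_one k) h1

include hS in
/-- Over a field, the points of a subgroup are the characters trivial on the kernel of the universal one. -/
theorem kill_of_ker {D : Type u} [CommRing D] [Algebra A D] [Algebra k D] [IsScalarTower A k D] (ch : M →* D)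
    (h : ∀ g, uch (ext I k) g = 1 → ch g = 1) : Kill I ch := by
  have := nontrivial_ext hS (k := k)
  let v := uch (ext I k)
  let H := v.ker
  let vl : M ⧸ H →* (MonoidAlgebra k M ⧸ ext I k) := QuotientGroup.lift H v le_rfl
  let chl : M ⧸ H →* D := QuotientGroup.lift H ch h
  have hw : Function.Injective vl := fun q q' hq => by
    obtain ⟨g, rfl⟩ := QuotientGroup.mk_surjective q
    obtain ⟨g', rfl⟩ := QuotientGroup.mk_surjective q'
    rw [QuotientGroup.eq]
    show v (g⁻¹ * g') = 1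
    rw [map_mul, ← show v g = v g' from hq, ← map_mul, inv_mul_cancel, map_one]
  let Δ : (MonoidAlgebra k M ⧸ ext I k) →ₐ[k] (MonoidAlgebra k M ⧸ ext I k) ⊗[k] (MonoidAlgebra k M ⧸ ext I k) :=
    Ideal.Quotient.liftₐ (ext I k) (MonoidAlgebra.lift k _ M (tch (k := k) v))
      (fun x hx => le_ker_lift (k := k) (kill_tch hS (k := k) (kill_uch (I := I) (ext I k) le_rfl)) hx)
  have hind : LinearIndependent k vl := by
    refine linearIndependent_groupLike vl hw (fun q => ?_) Δ.toLinearMap (fun q => ?_)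
    · obtain ⟨g, rfl⟩ := QuotientGroup.mk_surjective q
      exact ((Group.isUnit g).map v).ne_zero
    · obtain ⟨g, rfl⟩ := QuotientGroup.mk_surjective q
      exact desc_uch (ext I k) (tch (k := k) v) (fun x hx => le_ker_lift (k := k) (kill_tch hS (k := k) (kill_uch (I := I) (ext I k) le_rfl)) hx) g
  let π : MonoidAlgebra k M →ₐ[k] MonoidAlgebra k (M ⧸ H) := MonoidAlgebra.mapDomainAlgHom k k (QuotientGroup.mk' H)
  let ψ : MonoidAlgebra k (M ⧸ H) →ₐ[k] _ := MonoidAlgebra.lift k (MonoidAlgebra k M ⧸ ext I k) _ vl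
  have hψ : Function.Injective ψ := by
    have hlc : ∀ y, ψ y = Finsupp.linearCombination k vl y.coeff := fun y => by
      induction y using MonoidAlgebra.induction_linear with
      | zero => simp
      | add a b ha hb => simp [ha, hb]
      | single m r => simp [ψ, MonoidAlgebra.lift_single]
    rw [← AlgHom.coe_toLinearMap, ← LinearMap.ker_eq_bot, LinearMap.ker_eq_bot']
    intro y hy
    have : Finsupp.linearCombination k vl y.coeff = 0 := (hlc y).symm.trans hy
    exact MonoidAlgebra.coeff_injective ((linearIndependent_iff.mp hind y.coeff this).trans MonoidAlgebra.coeff_zero.symm)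
  intro x hx
  have hcomp : ψ.comp π = MonoidAlgebra.lift k _ M v :=
    MonoidAlgebra.algHom_ext (fun m => by simp [ψ, π, vl]) (by ext)
  have h0 : π (MonoidAlgebra.mapRingHom M (algebraMap A k) x) = 0 := by
    apply hψ
    rw [map_zero, ← AlgHom.comp_apply, hcomp, lift_map]
    exact kill_uch (I := I) _ le_rfl x hx
  have hch : MonoidAlgebra.lift k D M ch = (MonoidAlgebra.lift k D _ chl).comp π :=
    MonoidAlgebra.algHom_ext (fun m => by simp [chl, π]) (by ext)
  rw [← lift_map (k := k), hch, AlgHom.comp_apply, h0, map_zero]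

end Field

variable {Γ Δ : Type} [CommGroup Γ] [CommGroup Δ] (I : Ideal (MonoidAlgebra A (Γ × Δ)))

/-- The subgroup contains a graph over the algebra `D`. -/
def Graph (D : Type u) [CommRing D] [Algebra A D] : Prop :=
  ∃ ch : Γ × Δ →* MonoidAlgebra D Γ, Kill I ch ∧ ch.comp (MonoidHom.inl Γ Δ) = MonoidAlgebra.of D Γ

/-- The projection to the first factor has trivial kernel. -/
def ProjMono : Prop :=
  ∀ (D : Type u) [CommRing D] [Algebra A D] (ch : Γ × Δ →* D),
    Kill I ch → ch.comp (MonoidHom.inl Γ Δ) = 1 → ch = 1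

variable {I} [Monoid.FG (Γ × Δ)] (hS : IsSubgroup I) (hm : ProjMono I) {k : Type u} [Field k] [Algebra A k]

include hS hm in
/-- Over a field the first factor generates the character group of the subgroup. -/
theorem exists_left (g : Γ × Δ) : ∃ x : Γ, uch (ext I k) g = uch (ext I k) (x, 1) := by
  let P : Subgroup (Γ × Δ) := (uch (ext I k)).ker ⊔ (MonoidHom.inl Γ Δ).range
  let ch : Γ × Δ →* MonoidAlgebra k ((Γ × Δ) ⧸ P) := (MonoidAlgebra.of k _).comp (QuotientGroup.mk' P)
  have hP : ∀ y ∈ P, ch y = 1 := fun y hy => by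
    have h : QuotientGroup.mk' P y = 1 := (QuotientGroup.eq_one_iff y).mpr hy
    simp only [ch, MonoidHom.comp_apply, h, map_one]
  have hk : Kill I ch :=
    kill_of_ker hS (k := k) (D := MonoidAlgebra k ((Γ × Δ) ⧸ P)) ch fun y hy => hP y (Subgroup.mem_sup_left hy)
  have h1 : ch = 1 := hm (MonoidAlgebra k ((Γ × Δ) ⧸ P)) ch hk
    (MonoidHom.ext fun x => hP (x, 1) (Subgroup.mem_sup_right ⟨x, rfl⟩))
  have h2 : QuotientGroup.mk' P g = 1 :=
    MonoidAlgebra.of_injective (R := k) ((DFunLike.congr_fun h1 g).trans (map_one _).symm)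
  obtain ⟨a, ha, b, ⟨x, rfl⟩, hab⟩ := Subgroup.mem_sup.mp ((QuotientGroup.eq_one_iff g).mp h2)
  refine ⟨x, ?_⟩
  rw [← hab, map_mul, show uch (ext I k) a = 1 from ha, one_mul]
  rfl

include hS hm in
/-- Over a field the subgroup either is a graph of a map of characters, or some character of the
first factor is trivial on it. -/
theorem exists_hom_or (k : Type u) [Field k] [Algebra A k] :
    (∃ φ : Δ →* Γ, Kill I (((MonoidAlgebra.of k Γ).coprod ((MonoidAlgebra.of k Γ).comp φ)) :
      Γ × Δ →* MonoidAlgebra k Γ)) ∨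
    ∃ m : Γ, m ≠ 1 ∧ uch (ext I k) (m, 1) = 1 := by
  by_cases h : ∀ m : Γ, uch (ext I k) (m, 1) = 1 → m = 1
  swap
  · push Not at h
    obtain ⟨m, h1, h2⟩ := h
    exact Or.inr ⟨m, h2, h1⟩
  left
  let v := uch (ext I k)
  have hinj : ∀ a b : Γ, v (a, 1) = v (b, 1) → a = b := fun a b hab => by
    refine inv_mul_eq_one.mp (h _ ?_)
    show v (a⁻¹ * b, 1) = 1
    rw [show (a⁻¹ * b, (1 : Δ)) = (a⁻¹, 1) * (b, 1) by simp, map_mul, ← hab, ← map_mul,
      show (a⁻¹, (1 : Δ)) * (a, 1) = 1 by simp, map_one]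
  choose f hf using fun y : Δ => exists_left hS hm (k := k) ((1 : Γ), y)
  let φ : Δ →* Γ := MonoidHom.mk' f fun y z => hinj _ _ (by
    show v (f (y * z), 1) = v (f y * f z, 1)
    rw [← hf, show ((1 : Γ), y * z) = (1, y) * (1, z) by simp, map_mul,
      show (f y * f z, (1 : Δ)) = (f y, 1) * (f z, 1) by simp, map_mul, ← hf, ← hf])
  refine ⟨φ, kill_of_ker hS (k := k) _ fun g hg => ?_⟩
  have h1 : v (g.1 * φ g.2, 1) = 1 := by
    show v (g.1 * f g.2, 1) = 1
    rw [show (g.1 * f g.2, (1 : Δ)) = (g.1, 1) * (f g.2, 1) by simp, map_mul, ← hf, ← map_mul,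
      show (g.1, (1 : Δ)) * (1, g.2) = g by simp, hg]
  have h2 := h _ h1
  show MonoidAlgebra.of k Γ g.1 * MonoidAlgebra.of k Γ (φ g.2) = 1
  rw [← map_mul, h2, map_one]

omit [Monoid.FG (Γ × Δ)] in
/-- The graph of a map of characters is a graph. -/
theorem graph_of_hom {D : Type u} [CommRing D] [Algebra A D] (φ : Δ →* Γ)
    (h : Kill I (((MonoidAlgebra.of D Γ).coprod ((MonoidAlgebra.of D Γ).comp φ)) : Γ × Δ →* MonoidAlgebra D Γ)) :
    Graph I D :=
  ⟨_, h, MonoidHom.ext fun x => by simp⟩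

omit [CommGroup Γ] [CommGroup Δ] [Monoid.FG (Γ × Δ)] in
/-- A span which is everything at a prime is everything near it. -/
theorem exists_smul_mem {B : Type u} [AddCommGroup B] [Module A B] [Module.Finite A B] {ι : Type*} (w : ι → B)
    (hw : Submodule.span A (Set.range w) = ⊤) (N : Submodule A B) (p : Ideal A) [p.IsPrime]
    (h : ∀ i, ∃ y ∈ N, (1 : p.ResidueField) ⊗ₜ[A] w i = (1 : p.ResidueField) ⊗ₜ[A] y) :
    ∃ a ∉ p, ∀ z : B, a • z ∈ N := by
  have hsub : ∀ z : p.ResidueField ⊗[A] (B ⧸ N), z = 0 := by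
    intro z
    induction z with
    | zero => rfl
    | add a b ha hb => rw [ha, hb, add_zero]
    | tmul c y =>
      obtain ⟨y, rfl⟩ := N.mkQ_surjective y
      have hy : y ∈ Submodule.span A (Set.range w) := hw ▸ Submodule.mem_top
      induction hy using Submodule.span_induction with
      | mem y hy =>
        obtain ⟨i, rfl⟩ := hy
        obtain ⟨y', hy', he⟩ := h i
        have he' := congrArg (LinearMap.lTensor p.ResidueField N.mkQ) he
        rw [LinearMap.lTensor_tmul, LinearMap.lTensor_tmul,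
          show N.mkQ y' = 0 from (Submodule.Quotient.mk_eq_zero N).mpr hy', tmul_zero] at he'
        rw [show c ⊗ₜ[A] N.mkQ (w i) = c • ((1 : p.ResidueField) ⊗ₜ[A] N.mkQ (w i)) by
          rw [smul_tmul', smul_eq_mul, mul_one], he', smul_zero]
      | zero => rw [map_zero, tmul_zero]
      | add a b _ _ ha hb => rw [map_add, tmul_add, ha, hb, add_zero]
      | smul r a _ ha => rw [map_smul, tmul_smul, ha, smul_zero]
  have hns : (⟨p, inferInstance⟩ : PrimeSpectrum A) ∉ Module.support A (B ⧸ N) := fun h => by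
    obtain ⟨a, b, hab⟩ := (Module.mem_support_iff_nontrivial_residueField_tensorProduct _).mp h
    exact hab ((hsub a).trans (hsub b).symm)
  rw [Module.mem_support_iff_of_finite, SetLike.not_le_iff_exists] at hns
  obtain ⟨a, ha, hap⟩ := hns
  exact ⟨a, hap, fun z => (Submodule.Quotient.mk_eq_zero N).mp
    ((Submodule.Quotient.mk_smul N a z).trans (Module.mem_annihilator.mp ha (Submodule.Quotient.mk z)))⟩

variable [Monoid.FG Γ]

omit [Monoid.FG Γ] [Monoid.FG (Γ × Δ)] in
include hS hm in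
/-- An algebra generated by `n`-torsion points cannot map onto the `n`-torsion of a graph if it has too few
generators. -/
theorem not_graph_of_smul_mem {B : Type u} [CommRing B] [Algebra A B] (w : Γ × Δ →* B) (n : ℕ)
    (hdesc : ∀ (E : Type u) [CommRing E] [Algebra A E] (c : Γ × Δ →* E), Kill I c → c ^ n = 1 →
      ∃ F : B →ₐ[A] E, ∀ g, F (w g) = c g)
    {ι : Type*} (y : ι → Γ) (x₀ : Γ)
    (hx₀ : ∀ i, QuotientGroup.mk' (powMonoidHom n).range (y i) ≠ QuotientGroup.mk' (powMonoidHom n).range x₀)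
    (a : A) (ha : ∀ z : B, a • z ∈ Submodule.span A (Set.range fun i => w (y i, 1)))
    (D : Type u) [CommRing D] [Algebra A D] [Nontrivial D] (hu : IsUnit (algebraMap A D a)) : ¬ Graph I D := by
  classical
  rintro ⟨cD, hcD, hcl⟩
  let Pn : Subgroup Γ := (powMonoidHom n).range
  let π : MonoidAlgebra D Γ →ₐ[D] MonoidAlgebra D (Γ ⧸ Pn) := MonoidAlgebra.mapDomainAlgHom D D (QuotientGroup.mk' Pn)
  let c : Γ × Δ →* MonoidAlgebra D (Γ ⧸ Pn) := (π : MonoidAlgebra D Γ →* _).comp cD
  have hc : Kill I c := hcD.map (π.restrictScalars A)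
  have hcx : ∀ x : Γ, c (x, 1) = MonoidAlgebra.single (QuotientGroup.mk' Pn x) 1 := fun x => by
    show π (cD.comp (MonoidHom.inl Γ Δ) x) = _
    rw [hcl]
    simp [π]
  have hcn : c ^ n = 1 := hm _ _ (kill_pow hS hc n) (MonoidHom.ext fun x => by
    have h : QuotientGroup.mk' Pn (x ^ n) = 1 := (QuotientGroup.eq_one_iff _).mpr ⟨x, rfl⟩
    show c (x, 1) ^ n = 1
    rw [hcx, MonoidAlgebra.single_pow, one_pow, ← map_pow, h]
    rfl)
  obtain ⟨F, hF⟩ := hdesc _ c hc hcn
  have hN : ∀ z ∈ Submodule.span A (Set.range fun i => w (y i, 1)), (F z).coeff (QuotientGroup.mk' Pn x₀) = 0 := by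
    intro z hz
    induction hz using Submodule.span_induction with
    | mem z hz =>
      obtain ⟨i, rfl⟩ := hz
      rw [hF, hcx, MonoidAlgebra.coeff_single]
      exact Finsupp.single_eq_of_ne (Ne.symm (hx₀ i))
    | zero => simp
    | add a b _ _ ha hb => rw [map_add, MonoidAlgebra.coeff_add, Finsupp.add_apply, ha, hb, add_zero]
    | smul r a _ ha => rw [map_smul, MonoidAlgebra.coeff_smul, Finsupp.smul_apply, ha, smul_zero]
  have h1 := hN _ (ha (w (x₀, 1)))
  rw [map_smul, hF, hcx, MonoidAlgebra.coeff_smul, Finsupp.smul_apply, MonoidAlgebra.coeff_single,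
    Finsupp.single_eq_same, ← Algebra.algebraMap_eq_smul_one] at h1
  exact hu.ne_zero h1

omit [Monoid.FG Γ] [Monoid.FG (Γ × Δ)] in
theorem exists_missing {m : Γ} {n : ℕ} (hmn : ∀ r : Γ, r ^ n ≠ m) :
    ∃ x₀ : Γ, ∀ q : Γ ⧸ ((powMonoidHom n).range ⊔ Subgroup.zpowers m),
      QuotientGroup.mk' (powMonoidHom n).range q.out ≠ QuotientGroup.mk' (powMonoidHom n).range x₀ := by
  by_contra h
  push Not at h
  let Pn : Subgroup Γ := (powMonoidHom n).range
  let P' : Subgroup Γ := Pn ⊔ Subgroup.zpowers m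
  have hq : ∀ x (q : Γ ⧸ P'), QuotientGroup.mk' Pn q.out = QuotientGroup.mk' Pn x → q = QuotientGroup.mk' P' x := by
    intro x q he
    rw [← QuotientGroup.out_eq' q]
    exact QuotientGroup.eq.mpr (le_sup_left (b := Subgroup.zpowers m) (QuotientGroup.eq.mp he))
  obtain ⟨q, hq1⟩ := h m
  obtain ⟨q', hq2⟩ := h 1
  have hm' : QuotientGroup.mk' P' m = QuotientGroup.mk' P' 1 := by
    rw [map_one]
    exact (QuotientGroup.eq_one_iff m).mpr (Subgroup.mem_sup_right (Subgroup.mem_zpowers m))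
  have he : q = q' := by rw [hq _ _ hq1, hq _ _ hq2, hm']
  have h3 : QuotientGroup.mk' Pn m = 1 := by rw [← hq1, he, hq2, map_one]
  obtain ⟨r, hr⟩ := (QuotientGroup.eq_one_iff m).mp h3
  exact hmn r hr

omit [CommGroup Γ] [CommGroup Δ] [Monoid.FG Γ] [Monoid.FG (Γ × Δ)] in
/-- The torsion points form a finite scheme. -/
theorem exists_torsion_algebra {M : Type} [CommGroup M] [Monoid.FG M] (I : Ideal (MonoidAlgebra A M)) (n : ℕ)
    (hn : 0 < n) :
    ∃ (B : Type u) (_ : CommRing B) (_ : Algebra A B) (w : M →* B), Module.Finite A B ∧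
      Submodule.span A (Set.range w) = ⊤ ∧ Kill I w ∧ (∀ g, w g ^ n = 1) ∧
      ∀ (E : Type u) [CommRing E] [Algebra A E] (c : M →* E), Kill I c → c ^ n = 1 →
        ∃ F : B →ₐ[A] E, ∀ g, F (w g) = c g := by
  let E : Ideal (MonoidAlgebra A M) := Ideal.span (Set.range fun g => MonoidAlgebra.of A M g ^ n - 1)
  let K := I ⊔ E
  have hwI : Kill I (uch K) := kill_uch K (Ideal.map_le_iff_le_comap.mpr fun x hx => by
    simpa [MonoidAlgebra.mapRingHom] using (le_sup_left (b := E) : I ≤ K) hx)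
  have hwn : ∀ g, uch K g ^ n = 1 := fun g => by
    rw [← sub_eq_zero]
    show Ideal.Quotient.mk K (MonoidAlgebra.of A _ g) ^ n - 1 = 0
    rw [← map_pow, ← map_one (Ideal.Quotient.mk K), ← map_sub, Ideal.Quotient.eq_zero_iff_mem]
    exact le_sup_right (a := I) (Ideal.subset_span ⟨g, rfl⟩)
  have : Algebra.IsIntegral A (MonoidAlgebra A M ⧸ K) := ⟨fun y => by
    refine Submodule.span_induction (p := fun y _ => IsIntegral A y) ?_ isIntegral_zero
      (fun _ _ _ _ => IsIntegral.add) (fun r _ _ hy => hy.smul r)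
      (span_uch K ▸ Submodule.mem_top : y ∈ Submodule.span A (Set.range (uch K)))
    rintro _ ⟨g, rfl⟩
    exact IsIntegral.of_pow hn (by rw [hwn]; exact isIntegral_one)⟩
  refine ⟨MonoidAlgebra A M ⧸ K, inferInstance, inferInstance, uch K, Algebra.IsIntegral.finite, span_uch K, hwI, hwn,
    fun E' _ _ c hc hcn => ?_⟩
  have hKc : K ≤ RingHom.ker (MonoidAlgebra.lift A E' _ c) := by
    refine sup_le hc ?_
    rw [Ideal.span_le]
    rintro _ ⟨g, rfl⟩
    have : c g ^ n = 1 := DFunLike.congr_fun hcn g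
    simp [this]
  exact ⟨Ideal.Quotient.liftₐ K _ (fun x hx => hKc hx), fun g => desc_uch K c _ g⟩

include hS hm in
/-- Being no graph at a prime propagates to a neighbourhood. -/
theorem exists_nhd_not_graph (p : Ideal A) [p.IsPrime] {m : Γ} (hm1 : m ≠ 1)
    (hmp : uch (ext I p.ResidueField) (m, 1) = 1) :
    ∃ a ∉ p, ∀ (D : Type u) [CommRing D] [Algebra A D] [Nontrivial D],
      IsUnit (algebraMap A D a) → ¬ Graph I D := by
  obtain ⟨n, hn, hmn⟩ := exists_not_pow hm1
  obtain ⟨x₀, hx₀⟩ := exists_missing hmn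
  let P' : Subgroup Γ := (powMonoidHom n).range ⊔ Subgroup.zpowers m
  obtain ⟨B, _, _, w, hfin, hspan, hwI, hwn, hdesc⟩ := exists_torsion_algebra I n hn
  let ch : Γ × Δ →* p.ResidueField ⊗[A] B :=
    ((Algebra.TensorProduct.includeRight : B →ₐ[A] p.ResidueField ⊗[A] B) : B →* _).comp w
  have hch : Kill I ch := hwI.map _
  have hd : ∀ g g', uch (ext I p.ResidueField) g = uch (ext I p.ResidueField) g' → ch g = ch g' := fun g g' h => by
    rw [← desc_uch (ext I p.ResidueField) ch (fun x hx => le_ker_lift hch hx) g,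
      ← desc_uch (ext I p.ResidueField) ch (fun x hx => le_ker_lift hch hx) g', h]
  have hker : P' ≤ (ch.comp (MonoidHom.inl Γ Δ)).ker := by
    refine sup_le ?_ (Subgroup.zpowers_le.mpr ?_)
    · rintro _ ⟨r, rfl⟩
      show ch (r ^ n, 1) = 1
      rw [show (r ^ n, (1 : Δ)) = (r, 1) ^ n by simp, map_pow]
      simp only [ch, MonoidHom.comp_apply, ← map_pow, hwn, map_one]
    · show ch (m, 1) = 1
      rw [hd (m, 1) 1 (by rw [hmp, map_one]), map_one]
  obtain ⟨a, hap, ha⟩ := exists_smul_mem w hspan (Submodule.span A (Set.range fun q : Γ ⧸ P' => w (q.out, 1))) p (by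
    intro g
    obtain ⟨x, hx⟩ := exists_left hS hm (k := p.ResidueField) g
    let q : Γ ⧸ P' := QuotientGroup.mk' P' x
    refine ⟨w (q.out, 1), Submodule.subset_span ⟨q, rfl⟩, ?_⟩
    have h2 : (q.out)⁻¹ * x ∈ P' := QuotientGroup.eq.mp (QuotientGroup.out_eq' q)
    have h1 : ch g = ch (q.out, 1) := by
      rw [hd g (x, 1) hx, show (x, (1 : Δ)) = (q.out, 1) * ((q.out)⁻¹ * x, 1) by simp, map_mul,
        show ch ((q.out)⁻¹ * x, 1) = 1 from hker h2, mul_one]
    exact h1)
  exact ⟨a, hap, fun D _ _ _ hu => not_graph_of_smul_mem hS hm w n hdesc _ x₀ hx₀ a ha D hu⟩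

end Groth.Agent.H87.GraphDS
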