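import Mathlib.Algebra.MonoidAlgebra.Basic
import Mathlib.RingTheory.Idempotents

/-!
# Group-like elements of group algebras lift uniquely along nilpotent ideals
-/

set_option autoImplicit false
universe u

namespace Groth.Agent.H87.GroupLike

variable {A : Type u} [CommRing A] {G : Type} [CommGroup G]

/-- A group-like element, described by its coefficients. -/
structure IsGL (x : MonoidAlgebra A G) : Prop where
  ortho : ∀ p q : G, p ≠ q → x.coeff p * x.coeff q = 0
  idem : ∀ p : G, IsIdempotentElem (x.coeff p)
  sum : (x.coeff.sum fun _ r => r) = 1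

/-- `g ↦ (g, g)`. -/
noncomputable abbrev diag : MonoidAlgebra A G →+* MonoidAlgebra A (G × G) :=
  MonoidAlgebra.mapDomainRingHom A (MonoidHom.prod (MonoidHom.id G) (MonoidHom.id G))

/-- `g ↦ (g, 1)`. -/
noncomputable abbrev inl : MonoidAlgebra A G →+* MonoidAlgebra A (G × G) :=
  MonoidAlgebra.mapDomainRingHom A (MonoidHom.inl G G)

/-- `g ↦ (1, g)`. -/
noncomputable abbrev inr : MonoidAlgebra A G →+* MonoidAlgebra A (G × G) :=
  MonoidAlgebra.mapDomainRingHom A (MonoidHom.inr G G)

/-- `g ↦ 1`. -/
noncomputable abbrev aug : MonoidAlgebra A G →ₐ[A] A := MonoidAlgebra.lift A A G 1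

theorem aug_eq (x : MonoidAlgebra A G) : aug x = x.coeff.sum fun _ r => r := by
  classical
  induction x using MonoidAlgebra.induction_linear with
  | zero => simp
  | add a b ha hb => rw [map_add, MonoidAlgebra.coeff_add, Finsupp.sum_add_index (by simp) (by simp), ha, hb]
  | single n r => simp [MonoidAlgebra.lift_single]

theorem diag_coeff [DecidableEq G] (x : MonoidAlgebra A G) (p q : G) :
    (diag x).coeff (p, q) = if p = q then x.coeff p else 0 := by
  induction x using MonoidAlgebra.induction_linear with
  | zero => simp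
  | add z z' hz hz' => rw [map_add, MonoidAlgebra.coeff_add, Finsupp.add_apply, hz, hz']; split_ifs <;> simp
  | single n r =>
    simp only [MonoidAlgebra.mapDomainRingHom_apply, MonoidAlgebra.mapDomain_single, MonoidAlgebra.coeff_single,
      Finsupp.single_apply, MonoidHom.prod_apply, MonoidHom.id_apply, Prod.ext_iff]
    by_cases h1 : n = p <;> by_cases h2 : n = q <;> by_cases h3 : p = q <;> simp_all

theorem prod_coeff (x y : MonoidAlgebra A G) (p q : G) :
    (inl x * inr y).coeff (p, q) = x.coeff p * y.coeff q := by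
  classical
  induction x using MonoidAlgebra.induction_linear with
  | zero => simp
  | add z z' hz hz' => rw [map_add, add_mul, MonoidAlgebra.coeff_add, Finsupp.add_apply, hz, hz',
      MonoidAlgebra.coeff_add, Finsupp.add_apply, add_mul]
  | single n r =>
    induction y using MonoidAlgebra.induction_linear with
    | zero => simp
    | add z z' hz hz' => rw [map_add, mul_add, MonoidAlgebra.coeff_add, Finsupp.add_apply, hz, hz',
        MonoidAlgebra.coeff_add, Finsupp.add_apply, mul_add]
    | single n' r' =>
      simp [Finsupp.single_apply, Prod.ext_iff]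
      by_cases h1 : n = p <;> by_cases h2 : n' = q <;> simp_all

theorem isGL_iff (x : MonoidAlgebra A G) : IsGL x ↔ diag x = inl x * inr x ∧ aug x = 1 := by
  classical
  constructor
  · refine fun h => ⟨MonoidAlgebra.coeff_injective (Finsupp.ext fun ⟨p, q⟩ => ?_), (aug_eq x).trans h.sum⟩
    rw [diag_coeff, prod_coeff]
    split_ifs with hpq
    · subst hpq; exact (h.idem p).symm
    · exact (h.ortho p q hpq).symm
  · rintro ⟨h1, h2⟩
    have hc : ∀ p q, x.coeff p * x.coeff q = if p = q then x.coeff p else 0 := fun p q => by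
      rw [← prod_coeff, ← h1, diag_coeff]
    exact ⟨fun p q hpq => by rw [hc, if_neg hpq], fun p => (hc p p).trans (if_pos rfl), (aug_eq x).symm.trans h2⟩

theorem IsGL.mul {x y : MonoidAlgebra A G} (hx : IsGL x) (hy : IsGL y) : IsGL (x * y) := by
  rw [isGL_iff] at *
  refine ⟨?_, by rw [map_mul, hx.2, hy.2, one_mul]⟩
  rw [map_mul, map_mul, map_mul, hx.1, hy.1]
  ring

theorem isGL_one : IsGL (1 : MonoidAlgebra A G) := by
  rw [isGL_iff]
  simp

variable {B : Type u} [CommRing B] (f : A →+* B)

theorem eq_of_map_eq (hf : ∀ z ∈ RingHom.ker f, IsNilpotent z) {x y : MonoidAlgebra A G} (hx : IsGL x) (hy : IsGL y)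
    (h : MonoidAlgebra.mapRingHom G f x = MonoidAlgebra.mapRingHom G f y) : x = y := by
  refine MonoidAlgebra.coeff_injective (Finsupp.ext fun p => ?_)
  refine eq_of_isNilpotent_sub_of_isIdempotentElem (hx.idem p) (hy.idem p) (hf _ ?_)
  rw [RingHom.mem_ker, map_sub, sub_eq_zero]
  simpa using congrArg (fun z => z.coeff p) h

theorem exists_lift (hf : ∀ z ∈ RingHom.ker f, IsNilpotent z) (hsurj : Function.Surjective f)
    {y : MonoidAlgebra B G} (hy : IsGL y) : ∃ x : MonoidAlgebra A G, IsGL x ∧ MonoidAlgebra.mapRingHom G f x = y := by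
  classical
  have hlift : ∀ p, ∃ e : A, IsIdempotentElem e ∧ f e = y.coeff p := fun p =>
    exists_isIdempotentElem_eq_of_ker_isNilpotent f hf _ ⟨_, (hsurj _).choose_spec⟩ (hy.idem p)
  choose e he hfe using hlift
  have h0 : ∀ a : A, IsIdempotentElem a → f a = 0 → a = 0 := fun a ha h =>
    eq_of_isNilpotent_sub_of_isIdempotentElem ha IsIdempotentElem.zero (by rw [sub_zero]; exact hf a h)
  have hsupp : ∀ p, p ∉ y.coeff.support → e p = 0 := fun p hp =>
    h0 _ (he p) ((hfe p).trans (Finsupp.notMem_support_iff.mp hp))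
  let c : G →₀ A := Finsupp.onFinset y.coeff.support e fun p hp => by
    by_contra h
    exact hp (hsupp p h)
  let x : MonoidAlgebra A G := MonoidAlgebra.ofCoeff c
  have hxc : ∀ p, x.coeff p = e p := fun p => rfl
  have hmap : MonoidAlgebra.mapRingHom G f x = y := by
    refine MonoidAlgebra.coeff_injective (Finsupp.ext fun p => ?_)
    simp [hxc, hfe]
  have hortho : ∀ p q : G, p ≠ q → e p * e q = 0 := fun p q hpq =>
    h0 _ ((he p).mul (he q)) (by rw [map_mul, hfe, hfe, hy.ortho p q hpq])
  refine ⟨x, ⟨fun p q hpq => by rw [hxc, hxc]; exact hortho p q hpq, fun p => by rw [hxc]; exact he p, ?_⟩, hmap⟩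
  rw [Finsupp.sum_of_support_subset _ (Finsupp.support_onFinset_subset) _ (by simp)]
  have horth : OrthogonalIdempotents fun p : y.coeff.support => e p :=
    ⟨fun p => he p, fun p q hpq => hortho p q (Subtype.coe_injective.ne hpq)⟩
  have hidem := horth.isIdempotentElem_sum (s := Finset.univ)
  rw [Finset.univ_eq_attach, Finset.sum_attach _ e] at hidem
  refine eq_of_isNilpotent_sub_of_isIdempotentElem hidem IsIdempotentElem.one (hf _ ?_)
  rw [RingHom.mem_ker, map_sub, map_one, map_sum, sub_eq_zero]
  exact (Finset.sum_congr rfl fun p _ => hfe p).trans hy.sum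

end Groth.Agent.H87.GroupLike
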