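import Groth.Agent.Lib.MultAvg.HomSmooth
import Groth.Agent.Lib.MultAvg.Points
import Groth.Agent.H87.CentralDescent
import Groth.Agent.H87.MultLift
import Groth.Agent.S8385

/-!
# Homomorphisms from finite groups of multiplicative type over complete noetherian local rings

Morphisms out of a scheme finite over a complete noetherian local ring are compatible systems of morphisms on
the infinitesimal neighbourhoods of the closed fibre; homomorphisms into smooth groups and conjugating elements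
lift step by step along these neighbourhoods.
-/

set_option autoImplicit false
set_option linter.style.haveILetI false
universe u

open CategoryTheory MonoidalCategory CartesianMonoidalCategory MonObj GrpObj AlgebraicGeometry
open CategoryTheory.Limits
open Groth.Agent.Lib Groth.Agent.Lib.RedPts Groth.Agent.H87.HomFam

namespace Groth.Agent.H87.HomAdic

variable (A : Type u) [CommRing A] [IsLocalRing A]

/-- The coordinate ring of the `n`th infinitesimal neighbourhood. -/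
abbrev R (n : ℕ) : CommRingCat.{u} := CommRingCat.of (A ⧸ IsLocalRing.maximalIdeal A ^ (n + 1))

/-- The `n`th infinitesimal neighbourhood of the closed point. -/
noncomputable abbrev t (n : ℕ) : Spec (R A n) ⟶ Spec (CommRingCat.of A) :=
  Spec.map (CommRingCat.ofHom (Ideal.Quotient.mk (IsLocalRing.maximalIdeal A ^ (n + 1))))

/-- Reduction to the previous level. -/
noncomputable abbrev r (n : ℕ) : R A (n + 1) ⟶ R A n :=
  CommRingCat.ofHom (Ideal.Quotient.factor (Ideal.pow_le_pow_right (I := IsLocalRing.maximalIdeal A) (Nat.le_succ (n + 1))))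

theorem map_r_t (n : ℕ) : Spec.map (r A n) ≫ t A (n + 1) = t A n := by
  rw [← Spec.map_comp, ← CommRingCat.ofHom_comp]
  exact congrArg (fun f => Spec.map (CommRingCat.ofHom f)) (Ideal.Quotient.factor_comp_mk _)

instance (n : ℕ) : IsClosedImmersion (t A n) :=
  IsClosedImmersion.spec_of_surjective _ Ideal.Quotient.mk_surjective

theorem r_surjective (n : ℕ) : Function.Surjective (r A n).hom :=
  Ideal.Quotient.factor_surjective (Ideal.pow_le_pow_right (Nat.le_succ (n + 1)))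

theorem ker_r (n : ℕ) : RingHom.ker (r A n).hom ^ (2 ^ 1) = ⊥ := by
  show RingHom.ker (Ideal.Quotient.factor (Ideal.pow_le_pow_right (I := IsLocalRing.maximalIdeal A) (Nat.le_succ (n + 1)))) ^ 2 = ⊥
  rw [Ideal.Quotient.factor_ker, ← Ideal.map_pow, ← le_bot_iff]
  refine (Ideal.map_mono ?_).trans (Ideal.map_quotient_self _).le
  rw [← pow_mul]
  exact Ideal.pow_le_pow_right (by omega)

/-- Dependent choice along the levels. -/
theorem exists_seq {α : ℕ → Type*} (P : ∀ n, α n → Prop) (Q : ∀ n, α n → α (n + 1) → Prop) (a₀ : α 0) (h₀ : P 0 a₀)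
    (h : ∀ n a, P n a → ∃ b, P (n + 1) b ∧ Q n a b) :
    ∃ F : ∀ n, α n, F 0 = a₀ ∧ (∀ n, P n (F n)) ∧ ∀ n, Q n (F n) (F (n + 1)) := by
  choose s hs hs' using h
  let G : ∀ n, {a // P n a} := fun n =>
    Nat.rec (motive := fun n => {a // P n a}) ⟨a₀, h₀⟩ (fun n x => ⟨s n x.1 x.2, hs n x.1 x.2⟩) n
  exact ⟨fun n => (G n).1, rfl, fun n => (G n).2, fun n => hs' n _ _⟩

section Glue

variable {A} [IsNoetherianRing A] [IsAdicComplete (IsLocalRing.maximalIdeal A) A]

theorem exists_chart (X : Over (Spec (CommRingCat.of A))) [IsFinite X.hom] :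
    ∃ (B : Type u) (_ : CommRing B) (_ : Algebra A B) (_ : Module.Finite A B)
      (e : X.left ≅ Spec (CommRingCat.of B)), e.inv ≫ X.hom = Spec.map (CommRingCat.ofHom (algebraMap A B)) := by
  haveI : IsAffine X.left := isAffine_of_isAffineHom X.hom
  let B : Type u := Γ(X.left, ⊤)
  let e : X.left ≅ Spec (CommRingCat.of B) := X.left.isoSpec
  let φ : CommRingCat.of A ⟶ CommRingCat.of B := Spec.preimage (e.inv ≫ X.hom)
  have hφ : Spec.map φ = e.inv ≫ X.hom := Spec.map_preimage _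
  letI := φ.hom.toAlgebra
  have hfin : IsFinite (Spec.map φ) := by rw [hφ]; infer_instance
  exact ⟨B, inferInstance, φ.hom.toAlgebra, (IsFinite.SpecMap_iff φ).1 hfin, e, hφ.symm⟩

variable {B : Type u} [CommRing B] [Algebra A B]

/-- The ideal of the `n`th neighbourhood in a finite algebra. -/
abbrev I (n : ℕ) : Ideal B := Ideal.map (algebraMap A B) (IsLocalRing.maximalIdeal A ^ n)

theorem hI (n : ℕ) : I (A := A) (B := B) (n + 1) ≤ I (A := A) n :=
  Ideal.map_mono (Ideal.pow_le_pow_right (Nat.le_succ n))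

theorem fac_mk {P Q : Ideal B} (h : P ≤ Q) :
    Spec.map (CommRingCat.ofHom (Ideal.Quotient.factor h)) ≫ Spec.map (CommRingCat.ofHom (Ideal.Quotient.mk P)) =
      Spec.map (CommRingCat.ofHom (Ideal.Quotient.mk Q)) := by
  rw [← Spec.map_comp, ← CommRingCat.ofHom_comp, Ideal.Quotient.factor_comp_mk]

/-- Morphisms out of a finite scheme are determined on the infinitesimal neighbourhoods. -/
theorem ext_levels {X G : Over (Spec (CommRingCat.of A))} [IsFinite X.hom] (a b : X ⟶ G)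
    (h : ∀ (n : ℕ) (Y : Over (Spec (CommRingCat.of A))) (y : Y.left ⟶ Spec (R A n)), y ≫ t A n = Y.hom →
      ∀ x : Y ⟶ X, x ≫ a = x ≫ b) : a = b := by
  obtain ⟨B, _, _, _, e, he⟩ := exists_chart X
  apply Over.OverMorphism.ext
  rw [← cancel_epi e.inv]
  refine (S8385.result A B G).1 _ _ (by rw [Category.assoc, Over.w, he]) (by rw [Category.assoc, Over.w, he])
    fun n => ?_
  let mk := Spec.map (CommRingCat.ofHom (Ideal.Quotient.mk (I (A := A) (B := B) (n + 1))))
  let P : Over (Spec (CommRingCat.of A)) := Over.mk (mk ≫ e.inv ≫ X.hom)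
  let x : P ⟶ X := Over.homMk (mk ≫ e.inv) (Category.assoc _ _ _)
  have h1 : mk ≫ e.inv ≫ a.left = mk ≫ e.inv ≫ b.left := by
    have := congrArg CommaMorphism.left (h n P (Spec.map (CommRingCat.ofHom
      (Ideal.quotientMap (I (A := A) (n + 1)) (algebraMap A B) Ideal.le_comap_map))) (by
        show _ = mk ≫ e.inv ≫ X.hom
        rw [he, ← Spec.map_comp, ← Spec.map_comp, ← CommRingCat.ofHom_comp, Ideal.quotientMap_comp_mk]
        rfl) x)
    simpa [x] using this
  show Spec.map (CommRingCat.ofHom (Ideal.Quotient.mk (I (A := A) (B := B) n))) ≫ _ = _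
  rw [← fac_mk (hI n), Category.assoc, Category.assoc, h1]

/-- A compatible system of natural maps on points over the neighbourhoods comes from a morphism. -/
theorem exists_glue {X G : Over (Spec (CommRingCat.of A))} [IsFinite X.hom]
    (φ : ∀ (n : ℕ) (Y : Over (Spec (CommRingCat.of A))) (y : Y.left ⟶ Spec (R A n)), y ≫ t A n = Y.hom →
      (Y ⟶ X) → (Y ⟶ G))
    (nat : ∀ (n : ℕ) (Y Y' : Over (Spec (CommRingCat.of A))) (s : Y' ⟶ Y) (y : Y.left ⟶ Spec (R A n))
      (hy : y ≫ t A n = Y.hom) (hy' : (s.left ≫ y) ≫ t A n = Y'.hom) (x : Y ⟶ X),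
      φ n Y' (s.left ≫ y) hy' (s ≫ x) = s ≫ φ n Y y hy x)
    (compat : ∀ (n : ℕ) (Y : Over (Spec (CommRingCat.of A))) (y : Y.left ⟶ Spec (R A n))
      (hy : y ≫ t A n = Y.hom) (hy' : (y ≫ Spec.map (r A n)) ≫ t A (n + 1) = Y.hom) (x : Y ⟶ X),
      φ (n + 1) Y (y ≫ Spec.map (r A n)) hy' x = φ n Y y hy x) :
    ∃ v : X ⟶ G, ∀ (n : ℕ) (Y : Over (Spec (CommRingCat.of A))) (y : Y.left ⟶ Spec (R A n))
      (hy : y ≫ t A n = Y.hom) (x : Y ⟶ X), x ≫ v = φ n Y y hy x := by
  obtain ⟨B, _, _, _, e, he⟩ := exists_chart X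
  have hcongr : ∀ (n : ℕ) (Y : Over (Spec (CommRingCat.of A))) (y y' : Y.left ⟶ Spec (R A n))
      (hy : y ≫ t A n = Y.hom) (hy' : y' ≫ t A n = Y.hom) (x x' : Y ⟶ X), x = x' →
      φ n Y y hy x = φ n Y y' hy' x' := by
    intro n Y y y' hy hy' x x' hx
    obtain rfl : y = y' := (cancel_mono (t A n)).1 (hy.trans hy'.symm)
    rw [hx]
  let mk : ∀ n, Spec (CommRingCat.of (B ⧸ I (A := A) (B := B) n)) ⟶ Spec (CommRingCat.of B) := fun n =>
    Spec.map (CommRingCat.ofHom (Ideal.Quotient.mk _))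
  let fac : ∀ n, Spec (CommRingCat.of (B ⧸ I (A := A) (B := B) n)) ⟶
      Spec (CommRingCat.of (B ⧸ I (A := A) (B := B) (n + 1))) := fun n =>
    Spec.map (CommRingCat.ofHom (Ideal.Quotient.factor (hI n)))
  let P : ℕ → Over (Spec (CommRingCat.of A)) := fun n => Over.mk (mk n ≫ e.inv ≫ X.hom)
  let y : ∀ n, (P (n + 1)).left ⟶ Spec (R A n) := fun n => Spec.map (CommRingCat.ofHom
    (Ideal.quotientMap (I (A := A) (n + 1)) (algebraMap A B) Ideal.le_comap_map))
  have hy : ∀ n, y n ≫ t A n = (P (n + 1)).hom := fun n => by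
    show _ = mk (n + 1) ≫ e.inv ≫ X.hom
    rw [he, ← Spec.map_comp, ← Spec.map_comp, ← CommRingCat.ofHom_comp, Ideal.quotientMap_comp_mk]
    rfl
  let j : ∀ n, P n ⟶ X := fun n => Over.homMk (mk n ≫ e.inv) (Category.assoc _ _ _)
  let v : ∀ n, P (n + 1) ⟶ G := fun n => φ n (P (n + 1)) (y n) (hy n) (j (n + 1))
  have hv : ∀ n, fac (n + 1) ≫ (v (n + 1)).left = (v n).left := fun n => by
    let s : P (n + 1) ⟶ P (n + 2) := Over.homMk (fac (n + 1)) (by
      show fac (n + 1) ≫ mk (n + 2) ≫ _ = mk (n + 1) ≫ _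
      rw [← Category.assoc, fac_mk])
    have hs : s ≫ j (n + 2) = j (n + 1) := Over.OverMorphism.ext (by
      show fac (n + 1) ≫ mk (n + 2) ≫ e.inv = mk (n + 1) ≫ e.inv
      rw [← Category.assoc, fac_mk])
    have hy1 : (y n ≫ Spec.map (r A n)) ≫ t A (n + 1) = (P (n + 1)).hom := by
      rw [Category.assoc, map_r_t, hy]
    have hy2 : (s.left ≫ y (n + 1)) ≫ t A (n + 1) = (P (n + 1)).hom := by
      rw [Category.assoc, hy, Over.w]
    have h1 : s ≫ v (n + 1) = v n := by
      show s ≫ φ _ _ _ _ _ = φ _ _ _ _ _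
      rw [← nat (n + 1) (P (n + 2)) (P (n + 1)) s (y (n + 1)) (hy (n + 1)) hy2 (j (n + 2)),
        ← compat n (P (n + 1)) (y n) (hy n) hy1 (j (n + 1))]
      exact hcongr _ _ _ _ _ _ _ _ hs
    exact congrArg CommaMorphism.left h1
  obtain ⟨f, hf, hfn⟩ := (S8385.result A B G).2 (fun n => fac n ≫ (v n).left) (fun n => by
    rw [Category.assoc, Over.w, CommRingCat.ofHom_comp, Spec.map_comp, ← he]
    show fac n ≫ mk (n + 1) ≫ _ = mk n ≫ _
    rw [← Category.assoc, fac_mk]) (fun n => by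
    show fac n ≫ fac (n + 1) ≫ (v (n + 1)).left = fac n ≫ (v n).left
    rw [hv])
  have hlev : ∀ n, mk (n + 1) ≫ f = (v n).left := fun n => (hfn (n + 1)).trans (hv n)
  refine ⟨Over.homMk (e.hom ≫ f) (by rw [Category.assoc, hf, ← he, Iso.hom_inv_id_assoc]), fun n Y y₀ hy₀ x => ?_⟩
  apply Over.OverMorphism.ext
  refine MultAvg.ext_affine _ _ fun E s => ?_
  let T : Over (Spec (CommRingCat.of A)) := Over.mk (s ≫ Y.hom)
  let sT : T ⟶ Y := Over.homMk s rfl
  obtain ⟨β, hβ⟩ : ∃ β, Spec.map β = s ≫ x.left ≫ e.hom := ⟨_, Spec.map_preimage _⟩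
  obtain ⟨κ, hκ⟩ : ∃ κ, Spec.map κ = s ≫ y₀ := ⟨_, Spec.map_preimage _⟩
  have hβκ : CommRingCat.ofHom (algebraMap A B) ≫ β =
      CommRingCat.ofHom (Ideal.Quotient.mk (IsLocalRing.maximalIdeal A ^ (n + 1))) ≫ κ :=
    Spec.map_injective (by
      rw [Spec.map_comp, Spec.map_comp, hβ, hκ, ← he]
      simp only [Category.assoc, Iso.hom_inv_id_assoc, Over.w]
      exact congrArg (s ≫ ·) hy₀.symm)
  have hker : ∀ z ∈ I (A := A) (B := B) (n + 1), β.hom z = 0 := fun z hz => by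
    refine RingHom.mem_ker.mp ((Ideal.map_le_iff_le_comap.mpr fun a ha => ?_) hz)
    rw [Ideal.mem_comap, RingHom.mem_ker]
    refine (congr((CommRingCat.Hom.hom $hβκ) a)).trans ?_
    show κ.hom (Ideal.Quotient.mk _ a) = 0
    rw [Ideal.Quotient.eq_zero_iff_mem.mpr ha, map_zero]
  let β' : CommRingCat.of (B ⧸ I (A := A) (B := B) (n + 1)) ⟶ E :=
    CommRingCat.ofHom (Ideal.Quotient.lift _ β.hom hker)
  have hβ' : Spec.map β' ≫ mk (n + 1) = s ≫ x.left ≫ e.hom := by
    rw [← hβ, ← Spec.map_comp]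
    exact congrArg Spec.map (CommRingCat.hom_ext (Ideal.Quotient.lift_comp_mk _ _ hker))
  let q : T ⟶ P (n + 1) := Over.homMk (Spec.map β') (by
    show Spec.map β' ≫ mk (n + 1) ≫ _ = s ≫ Y.hom
    rw [reassoc_of% hβ', Iso.hom_inv_id_assoc, Over.w])
  have hq : q ≫ j (n + 1) = sT ≫ x := Over.OverMorphism.ext (by
    show Spec.map β' ≫ mk (n + 1) ≫ e.inv = s ≫ x.left
    rw [reassoc_of% hβ', Iso.hom_inv_id, Category.comp_id])
  have hyT : (sT.left ≫ y₀) ≫ t A n = T.hom := by rw [Category.assoc, hy₀, Over.w]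
  have hyq : (q.left ≫ y n) ≫ t A n = T.hom := by rw [Category.assoc, hy, Over.w]
  have h1 : q ≫ v n = sT ≫ φ n Y y₀ hy₀ x := by
    show q ≫ φ _ _ _ _ _ = _
    rw [← nat n _ T q (y n) (hy n) hyq, ← nat n _ T sT y₀ hy₀ hyT]
    exact hcongr _ _ _ _ _ _ _ _ hq
  show s ≫ x.left ≫ e.hom ≫ f = s ≫ (φ n Y y₀ hy₀ x).left
  rw [← reassoc_of% hβ', hlev]
  exact congrArg CommaMorphism.left h1

end Glue

section Lift

variable {A} [IsNoetherianRing A] [IsAdicComplete (IsLocalRing.maximalIdeal A) A]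
  {H G : Over (Spec (CommRingCat.of A))} [GrpObj H] [GrpObj G]

/-- The closed point. -/
noncomputable abbrev cl (A : Type u) [CommRing A] [IsLocalRing A] :
    Spec (CommRingCat.of (A ⧸ IsLocalRing.maximalIdeal A)) ⟶ Spec (CommRingCat.of A) :=
  Spec.map (CommRingCat.ofHom (Ideal.Quotient.mk (IsLocalRing.maximalIdeal A)))

/-- The first neighbourhood as the closed point. -/
noncomputable abbrev c₀ : Spec (R A 0) ⟶ Spec (CommRingCat.of (A ⧸ IsLocalRing.maximalIdeal A)) :=
  Spec.map (CommRingCat.ofHom (Ideal.Quotient.factor (pow_one (IsLocalRing.maximalIdeal A)).ge))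

/-- The closed point as the first neighbourhood. -/
noncomputable abbrev d₀ : Spec (CommRingCat.of (A ⧸ IsLocalRing.maximalIdeal A)) ⟶ Spec (R A 0) :=
  Spec.map (CommRingCat.ofHom (Ideal.Quotient.factor (pow_one (IsLocalRing.maximalIdeal A)).le))

theorem c₀_cl : c₀ (A := A) ≫ cl A = t A 0 := by
  rw [← Spec.map_comp, ← CommRingCat.ofHom_comp, Ideal.Quotient.factor_comp_mk]

theorem d₀_t : d₀ (A := A) ≫ t A 0 = cl A := by
  rw [← Spec.map_comp, ← CommRingCat.ofHom_comp, Ideal.Quotient.factor_comp_mk]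

theorem d₀_c₀ : d₀ (A := A) ≫ c₀ = 𝟙 _ := by
  haveI : IsClosedImmersion (cl A) := IsClosedImmersion.spec_of_surjective _ Ideal.Quotient.mk_surjective
  rw [← cancel_mono (cl A), Category.assoc, c₀_cl, d₀_t, Category.id_comp]

theorem res_res_id {T : Scheme.{u}} {a b : T ⟶ Spec (CommRingCat.of A)} (F : Fam H G a) (w : 𝟙 T ≫ a = b)
    (w' : 𝟙 T ≫ b = a) : (F.res (𝟙 T) w).res (𝟙 T) w' = F := by
  refine Fam.ext (funext fun Y => funext fun y => funext fun hy => funext fun g => ?_)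
  exact F.app_congr (by simp only [Category.comp_id]) _ _ _

theorem exists_fam_step (hH : MultAvg.LocSplit H) [Smooth G.hom] (n : ℕ) (F : Fam H G (t A n)) :
    ∃ F' : Fam H G (t A (n + 1)), F'.res (Spec.map (r A n)) (map_r_t A n) = F := by
  have w : 𝟙 (Spec (R A n)) ≫ t A n = Spec.map (r A n) ≫ t A (n + 1) := by rw [Category.id_comp, map_r_t]
  have w' : 𝟙 (Spec (R A n)) ≫ Spec.map (r A n) ≫ t A (n + 1) = t A n := by rw [Category.id_comp, map_r_t]
  obtain ⟨F', hF'⟩ := MultAvg.exists_fam_of_pow hH 1 (t A (n + 1)) (r A n) (r_surjective A n) (ker_r A n)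
    (F.res (𝟙 _) w)
  refine ⟨F', ?_⟩
  rw [← res_res_id F w w', ← hF', Fam.res_res]
  exact F'.res_congr (Category.id_comp _).symm _

theorem isMonHom_of_tower [IsFinite H.hom] (F : ∀ n, Fam H G (t A n)) (u : H ⟶ G)
    (hu : ∀ (n : ℕ) (Y : Over (Spec (CommRingCat.of A))) (y : Y.left ⟶ Spec (R A n)) (hy : y ≫ t A n = Y.hom)
      (x : Y ⟶ H), x ≫ u = (F n).app Y y hy x) : IsMonHom u := by
  refine HomDS.isMonHom_of_points u fun {X} a b => ?_
  haveI : IsFinite (H ⊗ H).hom := inferInstanceAs (IsFinite (pullback.fst H.hom H.hom ≫ H.hom))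
  have key : (fst H H * snd H H) ≫ u = (fst H H ≫ u) * (snd H H ≫ u) := ext_levels _ _ fun n Y y hy x => by
    rw [MonObj.comp_mul x (fst H H ≫ u) (snd H H ≫ u), ← Category.assoc, MonObj.comp_mul,
      ← Category.assoc x (fst H H), ← Category.assoc x (snd H H), hu n Y y hy, hu n Y y hy, hu n Y y hy,
      (F n).mul]
  have := congrArg (lift a b ≫ ·) key
  simp only [MonObj.comp_mul, ← Category.assoc, lift_fst, lift_snd] at this
  exact this

theorem map_of_zero (u₀ : Red.bc (cl A) H ⟶ Red.bc (cl A) G) [IsMonHom u₀] (F : Fam H G (t A 0))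
    (hF : F = (CentralDescent.famOf u₀).res c₀ c₀_cl) (u : H ⟶ G)
    (hu : ∀ (Y : Over (Spec (CommRingCat.of A))) (y : Y.left ⟶ Spec (R A 0)) (hy : y ≫ t A 0 = Y.hom)
      (x : Y ⟶ H), x ≫ u = F.app Y y hy x) : (Over.pullback (cl A)).map u = u₀ := by
  subst hF
  apply BC.down_injective
  rw [← Category.id_comp ((Over.pullback (cl A)).map u)]
  refine (BC.down_map (f := cl A) (𝟙 _) u).trans ?_
  let Z := Red.bc (cl A) H
  have hy : (Z.hom ≫ d₀) ≫ t A 0 = ((Over.map (cl A)).obj Z).hom := by rw [Category.assoc, d₀_t]; rfl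
  refine (hu ((Over.map (cl A)).obj Z) (Z.hom ≫ d₀) hy _).trans ?_
  have e : (Z.hom ≫ d₀) ≫ c₀ = Z.hom := by rw [Category.assoc, d₀_c₀, Category.comp_id]
  refine ((CentralDescent.famOf u₀).app_congr e _ rfl _).trans ?_
  exact (Bridge.famOf_app_self u₀ (𝟙 Z) rfl).trans (congrArg (BC.down (cl A)) (Category.id_comp u₀))

/-- **Homomorphisms lift from the closed point.** -/
theorem exists_lift (hH : MultAvg.LocSplit H) [IsFinite H.hom] [Smooth G.hom]
    (u₀ : Red.bc (cl A) H ⟶ Red.bc (cl A) G) [IsMonHom u₀] :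
    ∃ u : H ⟶ G, IsMonHom u ∧ (Over.pullback (cl A)).map u = u₀ := by
  obtain ⟨F, hF0, -, hF⟩ := exists_seq (fun n (_ : Fam H G (t A n)) => True)
    (fun n F F' => F'.res (Spec.map (r A n)) (map_r_t A n) = F)
    ((CentralDescent.famOf u₀).res c₀ c₀_cl) trivial
    (fun n F _ => (exists_fam_step hH n F).imp fun F' h => ⟨trivial, h⟩)
  obtain ⟨u, hu⟩ := exists_glue (X := H) (G := G) (fun n Y y hy x => (F n).app Y y hy x)
    (fun n Y Y' s y hy hy' x => (F n).natural s y hy _ hy' x rfl)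
    (fun n Y y hy hy' x => congrFun (congrFun (congrFun (congrFun (congrArg Fam.app (hF n)) Y) y) hy) x)
  exact ⟨u, isMonHom_of_tower F u hu, map_of_zero u₀ (F 0) hF0 u (hu 0)⟩

theorem eq_of_map (u u' : H ⟶ G) (h : (Over.pullback (cl A)).map u = (Over.pullback (cl A)).map u')
    {Y : Over (Spec (CommRingCat.of A))} (y : Y.left ⟶ Spec (CommRingCat.of (A ⧸ IsLocalRing.maximalIdeal A)))
    (hy : y ≫ cl A = Y.hom) (x : Y ⟶ H) : x ≫ u = x ≫ u' := by
  have hx : CentralDescent.inn y hy ≫ x = BC.down (cl A) (BC.up (cl A) (CentralDescent.inn y hy ≫ x)) :=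
    (BC.down_up (f := cl A) _).symm
  have h1 : CentralDescent.inn y hy ≫ x ≫ u = CentralDescent.inn y hy ≫ x ≫ u' := by
    rw [← Category.assoc, ← Category.assoc, hx, ← BC.down_map, ← BC.down_map, h]
  have := congrArg (CentralDescent.out y hy ≫ ·) h1
  simpa only [← Category.assoc, CentralDescent.out_inn, Category.id_comp] using this

/-- **Lifts are conjugate.** -/
theorem exists_conj (hH : MultAvg.LocSplit H) [IsFinite H.hom] [Smooth G.hom] (u u' : H ⟶ G)
    [IsMonHom u] [IsMonHom u'] (h : (Over.pullback (cl A)).map u = (Over.pullback (cl A)).map u') :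
    ∃ g : 𝟙_ (Over (Spec (CommRingCat.of A))) ⟶ G,
      (Over.pullback (cl A)).map g = toUnit _ ≫ η[Red.bc (cl A) G] ∧
      ∀ (X : Over (Spec (CommRingCat.of A))) (x : X ⟶ H),
        x ≫ u' = (toUnit X ≫ g) * (x ≫ u) * (toUnit X ≫ g)⁻¹ := by
  have hid : ∀ n, t A n = (HomDS.test (t A n) (𝟙 (R A n))).hom := fun n => by
    show t A n = Spec.map (𝟙 _) ≫ t A n
    rw [Spec.map_id, Category.id_comp]
  let c : ∀ n, HomDS.test (t A (n + 1)) (r A n) ⟶ HomDS.test (t A n) (𝟙 (R A n)) := fun n =>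
    Over.homMk (𝟙 (Spec (R A n))) (by
      show 𝟙 _ ≫ Spec.map (𝟙 _) ≫ t A n = Spec.map (r A n) ≫ t A (n + 1)
      rw [Category.id_comp, Spec.map_id, Category.id_comp, map_r_t])
  have hstep : ∀ (n : ℕ) (g : HomDS.test (t A n) (𝟙 (R A n)) ⟶ G), MultAvg.Rel u u' g →
      ∃ g' : HomDS.test (t A (n + 1)) (𝟙 (R A (n + 1))) ⟶ G,
        MultAvg.Rel u u' g' ∧ Spec.map (r A n) ≫ g'.left = g.left := by
    intro n g hg
    obtain ⟨g', hg', hrel⟩ := MultAvg.exists_rel_of_pow hH u u' 1 (t A (n + 1)) (r A n) (r_surjective A n)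
      (ker_r A n) (c n ≫ g) (hg.restrict (c n))
    exact ⟨g', hrel, (congrArg CommaMorphism.left hg').trans (Category.id_comp g.left)⟩
  have h0 : MultAvg.Rel u u' (1 : HomDS.test (t A 0) (𝟙 (R A 0)) ⟶ G) := fun Y p x => by
    rw [MonObj.comp_one, inv_one, _root_.one_mul, _root_.mul_one]
    exact eq_of_map u u' h (p.left ≫ c₀) ((Category.assoc _ _ _).trans ((congrArg (p.left ≫ ·) (c₀_cl.trans (hid 0))).trans (Over.w p))) x
  obtain ⟨g, hg0, hgrel, hgcompat⟩ := exists_seq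
    (fun n (g : HomDS.test (t A n) (𝟙 (R A n)) ⟶ G) => MultAvg.Rel u u' g)
    (fun n g g' => Spec.map (r A n) ≫ g'.left = g.left) 1 h0 hstep
  haveI : IsFinite (𝟙_ (Over (Spec (CommRingCat.of A)))).hom := inferInstanceAs (IsFinite (𝟙 _))
  let pt : ∀ (n : ℕ) (Y : Over (Spec (CommRingCat.of A))) (y : Y.left ⟶ Spec (R A n)), y ≫ t A n = Y.hom →
      (Y ⟶ HomDS.test (t A n) (𝟙 (R A n))) := fun n Y y hy => Over.homMk y (by rw [← hid]; exact hy)
  obtain ⟨v, hv⟩ := exists_glue (X := 𝟙_ (Over (Spec (CommRingCat.of A)))) (G := G)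
    (fun n Y y hy _ => pt n Y y hy ≫ g n)
    (fun n Y Y' s y hy hy' x => Over.OverMorphism.ext (Category.assoc _ _ _))
    (fun n Y y hy hy' x => Over.OverMorphism.ext (by
      show (y ≫ Spec.map (r A n)) ≫ (g (n + 1)).left = y ≫ (g n).left
      rw [Category.assoc, hgcompat]))
  refine ⟨v, BC.down_injective ?_, fun X x => ?_⟩
  · rw [← Category.id_comp ((Over.pullback (cl A)).map v)]
    refine (BC.down_map (f := cl A) (𝟙 _) v).trans ?_
    let Z := (Over.pullback (cl A)).obj (𝟙_ (Over (Spec (CommRingCat.of A))))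
    rw [hv 0 ((Over.map (cl A)).obj Z) (Z.hom ≫ d₀) (by rw [Category.assoc, d₀_t]; rfl), hg0,
      MonObj.comp_one]
    exact (BC.down_one (f := cl A)).symm
  · have key : u' = (toUnit H ≫ v) * u * (toUnit H ≫ v)⁻¹ := ext_levels _ _ fun n Y y hy z => by
      rw [MonObj.comp_mul, MonObj.comp_mul, GrpObj.comp_inv, ← Category.assoc, hv n Y y hy]
      exact (hgrel n Y (pt n Y y hy) z).symm
    conv_lhs => rw [key]
    rw [MonObj.comp_mul, MonObj.comp_mul, GrpObj.comp_inv, ← Category.assoc, toUnit_unique (x ≫ toUnit H) (toUnit X)]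

end Lift

end Groth.Agent.H87.HomAdic
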