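import Groth.Agent.H87.HomAlg
import Mathlib.AlgebraicGeometry.Pullbacks
import Mathlib.AlgebraicGeometry.Morphisms.FinitePresentation
import Mathlib.AlgebraicGeometry.Cover.Open

/-!
# The scheme of morphisms from a finite projective algebra to an affine scheme
-/

set_option autoImplicit false
universe u

open CategoryTheory CategoryTheory.Limits AlgebraicGeometry TensorProduct

namespace Groth.Agent.H87.HomAffine

variable (A : Type u) [CommRing A]

/-- The structure map of the spectrum of an algebra. -/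
noncomputable abbrev str (B : Type u) [CommRing B] [Algebra A B] :
    Spec (.of B) ⟶ Spec (.of A) :=
  Spec.map (CommRingCat.ofHom (algebraMap A B))

variable {A} {B : Type u} [CommRing B] [Algebra A B]

/-- Base change of a point along `Spec B ⟶ Spec A`. -/
noncomputable def bc {T T' : Scheme.{u}} {t : T ⟶ Spec (.of A)} {t' : T' ⟶ Spec (.of A)}
    (a : T ⟶ T') (w : a ≫ t' = t) : pullback t (str A B) ⟶ pullback t' (str A B) :=
  pullback.lift (pullback.fst t (str A B) ≫ a) (pullback.snd t (str A B))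
    (by rw [Category.assoc, w, pullback.condition])

@[reassoc (attr := simp)]
theorem bc_fst {T T' : Scheme.{u}} {t : T ⟶ Spec (.of A)} {t' : T' ⟶ Spec (.of A)}
    (a : T ⟶ T') (w : a ≫ t' = t) :
    bc (B := B) a w ≫ pullback.fst t' (str A B) = pullback.fst t (str A B) ≫ a :=
  pullback.lift_fst _ _ _

@[reassoc (attr := simp)]
theorem bc_snd {T T' : Scheme.{u}} {t : T ⟶ Spec (.of A)} {t' : T' ⟶ Spec (.of A)}
    (a : T ⟶ T') (w : a ≫ t' = t) :
    bc (B := B) a w ≫ pullback.snd t' (str A B) = pullback.snd t (str A B) :=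
  pullback.lift_snd _ _ _

variable {R Q : Type u} [CommRing R] [Algebra A R] [CommRing Q] [Algebra A Q]

/-- `ev` is a universal morphism. -/
def IsUnivMap (ev : pullback (str A Q) (str A B) ⟶ Spec (.of R)) : Prop :=
  ∀ (T : Scheme.{u}) (t : T ⟶ Spec (.of A)) (h : pullback t (str A B) ⟶ Spec (.of R)),
    h ≫ str A R = pullback.snd t (str A B) ≫ str A B →
      ∃! a : T ⟶ Spec (.of Q), ∃ w : a ≫ str A Q = t, bc a w ≫ ev = h

/-- The morphism of a universal homomorphism. -/
noncomputable def evMap (φ : R →ₐ[A] Q ⊗[A] B) : pullback (str A Q) (str A B) ⟶ Spec (.of R) :=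
  (pullbackSpecIso A Q B).hom ≫ Spec.map (CommRingCat.ofHom φ.toRingHom)

theorem evMap_str (φ : R →ₐ[A] Q ⊗[A] B) :
    evMap φ ≫ str A R = pullback.snd (str A Q) (str A B) ≫ str A B := by
  rw [evMap, Category.assoc, ← Spec.map_comp, ← CommRingCat.ofHom_comp]
  rw [← pullback.condition, ← pullbackSpecIso_hom_fst, Category.assoc, ← Spec.map_comp,
    ← CommRingCat.ofHom_comp]
  congr 3
  exact φ.comp_algebraMap

theorem bc_iso {C : Type u} [CommRing C] [Algebra A C] (θ : Q →ₐ[A] C)
    (w : Spec.map (CommRingCat.ofHom θ.toRingHom) ≫ str A Q = str A C) :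
    bc (B := B) (Spec.map (CommRingCat.ofHom θ.toRingHom)) w =
      (pullbackSpecIso A C B).hom ≫ Spec.map (CommRingCat.ofHom (HomAlg.bcMap A B θ).toRingHom) ≫
        (pullbackSpecIso A Q B).inv := by
  apply pullback.hom_ext
  · simp only [bc_fst, Category.assoc, pullbackSpecIso_inv_fst]
    rw [← pullbackSpecIso_hom_fst, Category.assoc, ← Spec.map_comp, ← Spec.map_comp,
      ← CommRingCat.ofHom_comp, ← CommRingCat.ofHom_comp]
    congr 3
  · simp only [bc_snd, Category.assoc, pullbackSpecIso_inv_snd]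
    rw [← pullbackSpecIso_hom_snd, ← Spec.map_comp, ← CommRingCat.ofHom_comp]
    congr 3
    ext b
    simp

theorem isUnivMap_affine (φ : R →ₐ[A] Q ⊗[A] B) (hφ : HomAlg.IsUniv A B φ) (C : CommRingCat.{u})
    (t : Spec C ⟶ Spec (.of A)) (h : pullback t (str A B) ⟶ Spec (.of R))
    (hh : h ≫ str A R = pullback.snd t (str A B) ≫ str A B) :
    ∃! a : Spec C ⟶ Spec (.of Q), ∃ w : a ≫ str A Q = t, bc a w ≫ evMap φ = h := by
  obtain ⟨τ, rfl⟩ := Spec.map_surjective t
  revert h hh
  let alg : Algebra A C := τ.hom.toAlgebra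
  show ∀ h : pullback (str A (C : Type u)) (str A B) ⟶ Spec (.of R),
    h ≫ str A R = pullback.snd (str A (C : Type u)) (str A B) ≫ str A B → _
  intro h hh
  obtain ⟨ψ, hψ⟩ := Spec.map_surjective ((pullbackSpecIso A C B).inv ≫ h)
  have hψA : ψ.hom.comp (algebraMap A R) = algebraMap A ((C : Type u) ⊗[A] B) := by
    have h2 := congrArg ((pullbackSpecIso A C B).inv ≫ ·) hh
    simp only [← Category.assoc, ← hψ, pullbackSpecIso_inv_snd, ← Spec.map_comp] at h2
    refine (CommRingCat.hom_ext_iff.1 (Spec.map_injective h2)).trans ?_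
    ext a
    exact (Algebra.TensorProduct.includeRight (R := A) (A := (C : Type u)) (B := B)).commutes a
  let ψ' : R →ₐ[A] (C : Type u) ⊗[A] B := { ψ.hom with commutes' := fun a => RingHom.congr_fun hψA a }
  have hψ' : h = (pullbackSpecIso A C B).hom ≫ Spec.map (CommRingCat.ofHom ψ'.toRingHom) := by
    rw [show CommRingCat.ofHom ψ'.toRingHom = ψ from rfl, hψ, Iso.hom_inv_id_assoc]
  obtain ⟨θ, hθ, huniq⟩ := hφ C ψ'
  have key : ∀ (η : Q →ₐ[A] C) (w : Spec.map (CommRingCat.ofHom η.toRingHom) ≫ str A Q = str A C),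
      (bc (B := B) (Spec.map (CommRingCat.ofHom η.toRingHom)) w ≫ evMap φ = h ↔
        (HomAlg.bcMap A B η).comp φ = ψ') := by
    intro η w
    rw [bc_iso η w, hψ', evMap, Category.assoc, Category.assoc, Iso.inv_hom_id_assoc,
      Iso.cancel_iso_hom_left, ← Spec.map_comp, ← CommRingCat.ofHom_comp]
    constructor
    · intro e
      exact AlgHom.coe_ringHom_injective (congrArg CommRingCat.Hom.hom (Spec.map_injective e))
    · intro e
      rw [← e]
      rfl
  have w₀ : Spec.map (CommRingCat.ofHom θ.toRingHom) ≫ str A Q = str A (C : Type u) := by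
    rw [← Spec.map_comp, ← CommRingCat.ofHom_comp]
    exact congrArg (fun f => Spec.map (CommRingCat.ofHom f)) θ.comp_algebraMap
  refine ⟨_, ⟨w₀, (key θ w₀).2 hθ⟩, ?_⟩
  rintro a ⟨w, ha⟩
  obtain ⟨α, rfl⟩ := Spec.map_surjective a
  have hα : α.hom.comp (algebraMap A Q) = algebraMap A C := by
    have w' := w
    rw [← Spec.map_comp] at w'
    exact CommRingCat.hom_ext_iff.1 (Spec.map_injective w')
  let η : Q →ₐ[A] C := { α.hom with commutes' := fun x => RingHom.congr_fun hα x }
  have := huniq η ((key η w).1 ha)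
  rw [← this]
  rfl

theorem bc_comp {T T' T'' : Scheme.{u}} {t : T ⟶ Spec (.of A)} {t' : T' ⟶ Spec (.of A)}
    {t'' : T'' ⟶ Spec (.of A)} (a : T ⟶ T') (w : a ≫ t' = t) (b : T' ⟶ T'') (w' : b ≫ t'' = t') :
    bc (B := B) a w ≫ bc b w' = bc (a ≫ b) (by rw [Category.assoc, w', w]) := by
  apply pullback.hom_ext <;> simp

theorem isUnivMap (φ : R →ₐ[A] Q ⊗[A] B) (hφ : HomAlg.IsUniv A B φ) : IsUnivMap (evMap φ) := by
  have huniq : ∀ (T : Scheme.{u}) (t : T ⟶ Spec (.of A)) (a a' : T ⟶ Spec (.of Q))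
      (w : a ≫ str A Q = t) (w' : a' ≫ str A Q = t),
      bc a w ≫ evMap φ = bc a' w' ≫ evMap φ → a = a' := by
    intro T t a a' w w' e
    refine T.affineCover.hom_ext _ _ fun k => ?_
    let g := T.affineCover.f k
    have hh : (bc (B := B) g (rfl : g ≫ t = g ≫ t) ≫ bc a w ≫ evMap φ) ≫ str A R =
        pullback.snd (g ≫ t) (str A B) ≫ str A B := by
      simp [evMap_str]
    refine (isUnivMap_affine φ hφ _ _ _ hh).unique ⟨?_, ?_⟩ ⟨?_, ?_⟩
    · exact (Category.assoc _ _ _).trans (congrArg (g ≫ ·) w)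
    · exact (congrArg (· ≫ evMap φ) (bc_comp g rfl a w).symm).trans (Category.assoc _ _ _)
    · exact (Category.assoc _ _ _).trans (congrArg (g ≫ ·) w')
    · exact ((congrArg (· ≫ evMap φ) (bc_comp g rfl a' w').symm).trans (Category.assoc _ _ _)).trans
        (congrArg (bc (B := B) g rfl ≫ ·) e.symm)
  intro T t h hh
  let g := T.affineCover.f
  have hloc : ∀ k, ∃! a : T.affineCover.X k ⟶ Spec (.of Q), ∃ w : a ≫ str A Q = g k ≫ t,
      bc a w ≫ evMap φ = bc (B := B) (g k) (rfl : g k ≫ t = g k ≫ t) ≫ h := fun k => by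
    refine isUnivMap_affine φ hφ _ _ _ ?_
    exact ((Category.assoc _ _ _).trans (congrArg (bc (B := B) (g k) rfl ≫ ·) hh)).trans (bc_snd_assoc _ _ _)
  choose a ha _ using hloc
  choose w hw using ha
  have hag : ∀ i j, pullback.fst (g i) (g j) ≫ a i = pullback.snd (g i) (g j) ≫ a j := by
    intro i j
    have e1 : (pullback.fst (g i) (g j) ≫ a i) ≫ str A Q = pullback.fst (g i) (g j) ≫ g i ≫ t := by
      rw [Category.assoc, w]
    have e2 : (pullback.snd (g i) (g j) ≫ a j) ≫ str A Q = pullback.fst (g i) (g j) ≫ g i ≫ t := by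
      rw [Category.assoc, w, pullback.condition_assoc]
    refine huniq _ _ _ _ e1 e2 ?_
    rw [← bc_comp _ rfl (a i) (w i), ← bc_comp _ (pullback.condition_assoc t).symm (a j) (w j),
      Category.assoc, hw i, Category.assoc, hw j]
    refine (Category.assoc _ _ _).symm.trans (Eq.trans (congrArg (· ≫ h) ?_) (Category.assoc _ _ _))
    apply pullback.hom_ext <;> simp [pullback.condition]
  let a₀ : T ⟶ Spec (.of Q) := T.affineCover.glueMorphisms a hag
  have hg : ∀ k, g k ≫ a₀ = a k := fun k => T.affineCover.ι_glueMorphisms _ _ k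
  have w₀ : a₀ ≫ str A Q = t := T.affineCover.hom_ext _ _ fun k => by
    rw [← Category.assoc, hg, w]
  have hev : bc a₀ w₀ ≫ evMap φ = h := by
    refine Scheme.Cover.hom_ext (T.affineCover.pullback₁ (pullback.fst t (str A B))) _ _ fun k => ?_
    let e : pullback (pullback.fst t (str A B)) (g k) ⟶ pullback (g k ≫ t) (str A B) :=
      pullback.lift (pullback.snd _ _) (pullback.fst _ _ ≫ pullback.snd _ _)
        (by rw [← pullback.condition_assoc, pullback.condition, Category.assoc])
    have he : e ≫ bc (g k) (rfl : g k ≫ t = g k ≫ t) = pullback.fst _ _ := by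
      apply pullback.hom_ext
      · rw [Category.assoc, bc_fst]
        exact (pullback.lift_fst_assoc _ _ _ _).trans pullback.condition.symm
      · rw [Category.assoc, bc_snd]
        exact pullback.lift_snd _ _ _
    show pullback.fst (pullback.fst t (str A B)) (g k) ≫ _ = pullback.fst _ _ ≫ _
    rw [← he, Category.assoc, Category.assoc, ← Category.assoc (bc (g k) _), bc_comp (g k) rfl a₀ w₀]
    congr 1
    refine Eq.trans ?_ (hw k)
    congr 1
    apply pullback.hom_ext <;> simp [hg]
  exact ⟨a₀, ⟨w₀, hev⟩, fun a' ⟨w', ha'⟩ => huniq T t a' a₀ w' w₀ (ha'.trans hev.symm)⟩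

end Groth.Agent.H87.HomAffine
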