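import Mathlib.RingTheory.FinitePresentation
import Mathlib.RingTheory.TensorProduct.Maps
import Mathlib.RingTheory.Finiteness.Projective

/-!
# The algebra of homomorphisms into a finite projective algebra

For `B` finite projective over `A` and an `A`-algebra `R`, the functor `C ↦ Hom_A-alg (R, C ⊗ B)`
is corepresented, by an algebra of finite type (finite presentation) if `R` is one.
-/

set_option autoImplicit false
universe u

open TensorProduct

namespace Groth.Agent.H87.HomAlg

variable (A : Type u) [CommRing A] (B : Type u) [CommRing B] [Algebra A B]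

/-- The functorial base change of an algebra homomorphism on the left factor. -/
noncomputable abbrev bcMap {C C' : Type u} [CommRing C] [Algebra A C] [CommRing C'] [Algebra A C']
    (θ : C →ₐ[A] C') : C ⊗[A] B →ₐ[A] C' ⊗[A] B :=
  Algebra.TensorProduct.map θ (AlgHom.id A B)

/-- Coordinate systems on `B`. -/
structure Coords where
  /-- the number of coordinates -/
  n : ℕ
  /-- the generators -/
  e : Fin n → B
  /-- the coordinates -/
  f : Fin n → B →ₗ[A] A
  sum_eq : ∀ b, ∑ i, f i b • e i = b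

theorem nonempty_coords [Module.Finite A B] [Module.Projective A B] : Nonempty (Coords A B) := by
  obtain ⟨n, π, s, -, -, h⟩ := Module.Finite.exists_comp_eq_id_of_projective A B
  classical
  refine ⟨⟨n, fun i => π (Pi.single i 1), fun i => (LinearMap.proj i).comp s, fun b => ?_⟩⟩
  have hb : π (s b) = b := LinearMap.congr_fun h b
  conv_rhs => rw [← hb]
  simp only [LinearMap.comp_apply, LinearMap.proj_apply, ← map_smul, ← map_sum]
  congr 1
  ext j
  simp [Finset.sum_apply, Pi.single_apply]

variable {A B}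

/-- The coordinates of an element of `C ⊗ B`. -/
noncomputable def Coords.coord (K : Coords A B) (C : Type u) [CommRing C] [Algebra A C] (i : Fin K.n) :
    C ⊗[A] B →ₗ[C] C :=
  (TensorProduct.AlgebraTensorModule.rid A C C).toLinearMap ∘ₗ (K.f i).baseChange C

theorem Coords.coord_tmul (K : Coords A B) {C : Type u} [CommRing C] [Algebra A C] (i : Fin K.n)
    (c : C) (b : B) : K.coord C i (c ⊗ₜ b) = K.f i b • c := by
  simp [Coords.coord]

theorem Coords.recon (K : Coords A B) {C : Type u} [CommRing C] [Algebra A C] (d : C ⊗[A] B) :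
    ∑ i, (K.coord C i d) • ((1 : C) ⊗ₜ[A] K.e i) = d := by
  induction d with
  | zero => simp
  | tmul c b =>
    simp only [K.coord_tmul, TensorProduct.smul_tmul', smul_eq_mul, mul_one, TensorProduct.smul_tmul,
      ← TensorProduct.tmul_sum, K.sum_eq]
  | add x y hx hy => simp only [map_add, add_smul, Finset.sum_add_distrib, hx, hy]

theorem Coords.coord_map (K : Coords A B) {C C' : Type u} [CommRing C] [Algebra A C] [CommRing C']
    [Algebra A C'] (θ : C →ₐ[A] C') (i : Fin K.n) (d : C ⊗[A] B) :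
    K.coord C' i (bcMap A B θ d) = θ (K.coord C i d) := by
  induction d with
  | zero => simp
  | tmul c b => simp [K.coord_tmul]
  | add x y hx hy => simp [hx, hy]

theorem Coords.map_sum (K : Coords A B) {C C' : Type u} [CommRing C] [Algebra A C] [CommRing C']
    [Algebra A C'] (θ : C →ₐ[A] C') (c : Fin K.n → C) :
    bcMap A B θ (∑ i, c i • ((1 : C) ⊗ₜ[A] K.e i)) = ∑ i, θ (c i) • ((1 : C') ⊗ₜ[A] K.e i) := by
  simp [TensorProduct.smul_tmul']

variable (A B)

/-- A homomorphism `R → Q ⊗ B` is universal. -/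
def IsUniv {R Q : Type u} [CommRing R] [Algebra A R] [CommRing Q] [Algebra A Q]
    (φ : R →ₐ[A] Q ⊗[A] B) : Prop :=
  ∀ (C : Type u) [CommRing C] [Algebra A C] (ψ : R →ₐ[A] C ⊗[A] B),
    ∃! θ : Q →ₐ[A] C, (bcMap A B θ).comp φ = ψ

variable {A B}

/-- The universal tuple. -/
noncomputable def univTuple (K : Coords A B) (σ : Type u) (s : σ) :
    MvPolynomial (σ × Fin K.n) A ⊗[A] B :=
  ∑ i, (MvPolynomial.X (s, i) : MvPolynomial (σ × Fin K.n) A) • (1 ⊗ₜ[A] K.e i)

/-- The universal map on the polynomial algebra. -/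
noncomputable def univPoly (K : Coords A B) (σ : Type u) :
    MvPolynomial σ A →ₐ[A] MvPolynomial (σ × Fin K.n) A ⊗[A] B :=
  MvPolynomial.aeval (univTuple K σ)

theorem univPoly_X (K : Coords A B) {σ : Type u} (s : σ) :
    univPoly K σ (MvPolynomial.X s) = univTuple K σ s := MvPolynomial.aeval_X _ _

theorem map_univTuple (K : Coords A B) {σ C : Type u} [CommRing C] [Algebra A C]
    (θ : MvPolynomial (σ × Fin K.n) A →ₐ[A] C) (s : σ) :
    bcMap A B θ (univTuple K σ s) = ∑ i, θ (MvPolynomial.X (s, i)) • ((1 : C) ⊗ₜ[A] K.e i) :=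
  K.map_sum θ fun i => MvPolynomial.X (s, i)

/-- The relations. -/
noncomputable def rels (K : Coords A B) {σ κ : Type u} (g : κ → MvPolynomial σ A) :
    (σ × Fin K.n) ⊕ (κ × Fin K.n) → MvPolynomial (σ × Fin K.n) A :=
  Sum.elim (fun x => MvPolynomial.X x - K.coord _ x.2 (univTuple K σ x.1))
    fun x => K.coord _ x.2 (univPoly K σ (g x.1))

section Abstract

variable (K : Coords A B) {R : Type u} [CommRing R] [Algebra A R] {σ κ : Type u}
  (π : MvPolynomial σ A →ₐ[A] R) (hπ : Function.Surjective π) (g : κ → MvPolynomial σ A)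
  (hg : RingHom.ker π = Ideal.span (Set.range g))
  {Q : Type u} [CommRing Q] [Algebra A Q] (mk : MvPolynomial (σ × Fin K.n) A →ₐ[A] Q)
  (hmk : Function.Surjective mk) (hker : RingHom.ker mk = Ideal.span (Set.range (rels K g)))

include hker in
theorem mk_rels (x : (σ × Fin K.n) ⊕ (κ × Fin K.n)) : mk (rels K g x) = 0 :=
  RingHom.mem_ker.1 (hker ▸ Ideal.subset_span ⟨x, rfl⟩)

include hπ hg hker in
theorem exists_lift : ∃ φ : R →ₐ[A] Q ⊗[A] B, φ.comp π = (bcMap A B mk).comp (univPoly K σ) := by
  have hw : RingHom.ker π ≤ RingHom.ker ((bcMap A B mk).comp (univPoly K σ)) := by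
    rw [hg, Ideal.span_le]
    rintro _ ⟨q, rfl⟩
    show (bcMap A B mk) (univPoly K σ (g q)) = 0
    rw [← K.recon (bcMap A B mk (univPoly K σ (g q)))]
    refine Finset.sum_eq_zero fun i _ => ?_
    have : K.coord Q i (bcMap A B mk (univPoly K σ (g q))) = 0 := by
      rw [K.coord_map]
      exact mk_rels K g mk hker (.inr (q, i))
    rw [this]
    exact zero_smul Q ((1 : Q) ⊗ₜ[A] K.e i)
  let e := Ideal.quotientKerAlgEquivOfSurjective hπ
  refine ⟨(Ideal.Quotient.liftₐ (RingHom.ker π) _ hw).comp e.symm.toAlgHom, MvPolynomial.algHom_ext fun p => ?_⟩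
  have : e.symm (π (MvPolynomial.X p)) = Ideal.Quotient.mk _ (MvPolynomial.X p) :=
    e.symm_apply_eq.2 (Ideal.quotientKerAlgEquivOfSurjective_mk hπ _).symm
  show Ideal.Quotient.liftₐ (RingHom.ker π) _ hw (e.symm (π (MvPolynomial.X p))) = _
  rw [this]
  rfl

include hπ hg hmk hker in
theorem isUniv_of_comp (φ : R →ₐ[A] Q ⊗[A] B) (hφ : φ.comp π = (bcMap A B mk).comp (univPoly K σ)) :
    IsUniv A B φ := by
  intro C _ _ ψ
  let θ₀ : MvPolynomial (σ × Fin K.n) A →ₐ[A] C :=
    MvPolynomial.aeval fun x => K.coord C x.2 (ψ (π (MvPolynomial.X x.1)))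
  have hθ₀ : (bcMap A B θ₀).comp (univPoly K σ) = ψ.comp π := MvPolynomial.algHom_ext fun s => by
    rw [AlgHom.comp_apply, univPoly_X, map_univTuple, AlgHom.comp_apply]
    refine Eq.trans (Finset.sum_congr rfl fun i _ => ?_) (K.recon _)
    rw [show θ₀ (MvPolynomial.X (s, i)) = _ from MvPolynomial.aeval_X _ _]
  have hJ : RingHom.ker mk ≤ RingHom.ker θ₀ := by
    rw [hker, Ideal.span_le]
    rintro _ ⟨x | x, rfl⟩ <;> show θ₀ _ = 0
    · simp only [rels, Sum.elim_inl]
      rw [map_sub, ← K.coord_map, ← univPoly_X, ← AlgHom.comp_apply, hθ₀, AlgHom.comp_apply,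
        show θ₀ (MvPolynomial.X x) = _ from MvPolynomial.aeval_X _ _, sub_self]
    · simp only [rels, Sum.elim_inr]
      rw [← K.coord_map, ← AlgHom.comp_apply, hθ₀, AlgHom.comp_apply,
        show π (g x.1) = 0 from RingHom.mem_ker.1 (hg ▸ Ideal.subset_span ⟨x.1, rfl⟩), map_zero, map_zero]
  let e := Ideal.quotientKerAlgEquivOfSurjective hmk
  let θ : Q →ₐ[A] C := (Ideal.Quotient.liftₐ (RingHom.ker mk) θ₀ hJ).comp e.symm.toAlgHom
  have hθ : θ.comp mk = θ₀ := MvPolynomial.algHom_ext fun x => by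
    have : e.symm (mk (MvPolynomial.X x)) = Ideal.Quotient.mk _ (MvPolynomial.X x) :=
      e.symm_apply_eq.2 (Ideal.quotientKerAlgEquivOfSurjective_mk hmk _).symm
    show Ideal.Quotient.liftₐ (RingHom.ker mk) θ₀ hJ (e.symm (mk (MvPolynomial.X x))) = _
    rw [this]
    rfl
  have hcomp : ∀ η : Q →ₐ[A] C, ((bcMap A B η).comp φ).comp π =
      (bcMap A B (η.comp mk)).comp (univPoly K σ) := fun η => by
    rw [AlgHom.comp_assoc, hφ, ← AlgHom.comp_assoc]
    exact congrArg (fun k : _ →ₐ[A] C ⊗[A] B => k.comp (univPoly K σ))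
      (Algebra.TensorProduct.map_comp η mk (AlgHom.id A B) (AlgHom.id A B)).symm
  refine ⟨θ, (AlgHom.cancel_right hπ).1 (by rw [hcomp, hθ, hθ₀]), fun η hη => ?_⟩
  refine (AlgHom.cancel_right hmk).1 (hθ.symm ▸ MvPolynomial.algHom_ext fun x => ?_)
  have h1 : mk (MvPolynomial.X x) = mk (K.coord _ x.2 (univTuple K σ x.1)) :=
    sub_eq_zero.1 (by rw [← map_sub]; exact mk_rels K g mk hker (.inl x))
  rw [AlgHom.comp_apply, h1, ← AlgHom.comp_apply, ← K.coord_map, ← univPoly_X, ← AlgHom.comp_apply,
    ← hcomp, hη, AlgHom.comp_apply]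
  exact (MvPolynomial.aeval_X (fun x : σ × Fin K.n => K.coord C x.2 (ψ (π (MvPolynomial.X x.1)))) x).symm

end Abstract

/-- The universal algebra of a presented algebra. -/
theorem exists_of_presentation (K : Coords A B) {R : Type u} [CommRing R] [Algebra A R]
    {σ κ : Type u} (π : MvPolynomial σ A →ₐ[A] R) (hπ : Function.Surjective π)
    (g : κ → MvPolynomial σ A) (hg : RingHom.ker π = Ideal.span (Set.range g)) :
    ∃ (Q : Type u) (_ : CommRing Q) (_ : Algebra A Q) (φ : R →ₐ[A] Q ⊗[A] B), IsUniv A B φ ∧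
      (Finite σ → Algebra.FiniteType A Q) ∧
      (Finite σ → Finite κ → Algebra.FinitePresentation A Q) := by
  let J := Ideal.span (Set.range (rels K g))
  have hmk : Function.Surjective (Ideal.Quotient.mkₐ A J) := Ideal.Quotient.mk_surjective
  have hker : RingHom.ker (Ideal.Quotient.mkₐ A J) = Ideal.span (Set.range (rels K g)) :=
    Ideal.Quotient.mkₐ_ker A J
  obtain ⟨φ, hφ⟩ := exists_lift K π hπ g hg _ hker
  refine ⟨_, inferInstance, inferInstance, φ, isUniv_of_comp K π hπ g hg _ hmk hker φ hφ, fun _ => ?_,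
    fun _ _ => ?_⟩
  · exact Algebra.FiniteType.of_surjective _ hmk
  · exact Algebra.FinitePresentation.quotient (Submodule.fg_span (Set.finite_range _))

variable (A B)

/-- **The algebra of homomorphisms.** -/
theorem exists_univ [Module.Finite A B] [Module.Projective A B] (R : Type u) [CommRing R] [Algebra A R] :
    ∃ (Q : Type u) (_ : CommRing Q) (_ : Algebra A Q) (φ : R →ₐ[A] Q ⊗[A] B), IsUniv A B φ ∧
      (Algebra.FiniteType A R → Algebra.FiniteType A Q) ∧
      (Algebra.FinitePresentation A R → Algebra.FinitePresentation A Q) := by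
  obtain ⟨K⟩ := nonempty_coords A B
  by_cases hft : Algebra.FiniteType A R
  · by_cases hfp : Algebra.FinitePresentation A R
    · obtain ⟨n, π, hπ, hfg⟩ := hfp.out
      obtain ⟨s, hs⟩ := hfg
      let π' : MvPolynomial (ULift.{u} (Fin n)) A →ₐ[A] R :=
        π.comp (MvPolynomial.renameEquiv A Equiv.ulift).toAlgHom
      let e := MvPolynomial.renameEquiv A (Equiv.ulift.{u, 0} (α := Fin n))
      obtain ⟨Q, _, _, φ, h, h1, h2⟩ := exists_of_presentation K π' (hπ.comp e.surjective)
        (κ := ULift.{u} (Fin s.card)) (fun q => e.symm (s.equivFin.symm q.down).1) (by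
          have : RingHom.ker π' = (RingHom.ker π).comap e := rfl
          rw [this, show RingHom.ker π = Ideal.span (s : Set _) from hs.symm, ← show (Ideal.span (s : Set _)).map e.symm = (Ideal.span (s : Set _)).comap e from Ideal.map_symm e.toRingEquiv, Ideal.map_span]
          congr 1
          ext x
          constructor
          · rintro ⟨y, hy, rfl⟩
            exact ⟨⟨s.equivFin ⟨y, hy⟩⟩, by simp⟩
          · rintro ⟨q, rfl⟩
            exact ⟨_, (s.equivFin.symm q.down).2, rfl⟩)
      exact ⟨Q, _, _, φ, h, fun _ => h1 inferInstance, fun _ => h2 inferInstance inferInstance⟩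
    · obtain ⟨n, π, hπ⟩ := Algebra.FiniteType.iff_quotient_mvPolynomial''.1 hft
      let e := MvPolynomial.renameEquiv A (Equiv.ulift.{u, 0} (α := Fin n))
      let π' : MvPolynomial (ULift.{u} (Fin n)) A →ₐ[A] R := π.comp e.toAlgHom
      obtain ⟨Q, _, _, φ, h, h1, -⟩ := exists_of_presentation K π' (hπ.comp e.surjective)
        (κ := RingHom.ker π') Subtype.val (by rw [Subtype.range_coe_subtype]; exact (Ideal.span_eq _).symm)
      exact ⟨Q, _, _, φ, h, fun _ => h1 inferInstance, fun h' => absurd h' hfp⟩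
  · obtain ⟨Q, _, _, φ, h, -, -⟩ := exists_of_presentation K
      (MvPolynomial.aeval (id : R → R)) (fun r => ⟨MvPolynomial.X r, by simp⟩)
      (κ := RingHom.ker (MvPolynomial.aeval (R := A) (id : R → R))) Subtype.val
      (by rw [Subtype.range_coe_subtype]; exact (Ideal.span_eq _).symm)
    exact ⟨Q, _, _, φ, h, fun h' => absurd h' hft, fun h' => absurd (have := h'; Algebra.FiniteType.of_finitePresentation) hft⟩

end Groth.Agent.H87.HomAlg
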