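import Groth.Agent.H87.HomPts
import Groth.Agent.Lib.DescAlg.DDFam.Cover

/-!
# The affine pieces of the scheme of homomorphisms from `D(M)` to an affine group

For a finite set `F` of characters the homomorphisms all of whose weights lie in `F` are represented by an
open subscheme of an affine scheme.
-/

set_option autoImplicit false
universe u

open CategoryTheory CategoryTheory.Limits MonoidalCategory CartesianMonoidalCategory MonObj GrpObj
open AlgebraicGeometry
open Groth.Agent.H87.HomFam Groth.Agent.H87.HomPts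

namespace Groth.Agent.H87.HomGood

set_option linter.style.haveILetI false

variable {A : Type u} [CommRing A] {R : Type u} [CommRing R] [HopfAlgebra A R]
variable {M : Type} [AddCommGroup M] (cap : Weights.Cap A R)

local notation "N" => Multiplicative M

/-- Families are determined by their restrictions to an open cover. -/
theorem fam_ext_cover {S : Scheme.{u}} {G H : Over S} [GrpObj G] [GrpObj H] {T : Scheme.{u}} {t : T ⟶ S}
    (𝒰 : Scheme.OpenCover.{u} T) {F F' : Fam G H t}
    (h : ∀ i, F.res (𝒰.f i) rfl = F'.res (𝒰.f i) rfl) : F = F' :=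
  (exists_glue (G := G) (H := H) (t := t)
    (Scheme.zariskiPrecoverage_le_fpqcPrecoverage T 𝒰.mem₀) (fun i => F.res (𝒰.f i) rfl)
    (fun W i j w v e => by
      simp only [Fam.res_res]
      exact F.res_congr e _)).unique (fun i => rfl) fun i => (h i).symm

/-- A morphism over the base comes from an algebra map. -/
theorem exists_pm {C C' : Type u} [CommRing C] [Algebra A C] [CommRing C'] [Algebra A C']
    (p : Spec (.of C) ⟶ Spec (.of C')) (w : p ≫ stm A C' = stm A C) :
    ∃ θ : C' →ₐ[A] C, p = (pm θ).left := by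
  refine ⟨⟨(Spec.preimage p).hom, fun a => ?_⟩, ?_⟩
  · have : CommRingCat.ofHom (algebraMap A C') ≫ Spec.preimage p = CommRingCat.ofHom (algebraMap A C) :=
      Spec.map_injective (by rw [Spec.map_comp, Spec.map_preimage]; exact w)
    exact ConcreteCategory.congr_hom this a
  · rw [pm_left]
    exact (Spec.map_preimage p).symm

/-- The algebra map of a family. -/
theorem exists_alg_res {C : Type u} [CommRing C] [Algebra A C] {T : Scheme.{u}} {t : T ⟶ Spec (.of A)}
    (Φ : Fam (Red.DS (Spec (.of A)) M) (pt A R) t) (p : Spec (.of C) ⟶ T) (w : p ≫ t = stm A C) :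
    ∃ (φ : R →ₐ[A] MonoidAlgebra C N) (hφ : Weights.IsHom φ), Φ.res p w = toFam φ hφ := by
  obtain ⟨φ, hφ, h⟩ := exists_alg (Φ.res p w)
  exact ⟨φ, hφ, h.symm⟩

/-- All weights of the family lie in `F`. -/
def GoodAt {T : Scheme.{u}} {t : T ⟶ Spec (.of A)} (Φ : Fam (Red.DS (Spec (.of A)) M) (pt A R) t)
    (F : Set N) : Prop :=
  ∀ (C : Type u) [CommRing C] [Algebra A C] (φ : R →ₐ[A] MonoidAlgebra C N) (hφ : Weights.IsHom φ)
    (p : Spec (.of C) ⟶ T) (w : p ≫ t = stm A C), Φ.res p w = toFam φ hφ → Weights.Good cap φ F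

variable {cap}

theorem GoodAt.res {T T' : Scheme.{u}} {t : T ⟶ Spec (.of A)} {t' : T' ⟶ Spec (.of A)}
    {Φ : Fam (Red.DS (Spec (.of A)) M) (pt A R) t} {F : Set N} (h : GoodAt cap Φ F) (a : T' ⟶ T)
    (w : a ≫ t = t') : GoodAt cap (Φ.res a w) F := fun C _ _ φ hφ p w' e =>
  h C φ hφ (p ≫ a) (by rw [Category.assoc, w, w']) (by rwa [← Fam.res_res])

theorem GoodAt.mono {T : Scheme.{u}} {t : T ⟶ Spec (.of A)}
    {Φ : Fam (Red.DS (Spec (.of A)) M) (pt A R) t} {F F' : Set N} (h : GoodAt cap Φ F) (hF : F ⊆ F') :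
    GoodAt cap Φ F' := fun C _ _ φ hφ p w e => (h C φ hφ p w e).mono cap hF

theorem goodAt_toFam {C : Type u} [CommRing C] [Algebra A C] {φ : R →ₐ[A] MonoidAlgebra C N}
    {hφ : Weights.IsHom φ} {F : Set N} (h : Weights.Good cap φ F) : GoodAt cap (toFam φ hφ) F := by
  intro C' _ _ φ' hφ' p w e
  obtain ⟨θ, rfl⟩ := exists_pm p w
  rw [toFam_res] at e
  obtain rfl := toFam_injective e
  letI : Algebra C C' := θ.toRingHom.toAlgebra
  haveI : IsScalarTower A C C' := IsScalarTower.of_algebraMap_eq fun a => (θ.commutes a).symm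
  have hθ : θ = IsScalarTower.toAlgHom A C C' := AlgHom.ext fun c => rfl
  intro m hm
  rw [hθ, Weights.P_push_eq_zero_iff cap hφ]
  intro q
  rw [Weights.absent_eq_univ cap (h m hm)]
  trivial

theorem surjective_gens :
    Function.Surjective (MvPolynomial.aeval (R := A) fun j => cap.ι (cap.w j)) := by
  rw [← AlgHom.range_eq_top, ← Algebra.adjoin_range_eq_range_aeval]
  exact cap.gen

variable (cap)

/-- The universal homomorphism whose coefficients at the generators vanish outside `F`. -/
structure Piece (F : Finset N) where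
  /-- the algebra -/
  Q : Type u
  [ring : CommRing Q]
  [alg : Algebra A Q]
  /-- the universal map -/
  φ : R →ₐ[A] MonoidAlgebra Q N
  hom : Weights.IsHom φ
  gen0 : ∀ j m, m ∉ F → Weights.coef φ m (cap.ι (cap.w j)) = 0
  univ : ∀ (C : Type u) [CommRing C] [Algebra A C] (ψ : R →ₐ[A] MonoidAlgebra C N), Weights.IsHom ψ →
    (∀ j m, m ∉ F → Weights.coef ψ m (cap.ι (cap.w j)) = 0) → ∃! θ : Q →ₐ[A] C, Weights.push θ φ = ψ
  fp : Algebra.FinitePresentation A R → Algebra.FinitePresentation A Q

attribute [instance] Piece.ring Piece.alg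

theorem nonempty_piece (F : Finset N) : Nonempty (Piece cap F) := by
  obtain ⟨Q, _, _, φ, hom, h0, hu, hfp, -⟩ :=
    Weights.exists_univ_of_presentation _ (surjective_gens (cap := cap)) F
  refine ⟨⟨Q, φ, hom, fun j m hm => ?_, fun C _ _ ψ hψ h => hu C ψ hψ fun j m hm => ?_, fun h => hfp ?_⟩⟩
  · simpa using h0 j m hm
  · simpa using h j m hm
  · exact Algebra.FinitePresentation.ker_fG_of_surjective _ surjective_gens

/-- A choice of universal homomorphism. -/
noncomputable def piece (F : Finset N) : Piece cap F := (nonempty_piece cap F).some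

/-- The affine scheme containing the piece. -/
noncomputable abbrev Z (F : Finset N) : Scheme.{u} := Spec (.of (piece cap F).Q)

/-- The primes where all weights lie in `K`. -/
noncomputable def goodSet (F : Finset N) (K : Set N) : Set (PrimeSpectrum (piece cap F).Q) :=
  {q | ∀ m, m ∉ K → q ∈ Weights.absent cap (piece cap F).φ m}

theorem isOpen_goodSet (F : Finset N) (K : Set N) : IsOpen (goodSet cap F K) := by
  have e : goodSet cap F K =
      ⋂ m ∈ {m | Weights.P cap (piece cap F).φ m ≠ 0} \ K, Weights.absent cap (piece cap F).φ m := by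
    ext q
    simp only [goodSet, Set.mem_iInter, Set.mem_sdiff, Set.mem_ofPred_eq]
    refine ⟨fun h m hm => h m hm.2, fun h m hm => ?_⟩
    by_cases h0 : Weights.P cap (piece cap F).φ m = 0
    · rw [Weights.absent_eq_univ cap h0]; trivial
    · exact h m ⟨h0, hm⟩
  rw [e]
  exact ((Weights.finite_P_ne_zero cap _).subset Set.sdiff_subset).isOpen_biInter
    fun m _ => Weights.isOpen_absent cap _ m

/-- The open subscheme where all weights lie in `K`. -/
noncomputable def goodOpen (F : Finset N) (K : Set N) : (Z cap F).Opens :=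
  ⟨goodSet cap F K, isOpen_goodSet cap F K⟩

theorem good_push_iff (F : Finset N) (K : Set N) {C : Type u} [CommRing C] [Algebra A C]
    (θ : (piece cap F).Q →ₐ[A] C) :
    Weights.Good cap (Weights.push θ (piece cap F).φ) K ↔
      Set.range (pm θ).left ⊆ (goodOpen cap F K : Set (Z cap F)) := by
  letI : Algebra (piece cap F).Q C := θ.toRingHom.toAlgebra
  haveI : IsScalarTower A (piece cap F).Q C := IsScalarTower.of_algebraMap_eq fun a => (θ.commutes a).symm
  have hθ : θ = IsScalarTower.toAlgHom A (piece cap F).Q C := AlgHom.ext fun c => rfl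
  constructor
  · rintro h _ ⟨q, rfl⟩ m hm
    have := h m hm
    rw [hθ, Weights.P_push_eq_zero_iff cap (piece cap F).hom] at this
    exact this q
  · intro h m hm
    rw [hθ, Weights.P_push_eq_zero_iff cap (piece cap F).hom]
    exact fun q => h ⟨q, rfl⟩ m hm

/-- The piece. -/
noncomputable abbrev V (F : Finset N) : Scheme.{u} := (goodOpen cap F (F : Set N) : Scheme.{u})

/-- The structure map of the piece. -/
noncomputable abbrev vHom (F : Finset N) : V cap F ⟶ Spec (.of A) :=
  (goodOpen cap F (F : Set N)).ι ≫ stm A (piece cap F).Q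

/-- The universal family of the piece. -/
noncomputable def UV (F : Finset N) : Fam (Red.DS (Spec (.of A)) M) (pt A R) (vHom cap F) :=
  (toFam (piece cap F).φ (piece cap F).hom).res (goodOpen cap F (F : Set N)).ι rfl

/-- The affine open cover has the structure of algebras. -/
theorem res_affine {T : Scheme.{u}} (t : T ⟶ Spec (.of A)) (i : T.affineCover.I₀) :
    ∃ (C : Type u) (_ : CommRing C) (_ : Algebra A C) (e : Spec (.of C) ≅ T.affineCover.X i),
      e.hom ≫ T.affineCover.f i ≫ t = stm A C := by
  let C := Γ(T.affineCover.X i, ⊤)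
  let f : Spec C ⟶ Spec (.of A) := (T.affineCover.X i).isoSpec.inv ≫ T.affineCover.f i ≫ t
  letI : Algebra A C := (Spec.preimage f).hom.toAlgebra
  refine ⟨C, inferInstance, inferInstance, (T.affineCover.X i).isoSpec.symm, ?_⟩
  exact (Spec.map_preimage f).symm

/-- Every point lies on an affine test scheme. -/
theorem exists_test {T : Scheme.{u}} (t : T ⟶ Spec (.of A)) (x : T) :
    ∃ (C : Type u) (_ : CommRing C) (_ : Algebra A C) (p : Spec (.of C) ⟶ T),
      p ≫ t = stm A C ∧ x ∈ Set.range p := by
  obtain ⟨i, y, hy⟩ := T.affineCover.exists_eq x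
  obtain ⟨C, _, _, e, he⟩ := res_affine t i
  refine ⟨C, _, _, e.hom ≫ T.affineCover.f i, by rw [Category.assoc, he], e.inv y, ?_⟩
  rw [← Scheme.Hom.comp_apply, Iso.inv_hom_id_assoc, hy]

/-- Restrictions of the universal family of an affine piece. -/
theorem goodAt_res_iff (F : Finset N) (K : Set N) {T : Scheme.{u}} {t : T ⟶ Spec (.of A)}
    (a : T ⟶ Z cap F) (w : a ≫ stm A (piece cap F).Q = t) :
    GoodAt cap ((toFam (piece cap F).φ (piece cap F).hom).res a w) K ↔
      Set.range a ⊆ (goodOpen cap F K : Set (Z cap F)) := by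
  subst w
  constructor
  · rintro h _ ⟨x, rfl⟩
    obtain ⟨C, _, _, p, w, q, rfl⟩ := exists_test (a ≫ stm A (piece cap F).Q) x
    obtain ⟨θ, hθ⟩ := exists_pm (A := A) (p ≫ a) (by rw [Category.assoc]; exact w)
    have hg := h C _ (Weights.isHom_push θ (piece cap F).hom) p w (by
      rw [Fam.res_res, ← toFam_res]
      exact Fam.res_congr _ hθ _)
    have := (good_push_iff cap F K θ).1 hg ⟨q, rfl⟩
    erw [← hθ, Scheme.Hom.comp_apply] at this
    exact this
  · intro h C _ _ φ hφ p w e
    obtain ⟨θ, hθ⟩ := exists_pm (p ≫ a) (by rw [Category.assoc]; exact w)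
    rw [Fam.res_res, Fam.res_congr _ hθ, toFam_res] at e
    obtain rfl := toFam_injective e
    rw [good_push_iff, ← hθ]
    rintro _ ⟨q, rfl⟩
    rw [Scheme.Hom.comp_apply]
    exact h ⟨_, rfl⟩

theorem goodAt_UV (F : Finset N) : GoodAt cap (UV cap F) (F : Set N) :=
  (goodAt_res_iff cap F _ _ rfl).2 (by rw [Scheme.Opens.range_ι])

/-- The piece represents the families with weights in `F`, on affine schemes. -/
theorem lift_affine (F : Finset N) {C : Type u} [CommRing C] [Algebra A C]
    (Φ : Fam (Red.DS (Spec (.of A)) M) (pt A R) (stm A C)) (hΦ : GoodAt cap Φ (F : Set N)) :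
    ∃! b : Spec (.of C) ⟶ V cap F, ∃ w : b ≫ vHom cap F = stm A C, (UV cap F).res b w = Φ := by
  obtain ⟨φ, hφ, rfl⟩ := exists_alg Φ
  have hg : Weights.Good cap φ (F : Set N) :=
    hΦ C φ hφ (𝟙 _) (Category.id_comp _) (Fam.res_id _)
  obtain ⟨θ, hθ, hu⟩ := (piece cap F).univ C φ hφ fun j m hm => Weights.coef_gen_eq_zero cap hg (by simpa using hm) _
  have hr : Set.range (pm θ).left ⊆ Set.range (goodOpen cap F (F : Set N)).ι := by
    rw [Scheme.Opens.range_ι]
    exact (good_push_iff cap F _ θ).1 (by rw [hθ]; exact hg)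
  refine ⟨IsOpenImmersion.lift _ (pm θ).left hr, ⟨?_, ?_⟩, ?_⟩
  · rw [vHom, IsOpenImmersion.lift_fac_assoc]
    exact Over.w (pm θ)
  · rw [UV, Fam.res_res, Fam.res_congr _ (IsOpenImmersion.lift_fac _ _ _), toFam_res]
    subst hθ
    rfl
  · rintro b ⟨w, hb⟩
    rw [← cancel_mono (goodOpen cap F (F : Set N)).ι, IsOpenImmersion.lift_fac]
    obtain ⟨θ', hθ'⟩ := exists_pm (b ≫ (goodOpen cap F (F : Set N)).ι) (by rw [Category.assoc]; exact w)
    rw [UV, Fam.res_res, Fam.res_congr _ hθ', toFam_res] at hb
    rw [hθ', hu θ' (toFam_injective hb)]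

/-- **The piece represents the families with weights in `F`.** -/
theorem lift_good (F : Finset N) {T : Scheme.{u}} {t : T ⟶ Spec (.of A)}
    (Φ : Fam (Red.DS (Spec (.of A)) M) (pt A R) t) (hΦ : GoodAt cap Φ (F : Set N)) :
    ∃! b : T ⟶ V cap F, ∃ w : b ≫ vHom cap F = t, (UV cap F).res b w = Φ := by
  choose C hC hAlg e he using res_affine (A := A) t
  have h : ∀ i, ∃! b : Spec (.of (C i)) ⟶ V cap F, ∃ w : b ≫ vHom cap F = stm A (C i),
      (UV cap F).res b w = Φ.res ((e i).hom ≫ T.affineCover.f i) (by rw [Category.assoc, he]) :=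
    fun i => lift_affine cap F _ (hΦ.res _ _)
  -- uniqueness on any scheme over the pieces
  have huniq : ∀ (b b' : T ⟶ V cap F) (w : b ≫ vHom cap F = t) (w' : b' ≫ vHom cap F = t),
      (UV cap F).res b w = Φ → (UV cap F).res b' w' = Φ → b = b' := by
    intro b b' w w' hb hb'
    refine T.affineCover.hom_ext _ _ fun i => ?_
    rw [← cancel_epi (e i).hom, ← Category.assoc, ← Category.assoc]
    exact (h i).unique ⟨by rw [Category.assoc, w, Category.assoc, he], by rw [← hb, Fam.res_res]⟩
      ⟨by rw [Category.assoc, w', Category.assoc, he], by rw [← hb', Fam.res_res]⟩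
  choose b hb hbu using h
  simp only at hb
  choose hbw hbF using hb
  have hcomp : ∀ i j, pullback.fst (T.affineCover.f i) (T.affineCover.f j) ≫ (e i).inv ≫ b i =
      pullback.snd (T.affineCover.f i) (T.affineCover.f j) ≫ (e j).inv ≫ b j := by
    intro i j
    choose C' hC' hAlg' e' he' using res_affine (A := A)
      (pullback.fst (T.affineCover.f i) (T.affineCover.f j) ≫ T.affineCover.f i ≫ t)
    refine (pullback (T.affineCover.f i) (T.affineCover.f j)).affineCover.hom_ext _ _ fun k => ?_
    rw [← cancel_epi (e' k).hom]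
    refine (lift_affine cap F _ (hΦ.res ((e' k).hom ≫ (pullback (T.affineCover.f i) (T.affineCover.f j)).affineCover.f k ≫
      pullback.fst (T.affineCover.f i) (T.affineCover.f j) ≫ T.affineCover.f i)
        (by simp only [Category.assoc, he']))).unique ⟨?_, ?_⟩ ⟨?_, ?_⟩
    · simp only [Category.assoc, hbw, ← he i, Iso.inv_hom_id_assoc, he']
    · have := congrArg (fun G => Fam.res (t' := stm A (C' k)) G ((e' k).hom ≫ (pullback (T.affineCover.f i) (T.affineCover.f j)).affineCover.f k ≫
        pullback.fst (T.affineCover.f i) (T.affineCover.f j) ≫ (e i).inv)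
        (by simp only [Category.assoc, ← he i, Iso.inv_hom_id_assoc, he'])) (hbF i)
      simpa only [Fam.res_res, Category.assoc, Iso.inv_hom_id_assoc] using this
    · simp only [Category.assoc, hbw, ← he j, Iso.inv_hom_id_assoc, he', ← pullback.condition_assoc]
    · have := congrArg (fun G => Fam.res (t' := stm A (C' k)) G ((e' k).hom ≫ (pullback (T.affineCover.f i) (T.affineCover.f j)).affineCover.f k ≫
        pullback.snd (T.affineCover.f i) (T.affineCover.f j) ≫ (e j).inv)
        (by simp only [Category.assoc, ← he j, Iso.inv_hom_id_assoc, he', ← pullback.condition_assoc])) (hbF j)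
      simp only [Fam.res_res, Category.assoc, Iso.inv_hom_id_assoc] at this
      exact this.trans (Fam.res_congr _ (by simp only [pullback.condition]) _)
  let g : T ⟶ V cap F := T.affineCover.glueMorphisms (fun i => (e i).inv ≫ b i) hcomp
  have hg : ∀ i, T.affineCover.f i ≫ g = (e i).inv ≫ b i :=
    fun i => T.affineCover.ι_glueMorphisms (fun i => (e i).inv ≫ b i) hcomp i
  have gw : g ≫ vHom cap F = t := T.affineCover.hom_ext _ _ fun i => by
    rw [reassoc_of% (hg i), hbw, ← he i, Iso.inv_hom_id_assoc]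
  have gF : (UV cap F).res g gw = Φ := fam_ext_cover T.affineCover fun i => by
    have := congrArg (fun G => Fam.res (t' := T.affineCover.f i ≫ t) G (e i).inv
      (by rw [← he i, Iso.inv_hom_id_assoc])) (hbF i)
    simp only [Fam.res_res, Iso.inv_hom_id_assoc] at this ⊢
    exact ((UV cap F).res_congr (hg i) _).trans this
  exact ⟨g, ⟨gw, gF⟩, fun g' ⟨w', h'⟩ => huniq g' g w' gw h' gF⟩

end Groth.Agent.H87.HomGood
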