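import Groth.Agent.H87.SplitHom
import Mathlib.CategoryTheory.Monoidal.Cartesian.Grp

/-!
# The group law on a scheme representing homomorphisms into a commutative group
-/

set_option autoImplicit false
universe u

open CategoryTheory MonoidalCategory CartesianMonoidalCategory MonObj GrpObj AlgebraicGeometry
open CategoryTheory.Limits
open Groth.Agent.Lib.RedPts Groth.Agent.Lib.Tori
open Groth.Agent.H87.HomFam

namespace Groth.Agent.H87.HomFam

variable {S : Scheme.{u}} {G H : Over S} [GrpObj G] [GrpObj H]
  (hc : ∀ (Y : Over S) (a b : Y ⟶ H), a * b = b * a) {T : Scheme.{u}} {t : T ⟶ S}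

/-- The product of two families. -/
noncomputable def Fam.mulFam (F F' : Fam G H t) : Fam G H t where
  app Y y hy g := F.app Y y hy g * F'.app Y y hy g
  natural r y hy y' hy' g e := by
    rw [F.natural r y hy y' hy' g e, F'.natural r y hy y' hy' g e, MonObj.comp_mul]
  mul Y y hy g g' := by
    rw [F.mul, F'.mul, _root_.mul_assoc, _root_.mul_assoc, ← _root_.mul_assoc (F.app Y y hy g'),
      hc Y (F.app Y y hy g'), _root_.mul_assoc]

/-- The trivial family. -/
noncomputable def Fam.oneFam : Fam G H t where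
  app _ _ _ _ := 1
  natural r _ _ _ _ _ _ := (MonObj.comp_one r).symm
  mul _ _ _ _ _ := (_root_.one_mul 1).symm

/-- The inverse of a family. -/
noncomputable def Fam.invFam (F : Fam G H t) : Fam G H t where
  app Y y hy g := (F.app Y y hy g)⁻¹
  natural r y hy y' hy' g e := by rw [F.natural r y hy y' hy' g e, GrpObj.comp_inv]
  mul Y y hy g g' := by rw [F.mul, _root_.mul_inv_rev, hc]

/-- The group of families into a commutative group. -/
noncomputable def famGroup (t : T ⟶ S) : Group (Fam G H t) where
  mul := Fam.mulFam hc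
  one := Fam.oneFam
  inv := Fam.invFam hc
  mul_assoc F F' F'' := Fam.ext (funext fun _ => funext fun _ => funext fun _ => funext fun _ =>
    _root_.mul_assoc _ _ _)
  one_mul F := Fam.ext (funext fun _ => funext fun _ => funext fun _ => funext fun _ => _root_.one_mul _)
  mul_one F := Fam.ext (funext fun _ => funext fun _ => funext fun _ => funext fun _ => _root_.mul_one _)
  inv_mul_cancel F := Fam.ext (funext fun _ => funext fun _ => funext fun _ => funext fun _ =>
    _root_.inv_mul_cancel _)

/-- The presheaf of groups of families. -/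
noncomputable def famFunctor : (Over S)ᵒᵖ ⥤ GrpCat.{u + 1} where
  obj X := letI := famGroup (G := G) hc X.unop.hom; GrpCat.of (Fam G H X.unop.hom)
  map {X X'} a :=
    letI := famGroup (G := G) hc X.unop.hom
    letI := famGroup (G := G) hc X'.unop.hom
    GrpCat.ofHom (X := Fam G H X.unop.hom) (Y := Fam G H X'.unop.hom)
      { toFun := fun F => F.res a.unop.left (Over.w a.unop)
        map_one' := rfl
        map_mul' := fun _ _ => rfl }
  map_id X := by
    refine ConcreteCategory.hom_ext _ _ fun F => ?_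
    exact Fam.res_id F
  map_comp {X Y Z} a b := by
    refine ConcreteCategory.hom_ext _ _ fun F => ?_
    exact (Fam.res_res F a.unop.left (Over.w a.unop) b.unop.left (Over.w b.unop)).symm

include hc in
/-- **The group law on the representing scheme.** -/
theorem exists_grp (A : Over S) (V : Fam G H A.hom) (hV : Reps A V) :
    ∃ _ : GrpObj A, ∀ (X : Over S) (a b : X ⟶ A) (Y : Over S) (y : Y.left ⟶ X.left) (hy : y ≫ X.hom = Y.hom)
      (g : Y ⟶ G),
      (V.res (a * b).left (Over.w (a * b))).app Y y hy g =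
        (V.res a.left (Over.w a)).app Y y hy g * (V.res b.left (Over.w b)).app Y y hy g := by
  have hbij : ∀ X : Over S, Function.Bijective fun a : X ⟶ A => V.res a.left (Over.w a) := fun X => by
    constructor
    · intro a b h
      exact Over.OverMorphism.ext ((hV X.left X.hom (V.res b.left (Over.w b))).unique
        ⟨Over.w a, h⟩ ⟨Over.w b, rfl⟩)
    · intro F
      obtain ⟨a, ⟨w, ha⟩, -⟩ := hV X.left X.hom F
      exact ⟨Over.homMk a w, ha⟩
  let e : ∀ X : Over S, (X ⟶ A) ≃ Fam G H X.hom := fun X => Equiv.ofBijective _ (hbij X)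
  let α : (famFunctor (G := G) hc ⋙ forget _).RepresentableBy A :=
    { homEquiv := fun {X} => e X
      homEquiv_comp := fun {X X'} f a =>
        (Fam.res_res V a.left (Over.w a) f.left (Over.w f)).symm }
  let inst := GrpObj.ofRepresentableBy A (famFunctor (G := G) hc) α
  refine ⟨inst, fun X a b Y y hy g => ?_⟩
  have hfst := congrArg CommaMorphism.left (lift_fst a b)
  have hsnd := congrArg CommaMorphism.left (lift_snd a b)
  have hμ : e (A ⊗ A) (inst.mul) = Fam.mulFam hc (e (A ⊗ A) (fst A A)) (e (A ⊗ A) (snd A A)) :=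
    (e (A ⊗ A)).apply_symm_apply _
  have h : e X (lift a b ≫ inst.mul) = Fam.mulFam hc (e X a) (e X b) := by
    have h1 : e X (lift a b ≫ inst.mul) = (e (A ⊗ A) inst.mul).res (lift a b).left (Over.w (lift a b)) :=
      (Fam.res_res V inst.mul.left (Over.w inst.mul) (lift a b).left (Over.w (lift a b))).symm
    rw [h1, hμ]
    refine Fam.ext (funext fun Z => funext fun z => funext fun hz => funext fun k => ?_)
    show V.app Z _ _ k * V.app Z _ _ k = V.app Z _ _ k * V.app Z _ _ k
    congr 1
    · exact V.app_congr ((Category.assoc _ _ _).trans (congrArg (z ≫ ·) hfst)) _ _ _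
    · exact V.app_congr ((Category.assoc _ _ _).trans (congrArg (z ≫ ·) hsnd)) _ _ _
  exact congr(($h).app Y y hy g)

/-- The bilinearity of the universal morphism. -/
theorem toMor_mul (A : Over S) [GrpObj A] (V : Fam G H A.hom)
    (hmul : ∀ (X : Over S) (a b : X ⟶ A) (Y : Over S) (y : Y.left ⟶ X.left) (hy : y ≫ X.hom = Y.hom)
      (g : Y ⟶ G),
      (V.res (a * b).left (Over.w (a * b))).app Y y hy g =
        (V.res a.left (Over.w a)).app Y y hy g * (V.res b.left (Over.w b)).app Y y hy g)
    (X : Over S) (r : X ⟶ G) (a b : X ⟶ A) :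
    lift r (a * b) ≫ V.toMor = (lift r a ≫ V.toMor) * (lift r b ≫ V.toMor) := by
  have key : ∀ c : X ⟶ A, lift r c ≫ V.toMor = (V.res c.left (Over.w c)).app X (𝟙 X.left) (Category.id_comp _) r := by
    intro c
    erw [Fam.lift_toMor]
    exact V.app_congr (Category.id_comp _).symm _ _ _
  rw [key, key, key]
  exact hmul X a b X _ _ r

/-- Two schemes representing the families over `X` agree. -/
theorem exists_iso_of_repsOn {X : Scheme.{u}} (f : X ⟶ S) (R : Over S) (V : Fam G H R.hom) (hV : Reps R V)
    (A : Over X) (U : Fam G H (A.hom ≫ f)) (hU : RepsOn f A U) :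
    ∃ (e : Red.bc f R ≅ A) (hw : e.hom.left ≫ A.hom ≫ f = pullback.snd R.hom f ≫ f),
      V.res (pullback.fst R.hom f) pullback.condition = U.res e.hom.left hw := by
  obtain ⟨a, ⟨wa, ha⟩, -⟩ := hU _ (pullback.snd R.hom f)
    (V.res (pullback.fst R.hom f) pullback.condition)
  obtain ⟨b, ⟨wb, hb⟩, -⟩ := hV A.left (A.hom ≫ f) U
  let fwd : Red.bc f R ⟶ A := Over.homMk a wa
  let back : A ⟶ Red.bc f R := Over.homMk (pullback.lift b A.hom wb) (pullback.lift_snd _ _ _)
  have h1 : fwd ≫ back = 𝟙 _ := by
    refine Over.OverMorphism.ext (pullback.hom_ext ?_ ?_)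
    · show (a ≫ pullback.lift b A.hom wb) ≫ pullback.fst R.hom f = 𝟙 _ ≫ pullback.fst R.hom f
      rw [Category.assoc, pullback.lift_fst, Category.id_comp]
      refine (hV _ (pullback.snd R.hom f ≫ f) (V.res (pullback.fst R.hom f) pullback.condition)).unique
        ⟨by rw [Category.assoc, wb, ← Category.assoc, wa], ?_⟩ ⟨pullback.condition, rfl⟩
      rw [← ha, ← hb, Fam.res_res]
    · show (a ≫ pullback.lift b A.hom wb) ≫ pullback.snd R.hom f = 𝟙 _ ≫ pullback.snd R.hom f
      rw [Category.assoc, pullback.lift_snd, Category.id_comp, wa]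
  have h2 : back ≫ fwd = 𝟙 _ := by
    refine Over.OverMorphism.ext ((hU A.left A.hom U).unique ⟨?_, ?_⟩ ⟨Category.id_comp _, Fam.res_id U⟩)
    · exact Over.w (back ≫ fwd)
    · show U.res (pullback.lift b A.hom wb ≫ a) _ = U
      have h3 := congrArg (fun F => Fam.res (t' := A.hom ≫ f) F (pullback.lift b A.hom wb)
        (by rw [pullback.lift_snd_assoc])) ha
      simp only [Fam.res_res] at h3
      rw [h3]
      exact (V.res_congr (pullback.lift_fst _ _ _) _).trans hb
  exact ⟨⟨fwd, back, h1, h2⟩, by rw [← Category.assoc]; exact congrArg (· ≫ f) wa, ha.symm⟩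

theorem Fam.ofU_res {U : Scheme.{u}} (j : U ⟶ S) {T' : Scheme.{u}} {x : T ⟶ U} {x' : T' ⟶ U}
    (F : Fam (Red.bc j G) (Red.bc j H) x) (a : T' ⟶ T) (w : a ≫ x = x') :
    (Fam.ofU j F).res a (by rw [← Category.assoc, w]) = Fam.ofU j (F.res a w) := by
  apply Fam.toU_injective j
  rw [Fam.toU_res j _ a w, Fam.toU_ofU, Fam.toU_ofU]

end Groth.Agent.H87.HomFam
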