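import Groth.Agent.H87.HomPoly
import Mathlib.RingTheory.Smooth.Basic
import Mathlib.RingTheory.HopfAlgebra.Convolution
import Mathlib.Tactic.Group
import Mathlib.Tactic.Ring

/-!
# Lifting homomorphisms from `D(N)` to a smooth affine group along square-zero extensions

The obstruction is a cocycle with values congruent to the unit; it is killed by the invariant integral.
-/

set_option autoImplicit false
universe u

open MonoidAlgebra TensorProduct WithConv

namespace Groth.Agent.H87.HomLiftAlg

set_option linter.style.haveILetI false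

variable {A : Type u} [CommRing A] {C : Type u} [CommRing C] [Algebra A C]

section Integral

variable {K L N : Type} [CommGroup K] [CommGroup L] [CommGroup N]

/-- The invariant integral in the last variable. -/
noncomputable def integ : MonoidAlgebra C (K × N) →ₗ[A] MonoidAlgebra C K where
  toFun z := MonoidAlgebra.ofCoeff (z.coeff.comapDomain (fun p : K => (p, 1))
    (fun _ _ _ _ h => congrArg Prod.fst h))
  map_add' z w := by ext; simp
  map_smul' a z := by ext; simp

@[simp] theorem coeff_integ (z : MonoidAlgebra C (K × N)) (p : K) :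
    (integ (A := A) z).coeff p = z.coeff (p, 1) := by
  simp [integ]

open Classical in
theorem integ_single (p : K) (q : N) (c : C) :
    integ (A := A) (MonoidAlgebra.single (p, q) c) = if q = 1 then MonoidAlgebra.single p c else 0 := by
  ext x
  rw [coeff_integ]
  split_ifs with h
  · subst h; simp [MonoidAlgebra.coeff_single, Finsupp.single_apply]
  · simp [MonoidAlgebra.coeff_single, h]

/-- The map on group algebras of a map of groups. -/
noncomputable abbrev ev (f : K →* L) : MonoidAlgebra C K →ₐ[A] MonoidAlgebra C L :=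
  mapDomainAlgHom A C f

theorem ev_single (f : K →* L) (k : K) (c : C) :
    ev (A := A) f (MonoidAlgebra.single k c) = MonoidAlgebra.single (f k) c := by
  simp [ev, mapDomainAlgHom]

theorem ev_ev {K' : Type} [CommGroup K'] (f : K →* L) (g : L →* K') (x : MonoidAlgebra C K) :
    ev (A := A) g (ev (A := A) f x) = ev (A := A) (g.comp f) x := by
  induction x using MonoidAlgebra.induction_linear with
  | zero => simp
  | add a b ha hb => simp only [map_add, ha, hb]
  | single k c => rw [ev_single, ev_single, ev_single, MonoidHom.comp_apply]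

theorem ev_comp {K' : Type} [CommGroup K'] (f : K →* L) (g : L →* K') :
    (ev (A := A) (C := C) g).comp (ev (A := A) f) = ev (A := A) (g.comp f) := AlgHom.ext (ev_ev f g)

theorem integ_inl_mul (x : MonoidAlgebra C K) (z : MonoidAlgebra C (K × N)) :
    integ (A := A) (ev (A := A) (MonoidHom.inl K N) x * z) = x * integ (A := A) z := by
  classical
  induction x using MonoidAlgebra.induction_linear with
  | zero => simp
  | add x y hx hy => simp only [map_add, add_mul, hx, hy]
  | single n a =>
    induction z using MonoidAlgebra.induction_linear with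
    | zero => simp only [mul_zero, map_zero]
    | add z w hz hw => simp only [map_add, mul_add, hz, hw]
    | single p b =>
      obtain ⟨p, q⟩ := p
      rw [ev_single, MonoidHom.inl_apply, MonoidAlgebra.single_mul_single, Prod.mk_mul_mk,
        _root_.one_mul, integ_single, integ_single]
      split_ifs <;> simp [MonoidAlgebra.single_mul_single]

theorem integ_one : integ (A := A) (1 : MonoidAlgebra C (K × N)) = 1 := by
  classical
  rw [MonoidAlgebra.one_def, Prod.one_eq_mk, integ_single, if_pos rfl, MonoidAlgebra.one_def]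

theorem integ_inl (x : MonoidAlgebra C K) :
    integ (A := A) (ev (A := A) (MonoidHom.inl K N) x) = x := by
  simpa [integ_one] using integ_inl_mul (A := A) x (1 : MonoidAlgebra C (K × N))

/-- Substitutions commute with the integral. -/
theorem integ_subst {K' : Type} [CommGroup K'] (h : K' × N →* K) (f : K' →* K) (hf : ∀ m, h (m, 1) = f m)
    (z : MonoidAlgebra C (K' × N)) :
    integ (A := A) (ev (A := A) (h.prod (MonoidHom.snd K' N)) z) = ev (A := A) f (integ (A := A) z) := by
  classical
  induction z using MonoidAlgebra.induction_linear with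
  | zero => simp
  | add a b ha hb => simp only [map_add, ha, hb]
  | single p c =>
    obtain ⟨m, q⟩ := p
    rw [ev_single, MonoidHom.prod_apply, MonoidHom.coe_snd, integ_single, integ_single]
    by_cases hq : q = 1
    · subst hq; rw [if_pos rfl, if_pos rfl, hf, ev_single]
    · rw [if_neg hq, if_neg hq, map_zero]

variable (I : Ideal C)

/-- The elements congruent to zero modulo `I`. -/
def IB (K : Type) [CommGroup K] : Ideal (MonoidAlgebra C K) where
  carrier := {x | ∀ k, x.coeff k ∈ I}
  add_mem' ha hb k := by simpa using I.add_mem (ha k) (hb k)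
  zero_mem' k := by simp
  smul_mem' c x hx k := by
    classical
    rw [smul_eq_mul, MonoidAlgebra.coeff_mul]
    simp only [Finsupp.sum, Finsupp.finsetSum_apply]
    refine I.sum_mem fun a _ => I.sum_mem fun b _ => ?_
    split_ifs
    · exact I.mul_mem_left _ (hx b)
    · exact I.zero_mem

theorem mem_IB {x : MonoidAlgebra C K} : x ∈ IB I K ↔ ∀ k, x.coeff k ∈ I := Iff.rfl

theorem ev_mem (f : K →* L) {x : MonoidAlgebra C K} (hx : x ∈ IB I K) : ev (A := A) f x ∈ IB I L := by
  classical
  rw [← MonoidAlgebra.sum_coeff_single x, map_finsuppSum]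
  refine Submodule.sum_mem _ fun k _ => ?_
  simp only [ev_single]
  intro l
  rw [MonoidAlgebra.coeff_single, Finsupp.single_apply]
  split_ifs
  · exact hx k
  · exact I.zero_mem

theorem mul_IB_eq_zero (hI : I ^ 2 = ⊥) {x y : MonoidAlgebra C K} (hx : x ∈ IB I K) (hy : y ∈ IB I K) :
    x * y = 0 := by
  classical
  refine MonoidAlgebra.ext (Finsupp.ext fun k => ?_)
  rw [MonoidAlgebra.coeff_mul]
  simp only [Finsupp.sum, Finsupp.finsetSum_apply, MonoidAlgebra.coeff_zero, Finsupp.coe_zero, Pi.zero_apply]
  refine Finset.sum_eq_zero fun a _ => Finset.sum_eq_zero fun b _ => ?_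
  have h : x.coeff a * y.coeff b = 0 := by
    have := Ideal.mul_mem_mul (hx a) (hy b)
    rwa [← pow_two, hI, Ideal.mem_bot] at this
  split_ifs <;> simp [h]

variable (A) in
/-- The elements congruent modulo `I` to constants in the last variable. -/
noncomputable def thick (K N : Type) [CommGroup K] [CommGroup N] : Subalgebra A (MonoidAlgebra C (K × N)) :=
  (((ev (A := A) (C := C) (MonoidHom.inl K N)).range).map (Ideal.Quotient.mkₐ A (IB I (K × N)))).comap
    (Ideal.Quotient.mkₐ A (IB I (K × N)))

theorem mem_thick {z : MonoidAlgebra C (K × N)} :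
    z ∈ thick A I K N ↔ ∃ b : MonoidAlgebra C K, z - ev (A := A) (MonoidHom.inl K N) b ∈ IB I (K × N) := by
  simp only [thick, Subalgebra.mem_comap, Subalgebra.mem_map, AlgHom.mem_range,
    exists_exists_eq_and, Ideal.Quotient.mkₐ_eq_mk, ← Ideal.Quotient.eq]
  exact exists_congr fun b => eq_comm

theorem integ_mem {w : MonoidAlgebra C (K × N)} (hw : w ∈ IB I (K × N)) : integ (A := A) w ∈ IB I K :=
  fun p => by rw [coeff_integ]; exact hw _

theorem integ_mul (hI : I ^ 2 = ⊥) {z z' : MonoidAlgebra C (K × N)} (hz : z ∈ thick A I K N)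
    (hz' : z' ∈ thick A I K N) : integ (A := A) (z * z') = integ (A := A) z * integ (A := A) z' := by
  obtain ⟨b, hb⟩ := (mem_thick I).1 hz
  obtain ⟨b', hb'⟩ := (mem_thick I).1 hz'
  set e := ev (A := A) (C := C) (MonoidHom.inl K N) with he
  set j := z - e b
  set j' := z' - e b'
  have hjj : integ (A := A) j * integ (A := A) j' = 0 :=
    mul_IB_eq_zero I hI (integ_mem I hb) (integ_mem I hb')
  have ez : z = e b + j := by simp [j]
  have ez' : z' = e b' + j' := by simp [j']
  rw [ez, ez', show (e b + j) * (e b' + j') = e (b * b') + e b * j' + e b' * j + j * j' by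
    rw [map_mul]; ring, mul_IB_eq_zero I hI hb hb', add_zero]
  simp only [map_add, he, integ_inl_mul, integ_inl]
  linear_combination -hjj

/-- The integral on the thickening. -/
noncomputable def σ (hI : I ^ 2 = ⊥) : thick A I K N →ₐ[A] MonoidAlgebra C K :=
  AlgHom.ofLinearMap ((integ (A := A) : MonoidAlgebra C (K × N) →ₗ[A] MonoidAlgebra C K).comp
      (thick A I K N).val.toLinearMap) (integ_one (A := A)) fun z z' => integ_mul I hI z.2 z'.2

end Integral

section Conv

variable {R : Type u} [CommRing R] [HopfAlgebra A R]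
variable {D D' : Type u} [CommRing D] [Algebra A D] [CommRing D'] [Algebra A D']

/-- Composition with an algebra map is a homomorphism of the groups of points. -/
noncomputable def pp (θ : D →ₐ[A] D') : WithConv (R →ₐ[A] D) →* WithConv (R →ₐ[A] D') where
  toFun f := toConv (θ.comp f.ofConv)
  map_one' := by
    refine WithConv.ofConv_injective (AlgHom.ext fun r => ?_)
    simp [AlgHom.convOne_def]
  map_mul' f g := WithConv.ofConv_injective (AlgHom.comp_convMul_distrib θ f g)

/-- The points with values in an algebra form a group. -/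
@[reducible] noncomputable def ptsGroup : Group (WithConv (R →ₐ[A] D)) :=
  { (inferInstance : Monoid (WithConv (R →ₐ[A] D))) with
    inv := fun f => toConv (f.ofConv.comp (HopfAlgebra.antipodeAlgHom A R))
    inv_mul_cancel := fun f => by
      have h := congrArg (pp f.ofConv) (AlgHom.antipode_id_cancel (R := A) (A := R))
      rw [map_mul, map_one] at h
      exact h }

attribute [local instance] ptsGroup

theorem pp_apply (θ : D →ₐ[A] D') (f : WithConv (R →ₐ[A] D)) (r : R) :
    (pp θ f).ofConv r = θ (f.ofConv r) := rfl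

theorem pp_pp {D'' : Type u} [CommRing D''] [Algebra A D''] (θ : D →ₐ[A] D') (θ' : D' →ₐ[A] D'')
    (f : WithConv (R →ₐ[A] D)) : pp θ' (pp θ f) = pp (θ'.comp θ) f := rfl

end Conv

section Lift

attribute [local instance] ptsGroup

variable {R : Type u} [CommRing R] [HopfAlgebra A R] {N : Type} [CommGroup N]

theorem isHom_iff_conv (φ : R →ₐ[A] MonoidAlgebra C N) :
    Weights.IsHom φ ↔ pp (ev (MonoidHom.prod (MonoidHom.id N) (MonoidHom.id N))) (toConv φ) =
      pp (ev (MonoidHom.inl N N)) (toConv φ) * pp (ev (MonoidHom.inr N N)) (toConv φ) := by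
  rw [Weights.isHom_iff]
  have h : Weights.convSide φ =
      (pp (ev (MonoidHom.inl N N)) (toConv φ) * pp (ev (MonoidHom.inr N N)) (toConv φ)).ofConv :=
    AlgHom.ext fun r => (AlgHom.convMul_apply (pp (ev (MonoidHom.inl N N)) (toConv φ))
      (pp (ev (MonoidHom.inr N N)) (toConv φ)) r).symm
  rw [h]
  exact ⟨fun e => WithConv.ofConv_injective e, fun e => congrArg WithConv.ofConv e⟩

theorem group_key {G : Type*} [Group G] (px py pz pxy pyz pxyz : G) :
    (px * py * pxy⁻¹) * (pxy * pz * pxyz⁻¹) = px * (py * pz * pyz⁻¹) * px⁻¹ * (px * pyz * pxyz⁻¹) := by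
  group

theorem group_final {G : Type*} [Group G] {c kx ky kxy px py pxy : G} (hc : c = px * py * pxy⁻¹)
    (h : c * kxy = px * ky * px⁻¹ * kx) : kxy⁻¹ * pxy = (kx⁻¹ * px) * (ky⁻¹ * py) := by
  have h1 : ky = px⁻¹ * (c * kxy * kx⁻¹) * px := by rw [h]; group
  rw [h1, hc]
  group

/-- **Homomorphisms from `D(N)` to a formally smooth group lift along square-zero extensions.** -/
theorem exists_lift [Algebra.FormallySmooth A R] {C₀ : Type u} [CommRing C₀] [Algebra A C₀]
    (π : C →ₐ[A] C₀) (hπ : Function.Surjective π) (hsq : RingHom.ker π ^ 2 = ⊥)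
    (φ₀ : R →ₐ[A] MonoidAlgebra C₀ N) (hφ₀ : Weights.IsHom φ₀) :
    ∃ φ : R →ₐ[A] MonoidAlgebra C N, Weights.IsHom φ ∧ Weights.push π φ = φ₀ := by
  classical
  let I : Ideal C := RingHom.ker π
  let red : ∀ (K : Type) [CommGroup K], MonoidAlgebra C K →ₐ[A] MonoidAlgebra C₀ K := fun K _ => mapAlgHom K π
  have hred : ∀ (K : Type) [CommGroup K] (x : MonoidAlgebra C K) (k : K), (red K x).coeff k = π (x.coeff k) :=
    fun K _ x k => by simp [red, mapAlgHom]
  have hker : ∀ (K : Type) [CommGroup K] (x : MonoidAlgebra C K), red K x = 0 ↔ x ∈ IB I K := fun K _ x => by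
    rw [mem_IB]
    refine ⟨fun h k => ?_, fun h => MonoidAlgebra.ext (Finsupp.ext fun k => ?_)⟩
    · show π (x.coeff k) = 0
      rw [← hred, h]; simp
    · rw [hred]; simpa [I] using h k
  have hsurj : Function.Surjective (red N) := fun y => by
    induction y using MonoidAlgebra.induction_linear with
    | zero => exact ⟨0, map_zero _⟩
    | add a b ha hb =>
      obtain ⟨a', rfl⟩ := ha
      obtain ⟨b', rfl⟩ := hb
      exact ⟨a' + b', map_add _ _ _⟩
    | single k c =>
      obtain ⟨c', rfl⟩ := hπ c
      exact ⟨MonoidAlgebra.single k c', by simp [red, mapAlgHom]⟩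
  have hnil : IsNilpotent (RingHom.ker (red N : MonoidAlgebra C N →+* MonoidAlgebra C₀ N)) := by
    refine ⟨2, le_antisymm ?_ bot_le⟩
    rw [pow_two, Ideal.mul_le]
    exact fun x hx y hy => Ideal.mem_bot.2 (mul_IB_eq_zero I hsq ((hker N x).1 hx) ((hker N y).1 hy))
  let φ₁ : R →ₐ[A] MonoidAlgebra C N := Algebra.FormallySmooth.liftOfSurjective φ₀ (red N) hsurj hnil
  have hφ₁ : (red N).comp φ₁ = φ₀ := Algebra.FormallySmooth.comp_liftOfSurjective φ₀ (red N) hsurj hnil
  let ψ : WithConv (R →ₐ[A] MonoidAlgebra C N) := toConv φ₁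
  let dg : N →* N × N := MonoidHom.prod (MonoidHom.id N) (MonoidHom.id N)
  let c : WithConv (R →ₐ[A] MonoidAlgebra C (N × N)) :=
    pp (ev (MonoidHom.inl N N)) ψ * pp (ev (MonoidHom.inr N N)) ψ * (pp (ev dg) ψ)⁻¹
  -- `c` is congruent to the unit
  have hredev : ∀ f : N →* N × N, (red (N × N)).comp (ev (A := A) f) = (ev (A := A) f).comp (red N) :=
    fun f => AlgHom.ext fun x => by
      show red (N × N) (ev (A := A) f x) = ev (A := A) f (red N x)
      induction x using MonoidAlgebra.induction_linear with
      | zero => simp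
      | add a b ha hb => simp only [map_add, ha, hb]
      | single k a =>
        rw [ev_single, show red N (MonoidAlgebra.single k a) = MonoidAlgebra.single k (π a) by simp [red, mapAlgHom],
          ev_single]
        simp [red, mapAlgHom]
  have hc1 : pp (red (N × N)) c = 1 := by
    have e : ∀ f : N →* N × N, pp (red (N × N)) (pp (ev (A := A) f) ψ) = pp (ev (A := A) f) (toConv φ₀) :=
      fun f => by
        rw [pp_pp, hredev, ← pp_pp]
        exact congrArg (pp _) (congrArg toConv hφ₁)
    simp only [c, dg, map_mul, map_inv, e]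
    rw [← (isHom_iff_conv φ₀).1 hφ₀, mul_inv_cancel]
  have hc : ∀ r, c.ofConv r - algebraMap A _ (CoalgebraStruct.counit r) ∈ IB I (N × N) := fun r => by
    rw [← hker, map_sub, sub_eq_zero, AlgHom.commutes, ← pp_apply, hc1]
    simp
  -- substitutions in the thickening
  let N2 := N × N
  have hmem : ∀ g : N2 →* N2 × N, ∀ r, ev (A := A) g (c.ofConv r) ∈ thick A I N2 N := fun g r =>
    (mem_thick I).2 ⟨algebraMap A _ (CoalgebraStruct.counit r), by
      rw [AlgHom.commutes, ← AlgHom.commutes (ev (A := A) (C := C) g), ← map_sub]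
      exact ev_mem I g (hc r)⟩
  have hmemc : ∀ x : MonoidAlgebra C N2, ev (A := A) (MonoidHom.inl N2 N) x ∈ thick A I N2 N := fun x =>
    (mem_thick I).2 ⟨x, by rw [sub_self]; exact Ideal.zero_mem _⟩
  let T := thick A I N2 N
  let sub : (N2 →* N2 × N) → WithConv (R →ₐ[A] T) := fun g =>
    toConv (((ev (A := A) g).comp c.ofConv).codRestrict T (hmem g))
  let const : WithConv (R →ₐ[A] MonoidAlgebra C N2) → WithConv (R →ₐ[A] T) := fun x =>
    toConv (((ev (A := A) (MonoidHom.inl N2 N)).comp x.ofConv).codRestrict T fun r => hmemc _)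
  have hsub : ∀ g, pp T.val (sub g) = pp (ev (A := A) g) c := fun g => rfl
  have hconst : ∀ x, pp T.val (const x) = pp (ev (A := A) (MonoidHom.inl N2 N)) x := fun x => rfl
  have hvalinj : Function.Injective (pp (R := R) T.val) := fun f g h =>
    WithConv.ofConv_injective (AlgHom.ext fun r => Subtype.ext (congr(($h).ofConv r)))
  let σ2 : WithConv (R →ₐ[A] T) →* WithConv (R →ₐ[A] MonoidAlgebra C N2) := pp (σ (A := A) I hsq)
  have hσconst : ∀ x, σ2 (const x) = x := fun x => WithConv.ofConv_injective (AlgHom.ext fun r => by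
    show integ (A := A) (ev (A := A) (MonoidHom.inl N2 N) (x.ofConv r)) = x.ofConv r
    exact integ_inl _)
  -- the primitive
  have hmem1 : ∀ r, c.ofConv r ∈ thick A I N N := fun r =>
    (mem_thick I).2 ⟨algebraMap A _ (CoalgebraStruct.counit r), by rw [AlgHom.commutes]; exact hc r⟩
  let k : WithConv (R →ₐ[A] MonoidAlgebra C N) :=
    pp (σ (A := A) I hsq) (toConv (c.ofConv.codRestrict (thick A I N N) hmem1))
  have hσsub : ∀ (h : N × N →* N2) (f : N →* N2), (∀ m, h (m, 1) = f m) →
      σ2 (sub (h.prod (MonoidHom.snd N N))) = pp (ev (A := A) f) k := fun h f hf =>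
    WithConv.ofConv_injective (AlgHom.ext fun r => integ_subst (A := A) h f hf (c.ofConv r))
  let ι12 : N2 →* N2 × N := MonoidHom.inl N2 N
  let g_yz : N2 →* N2 × N :=
    ((MonoidHom.inr N N).comp (MonoidHom.fst N N)).prod (MonoidHom.snd N N)
  let g_xyz : N2 →* N2 × N := (dg.comp (MonoidHom.fst N N)).prod (MonoidHom.snd N N)
  let g_xz : N2 →* N2 × N := (MonoidHom.id (N × N)).prod (MonoidHom.snd N N)
  have hgxz : ∀ m : N, (MonoidHom.id (N × N)) (m, 1) = MonoidHom.inl N N m := fun m => rfl
  let ψ' : MonoidAlgebra C N →ₐ[A] MonoidAlgebra C N2 := ev (A := A) (MonoidHom.inl N N)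
  have hkey : const c * sub g_xyz =
      const (pp ψ' ψ) * sub g_yz * (const (pp ψ' ψ))⁻¹ * sub g_xz := by
    apply hvalinj
    simp only [map_mul, map_inv, hsub, hconst, c, ψ', pp_pp, ev_comp]
    let X : N →* N2 × N := (MonoidHom.inl N2 N).comp (MonoidHom.inl N N)
    let Y : N →* N2 × N := (MonoidHom.inl N2 N).comp (MonoidHom.inr N N)
    let Z : N →* N2 × N := MonoidHom.inr N2 N
    let XY : N →* N2 × N := (MonoidHom.inl N2 N).comp dg
    let YZ : N →* N2 × N := (MonoidHom.inr N N).prod (MonoidHom.id N)
    let XYZ : N →* N2 × N := dg.prod (MonoidHom.id N)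
    have e1 : g_xyz.comp (MonoidHom.inl N N) = XY := MonoidHom.ext fun _ => rfl
    have e2 : g_xyz.comp (MonoidHom.inr N N) = Z := MonoidHom.ext fun _ => rfl
    have e3 : g_xyz.comp dg = XYZ := MonoidHom.ext fun _ => rfl
    have e4 : g_yz.comp (MonoidHom.inl N N) = Y := MonoidHom.ext fun _ => rfl
    have e5 : g_yz.comp (MonoidHom.inr N N) = Z := MonoidHom.ext fun _ => rfl
    have e6 : g_yz.comp dg = YZ := MonoidHom.ext fun _ => rfl
    have e7 : g_xz.comp (MonoidHom.inl N N) = X := MonoidHom.ext fun _ => rfl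
    have e8 : g_xz.comp (MonoidHom.inr N N) = YZ := MonoidHom.ext fun _ => rfl
    have e9 : g_xz.comp dg = XYZ := MonoidHom.ext fun _ => rfl
    rw [e1, e2, e3, e4, e5, e6, e7, e8, e9]
    exact group_key (pp (ev (A := A) X) ψ) (pp (ev (A := A) Y) ψ) (pp (ev (A := A) Z) ψ)
      (pp (ev (A := A) XY) ψ) (pp (ev (A := A) YZ) ψ) (pp (ev (A := A) XYZ) ψ)
  have hid : c * pp (ev (A := A) dg) k =
      pp ψ' ψ * pp (ev (A := A) (MonoidHom.inr N N)) k * (pp ψ' ψ)⁻¹ * pp (ev (A := A) (MonoidHom.inl N N)) k := by
    have := congrArg σ2 hkey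
    simp only [map_mul, map_inv, hσconst] at this
    rw [hσsub _ dg (fun m => rfl), hσsub _ (MonoidHom.inr N N) (fun m => rfl),
      hσsub _ (MonoidHom.inl N N) hgxz] at this
    exact this
  refine ⟨(k⁻¹ * ψ).ofConv, ?_, ?_⟩
  · rw [isHom_iff_conv, WithConv.toConv_ofConv]
    simp only [map_mul, map_inv]
    exact group_final rfl hid
  · have hk : pp (red N) k = 1 := WithConv.ofConv_injective (AlgHom.ext fun r => by
      rw [pp_apply]
      have h1 : k.ofConv r - algebraMap A _ (CoalgebraStruct.counit r) ∈ IB I N := by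
        have h2 := integ_mem (A := A) I (K := N) (N := N) (hc r)
        rw [map_sub, Algebra.algebraMap_eq_smul_one, map_smul, integ_one,
          ← Algebra.algebraMap_eq_smul_one] at h2
        exact h2
      rw [← hker, map_sub, sub_eq_zero, AlgHom.commutes] at h1
      rw [h1]
      simp)
    have h3 : pp (red N) (k⁻¹ * ψ) = toConv φ₀ := by
      rw [map_mul, map_inv, hk, inv_one, _root_.one_mul]
      exact congrArg toConv hφ₁
    refine AlgHom.ext fun r => MonoidAlgebra.ext (Finsupp.ext fun m => ?_)
    have := congr((($h3).ofConv r).coeff m)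
    rw [pp_apply, hred] at this
    exact (Weights.coef_push π _ m r).trans this

end Lift

end Groth.Agent.H87.HomLiftAlg
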