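import Groth.Agent.H87.HomAffine
import Groth.Agent.H87.HomFam
import Groth.Agent.Lib.FreeRes.MultType
import Groth.Agent.Lib.FreeRes.Transporter
import Mathlib.RingTheory.Finiteness.ModuleFinitePresentation
import Mathlib.RingTheory.Flat.EquationalCriterion
import Mathlib.AlgebraicGeometry.Morphisms.Flat
import Mathlib.AlgebraicGeometry.Morphisms.Finite
import Mathlib.AlgebraicGeometry.Morphisms.FinitePresentation

/-!
# Morphisms and homomorphisms from a finite locally free scheme to an affine one, over affine pieces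
-/

set_option autoImplicit false
universe u

open CategoryTheory CategoryTheory.Limits MonoidalCategory CartesianMonoidalCategory MonObj
open AlgebraicGeometry TensorProduct

namespace Groth.Agent.H87.HomLoc

set_option linter.style.haveILetI false

variable {S : Scheme.{u}}

/-- Whiskering of a point. -/
noncomputable abbrev wh (G : Over S) {X : Scheme.{u}} (j : X ⟶ S) (A : Over X) {T : Scheme.{u}}
    {x : T ⟶ X} (a : T ⟶ A.left) (w : a ≫ A.hom = x) :
    G ⊗ Over.mk (x ≫ j) ⟶ G ⊗ Over.mk (A.hom ≫ j) :=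
  G ◁ (Over.homMk (U := Over.mk (x ≫ j)) (V := Over.mk (A.hom ≫ j)) a
    (by show a ≫ A.hom ≫ j = x ≫ j; rw [← Category.assoc, w]))

/-- `A` with `ev` represents the morphisms `G ⟶ H` over the schemes over `X`. -/
def MapsOn (G H : Over S) {X : Scheme.{u}} (j : X ⟶ S) (A : Over X)
    (ev : G ⊗ Over.mk (A.hom ≫ j) ⟶ H) : Prop :=
  ∀ (T : Scheme.{u}) (x : T ⟶ X) (φ : G ⊗ Over.mk (x ≫ j) ⟶ H),
    ∃! a : T ⟶ A.left, ∃ w : a ≫ A.hom = x, wh G j A a w ≫ ev = φ

theorem exists_mapsOn (G H : Over S) [IsFinite G.hom] [Flat G.hom] [LocallyOfFinitePresentation G.hom]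
    [IsAffineHom H.hom] {A : Type u} [CommRing A] (j : Spec (.of A) ⟶ S) :
    ∃ (M : Over (Spec (.of A))) (ev : G ⊗ Over.mk (M.hom ≫ j) ⟶ H), MapsOn G H j M ev ∧
      IsAffineHom M.hom ∧
      (LocallyOfFiniteType H.hom → LocallyOfFiniteType M.hom) ∧
      (LocallyOfFinitePresentation H.hom → LocallyOfFinitePresentation M.hom) := by
  let qG := pullback.snd G.hom j
  let qH := pullback.snd H.hom j
  haveI : IsAffine (pullback G.hom j) := isAffine_of_isAffineHom qG
  haveI : IsAffine (pullback H.hom j) := isAffine_of_isAffineHom qH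
  let B : Type u := Γ(pullback G.hom j, ⊤)
  let R : Type u := Γ(pullback H.hom j, ⊤)
  let αG := Spec.preimage ((pullback G.hom j).isoSpec.inv ≫ qG)
  let αH := Spec.preimage ((pullback H.hom j).isoSpec.inv ≫ qH)
  letI : Algebra A B := αG.hom.toAlgebra
  letI : Algebra A R := αH.hom.toAlgebra
  have hG : HomAffine.str A B = (pullback G.hom j).isoSpec.inv ≫ qG := Spec.map_preimage _
  have hH : HomAffine.str A R = (pullback H.hom j).isoSpec.inv ≫ qH := Spec.map_preimage _
  haveI : Module.Finite A B := by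
    have : IsFinite (HomAffine.str A B) := hG ▸ inferInstance
    exact (IsFinite.SpecMap_iff _).1 this
  haveI : Module.Projective A B := by
    have h1 : Flat (HomAffine.str A B) := hG ▸ inferInstance
    have h2 : LocallyOfFinitePresentation (HomAffine.str A B) := hG ▸ inferInstance
    haveI : Module.Flat A B := Flat.SpecMap_iff.1 h1
    haveI : Algebra.FinitePresentation A B := (LocallyOfFinitePresentation.SpecMap_iff _).1 h2
    haveI : Module.FinitePresentation A B := .of_finite_of_finitePresentation A B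
    exact Module.Flat.projective_of_finitePresentation
  obtain ⟨Q, _, _, φ, hφ, hft, hfp⟩ := HomAlg.exists_univ A B R
  let gG : Spec (.of B) ⟶ G.left := (pullback G.hom j).isoSpec.inv ≫ pullback.fst G.hom j
  have sqG : IsPullback gG (HomAffine.str A B) G.hom j :=
    IsPullback.of_iso (IsPullback.of_hasPullback G.hom j) (pullback G.hom j).isoSpec (Iso.refl _)
      (Iso.refl _) (Iso.refl _) (by simp [gG]) (by simp [hG, qG]) (by simp) (by simp)
  let gH : Spec (.of R) ⟶ H.left := (pullback H.hom j).isoSpec.inv ≫ pullback.fst H.hom j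
  have sqH : IsPullback gH (HomAffine.str A R) H.hom j :=
    IsPullback.of_iso (IsPullback.of_hasPullback H.hom j) (pullback H.hom j).isoSpec (Iso.refl _)
      (Iso.refl _) (Iso.refl _) (by simp [gH]) (by simp [hH, qH]) (by simp) (by simp)
  -- the comparison of the two products
  have big : ∀ {T : Scheme.{u}} (x : T ⟶ Spec (.of A)),
      IsPullback (pullback.snd x (HomAffine.str A B) ≫ gG) (pullback.fst x (HomAffine.str A B))
        G.hom (x ≫ j) := fun x =>
    (IsPullback.of_hasPullback x (HomAffine.str A B)).flip.paste_horiz sqG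
  let θ : ∀ {T : Scheme.{u}} (x : T ⟶ Spec (.of A)),
      pullback x (HomAffine.str A B) ≅ (G ⊗ Over.mk (x ≫ j)).left := fun x => (big x).isoPullback
  have θfst : ∀ {T : Scheme.{u}} (x : T ⟶ Spec (.of A)),
      (θ x).hom ≫ (fst G (Over.mk (x ≫ j))).left = pullback.snd x (HomAffine.str A B) ≫ gG :=
    fun x => (big x).isoPullback_hom_fst
  have θsnd : ∀ {T : Scheme.{u}} (x : T ⟶ Spec (.of A)),
      (θ x).hom ≫ (snd G (Over.mk (x ≫ j))).left = pullback.fst x (HomAffine.str A B) :=
    fun x => (big x).isoPullback_hom_snd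
  have θhom : ∀ {T : Scheme.{u}} (x : T ⟶ Spec (.of A)),
      (θ x).hom ≫ (G ⊗ Over.mk (x ≫ j)).hom = pullback.fst x (HomAffine.str A B) ≫ x ≫ j := fun x => by
    rw [← Over.w (snd G (Over.mk (x ≫ j))), ← Category.assoc, θsnd]
    rfl
  let q := HomAffine.str A Q
  let ev : G ⊗ Over.mk (q ≫ j) ⟶ H := Over.homMk ((θ q).inv ≫ HomAffine.evMap φ ≫ gH) (by
    rw [Category.assoc, Iso.inv_comp_eq, θhom, Category.assoc, sqH.w, reassoc_of% (HomAffine.evMap_str φ),
      pullback.condition_assoc])
  refine ⟨Over.mk q, ev, fun T x ψ => ?_, inferInstanceAs (IsAffineHom q), fun h => ?_, fun h => ?_⟩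
  · let hψ : pullback x (HomAffine.str A B) ⟶ Spec (.of R) :=
      sqH.lift ((θ x).hom ≫ ψ.left) (pullback.fst x (HomAffine.str A B) ≫ x)
        (by rw [Category.assoc, Over.w ψ, θhom, Category.assoc])
    have key : ∀ (a : T ⟶ Spec (.of Q)) (w : a ≫ q = x),
        (wh G j (Over.mk q) a w ≫ ev = ψ ↔ HomAffine.bc a w ≫ HomAffine.evMap φ = hψ) := by
      intro a w
      have hnat : HomAffine.bc (B := B) a w ≫ (θ q).hom = (θ x).hom ≫ (wh G j (Over.mk q) a w).left := by
        refine pullback.hom_ext ?_ ?_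
        · show (_ ≫ (θ q).hom) ≫ (fst G (Over.mk (q ≫ j))).left =
            (_ ≫ (wh G j (Over.mk q) a w).left) ≫ (fst G (Over.mk (q ≫ j))).left
          rw [Category.assoc, Category.assoc, θfst, HomAffine.bc_snd_assoc, ← θfst x]
          exact congrArg (fun k : G ⊗ Over.mk (x ≫ j) ⟶ G => (θ x).hom ≫ k.left)
            (whiskerLeft_fst G (Over.homMk (U := Over.mk (x ≫ j)) (V := Over.mk (q ≫ j)) a
              (by show a ≫ q ≫ j = x ≫ j; rw [← Category.assoc, w]))).symm
        · show (_ ≫ (θ q).hom) ≫ (snd G (Over.mk (q ≫ j))).left =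
            (_ ≫ (wh G j (Over.mk q) a w).left) ≫ (snd G (Over.mk (q ≫ j))).left
          rw [Category.assoc, Category.assoc, θsnd, HomAffine.bc_fst, ← θsnd x, Category.assoc]
          exact congrArg (fun k : G ⊗ Over.mk (x ≫ j) ⟶ Over.mk (q ≫ j) => (θ x).hom ≫ k.left)
            (whiskerLeft_snd G (Over.homMk (U := Over.mk (x ≫ j)) (V := Over.mk (q ≫ j)) a
              (by show a ≫ q ≫ j = x ≫ j; rw [← Category.assoc, w]))).symm
      have e1 : (wh G j (Over.mk q) a w ≫ ev).left =
          (θ x).inv ≫ (HomAffine.bc a w ≫ HomAffine.evMap φ) ≫ gH := by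
        rw [Over.comp_left, Iso.eq_inv_comp, ← Category.assoc (θ x).hom, ← hnat]
        simp [ev]
      constructor
      · intro e
        have e' : (θ x).hom ≫ ψ.left = (HomAffine.bc a w ≫ HomAffine.evMap φ) ≫ gH := by
          rw [← e, e1, Iso.hom_inv_id_assoc]
        refine sqH.hom_ext ?_ ?_
        · rw [sqH.lift_fst, e']
        · rw [sqH.lift_snd, Category.assoc, HomAffine.evMap_str, HomAffine.bc_snd_assoc,
            ← pullback.condition]
      · intro e
        refine Over.OverMorphism.ext ?_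
        rw [e1, e, sqH.lift_fst, Iso.inv_hom_id_assoc]
    obtain ⟨a, ⟨w, ha⟩, hu⟩ := HomAffine.isUnivMap φ hφ T x hψ (by rw [sqH.lift_snd, pullback.condition])
    exact ⟨a, ⟨w, (key a w).2 ha⟩, fun b ⟨w', hb⟩ => hu b ⟨w', (key b w').1 hb⟩⟩
  · show LocallyOfFiniteType q
    have h1 : LocallyOfFiniteType (HomAffine.str A R) := hH ▸ inferInstance
    rw [HasRingHomProperty.Spec_iff (P := @LocallyOfFiniteType)] at h1 ⊢
    exact RingHom.finiteType_algebraMap.2 (hft (RingHom.finiteType_algebraMap.1 h1))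
  · show LocallyOfFinitePresentation q
    have h1 : LocallyOfFinitePresentation (HomAffine.str A R) := hH ▸ inferInstance
    rw [LocallyOfFinitePresentation.SpecMap_iff] at h1 ⊢
    exact RingHom.finitePresentation_algebraMap.2 (hfp (RingHom.finitePresentation_algebraMap.1 h1))

end Groth.Agent.H87.HomLoc
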