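import Groth.Agent.H87.Weights
import Mathlib.RingTheory.FinitePresentation

/-!
# The affine schemes of homomorphisms with prescribed weights
-/

set_option autoImplicit false
universe u

open TensorProduct MonoidAlgebra

namespace Groth.Agent.H87.Weights

set_option linter.style.haveILetI false

variable {A : Type u} [CommRing A] {R : Type u} [CommRing R] [Bialgebra A R]
variable {N : Type} [CommGroup N] {C : Type u} [CommRing C] [Algebra A C]

/-- The diagonal side. -/
noncomputable def diagSide (φ : R →ₐ[A] MonoidAlgebra C N) : R →ₐ[A] MonoidAlgebra C (N × N) :=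
  (mapDomainAlgHom A C (MonoidHom.prod (MonoidHom.id N) (MonoidHom.id N))).comp φ

/-- The convolution side. -/
noncomputable def convSide (φ : R →ₐ[A] MonoidAlgebra C N) : R →ₐ[A] MonoidAlgebra C (N × N) :=
  (Algebra.TensorProduct.lift ((mapDomainAlgHom A C (MonoidHom.inl N N)).comp φ)
    ((mapDomainAlgHom A C (MonoidHom.inr N N)).comp φ) fun _ _ => Commute.all _ _).comp
    (Bialgebra.comulAlgHom A R)

theorem coeff_mapDomain_diag (x : MonoidAlgebra C N) (m m' : N) [Decidable (m = m')] :
    (mapDomainAlgHom A C (MonoidHom.prod (MonoidHom.id N) (MonoidHom.id N)) x).coeff (m, m') =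
      if m = m' then x.coeff m else 0 := by
  classical
  induction x using MonoidAlgebra.induction_linear with
  | zero => simp
  | add a b ha hb => simp only [map_add, coeff_add, Finsupp.add_apply, ha, hb]; split_ifs <;> simp
  | single k c =>
    simp [mapDomainAlgHom, MonoidAlgebra.coeff_single, Finsupp.single_apply, Prod.ext_iff]
    split_ifs <;> grind

theorem coeff_mul_inl_inr (x y : MonoidAlgebra C N) (m m' : N) :
    (mapDomainAlgHom A C (MonoidHom.inl N N) x * mapDomainAlgHom A C (MonoidHom.inr N N) y).coeff (m, m') =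
      x.coeff m * y.coeff m' := by
  classical
  induction x using MonoidAlgebra.induction_linear with
  | zero => simp
  | add a b ha hb => simp only [map_add, add_mul, coeff_add, Finsupp.add_apply, ha, hb]
  | single k c =>
    induction y using MonoidAlgebra.induction_linear with
    | zero => simp
    | add a b ha hb => simp only [map_add, mul_add, coeff_add, Finsupp.add_apply, ha, hb]
    | single l d =>
      simp [mapDomainAlgHom, MonoidAlgebra.single_mul_single, MonoidAlgebra.coeff_single,
        Finsupp.single_apply, Prod.ext_iff]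
      split_ifs <;> simp_all

theorem isHom_iff (φ : R →ₐ[A] MonoidAlgebra C N) : IsHom φ ↔ diagSide φ = convSide φ := by
  classical
  have h : ∀ (y : R ⊗[A] R) (m m' : N),
      ((Algebra.TensorProduct.lift ((mapDomainAlgHom A C (MonoidHom.inl N N)).comp φ)
        ((mapDomainAlgHom A C (MonoidHom.inr N N)).comp φ) fun _ _ => Commute.all _ _) y).coeff (m, m') =
      LinearMap.mul' A C (TensorProduct.map (coef φ m) (coef φ m') y) := by
    intro y m m'
    induction y with
    | zero => simp
    | add a b ha hb => simp only [map_add, coeff_add, Finsupp.add_apply, ha, hb]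
    | tmul a b =>
      rw [Algebra.TensorProduct.lift_tmul, TensorProduct.map_tmul, LinearMap.mul'_apply]
      exact coeff_mul_inl_inr (A := A) _ _ m m'
  constructor
  · intro hφ
    refine AlgHom.ext fun r => ?_
    refine MonoidAlgebra.ext (Finsupp.ext fun k => ?_)
    obtain ⟨m, m'⟩ := k
    simp only [diagSide, convSide, AlgHom.comp_apply]
    rw [coeff_mapDomain_diag, h]
    exact hφ r m m'
  · intro e r m m'
    have := congr(($e r).coeff (m, m'))
    simp only [diagSide, convSide, AlgHom.comp_apply] at this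
    rwa [coeff_mapDomain_diag, h] at this

section Push

variable {C' : Type u} [CommRing C'] [Algebra A C']

theorem push_diagSide (θ : C →ₐ[A] C') (φ : R →ₐ[A] MonoidAlgebra C N) (r : R) (k : N × N) :
    (diagSide (push θ φ) r).coeff k = θ ((diagSide φ r).coeff k) := by
  classical
  obtain ⟨m, m'⟩ := k
  simp only [diagSide, AlgHom.comp_apply, coeff_mapDomain_diag]
  split_ifs <;> simp [← coef_apply, coef_push]

theorem push_convSide (θ : C →ₐ[A] C') (φ : R →ₐ[A] MonoidAlgebra C N) (r : R) (k : N × N) :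
    (convSide (push θ φ) r).coeff k = θ ((convSide φ r).coeff k) := by
  obtain ⟨m, m'⟩ := k
  simp only [convSide, AlgHom.comp_apply]
  induction Bialgebra.comulAlgHom A R r with
  | zero => simp
  | add a b ha hb => simp only [map_add, coeff_add, Finsupp.add_apply, ha, hb]
  | tmul a b =>
    rw [Algebra.TensorProduct.lift_tmul, Algebra.TensorProduct.lift_tmul]
    simp only [AlgHom.comp_apply, coeff_mul_inl_inr, ← coef_apply, coef_push, map_mul]

theorem push_comp {C'' : Type u} [CommRing C''] [Algebra A C''] (θ : C →ₐ[A] C') (θ' : C' →ₐ[A] C'')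
    (φ : R →ₐ[A] MonoidAlgebra C N) : push θ' (push θ φ) = push (θ'.comp θ) φ :=
  AlgHom.ext fun r => MonoidAlgebra.ext (Finsupp.ext fun m => by
    simp [← coef_apply, coef_push])

end Push

theorem isHom_iff_gen {σ : Type*} (π : MvPolynomial σ A →ₐ[A] R) (hπ : Function.Surjective π)
    (φ : R →ₐ[A] MonoidAlgebra C N) :
    IsHom φ ↔ ∀ j k, (diagSide φ (π (MvPolynomial.X j))).coeff k = (convSide φ (π (MvPolynomial.X j))).coeff k := by
  rw [isHom_iff]
  constructor
  · intro h j k; rw [h]
  · intro h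
    exact (AlgHom.cancel_right hπ).1 (MvPolynomial.algHom_ext fun j => MonoidAlgebra.ext (Finsupp.ext (h j)))

/-- Step one: the coefficients of the generators. -/
theorem exists_univ_expansion {n : ℕ} (π : MvPolynomial (Fin n) A →ₐ[A] R) (hπ : Function.Surjective π)
    (F : Finset N) :
    ∃ (Q : Type u) (_ : CommRing Q) (_ : Algebra A Q) (φu : R →ₐ[A] MonoidAlgebra Q N),
      (∀ j m, m ∉ F → coef φu m (π (MvPolynomial.X j)) = 0) ∧
      (∀ (C : Type u) [CommRing C] [Algebra A C] (φ : R →ₐ[A] MonoidAlgebra C N),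
        (∀ j m, m ∉ F → coef φ m (π (MvPolynomial.X j)) = 0) → ∃! θ : Q →ₐ[A] C, push θ φu = φ) ∧
      ((RingHom.ker π).FG → Algebra.FinitePresentation A Q) ∧ Algebra.FiniteType A Q := by
  classical
  let P := MvPolynomial (Fin n × F) A
  let v : Fin n → MonoidAlgebra P N := fun j => ∑ m : F, single (m : N) (MvPolynomial.X (j, m) : P)
  let e : MvPolynomial (Fin n) A →ₐ[A] MonoidAlgebra P N := MvPolynomial.aeval v
  have hcoeff : ∀ j (m : N), (v j).coeff m = if h : m ∈ F then MvPolynomial.X (j, ⟨m, h⟩) else 0 := by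
    intro j m
    simp only [v, coeff_sum, Finsupp.finsetSum_apply, coeff_single, Finsupp.single_apply]
    split_ifs with h
    · rw [Finset.sum_eq_single ⟨m, h⟩ (fun b _ hb => if_neg fun hb' => hb (Subtype.ext hb'))
        (fun h' => absurd (Finset.mem_univ _) h'), if_pos rfl]
    · exact Finset.sum_eq_zero fun b _ => if_neg fun hb => h (by subst hb; exact b.2)
  let J : Ideal P := Ideal.span {c | ∃ g ∈ RingHom.ker π, ∃ m, c = (e g).coeff m}
  let mk : P →ₐ[A] P ⧸ J := Ideal.Quotient.mkₐ A J
  let w : MvPolynomial (Fin n) A →ₐ[A] MonoidAlgebra (P ⧸ J) N := (mapAlgHom N mk).comp e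
  have hw : RingHom.ker π ≤ RingHom.ker w := fun g hg => by
    refine MonoidAlgebra.ext (Finsupp.ext fun m => ?_)
    simp [w, mapAlgHom]
    exact Ideal.Quotient.eq_zero_iff_mem.2 (Ideal.subset_span ⟨g, hg, m, rfl⟩)
  let eqv := Ideal.quotientKerAlgEquivOfSurjective hπ
  let φu : R →ₐ[A] MonoidAlgebra (P ⧸ J) N :=
    (Ideal.Quotient.liftₐ (RingHom.ker π) w hw).comp eqv.symm.toAlgHom
  have hφu : φu.comp π = w := MvPolynomial.algHom_ext fun j => by
    have : eqv.symm (π (MvPolynomial.X j)) = Ideal.Quotient.mk _ (MvPolynomial.X j) :=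
      eqv.symm_apply_eq.2 (Ideal.quotientKerAlgEquivOfSurjective_mk hπ _).symm
    show Ideal.Quotient.liftₐ (RingHom.ker π) w hw (eqv.symm (π (MvPolynomial.X j))) = _
    rw [this]
    rfl
  have hX : ∀ j m, coef φu m (π (MvPolynomial.X j)) =
      mk (if h : m ∈ F then MvPolynomial.X (j, ⟨m, h⟩) else 0) := fun j m => by
    rw [coef_apply, ← AlgHom.comp_apply, hφu]
    simp [w, e, hcoeff, mapAlgHom]
  refine ⟨P ⧸ J, inferInstance, inferInstance, φu,
    fun j m hm => by rw [hX, dif_neg hm, map_zero], fun C _ _ φ hF => ?_, fun hfg => ?_,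
    Algebra.FiniteType.of_surjective mk Ideal.Quotient.mk_surjective⟩
  · let θ₀ : P →ₐ[A] C := MvPolynomial.aeval fun x => coef φ (x.2 : N) (π (MvPolynomial.X x.1))
    have he : (mapAlgHom N θ₀).comp e = φ.comp π := MvPolynomial.algHom_ext fun j => by
      refine MonoidAlgebra.ext (Finsupp.ext fun m => ?_)
      simp only [AlgHom.comp_apply, e, MvPolynomial.aeval_X]
      rw [show ((mapAlgHom N θ₀) (v j)).coeff m = θ₀ ((v j).coeff m) by simp [mapAlgHom], hcoeff]
      split_ifs with h
      · exact (MvPolynomial.aeval_X _ _).trans rfl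
      · rw [map_zero]; exact (hF j m h).symm
    have hJ : ∀ a ∈ J, θ₀ a = 0 := by
      intro a ha
      refine (Ideal.span_le (I := RingHom.ker θ₀)).2 ?_ ha
      rintro _ ⟨g, hg, m, rfl⟩
      show θ₀ _ = 0
      have := congr(($he g).coeff m)
      rw [AlgHom.comp_apply, AlgHom.comp_apply, RingHom.mem_ker.1 hg, map_zero] at this
      simpa [mapAlgHom] using this
    let θ : P ⧸ J →ₐ[A] C := Ideal.Quotient.liftₐ J θ₀ hJ
    have hθ : push θ φu = φ := by
      refine (AlgHom.cancel_right hπ).1 (MvPolynomial.algHom_ext fun j => ?_)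
      refine MonoidAlgebra.ext (Finsupp.ext fun m => ?_)
      show coef (push θ φu) m (π (MvPolynomial.X j)) = coef φ m (π (MvPolynomial.X j))
      rw [coef_push, hX]
      show θ₀ _ = _
      split_ifs with h
      · exact MvPolynomial.aeval_X _ _
      · rw [map_zero]; exact (hF j m h).symm
    refine ⟨θ, hθ, fun η hη => Ideal.Quotient.algHom_ext _ (MvPolynomial.algHom_ext fun x => ?_)⟩
    show η (mk (MvPolynomial.X x)) = θ₀ (MvPolynomial.X x)
    have h1 := congr(coef $hη (x.2 : N) (π (MvPolynomial.X x.1)))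
    rw [coef_push, hX, dif_pos x.2.2] at h1
    exact h1.trans (MvPolynomial.aeval_X (fun x : Fin n × F => coef φ (x.2 : N) (π (MvPolynomial.X x.1))) x).symm
  · obtain ⟨s, hs⟩ := hfg
    refine Algebra.FinitePresentation.quotient ⟨s.biUnion fun g => ((e g).coeff.support).image (e g).coeff, le_antisymm ?_ ?_⟩
    · refine Ideal.span_le.2 fun c hc => ?_
      obtain ⟨g, hg, hc⟩ := Finset.mem_biUnion.1 hc
      obtain ⟨m, -, rfl⟩ := Finset.mem_image.1 hc
      exact Ideal.subset_span ⟨g, hs ▸ Ideal.subset_span hg, m, rfl⟩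
    · refine Ideal.span_le.2 ?_
      rintro _ ⟨g, hg, m, rfl⟩
      let K : Ideal P := Ideal.span
        ((s.biUnion fun g => ((e g).coeff.support).image (e g).coeff : Finset P) : Set P)
      have hk : g ∈ RingHom.ker ((mapAlgHom N (Ideal.Quotient.mkₐ A K)).comp e) := by
        have hg' : g ∈ Ideal.span (s : Set (MvPolynomial (Fin n) A)) := hs.symm ▸ hg
        refine (Ideal.span_le.2 fun g₀ hg₀ => ?_) hg'
        refine MonoidAlgebra.ext (Finsupp.ext fun m => ?_)
        simp [mapAlgHom]
        by_cases hm : (e g₀).coeff m = 0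
        · simp [hm]
        · rw [Ideal.Quotient.eq_zero_iff_mem]
          refine Ideal.subset_span ?_
          simp only [Finset.coe_biUnion, Set.mem_iUnion]
          exact ⟨g₀, hg₀, Finset.mem_image.2 ⟨m, Finsupp.mem_support_iff.2 hm, rfl⟩⟩
      have := congr(($(RingHom.mem_ker.1 hk)).coeff m)
      simp [mapAlgHom] at this
      exact Ideal.Quotient.eq_zero_iff_mem.1 this

/-- Step two: the relations of a homomorphism. -/
theorem exists_univ_isHom {n : ℕ} (π : MvPolynomial (Fin n) A →ₐ[A] R) (hπ : Function.Surjective π)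
    {Q₁ : Type u} [CommRing Q₁] [Algebra A Q₁] (φ₁ : R →ₐ[A] MonoidAlgebra Q₁ N) :
    ∃ (Q : Type u) (_ : CommRing Q) (_ : Algebra A Q) (mk : Q₁ →ₐ[A] Q),
      Function.Surjective mk ∧ IsHom (push mk φ₁) ∧ (RingHom.ker mk).FG ∧
      ∀ (C : Type u) [CommRing C] [Algebra A C] (θ : Q₁ →ₐ[A] C), IsHom (push θ φ₁) →
        RingHom.ker mk ≤ RingHom.ker θ := by
  classical
  let rel : Fin n → MonoidAlgebra Q₁ (N × N) := fun j =>
    diagSide φ₁ (π (MvPolynomial.X j)) - convSide φ₁ (π (MvPolynomial.X j))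
  let J : Ideal Q₁ := Ideal.span (⋃ j, ↑(((rel j).coeff.support).image (rel j).coeff))
  let mk : Q₁ →ₐ[A] Q₁ ⧸ J := Ideal.Quotient.mkₐ A J
  have hker : RingHom.ker mk = J := Ideal.Quotient.mkₐ_ker A J
  have hrel : ∀ j k, (rel j).coeff k ∈ J := fun j k => by
    by_cases hk : (rel j).coeff k = 0
    · rw [hk]; exact zero_mem _
    · exact Ideal.subset_span (Set.mem_iUnion.2 ⟨j, Finset.mem_image.2 ⟨k, Finsupp.mem_support_iff.2 hk, rfl⟩⟩)
  refine ⟨Q₁ ⧸ J, inferInstance, inferInstance, mk, Ideal.Quotient.mk_surjective,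
    (isHom_iff_gen π hπ _).2 fun j k => ?_, ?_, fun C _ _ θ hθ => ?_⟩
  · rw [push_diagSide, push_convSide]
    exact sub_eq_zero.1 (by
      rw [← map_sub]
      exact Ideal.Quotient.eq_zero_iff_mem.2 (by simpa [rel] using hrel j k))
  · rw [hker]
    exact Submodule.fg_span (Set.finite_iUnion fun j => Finset.finite_toSet _)
  · rw [hker]
    refine Ideal.span_le.2 fun c hc => ?_
    obtain ⟨j, hc⟩ := Set.mem_iUnion.1 hc
    obtain ⟨k, -, rfl⟩ := Finset.mem_image.1 hc
    show θ _ = 0
    simp only [rel, coeff_sub, Finsupp.coe_sub, Pi.sub_apply, map_sub]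
    rw [← push_diagSide, ← push_convSide, (isHom_iff_gen π hπ _).1 hθ j k, sub_self]

/-- **The affine scheme of homomorphisms with weights of the generators in `F`.** -/
theorem exists_univ_of_presentation {n : ℕ} (π : MvPolynomial (Fin n) A →ₐ[A] R)
    (hπ : Function.Surjective π) (F : Finset N) :
    ∃ (Q : Type u) (_ : CommRing Q) (_ : Algebra A Q) (φu : R →ₐ[A] MonoidAlgebra Q N),
      IsHom φu ∧ (∀ j m, m ∉ F → coef φu m (π (MvPolynomial.X j)) = 0) ∧
      (∀ (C : Type u) [CommRing C] [Algebra A C] (φ : R →ₐ[A] MonoidAlgebra C N), IsHom φ →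
        (∀ j m, m ∉ F → coef φ m (π (MvPolynomial.X j)) = 0) → ∃! θ : Q →ₐ[A] C, push θ φu = φ) ∧
      ((RingHom.ker π).FG → Algebra.FinitePresentation A Q) ∧ Algebra.FiniteType A Q := by
  obtain ⟨Q₁, _, _, φ₁, h1, huniv, hfp, hft⟩ := exists_univ_expansion π hπ F
  obtain ⟨Q, _, _, mk, hmk, hhom, hfg, hker⟩ := exists_univ_isHom π hπ φ₁
  refine ⟨Q, _, _, push mk φ₁, hhom, fun j m hm => by rw [coef_push, h1 j m hm, map_zero],
    fun C _ _ φ hφ hF => ?_, fun h => ?_, Algebra.FiniteType.of_surjective mk hmk⟩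
  · obtain ⟨θ₁, hθ₁, hu⟩ := huniv C φ hF
    have hle := hker C θ₁ (hθ₁.symm ▸ hφ)
    let e := Ideal.quotientKerAlgEquivOfSurjective hmk
    let θ : Q →ₐ[A] C := (Ideal.Quotient.liftₐ (RingHom.ker mk) θ₁ hle).comp e.symm.toAlgHom
    have hθ : θ.comp mk = θ₁ := AlgHom.ext fun x => by
      have : e.symm (mk x) = Ideal.Quotient.mk _ x :=
        e.symm_apply_eq.2 (Ideal.quotientKerAlgEquivOfSurjective_mk hmk _).symm
      show Ideal.Quotient.liftₐ (RingHom.ker mk) θ₁ hle (e.symm (mk x)) = _
      rw [this]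
      rfl
    refine ⟨θ, by simp only; rw [push_comp, hθ, hθ₁], fun η hη => (AlgHom.cancel_right hmk).1 ?_⟩
    simp only at hη
    rw [push_comp] at hη
    rw [hθ]
    exact hu _ hη
  · have := hfp h
    exact Algebra.FinitePresentation.of_surjective hmk hfg

end Groth.Agent.H87.Weights
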