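import Groth.Agent.H87.HomFam
import Groth.Agent.H87.HomPoly
import Groth.Agent.H87.Locus
import Groth.Agent.Lib.RedPts.Gm
import Mathlib.AlgebraicGeometry.Group.Affine

/-!
# Families of homomorphisms from `D(M)` to an affine group as multiplicative ring maps
-/

set_option autoImplicit false
universe u

open CategoryTheory CategoryTheory.Limits MonoidalCategory CartesianMonoidalCategory MonObj GrpObj
open AlgebraicGeometry
open Groth.Agent.H87.HomFam Groth.Agent.Lib.RedPts

namespace Groth.Agent.H87.HomPts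

set_option linter.style.haveILetI false

variable {A : Type u} [CommRing A]

variable (A) in
/-- The structure map. -/
noncomputable abbrev stm (C : Type u) [CommRing C] [Algebra A C] : Spec (.of C) ⟶ Spec (.of A) :=
  Spec.map (CommRingCat.ofHom (algebraMap A C))

variable (A) in
/-- The spectrum of an algebra over the base. -/
noncomputable abbrev pt (C : Type u) [CommRing C] [Algebra A C] : Over (Spec (.of A)) :=
  Over.mk (stm A C)

instance (C : Type u) [CommRing C] [Algebra A C] : IsAffine (pt A C).left :=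
  inferInstanceAs (IsAffine (Spec (.of C)))

@[implicit_reducible]
noncomputable instance grpPt (R : Type u) [CommRing R] [HopfAlgebra A R] : GrpObj (pt A R) :=
  instGrpObjSpecAsOverSpec (R := .of A) (A := .of R)

/-- The morphism of an algebra map. -/
noncomputable def pm {C C' : Type u} [CommRing C] [Algebra A C] [CommRing C'] [Algebra A C']
    (θ : C →ₐ[A] C') : pt A C' ⟶ pt A C :=
  Over.homMk (Spec.map (CommRingCat.ofHom θ.toRingHom)) (by
    show Spec.map (CommRingCat.ofHom θ.toRingHom) ≫ stm A C = stm A C'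
    rw [← Spec.map_comp, ← CommRingCat.ofHom_comp]
    exact congrArg (fun f => Spec.map (CommRingCat.ofHom f)) θ.comp_algebraMap)

theorem pm_left {C C' : Type u} [CommRing C] [Algebra A C] [CommRing C'] [Algebra A C']
    (θ : C →ₐ[A] C') : (pm θ).left = Spec.map (CommRingCat.ofHom θ.toRingHom) := rfl

theorem appTop_pm {C C' : Type u} [CommRing C] [Algebra A C] [CommRing C'] [Algebra A C']
    (θ : C →ₐ[A] C') (z : C) :
    (pm θ).left.appTop ((Scheme.ΓSpecIso (.of C)).inv z) = (Scheme.ΓSpecIso (.of C')).inv (θ z) :=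
  (ConcreteCategory.congr_hom (Scheme.ΓSpecIso_inv_naturality (CommRingCat.ofHom θ.toRingHom)) z).symm

theorem pm_comp {C C' C'' : Type u} [CommRing C] [Algebra A C] [CommRing C'] [Algebra A C']
    [CommRing C''] [Algebra A C''] (θ : C →ₐ[A] C') (θ' : C' →ₐ[A] C'') :
    pm θ' ≫ pm θ = pm (θ'.comp θ) := Over.OverMorphism.ext (by
  show Spec.map _ ≫ Spec.map _ = Spec.map _
  rw [← Spec.map_comp]; rfl)

variable (M : Type) [AddCommGroup M]

local notation "N" => Multiplicative M

section Eval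

variable {C : Type u} [CommRing C] [Algebra A C] {K : Type} [CommMonoid K]

variable (C K) in
/-- The constants. -/
noncomputable def incA : C →ₐ[A] MonoidAlgebra C K :=
  AlgHom.mk' MonoidAlgebra.singleOneRingHom fun a x => by simp

/-- The point of the spectrum of a monoid algebra. -/
noncomputable def evalPt {Y : Over (Spec (.of A))} (y : Y.left ⟶ Spec (.of C)) (hy : y ≫ stm A C = Y.hom)
    (ch : K →* Γ(Y.left, ⊤)) : Y ⟶ pt A (MonoidAlgebra C K) :=
  Over.homMk (Y.left.toSpecΓ ≫ Spec.map (CommRingCat.ofHom (MonoidAlgebra.liftNCRingHom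
    (((Scheme.ΓSpecIso (.of C)).inv ≫ y.appTop).hom) ch fun _ _ => Commute.all _ _))) (by
    show (_ ≫ Spec.map _) ≫ stm A (MonoidAlgebra C K) = Y.hom
    have e : CommRingCat.ofHom (algebraMap A (MonoidAlgebra C K)) ≫
        CommRingCat.ofHom (MonoidAlgebra.liftNCRingHom
          (((Scheme.ΓSpecIso (.of C)).inv ≫ y.appTop).hom) ch fun _ _ => Commute.all _ _) =
        CommRingCat.ofHom (algebraMap A C) ≫ (Scheme.ΓSpecIso (.of C)).inv ≫ y.appTop := by
      refine CommRingCat.hom_ext (RingHom.ext fun a => ?_)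
      simp [MonoidAlgebra.coe_algebraMap]
      exact congrArg _ (ConcreteCategory.congr_hom
        (Scheme.ΓSpecIso_inv_naturality (CommRingCat.ofHom (algebraMap A C))) a)
    rw [Category.assoc, ← Spec.map_comp, e, ← hy, Spec.map_comp, Spec.map_comp]
    rw [Category.assoc, ← Scheme.toSpecΓ_naturality_assoc, toSpecΓ_SpecMap_ΓSpecIso_inv_assoc])

theorem appTop_toSpecΓ_SpecMap {Y : Scheme.{u}} {D : CommRingCat.{u}} (f : D ⟶ Γ(Y, ⊤)) (z : D) :
    (Y.toSpecΓ ≫ Spec.map f).appTop ((Scheme.ΓSpecIso D).inv z) = f z := by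
  rw [Scheme.Hom.comp_appTop, CommRingCat.comp_apply, ← CommRingCat.comp_apply _ (Spec.map f).appTop,
    ← Scheme.ΓSpecIso_inv_naturality, CommRingCat.comp_apply, Scheme.toSpecΓ_appTop]
  exact Iso.inv_hom_id_apply (Scheme.ΓSpecIso _) _

theorem appTop_evalPt {Y : Over (Spec (.of A))} (y : Y.left ⟶ Spec (.of C)) (hy : y ≫ stm A C = Y.hom)
    (ch : K →* Γ(Y.left, ⊤)) (k : K) (c : C) :
    (evalPt y hy ch).left.appTop ((Scheme.ΓSpecIso (.of (MonoidAlgebra C K))).inv (MonoidAlgebra.single k c)) =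
      y.appTop ((Scheme.ΓSpecIso (.of C)).inv c) * ch k := by
  refine (appTop_toSpecΓ_SpecMap (Y := Y.left) _ _).trans ?_
  exact MonoidAlgebra.liftNCRingHom_single _ ch (fun _ _ => Commute.all _ _) k c

theorem evalPt_fst {Y : Over (Spec (.of A))} (y : Y.left ⟶ Spec (.of C)) (hy : y ≫ stm A C = Y.hom)
    (ch : K →* Γ(Y.left, ⊤)) : (evalPt y hy ch ≫ pm (incA C K)).left = y := by
  refine ext_of_isAffine ?_
  refine CommRingCat.hom_ext (RingHom.ext fun z => ?_)
  obtain ⟨c, rfl⟩ : ∃ c, (Scheme.ΓSpecIso (.of C)).inv c = z := ⟨_, Iso.hom_inv_id_apply (Scheme.ΓSpecIso _) z⟩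
  show (evalPt y hy ch ≫ pm (incA C K)).left.appTop ((Scheme.ΓSpecIso (.of C)).inv c) = y.appTop _
  rw [Over.comp_left, Scheme.Hom.comp_appTop, CommRingCat.comp_apply, appTop_pm]
  refine (appTop_evalPt y hy ch 1 c).trans ?_
  rw [map_one, _root_.mul_one]

/-- Maps into the spectrum of a monoid algebra are determined by constants and characters. -/
theorem pt_ext {Y : Over (Spec (.of A))} {r r' : Y ⟶ pt A (MonoidAlgebra C K)}
    (h0 : (r ≫ pm (incA C K)).left = (r' ≫ pm (incA C K)).left)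
    (h1 : ∀ k, r.left.appTop ((Scheme.ΓSpecIso (.of (MonoidAlgebra C K))).inv (MonoidAlgebra.single k 1)) =
      r'.left.appTop ((Scheme.ΓSpecIso (.of (MonoidAlgebra C K))).inv (MonoidAlgebra.single k 1))) : r = r' := by
  refine Over.OverMorphism.ext (ext_of_isAffine (CommRingCat.hom_ext (RingHom.ext fun z => ?_)))
  obtain ⟨x, rfl⟩ : ∃ x, (Scheme.ΓSpecIso (.of (MonoidAlgebra C K))).inv x = z :=
    ⟨_, Iso.hom_inv_id_apply (Scheme.ΓSpecIso _) z⟩
  have h0' : ∀ c, r.left.appTop ((Scheme.ΓSpecIso (.of (MonoidAlgebra C K))).inv (MonoidAlgebra.single 1 c)) =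
      r'.left.appTop ((Scheme.ΓSpecIso (.of (MonoidAlgebra C K))).inv (MonoidAlgebra.single 1 c)) := fun c => by
    have := congr(Scheme.Hom.appTop $h0 ((Scheme.ΓSpecIso (.of C)).inv c))
    simp only [Over.comp_left, Scheme.Hom.comp_appTop, CommRingCat.comp_apply] at this
    erw [appTop_pm] at this
    exact this
  let ρ : MonoidAlgebra C K →+* Γ(Y.left, ⊤) :=
    r.left.appTop.hom.comp ((Scheme.ΓSpecIso (.of (MonoidAlgebra C K))).inv.hom)
  let ρ' : MonoidAlgebra C K →+* Γ(Y.left, ⊤) :=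
    r'.left.appTop.hom.comp ((Scheme.ΓSpecIso (.of (MonoidAlgebra C K))).inv.hom)
  show ρ x = ρ' x
  refine RingHom.congr_fun (MonoidAlgebra.ringHom_ext h0' h1 : ρ = ρ') x

end Eval

section Univ

variable (C : Type u) [CommRing C] [Algebra A C]

/-- The universal point of `D(M)`. -/
noncomputable def up : pt A (MonoidAlgebra C N) ⟶ Red.DS (Spec (.of A)) M :=
  Gm.dsPt (X := pt A (MonoidAlgebra C N))
    (((Scheme.ΓSpecIso (.of (MonoidAlgebra C N))).inv.hom : MonoidAlgebra C N →+* _).toMonoidHom.comp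
      (MonoidAlgebra.of C N))

variable {C}

theorem dsFn_comp_up {Y : Over (Spec (.of A))} (r : Y ⟶ pt A (MonoidAlgebra C N)) (m : M) :
    Gm.dsFn (r ≫ up M C) m = r.left.appTop
      ((Scheme.ΓSpecIso (.of (MonoidAlgebra C N))).inv (MonoidAlgebra.single (Multiplicative.ofAdd m) 1)) := by
  rw [Gm.dsFn_comp, up, Gm.dsFn_dsPt]
  rfl

/-- The factorisation of a point. -/
noncomputable def fac {Y : Over (Spec (.of A))} (y : Y.left ⟶ Spec (.of C)) (hy : y ≫ stm A C = Y.hom)
    (g : Y ⟶ Red.DS (Spec (.of A)) M) : Y ⟶ pt A (MonoidAlgebra C N) :=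
  evalPt y hy
    { toFun := fun m => Gm.dsFn g m.toAdd
      map_one' := Gm.dsFn_zero g
      map_mul' := fun _ _ => Gm.dsFn_add g _ _ }

theorem fac_up {Y : Over (Spec (.of A))} (y : Y.left ⟶ Spec (.of C)) (hy : y ≫ stm A C = Y.hom)
    (g : Y ⟶ Red.DS (Spec (.of A)) M) : fac M y hy g ≫ up M C = g := Gm.dsFn_ext fun m => by
  rw [dsFn_comp_up, fac, appTop_evalPt, map_one, map_one, _root_.one_mul]
  rfl

theorem fac_fst {Y : Over (Spec (.of A))} (y : Y.left ⟶ Spec (.of C)) (hy : y ≫ stm A C = Y.hom)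
    (g : Y ⟶ Red.DS (Spec (.of A)) M) : (fac M y hy g ≫ pm (incA C N)).left = y := evalPt_fst _ _ _

theorem fac_unique {Y : Over (Spec (.of A))} {y : Y.left ⟶ Spec (.of C)} {hy : y ≫ stm A C = Y.hom}
    {g : Y ⟶ Red.DS (Spec (.of A)) M} (r : Y ⟶ pt A (MonoidAlgebra C N))
    (h0 : (r ≫ pm (incA C N)).left = y) (h1 : r ≫ up M C = g) : r = fac M y hy g :=
  pt_ext (h0.trans (fac_fst M y hy g).symm) fun k => by
    have := congrArg (fun x => Gm.dsFn x k.toAdd) (h1.trans (fac_up M y hy g).symm)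
    simpa only [dsFn_comp_up, ofAdd_toAdd] using this

end Univ

section Conv

variable {C : Type u} [CommRing C] [Algebra A C]
variable {R : Type u} [CommRing R] [HopfAlgebra A R]

/-- The map induced on monoid algebras. -/
noncomputable abbrev md {K K' : Type} [CommMonoid K] [CommMonoid K'] (f : K →* K') :
    MonoidAlgebra C K →ₐ[A] MonoidAlgebra C K' := MonoidAlgebra.mapDomainAlgHom A C f

theorem appTop_pm_single {K K' : Type} [CommMonoid K] [CommMonoid K'] (f : K →* K') (k : K) :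
    (pm (md (A := A) (C := C) f)).left.appTop
      ((Scheme.ΓSpecIso (.of (MonoidAlgebra C K))).inv (MonoidAlgebra.single k 1)) =
      (Scheme.ΓSpecIso (.of (MonoidAlgebra C K'))).inv (MonoidAlgebra.single (f k) 1) := by
  rw [appTop_pm]
  congr 1
  simp [md, MonoidAlgebra.mapDomainAlgHom]

theorem up_diag :
    pm (md (A := A) (C := C) (MonoidHom.prod (MonoidHom.id N) (MonoidHom.id N))) ≫ up M C =
      (pm (md (MonoidHom.inl N N)) ≫ up M C) * (pm (md (MonoidHom.inr N N)) ≫ up M C) := Gm.dsFn_ext fun m => by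
  rw [Gm.dsFn_mul, dsFn_comp_up, dsFn_comp_up, dsFn_comp_up, appTop_pm_single, appTop_pm_single,
    appTop_pm_single, ← map_mul, MonoidAlgebra.single_mul_single, _root_.mul_one]
  simp

theorem md_incA {K K' : Type} [CommMonoid K] [CommMonoid K'] (f : K →* K') :
    (md (A := A) (C := C) f).comp (incA C K) = incA C K' := AlgHom.ext fun c => by
  simp [incA, md, MonoidAlgebra.mapDomainAlgHom]

/-- The point of an algebra map. -/
noncomputable def ptHom {D : Type u} [CommRing D] [Algebra A D] (φ : R →ₐ[A] D) : pt A D ⟶ pt A R :=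
  Spec.mapMulEquiv (R := A) (S := R) (T := D) ⟨φ⟩

theorem ptHom_left {D : Type u} [CommRing D] [Algebra A D] (φ : R →ₐ[A] D) :
    (ptHom φ).left = Spec.map (CommRingCat.ofHom φ.toRingHom) := rfl

theorem pm_ptHom {D D' : Type u} [CommRing D] [Algebra A D] [CommRing D'] [Algebra A D']
    (θ : D →ₐ[A] D') (φ : R →ₐ[A] D) : pm θ ≫ ptHom φ = ptHom (θ.comp φ) := Over.OverMorphism.ext (by
  show Spec.map _ ≫ Spec.map _ = Spec.map _
  rw [← Spec.map_comp]; rfl)

theorem ptHom_injective {D : Type u} [CommRing D] [Algebra A D] {φ φ' : R →ₐ[A] D}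
    (h : ptHom φ = ptHom φ') : φ = φ' :=
  congrArg WithConv.ofConv ((Spec.mapMulEquiv (R := A) (S := R) (T := D)).injective h)

theorem ptHom_surjective {D : Type u} [CommRing D] [Algebra A D] (x : pt A D ⟶ pt A R) :
    ∃ φ : R →ₐ[A] D, ptHom φ = x :=
  ⟨((Spec.mapMulEquiv (R := A) (S := R) (T := D)).symm x).ofConv, MulEquiv.apply_symm_apply _ x⟩

theorem ptHom_mul {D : Type u} [CommRing D] [Algebra A D] (φ φ' : R →ₐ[A] D) :
    ptHom φ * ptHom φ' =
      ptHom ((Algebra.TensorProduct.lift φ φ' fun _ _ => Commute.all _ _).comp (Bialgebra.comulAlgHom A R)) := by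
  have h : ptHom φ * ptHom φ' = ptHom ((⟨φ⟩ : WithConv (R →ₐ[A] D)) * ⟨φ'⟩).ofConv := by
    have h := (map_mul (Spec.mapMulEquiv (R := A) (S := R) (T := D)) ⟨φ⟩ ⟨φ'⟩).symm
    rw [Hom.mul_def] at h
    rw [Hom.mul_def]
    exact h
  refine h.trans (congrArg ptHom (AlgHom.ext fun r => ?_))
  simp [AlgHom.convMul_def]
  induction CoalgebraStruct.comul (R := A) r using TensorProduct.induction_on with
  | zero => simp
  | add a b ha hb => simp only [map_add, ha, hb]
  | tmul a b => simp

variable {M}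

/-- **A multiplicative ring map gives a family of homomorphisms.** -/
noncomputable def toFam (φ : R →ₐ[A] MonoidAlgebra C N) (hφ : Weights.IsHom φ) :
    Fam (Red.DS (Spec (.of A)) M) (pt A R) (stm A C) where
  app Y y hy g := fac M y hy g ≫ ptHom φ
  natural {Y Y'} r y hy y' hy' g e := by
    rw [← fac_unique M (hy := hy') (g := r ≫ g) (r ≫ fac M y hy g)
      (by rw [Category.assoc, Over.comp_left, fac_fst, e]) (by rw [Category.assoc, fac_up]), Category.assoc]
  mul Y y hy g g' := by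
    let ch : N × N →* Γ(Y.left, ⊤) :=
      { toFun := fun k => Gm.dsFn g k.1.toAdd * Gm.dsFn g' k.2.toAdd
        map_one' := by simp [Gm.dsFn_zero]
        map_mul' := fun a b => by simp [Gm.dsFn_add, _root_.mul_mul_mul_comm] }
    let r := evalPt (C := C) y hy ch
    have hr : ∀ (f : N →* N × N) (h : Y ⟶ Red.DS (Spec (.of A)) M),
        (∀ m, ch (f (Multiplicative.ofAdd m)) = Gm.dsFn h m) → r ≫ pm (md f) = fac M y hy h := fun f h hf => by
      refine fac_unique M _ ?_ (Gm.dsFn_ext fun m => ?_)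
      · rw [Category.assoc, pm_comp, md_incA]
        exact evalPt_fst _ _ _
      · rw [dsFn_comp_up, Over.comp_left, Scheme.Hom.comp_appTop, CommRingCat.comp_apply, appTop_pm_single,
          appTop_evalPt, map_one, map_one, _root_.one_mul, hf]
    have e1 := hr (MonoidHom.inl N N) g fun m => by simp [ch, Gm.dsFn_zero]
    have e2 := hr (MonoidHom.inr N N) g' fun m => by simp [ch, Gm.dsFn_zero]
    have e3 := hr (MonoidHom.prod (MonoidHom.id N) (MonoidHom.id N)) (g * g') fun m => by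
      simp [ch, Gm.dsFn_mul]
    rw [← e3, ← e1, ← e2, Category.assoc, Category.assoc, Category.assoc, pm_ptHom, pm_ptHom, pm_ptHom,
      ← MonObj.comp_mul, ptHom_mul]
    exact congrArg (fun z => r ≫ ptHom z) ((Weights.isHom_iff φ).1 hφ)

/-- The value of a family at the universal point. -/
noncomputable def val (F : Fam (Red.DS (Spec (.of A)) M) (pt A R) (stm A C)) :
    pt A (MonoidAlgebra C N) ⟶ pt A R :=
  F.app _ (pm (incA C N)).left (Over.w (pm (incA C N))) (up M C)

theorem app_eq (F : Fam (Red.DS (Spec (.of A)) M) (pt A R) (stm A C)) (Y : Over (Spec (.of A)))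
    (y : Y.left ⟶ Spec (.of C)) (hy : y ≫ stm A C = Y.hom) (g : Y ⟶ Red.DS (Spec (.of A)) M) :
    F.app Y y hy g = fac M y hy g ≫ val F := by
  rw [val, ← F.natural (fac M y hy g) _ _ y hy (up M C) (fac_fst M y hy g), fac_up]

theorem fam_ext {F F' : Fam (Red.DS (Spec (.of A)) M) (pt A R) (stm A C)} (h : val F = val F') : F = F' :=
  Fam.ext (funext fun Y => funext fun y => funext fun hy => funext fun g => by rw [app_eq, app_eq, h])

theorem val_toFam (φ : R →ₐ[A] MonoidAlgebra C N) (hφ : Weights.IsHom φ) : val (toFam φ hφ) = ptHom φ := by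
  show fac M _ _ _ ≫ ptHom φ = _
  rw [← fac_unique M (hy := Over.w (pm (incA C N))) (g := up M C) (𝟙 _) (by rw [Category.id_comp]) (Category.id_comp _)]
  exact Category.id_comp _

theorem isHom_of_val {F : Fam (Red.DS (Spec (.of A)) M) (pt A R) (stm A C)} {φ : R →ₐ[A] MonoidAlgebra C N}
    (h : ptHom φ = val F) : Weights.IsHom φ := by
  rw [Weights.isHom_iff]
  apply ptHom_injective
  have key : ∀ f : N →* N × N, pm (md (A := A) (C := C) f) ≫ val F =
      F.app _ (pm (incA C (N × N))).left (Over.w (pm (incA C (N × N)))) (pm (md f) ≫ up M C) := fun f => by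
    rw [val, ← F.natural (pm (md f)) _ _ _ (Over.w (pm (incA C (N × N)))) (up M C)
      (by rw [← Over.comp_left, pm_comp, md_incA])]
  rw [Weights.diagSide, Weights.convSide, ← pm_ptHom, ← ptHom_mul, ← pm_ptHom, ← pm_ptHom, h, key, key, key,
    up_diag, F.mul]

theorem exists_alg (F : Fam (Red.DS (Spec (.of A)) M) (pt A R) (stm A C)) :
    ∃ (φ : R →ₐ[A] MonoidAlgebra C N) (hφ : Weights.IsHom φ), toFam φ hφ = F := by
  obtain ⟨φ, h⟩ := ptHom_surjective (val F)
  exact ⟨φ, isHom_of_val h, fam_ext ((val_toFam φ _).trans h)⟩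

theorem toFam_injective {φ φ' : R →ₐ[A] MonoidAlgebra C N} {hφ : Weights.IsHom φ} {hφ' : Weights.IsHom φ'}
    (h : toFam φ hφ = toFam φ' hφ') : φ = φ' :=
  ptHom_injective ((val_toFam φ hφ).symm.trans ((congrArg val h).trans (val_toFam φ' hφ')))

theorem toFam_res {C' : Type u} [CommRing C'] [Algebra A C'] (θ : C →ₐ[A] C')
    (φ : R →ₐ[A] MonoidAlgebra C N) (hφ : Weights.IsHom φ) :
    (toFam φ hφ).res (t' := stm A C') (pm θ).left (Over.w (pm θ)) =
      toFam (R := R) (M := M) (C := C') (Weights.push θ φ) (Weights.isHom_push θ hφ) := by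
  let Θ : MonoidAlgebra C N →ₐ[A] MonoidAlgebra C' N := MonoidAlgebra.mapAlgHom N θ
  have hΘ : Θ.comp φ = Weights.push θ φ := AlgHom.ext fun r => MonoidAlgebra.ext (Finsupp.ext fun m => by
    simp [Θ, MonoidAlgebra.mapAlgHom, ← Weights.coef_apply, Weights.coef_push])
  refine fam_ext ?_
  rw [val_toFam, ← hΘ, ← pm_ptHom]
  show fac M _ _ _ ≫ ptHom φ = _
  congr 1
  refine (fac_unique M _ ?_ ?_).symm
  · rw [pm_comp, show Θ.comp (incA C N) = (incA C' N).comp θ from AlgHom.ext fun c => by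
      simp [Θ, incA, MonoidAlgebra.mapAlgHom], ← pm_comp]
    rfl
  · refine Gm.dsFn_ext fun m => ?_
    rw [dsFn_comp_up, appTop_pm, ← Category.id_comp (up M C'), dsFn_comp_up]
    simp [Θ, MonoidAlgebra.mapAlgHom]

end Conv

end Groth.Agent.H87.HomPts
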