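import Groth.Agent.H87.HomGood
import Groth.Agent.H54.IndQAff
import Mathlib.AlgebraicGeometry.Gluing

/-!
# The scheme of homomorphisms from `D(M)` to an affine group

The pieces with weights in a finite set of characters glue, along open immersions, to the scheme
representing all homomorphisms.
-/

set_option autoImplicit false
universe u

open CategoryTheory CategoryTheory.Limits MonoidalCategory CartesianMonoidalCategory MonObj GrpObj
open AlgebraicGeometry
open Groth.Agent.H87.HomFam Groth.Agent.H87.HomPts Groth.Agent.H87.HomGood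

namespace Groth.Agent.H87.HomScheme

set_option linter.style.haveILetI false

variable {A : Type u} [CommRing A] {R : Type u} [CommRing R] [HopfAlgebra A R]
variable {M : Type} [AddCommGroup M] {F F' F'' : Finset (Multiplicative M)} (cap : Weights.Cap A R)

local notation "N" => Multiplicative M

theorem exists_incl (h : F ⊆ F') : ∃ b : V cap F ⟶ V cap F', ∃ w : b ≫ vHom cap F' = vHom cap F,
    (UV cap F').res b w = UV cap F :=
  (lift_good cap F' (UV cap F) ((goodAt_UV cap F).mono (Finset.coe_subset.2 h))).exists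

/-- The inclusion of pieces. -/
noncomputable def incl (h : F ⊆ F') : V cap F ⟶ V cap F' := (exists_incl cap h).choose

theorem incl_hom (h : F ⊆ F') : incl cap h ≫ vHom cap F' = vHom cap F :=
  (exists_incl cap h).choose_spec.choose

theorem res_incl (h : F ⊆ F') : (UV cap F').res (incl cap h) (incl_hom cap h) = UV cap F :=
  (exists_incl cap h).choose_spec.choose_spec

/-- Points of a piece with the same family are equal. -/
theorem piece_ext {T : Scheme.{u}} {a b : T ⟶ V cap F} (w : a ≫ vHom cap F = b ≫ vHom cap F)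
    (h : (UV cap F).res a w = (UV cap F).res b rfl) : a = b :=
  (lift_good cap F ((UV cap F).res b rfl) ((goodAt_UV cap F).res b rfl)).unique ⟨w, h⟩ ⟨rfl, rfl⟩

theorem eq_incl (h : F ⊆ F') (b : V cap F ⟶ V cap F') (w : b ≫ vHom cap F' = vHom cap F)
    (hb : (UV cap F').res b w = UV cap F) : b = incl cap h :=
  (lift_good cap F' (UV cap F) ((goodAt_UV cap F).mono (Finset.coe_subset.2 h))).unique ⟨w, hb⟩
    ⟨incl_hom cap h, res_incl cap h⟩

theorem incl_refl : incl cap (Finset.Subset.refl F) = 𝟙 _ :=
  (eq_incl cap (Finset.Subset.refl F) (𝟙 _) (Category.id_comp _) (Fam.res_id (UV cap F))).symm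

theorem incl_comp (h : F ⊆ F') (h' : F' ⊆ F'') :
    incl cap h ≫ incl cap h' = incl cap (h.trans h') :=
  eq_incl cap _ _ (by rw [Category.assoc, incl_hom, incl_hom]) (by
    rw [← Fam.res_res (UV cap F'') (incl cap h') (incl_hom cap h') (incl cap h) (incl_hom cap h),
      res_incl, res_incl])

/-- The open of the piece of `F'` where the weights lie in `F`. -/
noncomputable abbrev W (F F' : Finset N) : (V cap F').Opens :=
  (goodOpen cap F' (F' : Set N)).ι ⁻¹ᵁ goodOpen cap F' (F : Set N)

theorem exists_isIso_incl (h : F ⊆ F') :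
    ∃ e : V cap F ⟶ (W cap F F' : Scheme.{u}), IsIso e ∧ e ≫ (W cap F F').ι = incl cap h := by
  have h1 : GoodAt cap (((UV cap F').res (incl cap h) (incl_hom cap h))) (F : Set N) := by
    rw [res_incl]; exact goodAt_UV cap F
  rw [UV, Fam.res_res] at h1
  have hr : Set.range (incl cap h) ⊆ Set.range (W cap F F').ι := by
    rw [Scheme.Opens.range_ι]
    rintro _ ⟨x, rfl⟩
    have := (goodAt_res_iff cap F' (F : Set N) _ _).1 h1 ⟨x, rfl⟩
    rwa [Scheme.Hom.comp_apply] at this
  let e := IsOpenImmersion.lift (W cap F F').ι (incl cap h) hr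
  have he : e ≫ (W cap F F').ι = incl cap h := IsOpenImmersion.lift_fac _ _ _
  have hgood : GoodAt cap ((UV cap F').res (W cap F F').ι rfl) (F : Set N) := by
    rw [UV, Fam.res_res]
    refine (goodAt_res_iff cap F' (F : Set N) _ _).2 ?_
    rintro _ ⟨x, rfl⟩
    rw [Scheme.Hom.comp_apply]
    exact x.2
  obtain ⟨g, ⟨gw, hg⟩, -⟩ := lift_good cap F ((UV cap F').res (W cap F F').ι rfl) hgood
  have h3 : g ≫ incl cap h = (W cap F F').ι := piece_ext cap (by rw [Category.assoc, incl_hom, gw]) (by
    rw [← Fam.res_res (UV cap F') (incl cap h) (incl_hom cap h) g gw, res_incl]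
    exact hg)
  refine ⟨e, ⟨g, ?_, ?_⟩, he⟩
  · refine piece_ext cap (by rw [Category.assoc, gw, Category.id_comp, reassoc_of% he, incl_hom]) ?_
    have := congrArg (fun G => Fam.res (t' := 𝟙 _ ≫ vHom cap F) G e
      (by rw [Category.id_comp, reassoc_of% he, incl_hom])) hg
    simp only [Fam.res_res] at this
    rw [this, Fam.res_congr _ he]
    refine Eq.trans ?_ (congrArg (fun G => Fam.res (t' := 𝟙 _ ≫ vHom cap F) G (𝟙 _) rfl) (res_incl cap h))
    rw [Fam.res_res]
    exact Fam.res_congr _ (Category.id_comp _).symm _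
  · rw [← cancel_mono (W cap F F').ι, Category.assoc, he, h3, Category.id_comp]

instance isOpenImmersion_incl (h : F ⊆ F') : IsOpenImmersion (incl cap h) := by
  obtain ⟨e, he, hι⟩ := exists_isIso_incl cap h
  rw [← hι]
  infer_instance

theorem range_incl (h : F ⊆ F') : Set.range (incl cap h) =
    (goodOpen cap F' (F' : Set N)).ι ⁻¹' goodSet cap F' (F : Set N) := by
  obtain ⟨e, he, hι⟩ := exists_isIso_incl cap h
  rw [← hι, Scheme.Hom.comp_base, TopCat.coe_comp, Set.range_comp,
    e.surjective.range_eq, Set.image_univ, Scheme.Opens.range_ι]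
  rfl

/-- The index category. -/
abbrev Idx (M : Type) : Type u := ULift.{u} (Finset (Multiplicative M))

variable (M)

/-- The diagram of pieces. -/
noncomputable def diag : Idx.{u} M ⥤ Scheme.{u} where
  obj i := V cap i.down
  map {i j} f := incl cap (F := i.down) (F' := j.down) (show i ≤ j from leOfHom f)
  map_id i := incl_refl cap
  map_comp f g := (incl_comp cap _ _).symm

instance {i j : Idx.{u} M} (f : i ⟶ j) : IsOpenImmersion ((diag M cap).map f) :=
  inferInstanceAs (IsOpenImmersion (incl cap (F := i.down) (F' := j.down) (show i ≤ j from leOfHom f)))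

instance : (diag M cap ⋙ Scheme.forget).IsLocallyDirected := by
  classical
  refine ⟨fun {i j k} fi fj xi xj h => ?_⟩
  have hi : i.down ⊆ k.down := show i ≤ k from leOfHom fi
  have hj : j.down ⊆ k.down := show j ≤ k from leOfHom fj
  have hij : i.down ∩ j.down ⊆ k.down := Finset.inter_subset_left.trans hi
  have h' : incl cap hi xi = incl cap hj xj := h
  have hq : incl cap hi xi ∈ Set.range (incl cap hij) := by
    have h1 : incl cap hi xi ∈ Set.range (incl cap hi) := ⟨xi, rfl⟩
    have h2 : incl cap hi xi ∈ Set.range (incl cap hj) := ⟨xj, h'.symm⟩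
    rw [range_incl] at h1 h2 ⊢
    intro m hm
    rw [Finset.coe_inter, Set.mem_inter_iff, not_and_or] at hm
    exact hm.elim (h1 m) (h2 m)
  obtain ⟨x, hx⟩ := hq
  refine ⟨⟨i.down ∩ j.down⟩, homOfLE Finset.inter_subset_left, homOfLE Finset.inter_subset_right, x,
    ?_, ?_⟩
  · apply (incl cap hi).isOpenEmbedding.injective
    show incl cap hi (incl cap Finset.inter_subset_left x) = _
    rw [← Scheme.Hom.comp_apply, incl_comp]
    exact hx
  · apply (incl cap hj).isOpenEmbedding.injective
    show incl cap hj (incl cap Finset.inter_subset_right x) = _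
    rw [← Scheme.Hom.comp_apply, incl_comp, ← h']
    exact hx

/-- **The scheme of homomorphisms.** -/
noncomputable def H : Scheme.{u} := colimit (diag M cap)

variable {M} in
/-- The piece in the scheme of homomorphisms. -/
noncomputable def inj (F : Finset N) : V cap F ⟶ H M cap := colimit.ι (diag M cap) ⟨F⟩

variable {M} in
instance (F : Finset N) : IsOpenImmersion (inj cap F) :=
  inferInstanceAs (IsOpenImmersion (colimit.ι (diag M cap) _))

variable {M} in
theorem incl_inj (h : F ⊆ F') : incl cap h ≫ inj cap F' = inj cap F :=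
  colimit.w (diag M cap) (homOfLE (show (ULift.up F : Idx.{u} M) ≤ ULift.up F' from h))

theorem exists_mem (x : H M cap) : ∃ F, x ∈ Set.range (inj cap F) := by
  obtain ⟨i, y, hy⟩ := Scheme.IsLocallyDirected.ι_jointly_surjective (diag M cap) x
  exact ⟨i.down, y, hy⟩

/-- The structure map. -/
noncomputable def hom : H M cap ⟶ Spec (.of A) :=
  colimit.desc (diag M cap) ⟨Spec (.of A),
    { app := fun i => vHom cap i.down
      naturality := fun i j f => by
        show incl cap (show i ≤ j from leOfHom f) ≫ vHom cap j.down = vHom cap i.down ≫ 𝟙 _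
        rw [incl_hom, Category.comp_id] }⟩

variable {M} in
theorem inj_hom (F : Finset N) : inj cap F ≫ hom M cap = vHom cap F := colimit.ι_desc _ _

/-- The cover by the pieces. -/
noncomputable def cover : Scheme.OpenCover.{u} (H M cap) :=
  Scheme.IsLocallyDirected.openCover (diag M cap)

theorem exists_U : ∃ U : Fam (Red.DS (Spec (.of A)) M) (pt A R) (hom M cap),
    ∀ F : Finset N, U.res (inj cap F) (inj_hom cap F) = UV cap F := by
  classical
  have hcov : Presieve.ofArrows (fun i : Idx.{u} M => V cap i.down) (fun i => inj cap i.down) ∈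
      Scheme.fpqcPrecoverage (H M cap) :=
    Scheme.zariskiPrecoverage_le_fpqcPrecoverage _ (cover M cap).mem₀
  obtain ⟨U, hU, -⟩ := exists_glue (G := Red.DS (Spec (.of A)) M) (H := pt A R) (t := hom M cap) hcov
    (fun i => (UV cap i.down).res (𝟙 _) ((Category.id_comp _).trans (inj_hom cap i.down).symm))
    (fun W i j w v e => by
      have hi : i.down ⊆ i.down ∪ j.down := Finset.subset_union_left
      have hj : j.down ⊆ i.down ∪ j.down := Finset.subset_union_right
      have e' : w ≫ incl cap hi = v ≫ incl cap hj := by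
        rw [← cancel_mono (inj cap (i.down ∪ j.down)), Category.assoc, Category.assoc, incl_inj, incl_inj]
        exact e
      simp only [Fam.res_res, Category.comp_id]
      rw [← res_incl cap hi, ← res_incl cap hj]
      simp only [Fam.res_res]
      exact Fam.res_congr _ e' _)
  refine ⟨U, fun F => ?_⟩
  have := congrArg (fun G => Fam.res (t' := vHom cap F) G (𝟙 _) ((Category.id_comp _).trans (inj_hom cap F)))
    (hU ⟨F⟩)
  simp only [Fam.res_res, Category.id_comp] at this
  exact this.trans (Fam.res_id (UV cap F))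

/-- The universal family. -/
noncomputable def U : Fam (Red.DS (Spec (.of A)) M) (pt A R) (hom M cap) := (exists_U M cap).choose

variable {M} in
theorem res_U (F : Finset N) : (U M cap).res (inj cap F) (inj_hom cap F) = UV cap F :=
  (exists_U M cap).choose_spec F

theorem hom_ext_U {T : Scheme.{u}} {a b : T ⟶ H M cap} (w : a ≫ hom M cap = b ≫ hom M cap)
    (h : (U M cap).res a w = (U M cap).res b rfl) : a = b := by
  classical
  refine Scheme.hom_ext_of_forall _ _ fun x => ?_
  obtain ⟨F, hF⟩ := exists_mem M cap (a x)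
  obtain ⟨F', hF'⟩ := exists_mem M cap (b x)
  let L := F ∪ F'
  have hsub : ∀ {F₀ : Finset N}, F₀ ⊆ L → Set.range (inj cap F₀) ⊆ Set.range (inj cap L) := fun {F₀} h₀ => by
    rw [← incl_inj cap h₀, Scheme.Hom.comp_base, TopCat.coe_comp]
    exact Set.range_comp_subset_range _ _
  let O : T.Opens := a ⁻¹ᵁ (inj cap L).opensRange ⊓ b ⁻¹ᵁ (inj cap L).opensRange
  refine ⟨O, ⟨hsub Finset.subset_union_left hF, hsub Finset.subset_union_right hF'⟩, ?_⟩
  have ra : Set.range (O.ι ≫ a) ⊆ Set.range (inj cap L) := by
    rintro _ ⟨y, rfl⟩; rw [Scheme.Hom.comp_apply]; exact y.2.1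
  have rb : Set.range (O.ι ≫ b) ⊆ Set.range (inj cap L) := by
    rintro _ ⟨y, rfl⟩; rw [Scheme.Hom.comp_apply]; exact y.2.2
  rw [← IsOpenImmersion.lift_fac _ _ ra, ← IsOpenImmersion.lift_fac _ _ rb]
  congr 1
  refine piece_ext cap ?_ ?_
  · rw [← inj_hom cap L, IsOpenImmersion.lift_fac_assoc, IsOpenImmersion.lift_fac_assoc, Category.assoc,
      Category.assoc, w]
  · have := congrArg (fun G => Fam.res (t' := IsOpenImmersion.lift (inj cap L) (O.ι ≫ b) rb ≫ vHom cap L) G O.ι
      (by rw [← inj_hom cap L, IsOpenImmersion.lift_fac_assoc, Category.assoc])) h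
    rw [← res_U cap L]
    simp only [Fam.res_res] at this ⊢
    exact ((Fam.res_congr _ (IsOpenImmersion.lift_fac _ _ ra) _).trans this).trans
      (Fam.res_congr _ (IsOpenImmersion.lift_fac _ _ rb) _).symm

/-- **The scheme represents the homomorphisms.** -/
theorem reps : Reps (Over.mk (hom M cap)) (U M cap) := by
  intro T t Φ
  choose C hC hAlg e he using res_affine (A := A) t
  have hex : ∀ i, ∃ c : T.affineCover.X i ⟶ H M cap, ∃ w : c ≫ hom M cap = T.affineCover.f i ≫ t,
      (U M cap).res c w = Φ.res (T.affineCover.f i) rfl := fun i => by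
    obtain ⟨φ, hφ, hΦ⟩ := exists_alg_res Φ ((e i).hom ≫ T.affineCover.f i) (by rw [Category.assoc, he])
    obtain ⟨F, hF⟩ := Weights.exists_good cap φ
    obtain ⟨b, ⟨bw, hb⟩, -⟩ := lift_good cap F _ (goodAt_toFam (hφ := hφ) hF)
    refine ⟨(e i).inv ≫ b ≫ inj cap F, by simp [inj_hom, bw, ← he i], ?_⟩
    have := congrArg (fun G => Fam.res (t' := T.affineCover.f i ≫ t) G (e i).inv
      (by rw [← he i, Iso.inv_hom_id_assoc])) ((hb.trans hΦ.symm))
    rw [← res_U cap F] at this
    simpa only [Fam.res_res, Iso.inv_hom_id_assoc, Category.assoc] using this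
  choose c cw hc using hex
  have hcomp : ∀ i j, pullback.fst (T.affineCover.f i) (T.affineCover.f j) ≫ c i =
      pullback.snd (T.affineCover.f i) (T.affineCover.f j) ≫ c j := fun i j => by
    refine hom_ext_U M cap (by rw [Category.assoc, Category.assoc, cw, cw, pullback.condition_assoc]) ?_
    rw [← Fam.res_res (U M cap) (c i) (cw i), ← Fam.res_res (U M cap) (c j) (cw j), hc, hc, Fam.res_res,
      Fam.res_res]
    · exact Fam.res_congr _ pullback.condition _
    all_goals simp only [Category.assoc, cw, pullback.condition_assoc]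
  let a : T ⟶ H M cap := T.affineCover.glueMorphisms c hcomp
  have ha : ∀ i, T.affineCover.f i ≫ a = c i := fun i => T.affineCover.ι_glueMorphisms c hcomp i
  have aw : a ≫ hom M cap = t := T.affineCover.hom_ext _ _ fun i => by rw [reassoc_of% (ha i), cw]
  have aF : (U M cap).res a aw = Φ := fam_ext_cover T.affineCover fun i => by
    rw [Fam.res_res, ← hc i]
    exact Fam.res_congr _ (ha i) _
  refine ⟨a, ⟨aw, aF⟩, fun b ⟨bw, hb⟩ => ?_⟩
  refine hom_ext_U M cap (bw.trans aw.symm) ?_
  have := congrArg (fun G => Fam.res (t' := a ≫ hom M cap) G (𝟙 T) (by rw [Category.id_comp, aw]))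
    (hb.trans aF.symm)
  simpa only [Fam.res_res, Category.id_comp] using this

theorem locallyOfFinitePresentation [Algebra.FinitePresentation A R] :
    LocallyOfFinitePresentation (hom M cap) := by
  rw [IsZariskiLocalAtSource.iff_of_openCover (P := @LocallyOfFinitePresentation) (cover M cap)]
  intro i
  show LocallyOfFinitePresentation (inj cap i.down ≫ hom M cap)
  rw [inj_hom]
  have : Algebra.FinitePresentation A (piece cap i.down).Q := (piece cap i.down).fp inferInstance
  have : LocallyOfFinitePresentation (stm A (piece cap i.down).Q) :=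
    (HasRingHomProperty.Spec_iff (P := @LocallyOfFinitePresentation)).2
      (RingHom.finitePresentation_algebraMap.2 this)
  infer_instance

theorem indQA : MoreMor.IsIndQuasiAffineHom (hom M cap) := by
  classical
  refine Groth.Agent.H54.IndQAff.isIndQuasiAffineHom_of_le fun O _ U _ hU => ?_
  obtain ⟨s, hs⟩ := hU.elim_finite_subcover (fun F : Finset N => (Set.range (inj cap F)))
    (fun F => (inj cap F).isOpenEmbedding.isOpen_range) fun x _ => Set.mem_iUnion.2 (exists_mem M cap x)
  let L := s.sup id
  have hL : ∀ F ∈ s, F ⊆ L := fun F hF => Finset.le_sup (f := id) hF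
  have hr : Set.range U.ι ⊆ Set.range (inj cap L) := by
    rw [Scheme.Opens.range_ι]
    intro x hx
    obtain ⟨F, hF, y, rfl⟩ := Set.mem_iUnion₂.1 (hs hx)
    exact ⟨incl cap (hL F hF) y, by rw [← Scheme.Hom.comp_apply, incl_inj]⟩
  have : CompactSpace (U : Scheme.{u}) := isCompact_iff_compactSpace.mp hU
  have : IsOpenImmersion (IsOpenImmersion.lift (inj cap L) U.ι hr) := by
    have : IsOpenImmersion (IsOpenImmersion.lift (inj cap L) U.ι hr ≫ inj cap L) := by
      rw [IsOpenImmersion.lift_fac]; infer_instance
    exact IsOpenImmersion.of_comp _ (inj cap L)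
  exact Scheme.IsQuasiAffine.of_isImmersion
    (IsOpenImmersion.lift (inj cap L) U.ι hr ≫ (goodOpen cap L (L : Set N)).ι)

end Groth.Agent.H87.HomScheme
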