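import Groth.Agent.H87.HomScheme
import Groth.Agent.Lib.FreeRes.Transporter
import Groth.Agent.Lib.FreeRes.OfFree
import Mathlib.LinearAlgebra.Dimension.StrongRankCondition

/-!
# The scheme of homomorphisms is separated
-/

set_option autoImplicit false
universe u

open CategoryTheory CategoryTheory.Limits MonoidalCategory CartesianMonoidalCategory MonObj GrpObj
open AlgebraicGeometry
open Groth.Agent.H87.HomFam Groth.Agent.H87.HomPts

namespace Groth.Agent.H87.HomSep

set_option linter.style.haveILetI false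

/-- A representing scheme of homomorphisms into a separated group is separated. -/
theorem isSeparated_of_reps {S : Scheme.{u}} {G H : Over S} [GrpObj G] [GrpObj H] [IsSeparated H.hom]
    (hG : SGA3x.IsEssentiallyFree G.hom) (A : Over S) (U : Fam G H A.hom) (hA : Reps A U) :
    IsSeparated A.hom := by
  let P : Over S := A ⊗ A
  let u : P ⊗ G ⟶ H := U.app _ ((fst P G ≫ fst A A).left) (Over.w _) (snd P G)
  let v : P ⊗ G ⟶ H := U.app _ ((fst P G ≫ snd A A).left) (Over.w _) (snd P G)
  obtain ⟨C, c, hc, hC⟩ := Groth.Agent.Lib.FreeRes.exists_closed_eq hG u v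
  have key : ∀ {T : Over S} (g : T ⟶ P) (p : P ⟶ A),
      (g ▷ G) ≫ U.app _ ((fst P G ≫ p).left) (Over.w _) (snd P G) =
        U.app _ ((fst T G ≫ g ≫ p).left) (Over.w _) (snd T G) := fun {T} g p => by
    have e : (g ▷ G) ≫ snd P G = snd T G := whiskerRight_snd _ _
    rw [← U.natural (g ▷ G) _ (Over.w _) ((fst T G ≫ g ≫ p).left) (Over.w _) (snd P G) (by
      rw [← Over.comp_left, whiskerRight_fst_assoc]), e]
  have hiff : ∀ {T : Over S} (g : T ⟶ P), (∃ z, z ≫ c = g) ↔ g ≫ fst A A = g ≫ snd A A := fun {T} g => by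
    rw [hC]
    simp only [u, v, key]
    constructor
    · intro h
      have hF : U.res (g ≫ fst A A).left (Over.w _) = U.res (g ≫ snd A A).left (Over.w _) := by
        refine Fam.ext (funext fun Y => funext fun y => funext fun hy => funext fun g₀ => ?_)
        let r : Y ⟶ T ⊗ G := lift (Over.homMk y hy) g₀
        have hr : ∀ q : T ⟶ A, (U.res q.left (Over.w q)).app Y y hy g₀ =
            r ≫ U.app _ ((fst T G ≫ q).left) (Over.w _) (snd T G) := fun q => by
          rw [← U.natural r _ (Over.w _) (y ≫ q.left) ((Category.assoc _ _ _).trans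
            ((congrArg (y ≫ ·) (Over.w q)).trans hy)) (snd T G) (by
              rw [← Over.comp_left, ← Category.assoc, lift_fst]; rfl), lift_snd]
          rfl
        rw [hr, hr, h]
      obtain ⟨a, -, hu⟩ := hA T.left T.hom (U.res (g ≫ snd A A).left (Over.w _))
      exact Over.OverMorphism.ext ((hu _ ⟨Over.w _, hF⟩).trans (hu _ ⟨Over.w _, rfl⟩).symm)
    · intro h
      exact congrArg (fun q : T ⟶ A => U.app _ ((fst T G ≫ q).left) (Over.w _) (snd T G)) h
  let Δ : A ⟶ P := lift (𝟙 A) (𝟙 A)
  obtain ⟨z, hz⟩ := (hiff Δ).2 (by simp [Δ])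
  have hf : c ≫ fst A A = c ≫ snd A A := (hiff c).1 ⟨𝟙 _, Category.id_comp _⟩
  have hcΔ : (c ≫ fst A A) ≫ Δ = c := by
    refine CartesianMonoidalCategory.hom_ext _ _ ?_ ?_
    · simp [Δ]
    · simp [Δ, hf]
  have h1 : z ≫ (c ≫ fst A A) = 𝟙 A := by rw [reassoc_of% hz]; simp [Δ]
  have h2 : (c ≫ fst A A) ≫ z = 𝟙 C := by
    refine Over.OverMorphism.ext ?_
    rw [← cancel_mono c.left, ← Over.comp_left, ← Over.comp_left, Category.assoc, hz, hcΔ, Category.id_comp]
  have : IsIso z.left := inferInstanceAs (IsIso ((Over.forget S).mapIso ⟨z, c ≫ fst A A, h1, h2⟩).hom)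
  have hΔ : Δ.left = pullback.diagonal A.hom := pullback.hom_ext
    ((congrArg CommaMorphism.left (lift_fst (𝟙 A) (𝟙 A))).trans (pullback.diagonal_fst A.hom).symm)
    ((congrArg CommaMorphism.left (lift_snd (𝟙 A) (𝟙 A))).trans (pullback.diagonal_snd A.hom).symm)
  refine ⟨?_⟩
  rw [← hΔ, ← hz, Over.comp_left]
  infer_instance

/-- The spectrum of an algebra which is projective as a module is essentially free. -/
theorem isEssentiallyFree_stm (A B : Type u) [CommRing A] [CommRing B] [Algebra A B] [Module.Projective A B] :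
    SGA3x.IsEssentiallyFree (stm A B) := by
  haveI : IsAffine ((⊤ : (Spec (CommRingCat.of A)).Opens) : Scheme.{u}) := isAffineOpen_top _
  refine Groth.Agent.Lib.FreeRes.isEssentiallyFree_of_local fun s => ?_
  refine ⟨⊤, trivial, isAffineOpen_top _, _, pullback.fst (stm A B) (⊤ : (Spec (.of A)).Opens).ι, _,
    IsPullback.of_hasPullback _ _, ?_⟩
  have sq : IsPullback (pullback.snd (stm A B) (⊤ : (Spec (.of A)).Opens).ι)
      (pullback.fst (stm A B) (⊤ : (Spec (.of A)).Opens).ι) (⊤ : (Spec (.of A)).Opens).ι (stm A B) :=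
    (IsPullback.of_hasPullback _ _).flip
  have hproj : Groth.Agent.Lib.FreeRes.ProjCovered (stm A B) := by
    refine Groth.Agent.Lib.FreeRes.projCovered_of_isAffine _ ?_
    refine Groth.Agent.Lib.FreeRes.projective_of_isPushout (a := (Scheme.ΓSpecIso (.of A)).inv)
      (c := CommRingCat.ofHom (algebraMap A B)) (b := (Scheme.ΓSpecIso (.of B)).inv) ?_ ?_
    · exact IsPushout.of_horiz_isIso ⟨(Scheme.ΓSpecIso_inv_naturality _).symm⟩
    · show @Module.Projective A _ B _ (algebraMap A B).toAlgebra.toModule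
      rwa [show (algebraMap A B).toAlgebra = ‹Algebra A B› from Algebra.algebra_ext _ _ fun _ => rfl]
  exact Groth.Agent.Lib.FreeRes.projCovered_baseChange hproj (IsPullback.of_hasPullback _ _)

/-- `D(M)` over an affine base is essentially free. -/
theorem isEssentiallyFree_DS (A : Type u) [CommRing A] (M : Type) [AddCommGroup M] :
    SGA3x.IsEssentiallyFree (Red.DS (Spec (.of A)) M).hom := by
  let D := Red.DS (Spec (.of A)) M
  have hA : stm A A = 𝟙 _ := by
    show Spec.map (CommRingCat.ofHom (RingHom.id A)) = _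
    exact Spec.map_id _
  let f : D ⟶ pt A (MonoidAlgebra A (Multiplicative M)) :=
    fac M D.hom (by rw [hA, Category.comp_id]) (𝟙 D)
  have h1 : f ≫ up M A = 𝟙 D := fac_up M _ _ _
  have h2 : up M A ≫ f = 𝟙 (pt A (MonoidAlgebra A (Multiplicative M))) := by
    have hy : (pm (incA A (Multiplicative M))).left ≫ stm A A =
        (pt A (MonoidAlgebra A (Multiplicative M))).hom := Over.w (pm (incA A (Multiplicative M)))
    refine (fac_unique M (hy := hy) (g := up M A) _ ?_ (by rw [Category.assoc, h1, Category.comp_id])).trans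
      (fac_unique M (hy := hy) _ (by rw [Category.id_comp]) (Category.id_comp _)).symm
    rw [Category.assoc, Over.comp_left, fac_fst]
    exact (Over.w (up M A)).trans (hy.symm.trans
      ((congrArg ((pm (incA A (Multiplicative M))).left ≫ ·) hA).trans (Category.comp_id _)))
  have : IsIso f.left := inferInstanceAs (IsIso ((Over.forget _).mapIso ⟨f, up M A, h1, h2⟩).hom)
  exact Groth.Agent.Lib.FreeRes.isEssentiallyFree_baseChange (isEssentiallyFree_stm A _)
    (IsPullback.of_horiz_isIso (fst := f.left) (snd := D.hom) ⟨by rw [Category.comp_id]; exact Over.w f⟩)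

end Groth.Agent.H87.HomSep
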