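import Mathlib.RingTheory.Bialgebra.Basic
import Mathlib.Algebra.MonoidAlgebra.Basic
import Mathlib.RingTheory.TensorProduct.Maps
import Mathlib.RingTheory.LocalRing.Module
import Mathlib.RingTheory.Spectrum.Prime.Module
import Mathlib.RingTheory.Flat.FaithfullyFlat.Basic
import Mathlib.LinearAlgebra.TensorProduct.Tower
import Mathlib.RingTheory.Finiteness.Basic

/-!
# Weights of a homomorphism from a diagonalisable group on a finite comodule

For a bialgebra `R` over `A`, a finitely generated comodule `W` generating `R`, and a multiplicative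
`φ : R → C[N]` (a `C`-point of `Hom(D(N), Spec R)`), the weight projectors on `C ⊗ W` and their
vanishing loci.
-/

set_option autoImplicit false
universe u

open TensorProduct MonoidAlgebra

namespace Groth.Agent.H87.Weights

set_option linter.style.haveILetI false

variable (A : Type u) [CommRing A] (R : Type u) [CommRing R] [Bialgebra A R]

/-- A finitely generated comodule mapping to `R` with generators in the image. -/
structure Cap where
  /-- the comodule -/
  W : Type u
  [addW : AddCommGroup W]
  [modW : Module A W]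
  [finW : Module.Finite A W]
  /-- the coaction -/
  ρ : W →ₗ[A] W ⊗[A] R
  coassoc : (TensorProduct.assoc A W R R).toLinearMap ∘ₗ ρ.rTensor R ∘ₗ ρ =
    (CoalgebraStruct.comul (R := A) (A := R)).lTensor W ∘ₗ ρ
  /-- the map to `R` -/
  ι : W →ₗ[A] R
  ι_comul : (CoalgebraStruct.comul (R := A) (A := R)) ∘ₗ ι = ι.rTensor R ∘ₗ ρ
  /-- the number of generators -/
  n : ℕ
  /-- the generators -/
  w : Fin n → W
  gen : Algebra.adjoin A (Set.range fun j => ι (w j)) = ⊤

attribute [instance] Cap.addW Cap.modW Cap.finW

variable {A R} {N : Type} [CommGroup N] {C : Type u} [CommRing C] [Algebra A C]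

/-- The coefficient functionals. -/
noncomputable def coef (φ : R →ₐ[A] MonoidAlgebra C N) (m : N) : R →ₗ[A] C where
  toFun r := (φ r).coeff m
  map_add' x y := by simp
  map_smul' a x := by simp

theorem coef_apply (φ : R →ₐ[A] MonoidAlgebra C N) (m : N) (r : R) : coef φ m r = (φ r).coeff m := rfl

open Classical in
/-- `φ` is a homomorphism of groups `D(N) ⟶ Spec R` over `C`. -/
def IsHom (φ : R →ₐ[A] MonoidAlgebra C N) : Prop :=
  ∀ (r : R) (m m' : N), (if m = m' then coef φ m r else 0) =
    LinearMap.mul' A C (TensorProduct.map (coef φ m) (coef φ m') (CoalgebraStruct.comul (R := A) r))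

variable (cap : Cap A R)

/-- The projector on the generators of `C ⊗ W`. -/
noncomputable def pW (φ : R →ₐ[A] MonoidAlgebra C N) (m : N) : cap.W →ₗ[A] C ⊗[A] cap.W :=
  (TensorProduct.comm A cap.W C).toLinearMap ∘ₗ (coef φ m).lTensor cap.W ∘ₗ cap.ρ

/-- The weight projector. -/
noncomputable def P (φ : R →ₐ[A] MonoidAlgebra C N) (m : N) : C ⊗[A] cap.W →ₗ[C] C ⊗[A] cap.W :=
  (pW cap φ m).liftBaseChange C

theorem P_tmul (φ : R →ₐ[A] MonoidAlgebra C N) (m : N) (c : C) (x : cap.W) :
    P cap φ m (c ⊗ₜ x) = c • pW cap φ m x := by simp [P]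

open Classical in
theorem P_pW {φ : R →ₐ[A] MonoidAlgebra C N} (hφ : IsHom φ) (m m' : N) (x : cap.W) :
    P cap φ m (pW cap φ m' x) = if m = m' then pW cap φ m x else 0 := by
  let L : (cap.W ⊗[A] R) ⊗[A] R →ₗ[A] C ⊗[A] cap.W :=
    (LinearMap.mul' A C).rTensor cap.W ∘ₗ
      (TensorProduct.map (coef φ m) (coef φ m')).rTensor cap.W ∘ₗ
      (TensorProduct.comm A cap.W (R ⊗[A] R)).toLinearMap ∘ₗ (TensorProduct.assoc A cap.W R R).toLinearMap
  have h1 : ∀ y : cap.W ⊗[A] R,
      P cap φ m ((TensorProduct.comm A cap.W C) ((coef φ m').lTensor cap.W y)) = L (cap.ρ.rTensor R y) := by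
    intro y
    induction y with
    | zero => simp
    | add a b ha hb => simp only [map_add, ha, hb]
    | tmul z b =>
      simp only [LinearMap.lTensor_tmul, TensorProduct.comm_tmul, P_tmul, LinearMap.rTensor_tmul, pW,
        LinearMap.comp_apply, LinearEquiv.coe_coe]
      induction cap.ρ z with
      | zero => simp
      | add a b' ha hb => simp only [map_add, smul_add, TensorProduct.add_tmul, ha, hb]
      | tmul u d =>
        simp [L, TensorProduct.smul_tmul', _root_.mul_comm]
  have h2 : ∀ y : cap.W ⊗[A] R,
      L ((TensorProduct.assoc A cap.W R R).symm ((CoalgebraStruct.comul (R := A)).lTensor cap.W y)) =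
        if m = m' then (TensorProduct.comm A cap.W C) ((coef φ m).lTensor cap.W y) else 0 := by
    intro y
    induction y with
    | zero => simp
    | add a b ha hb => simp only [map_add, ha, hb]; split_ifs <;> simp
    | tmul z b =>
      simp only [L, LinearMap.lTensor_tmul, LinearMap.comp_apply, LinearEquiv.coe_coe,
        LinearEquiv.apply_symm_apply, TensorProduct.comm_tmul, LinearMap.rTensor_tmul, ← hφ b m m']
      split_ifs <;> simp
  have h3 : cap.ρ.rTensor R (cap.ρ x) = (TensorProduct.assoc A cap.W R R).symm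
      ((CoalgebraStruct.comul (R := A)).lTensor cap.W (cap.ρ x)) := by
    rw [LinearEquiv.eq_symm_apply]
    exact LinearMap.congr_fun cap.coassoc x
  show P cap φ m ((TensorProduct.comm A cap.W C) ((coef φ m').lTensor cap.W (cap.ρ x))) = _
  rw [h1, h3, h2]
  rfl

theorem P_idem {φ : R →ₐ[A] MonoidAlgebra C N} (hφ : IsHom φ) (m : N) (y : C ⊗[A] cap.W) :
    P cap φ m (P cap φ m y) = P cap φ m y := by
  induction y with
  | zero => simp
  | add a b ha hb => simp only [map_add, ha, hb]
  | tmul c x => rw [P_tmul, map_smul, P_pW cap hφ, if_pos rfl]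

theorem finite_pW_ne_zero (φ : R →ₐ[A] MonoidAlgebra C N) (x : cap.W) :
    {m | pW cap φ m x ≠ 0}.Finite := by
  suffices h : ∀ y : cap.W ⊗[A] R,
      {m | (TensorProduct.comm A cap.W C) ((coef φ m).lTensor cap.W y) ≠ 0}.Finite from h (cap.ρ x)
  intro y
  induction y with
  | zero => simp
  | add a b ha hb =>
    refine (ha.union hb).subset fun m hm => ?_
    by_contra h
    simp only [Set.mem_union, Set.mem_ofPred_eq, not_or, not_not] at h
    exact hm (by rw [map_add, map_add, h.1, h.2, add_zero])
  | tmul z b =>
    refine (φ b).coeff.support.finite_toSet.subset fun m hm => ?_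
    by_contra h
    simp only [Finset.mem_coe, Finsupp.mem_support_iff, not_not] at h
    exact hm (by simp [coef_apply, h])

theorem finite_P_ne_zero (φ : R →ₐ[A] MonoidAlgebra C N) : {m | P cap φ m ≠ 0}.Finite := by
  obtain ⟨s, hs⟩ := (cap.finW).fg_top
  refine (s.finite_toSet.biUnion fun x _ => finite_pW_ne_zero cap φ x).subset fun m hm => ?_
  by_contra h
  simp only [Set.mem_iUnion, Set.mem_ofPred_eq, not_exists, not_not] at h
  refine hm ?_
  have : pW cap φ m = 0 := LinearMap.ext_on hs fun x hx => h x hx
  simp [P, this]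

/-- All weights lie in `F`. -/
def Good (φ : R →ₐ[A] MonoidAlgebra C N) (F : Set N) : Prop := ∀ m, m ∉ F → P cap φ m = 0

theorem Good.mono {φ : R →ₐ[A] MonoidAlgebra C N} {F F' : Set N} (h : Good cap φ F) (hF : F ⊆ F') :
    Good cap φ F' := fun m hm => h m fun h' => hm (hF h')

theorem exists_good (φ : R →ₐ[A] MonoidAlgebra C N) : ∃ F : Finset N, Good cap φ F :=
  ⟨(finite_P_ne_zero cap φ).toFinset, fun m hm => by simpa using hm⟩

/-- The coefficients at the generators vanish outside the weights. -/
theorem coef_gen_eq_zero {φ : R →ₐ[A] MonoidAlgebra C N} {F : Set N} (h : Good cap φ F) {m : N}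
    (hm : m ∉ F) (x : cap.W) : coef φ m (cap.ι x) = 0 := by
  have h0 : pW cap φ m x = 0 := by
    have := LinearMap.congr_fun (h m hm) ((1 : C) ⊗ₜ x)
    rwa [P_tmul, one_smul, LinearMap.zero_apply] at this
  let e : C ⊗[A] cap.W →ₗ[A] C := (TensorProduct.rid A C).toLinearMap ∘ₗ
    ((CoalgebraStruct.counit (R := A) (A := R)) ∘ₗ cap.ι).lTensor C
  have h1 : ∀ y : cap.W ⊗[A] R, e ((TensorProduct.comm A cap.W C) ((coef φ m).lTensor cap.W y)) =
      coef φ m ((TensorProduct.lid A R) ((CoalgebraStruct.counit (R := A)).rTensor R (cap.ι.rTensor R y))) := by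
    intro y
    induction y with
    | zero => simp
    | add a b ha hb => simp only [map_add, ha, hb]
    | tmul z b => simp [e]
  have h2 := h1 (cap.ρ x)
  rw [show (TensorProduct.comm A cap.W C) ((coef φ m).lTensor cap.W (cap.ρ x)) = pW cap φ m x from rfl, h0,
    map_zero, ← LinearMap.comp_apply (cap.ι.rTensor R), ← cap.ι_comul, LinearMap.comp_apply,
    Coalgebra.rTensor_counit_comul, TensorProduct.lid_tmul, one_smul] at h2
  exact h2.symm

section BaseChange

variable {C' : Type u} [CommRing C'] [Algebra A C']

/-- Change of the coefficients. -/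
noncomputable def push (θ : C →ₐ[A] C') (φ : R →ₐ[A] MonoidAlgebra C N) : R →ₐ[A] MonoidAlgebra C' N :=
  AlgHom.mk' ((MonoidAlgebra.mapRingHom N θ.toRingHom).comp φ.toRingHom) fun a r => by
    ext m
    simp

theorem coef_push (θ : C →ₐ[A] C') (φ : R →ₐ[A] MonoidAlgebra C N) (m : N) (r : R) :
    coef (push θ φ) m r = θ (coef φ m r) := by
  simp [coef_apply, push]

theorem isHom_push (θ : C →ₐ[A] C') {φ : R →ₐ[A] MonoidAlgebra C N} (hφ : IsHom φ) :
    IsHom (push θ φ) := by
  intro r m m'
  have h : ∀ y : R ⊗[A] R, LinearMap.mul' A C' (TensorProduct.map (coef (push θ φ) m) (coef (push θ φ) m') y) =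
      θ (LinearMap.mul' A C (TensorProduct.map (coef φ m) (coef φ m') y)) := by
    intro y
    induction y with
    | zero => simp
    | add a b ha hb => simp only [map_add, ha, hb]
    | tmul a b => simp [coef_push]
  rw [h, ← hφ]
  split_ifs <;> simp [coef_push]

variable [Algebra C C'] [IsScalarTower A C C']

theorem P_push (φ : R →ₐ[A] MonoidAlgebra C N) (m : N) (y : C' ⊗[C] (C ⊗[A] cap.W)) :
    TensorProduct.AlgebraTensorModule.cancelBaseChange A C C' C' cap.W ((P cap φ m).baseChange C' y) =
      P cap (push (IsScalarTower.toAlgHom A C C') φ) m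
        (TensorProduct.AlgebraTensorModule.cancelBaseChange A C C' C' cap.W y) := by
  induction y with
  | zero => simp
  | add a b ha hb => simp only [map_add, ha, hb]
  | tmul c' z =>
    induction z with
    | zero => simp
    | add a b ha hb => simp only [TensorProduct.tmul_add, map_add, ha, hb]
    | tmul c x =>
      simp only [LinearMap.baseChange_tmul, P_tmul, TensorProduct.AlgebraTensorModule.cancelBaseChange_tmul,
        pW, LinearMap.comp_apply, LinearEquiv.coe_coe]
      induction cap.ρ x with
      | zero => simp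
      | add a b ha hb => simp only [map_add, smul_add, TensorProduct.tmul_add, ha, hb]
      | tmul u d =>
        simp only [LinearMap.lTensor_tmul, TensorProduct.comm_tmul, TensorProduct.smul_tmul', smul_eq_mul,
          TensorProduct.AlgebraTensorModule.cancelBaseChange_tmul, coef_push]
        congr 1
        simp [Algebra.smul_def, mul_left_comm, _root_.mul_comm]

/-- The primes where the weight `m` does not occur. -/
noncomputable def absent (φ : R →ₐ[A] MonoidAlgebra C N) (m : N) : Set (PrimeSpectrum C) :=
  (Module.support C (LinearMap.range (P cap φ m)))ᶜ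

theorem isOpen_absent (φ : R →ₐ[A] MonoidAlgebra C N) (m : N) : IsOpen (absent cap φ m) :=
  (Module.isClosed_support (R := C) (M := LinearMap.range (P cap φ m))).isOpen_compl

theorem absent_eq_univ {φ : R →ₐ[A] MonoidAlgebra C N} {m : N} (h : P cap φ m = 0) :
    absent cap φ m = Set.univ := by
  have : Subsingleton (LinearMap.range (P cap φ m)) := by
    rw [h, LinearMap.range_zero]
    infer_instance
  rw [absent, Module.support_eq_empty, Set.compl_empty]

/-- **The vanishing locus of a weight.** -/
theorem P_push_eq_zero_iff {φ : R →ₐ[A] MonoidAlgebra C N} (hφ : IsHom φ) (m : N) :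
    P cap (push (IsScalarTower.toAlgHom A C C') φ) m = 0 ↔
      ∀ q : PrimeSpectrum C', PrimeSpectrum.comap (algebraMap C C') q ∈ absent cap φ m := by
  let Q := LinearMap.range (P cap φ m)
  let π : C ⊗[A] cap.W →ₗ[C] Q := (P cap φ m).rangeRestrict
  have hPbc : (P cap φ m).baseChange C' = Q.subtype.baseChange C' ∘ₗ π.baseChange C' := by
    rw [← LinearMap.baseChange_comp]
    rfl
  have hid : π.baseChange C' ∘ₗ Q.subtype.baseChange C' = LinearMap.id := by
    rw [← LinearMap.baseChange_comp, ← LinearMap.baseChange_id]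
    congr 1
    refine LinearMap.ext fun q => Subtype.ext ?_
    obtain ⟨_, y, rfl⟩ := q
    exact P_idem cap hφ m y
  have key : P cap (push (IsScalarTower.toAlgHom A C C') φ) m = 0 ↔ Subsingleton (C' ⊗[C] Q) := by
    constructor
    · intro h
      have hz : ∀ y, (P cap φ m).baseChange C' y = 0 := fun y =>
        (TensorProduct.AlgebraTensorModule.cancelBaseChange A C C' C' cap.W).injective (by
          rw [P_push, h, LinearMap.zero_apply, map_zero])
      refine subsingleton_of_forall_eq 0 fun z => ?_
      have h1 : z = π.baseChange C' (Q.subtype.baseChange C' z) := (LinearMap.congr_fun hid z).symm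
      have h2 : Q.subtype.baseChange C' z = (P cap φ m).baseChange C' (Q.subtype.baseChange C' z) := by
        rw [hPbc, LinearMap.comp_apply, ← h1]
      rw [h1, h2, hz, map_zero]
    · intro h
      refine LinearMap.ext fun y => ?_
      obtain ⟨y, rfl⟩ := (TensorProduct.AlgebraTensorModule.cancelBaseChange A C C' C' cap.W).surjective y
      rw [← P_push, hPbc, LinearMap.comp_apply, Subsingleton.elim (π.baseChange C' y) 0, map_zero, map_zero,
        LinearMap.zero_apply]
  rw [key, ← Module.support_eq_empty_iff (R := C'), Set.eq_empty_iff_forall_notMem]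
  refine forall_congr' fun q => ?_
  let p := PrimeSpectrum.comap (algebraMap C C') q
  letI : Algebra p.asIdeal.ResidueField q.asIdeal.ResidueField :=
    (Ideal.ResidueField.map p.asIdeal q.asIdeal (algebraMap C C') rfl).toAlgebra
  haveI : IsScalarTower C p.asIdeal.ResidueField q.asIdeal.ResidueField :=
    IsScalarTower.of_algebraMap_eq fun c => by
      rw [RingHom.algebraMap_toAlgebra, Ideal.ResidueField.map_algebraMap,
        ← IsScalarTower.algebraMap_apply C C' q.asIdeal.ResidueField]
  let e : q.asIdeal.ResidueField ⊗[C'] (C' ⊗[C] Q) ≃ₗ[q.asIdeal.ResidueField]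
      q.asIdeal.ResidueField ⊗[p.asIdeal.ResidueField] (p.asIdeal.ResidueField ⊗[C] Q) :=
    (TensorProduct.AlgebraTensorModule.cancelBaseChange C C' q.asIdeal.ResidueField q.asIdeal.ResidueField Q).trans
      (TensorProduct.AlgebraTensorModule.cancelBaseChange C p.asIdeal.ResidueField q.asIdeal.ResidueField
        q.asIdeal.ResidueField Q).symm
  show q ∉ _ ↔ p ∈ (Module.support C Q)ᶜ
  rw [Set.mem_compl_iff, Module.mem_support_iff_nontrivial_residueField_tensorProduct,
    Module.mem_support_iff_nontrivial_residueField_tensorProduct, e.nontrivial_congr, not_iff_not]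
  refine ⟨fun h => ?_, fun h => ?_⟩
  · by_contra h'
    rw [not_nontrivial_iff_subsingleton] at h'
    exact not_subsingleton (q.asIdeal.ResidueField ⊗[p.asIdeal.ResidueField] (p.asIdeal.ResidueField ⊗[C] Q))
      inferInstance
  · exact Module.FaithfullyFlat.lTensor_nontrivial _ _ _

end BaseChange

end Groth.Agent.H87.Weights
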