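import Groth.Agent.H87.HopfStage
import Groth.Agent.H87.Weights
import Groth.Agent.H14.FppfDesc.Ring
import Groth.Agent.Lib.Hopf.ComodRing

/-!
# A finitely generated comodule generating a flat finitely presented bialgebra

The bialgebra is descended to a Noetherian subring, where finitely generated subcomodules exist.
-/

set_option autoImplicit false
universe u

open TensorProduct Groth.Agent.H87.HopfStage

namespace Groth.Agent.H87.HopfModel

set_option linter.style.haveILetI false

section Model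

variable {B : Type u} [CommRing B] [IsNoetherianRing B] {C : Type u} [CommRing C] [Bialgebra B C]
  [Module.Flat B C]

/-- A finitely generated comodule containing given elements of a flat bialgebra over a Noetherian ring. -/
theorem exists_comod (s : Set C) (hs : s.Finite) :
    ∃ (W : Submodule B C), W.FG ∧ s ⊆ W ∧ ∃ ρ : W →ₗ[B] W ⊗[B] C,
      W.subtype.rTensor C ∘ₗ ρ = (CoalgebraStruct.comul (R := B) (A := C)) ∘ₗ W.subtype ∧
      (TensorProduct.assoc B W C C).toLinearMap ∘ₗ ρ.rTensor C ∘ₗ ρ =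
        (CoalgebraStruct.comul (R := B) (A := C)).lTensor W ∘ₗ ρ := by
  obtain ⟨W, hW, hle, hfg⟩ := Groth.Agent.Lib.Hopf.ComodRing.exists_fg_subcomod (R := B) (C := C) (V := C)
    (Submodule.span B s) (Submodule.fg_span hs)
  have hinj : Function.Injective (W.subtype.rTensor C) :=
    Module.Flat.rTensor_preserves_injective_linearMap W.subtype W.injective_subtype
  let ρ : W →ₗ[B] W ⊗[B] C :=
    (LinearEquiv.ofInjective (W.subtype.rTensor C) hinj).symm.toLinearMap ∘ₗ
      ((CoalgebraStruct.comul (R := B) (A := C)) ∘ₗ W.subtype).codRestrict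
        (LinearMap.range (W.subtype.rTensor C)) (fun w => hW _ w.2)
  have hρ : W.subtype.rTensor C ∘ₗ ρ = (CoalgebraStruct.comul (R := B) (A := C)) ∘ₗ W.subtype := by
    refine LinearMap.ext fun w => ?_
    simp only [ρ, LinearMap.comp_apply, LinearEquiv.coe_coe]
    exact LinearEquiv.ofInjective_symm_apply ..
  refine ⟨W, hfg, fun x hx => hle (Submodule.subset_span hx), ρ, hρ, ?_⟩
  have e1 : ∀ y : (W ⊗[B] C) ⊗[B] C, W.subtype.rTensor (C ⊗[B] C) (TensorProduct.assoc B W C C y)
      = TensorProduct.assoc B C C C ((W.subtype.rTensor C).rTensor C y) := by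
    intro y
    induction y using TensorProduct.induction_on with
    | zero => simp
    | add x y hx hy => simp only [map_add, hx, hy]
    | tmul x c =>
      induction x using TensorProduct.induction_on with
      | zero => simp
      | tmul _ _ => simp
      | add x y hx hy => simp only [TensorProduct.add_tmul, map_add, hx, hy]
  refine LinearMap.ext fun w => ?_
  apply Module.Flat.rTensor_preserves_injective_linearMap (M := C ⊗[B] C) W.subtype W.injective_subtype
  simp only [LinearMap.comp_apply, LinearEquiv.coe_coe]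
  have hρw : W.subtype.rTensor C (ρ w) = CoalgebraStruct.comul (R := B) (w : C) := LinearMap.congr_fun hρ w
  rw [e1, ← LinearMap.comp_apply ((W.subtype.rTensor C).rTensor C), ← LinearMap.rTensor_comp, hρ,
    LinearMap.rTensor_comp, LinearMap.comp_apply, hρw, Coalgebra.coassoc_apply, ← hρw,
    ← LinearMap.comp_apply, LinearMap.lTensor_comp_rTensor, ← LinearMap.rTensor_comp_lTensor,
    LinearMap.comp_apply]

variable {A : Type u} [CommRing A] [Algebra B A] {R : Type u} [CommRing R] [Bialgebra A R]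
  [Algebra B R] [IsScalarTower B A R]

/-- The semilinear map on tensor squares. -/
noncomputable def sq (η : C →ₗ[B] R) : C ⊗[B] C →ₗ[B] R ⊗[A] R :=
  TensorProduct.lift
    { toFun := fun a =>
        { toFun := fun b => η a ⊗ₜ[A] η b
          map_add' := fun x y => by simp [TensorProduct.tmul_add]
          map_smul' := fun r x => by
            rw [map_smul, RingHom.id_apply, ← algebraMap_smul A r (η x), TensorProduct.tmul_smul,
              algebraMap_smul] }
      map_add' := fun x y => by ext; simp [TensorProduct.add_tmul]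
      map_smul' := fun r x => by ext; simp [TensorProduct.smul_tmul'] }

omit [IsNoetherianRing B] [Module.Flat B C] in
theorem sq_tmul (η : C →ₗ[B] R) (a b : C) : sq (A := A) η (a ⊗ₜ b) = η a ⊗ₜ η b := rfl

/-- A comodule over a Noetherian model gives a comodule generating `R`. -/
theorem exists_cap (η : C →ₗ[B] R)
    (hη : ∀ x : C, CoalgebraStruct.comul (R := A) (η x) = sq (A := A) η (CoalgebraStruct.comul (R := B) x))
    (s : Finset C) (hgen : Algebra.adjoin A (η '' (s : Set C)) = ⊤) : Nonempty (Weights.Cap A R) := by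
  classical
  obtain ⟨W, hfg, hs, ρ₀, hρι, hco⟩ := exists_comod (B := B) (s : Set C) s.finite_toSet
  haveI : Module.Finite B W := Module.Finite.iff_fg.2 hfg
  let Ξ : W ⊗[B] C →ₗ[B] (A ⊗[B] W) ⊗[A] R := TensorProduct.lift
    { toFun := fun w =>
        { toFun := fun c => ((1 : A) ⊗ₜ[B] w) ⊗ₜ[A] η c
          map_add' := fun x y => by simp [TensorProduct.tmul_add]
          map_smul' := fun r x => by
            rw [map_smul, RingHom.id_apply, ← algebraMap_smul A r (η x), TensorProduct.tmul_smul,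
              algebraMap_smul] }
      map_add' := fun x y => by ext; simp [TensorProduct.tmul_add, TensorProduct.add_tmul]
      map_smul' := fun r x => by
        ext c
        simp [TensorProduct.tmul_smul, TensorProduct.smul_tmul'] }
  have hΞ : ∀ (w : W) (c : C), Ξ (w ⊗ₜ c) = ((1 : A) ⊗ₜ[B] w) ⊗ₜ[A] η c := fun _ _ => rfl
  let ρ : A ⊗[B] W →ₗ[A] (A ⊗[B] W) ⊗[A] R := (Ξ ∘ₗ ρ₀).liftBaseChange A
  let ι : A ⊗[B] W →ₗ[A] R := (η ∘ₗ W.subtype).liftBaseChange A
  have hρ1 : ∀ w : W, ρ ((1 : A) ⊗ₜ w) = Ξ (ρ₀ w) := fun w => by simp [ρ]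
  have hι1 : ∀ w : W, ι ((1 : A) ⊗ₜ w) = η w := fun w => by simp [ι]
  refine ⟨{
    W := A ⊗[B] W
    ρ := ρ
    coassoc := ?_
    ι := ι
    ι_comul := ?_
    n := s.card
    w := fun j => (1 : A) ⊗ₜ ⟨(s.equivFin.symm j).1, hs (s.equivFin.symm j).2⟩
    gen := ?_ }⟩
  · refine LinearMap.ext fun x => ?_
    induction x using TensorProduct.induction_on with
    | zero => simp
    | add a b ha hb => simp only [map_add, ha, hb]
    | tmul a w =>
      rw [show a ⊗ₜ[B] w = a • ((1 : A) ⊗ₜ[B] w) by rw [TensorProduct.smul_tmul', smul_eq_mul, mul_one],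
        map_smul, map_smul]
      congr 1
      simp only [LinearMap.comp_apply, LinearEquiv.coe_coe, hρ1]
      let Ξ' : W ⊗[B] (C ⊗[B] C) →ₗ[B] (A ⊗[B] W) ⊗[A] (R ⊗[A] R) := TensorProduct.lift
        { toFun := fun w =>
            { toFun := fun c => ((1 : A) ⊗ₜ[B] w) ⊗ₜ[A] sq (A := A) η c
              map_add' := fun x y => by simp [TensorProduct.tmul_add]
              map_smul' := fun r x => by
                rw [map_smul, RingHom.id_apply, ← algebraMap_smul A r (sq (A := A) η x),
                  TensorProduct.tmul_smul, algebraMap_smul] }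
          map_add' := fun x y => by ext; simp [TensorProduct.tmul_add, TensorProduct.add_tmul]
          map_smul' := fun r x => by
            ext c
            simp [TensorProduct.tmul_smul, TensorProduct.smul_tmul'] }
      have hΞ' : ∀ (w : W) (c : C ⊗[B] C), Ξ' (w ⊗ₜ c) = ((1 : A) ⊗ₜ[B] w) ⊗ₜ[A] sq (A := A) η c :=
        fun _ _ => rfl
      have hL : ∀ y : W ⊗[B] C, TensorProduct.assoc A (A ⊗[B] W) R R (ρ.rTensor R (Ξ y)) =
          Ξ' (TensorProduct.assoc B W C C (ρ₀.rTensor C y)) := by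
        intro y
        induction y using TensorProduct.induction_on with
        | zero => simp
        | add a b ha hb => simp only [map_add, ha, hb]
        | tmul w c =>
          rw [hΞ, LinearMap.rTensor_tmul, LinearMap.rTensor_tmul, hρ1]
          induction ρ₀ w using TensorProduct.induction_on with
          | zero => simp
          | add a b ha hb => simp only [map_add, TensorProduct.add_tmul, ha, hb]
          | tmul v d => simp [hΞ, hΞ', sq_tmul]
      have hR : ∀ y : W ⊗[B] C, (CoalgebraStruct.comul (R := A) (A := R)).lTensor (A ⊗[B] W) (Ξ y) =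
          Ξ' ((CoalgebraStruct.comul (R := B) (A := C)).lTensor W y) := by
        intro y
        induction y using TensorProduct.induction_on with
        | zero => simp
        | add a b ha hb => simp only [map_add, ha, hb]
        | tmul w c => simp [hΞ, hΞ', hη]
      rw [hL, hR]
      exact congrArg Ξ' (LinearMap.congr_fun hco w)
  · refine LinearMap.ext fun x => ?_
    induction x using TensorProduct.induction_on with
    | zero => simp
    | add a b ha hb => simp only [map_add, ha, hb]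
    | tmul a w =>
      rw [show a ⊗ₜ[B] w = a • ((1 : A) ⊗ₜ[B] w) by rw [TensorProduct.smul_tmul', smul_eq_mul, mul_one],
        map_smul, map_smul]
      congr 1
      simp only [LinearMap.comp_apply, hρ1, hι1, hη]
      rw [← show W.subtype.rTensor C (ρ₀ w) = CoalgebraStruct.comul (R := B) (w : C) from
        LinearMap.congr_fun hρι w]
      induction ρ₀ w using TensorProduct.induction_on with
      | zero => simp
      | add a b ha hb => simp only [map_add, ha, hb]
      | tmul v d => simp [hΞ, hι1, sq_tmul]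
  · rw [← hgen]
    congr 1
    ext r
    constructor
    · rintro ⟨j, rfl⟩
      exact ⟨_, (s.equivFin.symm j).2, (hι1 ⟨_, hs (s.equivFin.symm j).2⟩).symm⟩
    · rintro ⟨c, hc, rfl⟩
      exact ⟨s.equivFin ⟨c, hc⟩, by simp [hι1]⟩

end Model

section Descend

variable {A₁ : Type u} [CommRing A₁] {A : Type u} [CommRing A] [Algebra A₁ A]
  {C₁ : Type u} [CommRing C₁] [Algebra A₁ C₁]
  {R : Type u} [CommRing R] [Bialgebra A R] (e : R ≃ₐ[A] T1 (A₁ := A₁) A C₁)

/-- The comultiplication read on `C₁`. -/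
noncomputable def φA : C₁ →ₐ[A₁] T2 (A₁ := A₁) A C₁ :=
  (((Algebra.TensorProduct.map e.toAlgHom e.toAlgHom).comp
    (Bialgebra.comulAlgHom A R)).comp e.symm.toAlgHom).restrictScalars A₁ |>.comp
    Algebra.TensorProduct.includeRight

/-- The counit read on `C₁`. -/
noncomputable def ψA : C₁ →ₐ[A₁] A :=
  ((Bialgebra.counitAlgHom A R).comp e.symm.toAlgHom).restrictScalars A₁ |>.comp
    Algebra.TensorProduct.includeRight

theorem com_φA (x : T1 (A₁ := A₁) A C₁) :
    com (φA e) x = Algebra.TensorProduct.map e.toAlgHom e.toAlgHom (Bialgebra.comulAlgHom A R (e.symm x)) := by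
  induction x using TensorProduct.induction_on with
  | zero => simp
  | add a b ha hb => simp only [map_add, ha, hb]
  | tmul a c =>
    rw [com_tmul, show a ⊗ₜ[A₁] c = a • ((1 : A) ⊗ₜ[A₁] c) by
      rw [TensorProduct.smul_tmul', smul_eq_mul, mul_one]]
    simp only [map_smul]
    rfl

theorem cou_ψA (x : T1 (A₁ := A₁) A C₁) : cou (ψA e) x = Bialgebra.counitAlgHom A R (e.symm x) := by
  induction x using TensorProduct.induction_on with
  | zero => simp
  | add a b ha hb => simp only [map_add, ha, hb]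
  | tmul a c =>
    rw [cou_tmul, show a ⊗ₜ[A₁] c = a • ((1 : A) ⊗ₜ[A₁] c) by
      rw [TensorProduct.smul_tmul', smul_eq_mul, mul_one]]
    simp only [map_smul, smul_eq_mul]
    rfl

theorem coL_φA (x : T1 (A₁ := A₁) A C₁) : coL (φA e) x = coR (φA e) x := by
  let E : R ⊗[A] (R ⊗[A] R) →ₐ[A] T3 (A₁ := A₁) A C₁ :=
    Algebra.TensorProduct.map e.toAlgHom (Algebra.TensorProduct.map e.toAlgHom e.toAlgHom)
  have hL : ∀ y : R ⊗[A] R, Algebra.TensorProduct.assoc A A A _ _ _
      (Algebra.TensorProduct.map (com (φA e)) (AlgHom.id A _)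
        (Algebra.TensorProduct.map e.toAlgHom e.toAlgHom y)) =
      E (TensorProduct.assoc A R R R ((CoalgebraStruct.comul (R := A) (A := R)).rTensor R y)) := by
    intro y
    induction y using TensorProduct.induction_on with
    | zero => simp
    | add a b ha hb => simp only [map_add, ha, hb]
    | tmul a b =>
      simp only [Algebra.TensorProduct.map_tmul, com_φA, AlgHom.id_apply, AlgEquiv.toAlgHom_apply,
        AlgEquiv.symm_apply_apply, LinearMap.rTensor_tmul, Bialgebra.comulAlgHom_apply]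
      induction CoalgebraStruct.comul (R := A) a using TensorProduct.induction_on with
      | zero => simp
      | add u v hu hv => simp only [map_add, TensorProduct.add_tmul, hu, hv]
      | tmul u v => simp [E]
  have hR : ∀ y : R ⊗[A] R, Algebra.TensorProduct.map (AlgHom.id A _) (com (φA e))
        (Algebra.TensorProduct.map e.toAlgHom e.toAlgHom y) =
      E ((CoalgebraStruct.comul (R := A) (A := R)).lTensor R y) := by
    intro y
    induction y using TensorProduct.induction_on with
    | zero => simp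
    | add a b ha hb => simp only [map_add, ha, hb]
    | tmul a b => simp [E, com_φA]
  simp only [coL, coR, AlgHom.comp_apply, AlgEquiv.toAlgHom_apply]
  rw [com_φA e x, hL, hR]
  simp only [Bialgebra.comulAlgHom_apply, Coalgebra.coassoc_apply]

theorem unL_φA (x : T1 (A₁ := A₁) A C₁) : unL (φA e) (ψA e) x = x := by
  have h : ∀ y : R ⊗[A] R, Algebra.TensorProduct.lid A _
      (Algebra.TensorProduct.map (cou (ψA e)) (AlgHom.id A _)
        (Algebra.TensorProduct.map e.toAlgHom e.toAlgHom y)) =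
      e (TensorProduct.lid A R ((CoalgebraStruct.counit (R := A) (A := R)).rTensor R y)) := by
    intro y
    induction y using TensorProduct.induction_on with
    | zero => simp
    | add a b ha hb => simp only [map_add, ha, hb]
    | tmul a b => simp [cou_ψA]
  simp only [unL, AlgHom.comp_apply, AlgEquiv.toAlgHom_apply]
  rw [com_φA e x, h]
  simp

theorem unR_φA (x : T1 (A₁ := A₁) A C₁) : unR (φA e) (ψA e) x = x := by
  have h : ∀ y : R ⊗[A] R, Algebra.TensorProduct.rid A A _
      (Algebra.TensorProduct.map (AlgHom.id A _) (cou (ψA e))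
        (Algebra.TensorProduct.map e.toAlgHom e.toAlgHom y)) =
      e (TensorProduct.rid A R ((CoalgebraStruct.counit (R := A) (A := R)).lTensor R y)) := by
    intro y
    induction y using TensorProduct.induction_on with
    | zero => simp
    | add a b ha hb => simp only [map_add, ha, hb]
    | tmul a b => simp [cou_ψA]
  simp only [unR, AlgHom.comp_apply, AlgEquiv.toAlgHom_apply]
  rw [com_φA e x, h]
  simp

theorem ext_gen {n : ℕ} (π : MvPolynomial (Fin n) A₁ →ₐ[A₁] C₁) (hπ : Function.Surjective π)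
    {B X : Type u} [CommRing B] [Algebra A₁ B] [CommRing X] [Algebra B X]
    (f g : T1 (A₁ := A₁) B C₁ →ₐ[B] X)
    (h : ∀ j, f ((1 : B) ⊗ₜ π (MvPolynomial.X j)) = g ((1 : B) ⊗ₜ π (MvPolynomial.X j))) : f = g := by
  letI : Algebra A₁ X := ((algebraMap B X).comp (algebraMap A₁ B)).toAlgebra
  haveI : IsScalarTower A₁ B X := IsScalarTower.of_algebraMap_eq' rfl
  refine Algebra.TensorProduct.ext (AlgHom.ext fun b => ?_) ?_
  · exact (f.commutes b).trans (g.commutes b).symm
  · exact (AlgHom.cancel_right hπ).1 (MvPolynomial.algHom_ext fun j => h j)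

/-- **Descent of the bialgebra structure to a finitely generated subalgebra.** -/
theorem exists_level_bialgebra [Algebra.FinitePresentation A₁ C₁] :
    ∃ (B : Subalgebra A₁ A) (φ : C₁ →ₐ[A₁] T2 (A₁ := A₁) B C₁) (ψ : C₁ →ₐ[A₁] B), B.FG ∧
      (σ2 B.val).comp φ = φA e ∧ coL φ = coR φ ∧ unL φ ψ = AlgHom.id B _ ∧ unR φ ψ = AlgHom.id B _ := by
  classical
  obtain ⟨n, π, hπ, ⟨G, hG⟩⟩ := ‹Algebra.FinitePresentation A₁ C₁›.out
  let c : Fin n → C₁ := fun j => π (MvPolynomial.X j)
  obtain ⟨B₀, hB₀, hlev⟩ := exists_level (A := A) (Finset.univ.image fun j => (ψ2 A).symm (φA e (c j)))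
  let E : Subalgebra A₁ A := Algebra.adjoin A₁ ((Finset.univ.image fun j => ψA e (c j) : Finset A) : Set A)
  let B := B₀ ⊔ E
  have hB : B.FG := hB₀.sup (Subalgebra.fg_adjoin_finset _)
  have hval : B₀.val.toLinearMap = B.val.toLinearMap ∘ₗ (Subalgebra.inclusion le_sup_left).toLinearMap := rfl
  have hd : ∀ j, ∃ d : T2 (A₁ := A₁) B C₁, σ2 B.val d = φA e (c j) := fun j => by
    obtain ⟨y, hy⟩ := hlev _ (Finset.mem_image_of_mem _ (Finset.mem_univ j))
    refine ⟨ψ2 B (LinearMap.rTensor _ (Subalgebra.inclusion le_sup_left).toLinearMap y), ?_⟩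
    rw [σ2_ψ2, ← LinearMap.comp_apply (LinearMap.rTensor _ B.val.toLinearMap), ← LinearMap.rTensor_comp,
      ← hval, hy, LinearEquiv.apply_symm_apply]
  choose d hd using hd
  let ep : Fin n → B := fun j => ⟨ψA e (c j),
    (le_sup_right : E ≤ B) (Algebra.subset_adjoin (Finset.mem_image_of_mem _ (Finset.mem_univ j)))⟩
  have hπd : (σ2 B.val).comp (MvPolynomial.aeval d) = (φA e).comp π :=
    MvPolynomial.algHom_ext fun j => by simp [hd, c]
  have hψker : RingHom.ker π ≤ RingHom.ker (MvPolynomial.aeval (R := A₁) ep) := fun g hg => by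
    have h1 : B.val.comp (MvPolynomial.aeval ep) = (ψA e).comp π :=
      MvPolynomial.algHom_ext fun j => by simp [ep, c]
    apply Subtype.val_injective
    refine (AlgHom.congr_fun h1 g).trans ?_
    rw [AlgHom.comp_apply, RingHom.mem_ker.1 hg, map_zero]
    rfl
  -- relations
  obtain ⟨B₁, h₁, hB₁, hkill⟩ := exists_kill hB (G.image fun g => (ψ2 B).symm (MvPolynomial.aeval d g))
    (fun t ht => by
      obtain ⟨g, hg, rfl⟩ := Finset.mem_image.1 ht
      apply (ψ2 (A₁ := A₁) (C₁ := C₁) A).injective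
      rw [← σ2_ψ2, LinearEquiv.apply_symm_apply, ← AlgHom.comp_apply, hπd, AlgHom.comp_apply,
        show π g = 0 from RingHom.mem_ker.1 (hG ▸ Ideal.subset_span hg), map_zero, map_zero])
  let d₁ : MvPolynomial (Fin n) A₁ →ₐ[A₁] T2 (A₁ := A₁) B₁ C₁ :=
    (σ2 (Subalgebra.inclusion h₁)).comp (MvPolynomial.aeval d)
  have hd₁ker : RingHom.ker π ≤ RingHom.ker d₁ := by
    refine hG.symm.le.trans (Ideal.span_le.2 fun g hg => ?_)
    show d₁ g = 0
    have := hkill _ (Finset.mem_image_of_mem _ hg)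
    simp only [d₁, AlgHom.comp_apply]
    rw [← LinearEquiv.apply_symm_apply (ψ2 (A₁ := A₁) (C₁ := C₁) B) (MvPolynomial.aeval d g), σ2_ψ2, this,
      map_zero]
  let eqv := Ideal.quotientKerAlgEquivOfSurjective hπ
  let φ₁ : C₁ →ₐ[A₁] T2 (A₁ := A₁) B₁ C₁ := (Ideal.Quotient.liftₐ (RingHom.ker π) d₁ hd₁ker).comp eqv.symm.toAlgHom
  let ψ₁ : C₁ →ₐ[A₁] B₁ := (Subalgebra.inclusion h₁).comp
    ((Ideal.Quotient.liftₐ (RingHom.ker π) _ hψker).comp eqv.symm.toAlgHom)
  have hlift : ∀ {X : Type u} [CommRing X] [Algebra A₁ X] (w : MvPolynomial (Fin n) A₁ →ₐ[A₁] X)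
      (hw : RingHom.ker π ≤ RingHom.ker w) (g : MvPolynomial (Fin n) A₁),
      (Ideal.Quotient.liftₐ (RingHom.ker π) w hw).comp eqv.symm.toAlgHom (π g) = w g := by
    intro X _ _ w hw g
    have : eqv.symm (π g) = Ideal.Quotient.mk _ g :=
      eqv.symm_apply_eq.2 (Ideal.quotientKerAlgEquivOfSurjective_mk hπ _).symm
    show Ideal.Quotient.liftₐ (RingHom.ker π) w hw (eqv.symm (π g)) = _
    rw [this]
    rfl
  have hφ₁c : ∀ j, φ₁ (c j) = σ2 (Subalgebra.inclusion h₁) (d j) := fun j => by
    rw [show φ₁ (c j) = _ from hlift d₁ hd₁ker _]; simp [d₁]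
  have hψ₁c : ∀ j, ((ψ₁ (c j) : B₁) : A) = ψA e (c j) := fun j => by
    simp only [ψ₁, c, AlgHom.comp_apply]
    rw [show (Ideal.Quotient.liftₐ (RingHom.ker π) _ hψker) (eqv.symm.toAlgHom (π (MvPolynomial.X j))) =
      _ from hlift _ hψker _, MvPolynomial.aeval_X]
    rfl
  have hφ₁ : (σ2 B₁.val).comp φ₁ = φA e := (AlgHom.cancel_right hπ).1 (MvPolynomial.algHom_ext fun j => by
    simp only [AlgHom.comp_apply]
    show σ2 B₁.val (φ₁ (c j)) = _
    rw [hφ₁c, ← hd j]
    induction d j using TensorProduct.induction_on with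
    | zero => simp
    | add a b ha hb => simp only [map_add, ha, hb]
    | tmul a b =>
      simp only [σ2_tmul]
      congr 1 <;>
      · simp only [σ1_eq_rTensor, ← LinearMap.comp_apply, ← LinearMap.rTensor_comp]
        rfl)
  have hψ₁ : B₁.val.comp ψ₁ = ψA e :=
    (AlgHom.cancel_right hπ).1 (MvPolynomial.algHom_ext fun j => hψ₁c j)
  -- defects of the axioms
  let u : Fin n → T1 (A₁ := A₁) B₁ C₁ := fun j => (1 : B₁) ⊗ₜ c j
  obtain ⟨B₂, h₂, hB₂, hk₂⟩ := exists_kill hB₁
    (Finset.univ.image fun j => (ψ3 B₁).symm (coL φ₁ (u j) - coR φ₁ (u j)))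
    (fun t ht => by
      obtain ⟨j, -, rfl⟩ := Finset.mem_image.1 ht
      apply (ψ3 (A₁ := A₁) (C₁ := C₁) A).injective
      rw [← σ3_ψ3, LinearEquiv.apply_symm_apply, map_sub, σ3_coL, σ3_coR, hφ₁, coL_φA, sub_self, map_zero])
  let κ₂ := Subalgebra.inclusion h₂
  let φ₂ := (σ2 κ₂).comp φ₁
  let ψ₂' := κ₂.comp ψ₁
  have hσcomp : ∀ {P Q : Subalgebra A₁ A} (h : P ≤ Q) (y : T2 (A₁ := A₁) P C₁),
      σ2 Q.val (σ2 (Subalgebra.inclusion h) y) = σ2 P.val y := by
    intro P Q h y
    induction y using TensorProduct.induction_on with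
    | zero => simp
    | add a b ha hb => simp only [map_add, ha, hb]
    | tmul a b =>
      simp only [σ2_tmul]
      congr 1 <;>
      · simp only [σ1_eq_rTensor, ← LinearMap.comp_apply, ← LinearMap.rTensor_comp]
        rfl
  have hφ₂ : (σ2 B₂.val).comp φ₂ = φA e := by
    rw [← hφ₁]
    exact AlgHom.ext fun x => hσcomp h₂ _
  have hψ₂ : B₂.val.comp ψ₂' = ψA e := by rw [← hψ₁]; rfl
  let u₂ : Fin n → T1 (A₁ := A₁) B₂ C₁ := fun j => (1 : B₂) ⊗ₜ c j
  have hu₂ : ∀ j, σ1 κ₂ (u j) = u₂ j := fun j => by simp [u, u₂, σ1_tmul]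
  obtain ⟨B₃, h₃, hB₃, hk₃⟩ := exists_kill hB₂
    ((Finset.univ.image fun j => unL φ₂ ψ₂' (u₂ j) - u₂ j) ∪ (Finset.univ.image fun j => unR φ₂ ψ₂' (u₂ j) - u₂ j))
    (fun t ht => by
      rw [← σ1_eq_rTensor]
      rcases Finset.mem_union.1 ht with ht | ht <;> obtain ⟨j, -, rfl⟩ := Finset.mem_image.1 ht
      · rw [map_sub, σ1_unL, hφ₂, hψ₂, unL_φA, sub_self]
      · rw [map_sub, σ1_unR, hφ₂, hψ₂, unR_φA, sub_self])
  let κ₃ := Subalgebra.inclusion h₃
  let φ₃ := (σ2 κ₃).comp φ₂
  let ψ₃' := κ₃.comp ψ₂'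
  let u₃ : Fin n → T1 (A₁ := A₁) B₃ C₁ := fun j => (1 : B₃) ⊗ₜ c j
  have hu₃ : ∀ j, σ1 κ₃ (u₂ j) = u₃ j := fun j => by simp [u₂, u₃, σ1_tmul]
  refine ⟨B₃, φ₃, ψ₃', hB₃, ?_, ?c1, ?c2, ?c3⟩
  case c1 =>
    have key : ∀ j, coL φ₃ (u₃ j) = coR φ₃ (u₃ j) := fun j => by
      have h0 := hk₂ _ (Finset.mem_image_of_mem _ (Finset.mem_univ j))
      have h1 : σ3 κ₂ (coL φ₁ (u j) - coR φ₁ (u j)) = 0 := by
        rw [← LinearEquiv.apply_symm_apply (ψ3 (A₁ := A₁) (C₁ := C₁) B₁) (coL φ₁ (u j) - coR φ₁ (u j)),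
          σ3_ψ3, h0, map_zero]
      rw [map_sub, σ3_coL, σ3_coR, hu₂] at h1
      have h2 := congrArg (σ3 κ₃) (sub_eq_zero.1 h1)
      rwa [σ3_coL, σ3_coR, hu₃] at h2
    exact ext_gen π hπ (B := ↥B₃) (X := T3 (A₁ := A₁) B₃ C₁) (coL φ₃) (coR φ₃) key
  case c2 =>
    have key : ∀ j, unL φ₃ ψ₃' (u₃ j) = u₃ j := fun j => by
      have h0 := hk₃ _ (Finset.mem_union_left _ (Finset.mem_image_of_mem _ (Finset.mem_univ j)))
      rw [← σ1_eq_rTensor, map_sub, σ1_unL, hu₃, sub_eq_zero] at h0
      exact h0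
    exact ext_gen π hπ (B := ↥B₃) (X := T1 (A₁ := A₁) B₃ C₁) (unL φ₃ ψ₃') (AlgHom.id B₃ _) key
  case c3 =>
    have key : ∀ j, unR φ₃ ψ₃' (u₃ j) = u₃ j := fun j => by
      have h0 := hk₃ _ (Finset.mem_union_right _ (Finset.mem_image_of_mem _ (Finset.mem_univ j)))
      rw [← σ1_eq_rTensor, map_sub, σ1_unR, hu₃, sub_eq_zero] at h0
      exact h0
    exact ext_gen π hπ (B := ↥B₃) (X := T1 (A₁ := A₁) B₃ C₁) (unR φ₃ ψ₃') (AlgHom.id B₃ _) key
  · rw [← hφ₂]
    exact AlgHom.ext fun x => hσcomp h₃ _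

end Descend

/-- **A flat finitely presented bialgebra is generated by a finitely generated comodule.** -/
theorem nonempty_cap (A : Type u) [CommRing A] (R : Type u) [CommRing R] [Bialgebra A R]
    [Module.Flat A R] [Algebra.FinitePresentation A R] : Nonempty (Weights.Cap A R) := by
  classical
  obtain ⟨s, C₁, _, _, hfl, hfp, ⟨e⟩⟩ := Groth.Agent.H14.FppfDesc.Ring.exists_flat_model A R
  let A₁ := Algebra.adjoin ℤ (s : Set A)
  haveI : Algebra.FiniteType ℤ A₁ := A₁.fg_iff_finiteType.1 (Subalgebra.fg_adjoin_finset s)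
  haveI : IsNoetherianRing A₁ := Algebra.FiniteType.isNoetherianRing ℤ A₁
  obtain ⟨B, φ, ψ, hB, hφ, hco, huL, huR⟩ := exists_level_bialgebra e
  haveI : Algebra.FiniteType A₁ B := B.fg_iff_finiteType.1 hB
  haveI : IsNoetherianRing B := Algebra.FiniteType.isNoetherianRing A₁ B
  let C := T1 (A₁ := A₁) B C₁
  letI : Bialgebra B C := Bialgebra.ofAlgHom (com φ) (cou ψ) hco
    (AlgHom.ext fun x => (Algebra.TensorProduct.lid B C).injective
      ((AlgHom.congr_fun huL x).trans ((Algebra.TensorProduct.lid B C).apply_symm_apply x).symm))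
    (AlgHom.ext fun x => (Algebra.TensorProduct.rid B B C).injective
      ((AlgHom.congr_fun huR x).trans ((Algebra.TensorProduct.rid B B C).apply_symm_apply x).symm))
  haveI : Module.Flat B C := inferInstanceAs (Module.Flat B (B ⊗[A₁] C₁))
  let η : C →ₗ[B] R :=
    { toFun := fun x => e.symm (σ1 B.val x)
      map_add' := fun x y => by simp
      map_smul' := fun b x => by
        rw [σ1_smul, map_smul, RingHom.id_apply]
        exact (algebraMap_smul A b _).symm }
  obtain ⟨t, ht⟩ := (Algebra.FiniteType.out : (⊤ : Subalgebra A₁ C₁).FG)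
  refine exists_cap η (fun x => ?_) (t.image fun c => ((1 : B) ⊗ₜ[A₁] c : C)) ?_
  · apply (Algebra.TensorProduct.congr e e).injective
    have h1 : Algebra.TensorProduct.map e.toAlgHom e.toAlgHom (CoalgebraStruct.comul (R := A) (η x)) =
        σ2 B.val (com φ x) := by
      rw [σ2_com, hφ, com_φA]
      rfl
    refine h1.trans ?_
    show σ2 B.val (CoalgebraStruct.comul (R := B) x) =
      Algebra.TensorProduct.map e.toAlgHom e.toAlgHom (sq (A := A) η (CoalgebraStruct.comul (R := B) x))
    induction CoalgebraStruct.comul (R := B) x using TensorProduct.induction_on with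
    | zero => simp
    | add a b ha hb => simp only [map_add, ha, hb]
    | tmul a b =>
      simp [sq_tmul, η]
      exact σ2_tmul B.val a b
  · rw [eq_top_iff]
    rintro r -
    obtain ⟨y, rfl⟩ := e.symm.surjective r
    induction y using TensorProduct.induction_on with
    | zero => simp
    | add a b ha hb => rw [map_add]; exact add_mem ha hb
    | tmul a c =>
      rw [show a ⊗ₜ[A₁] c = a • ((1 : A) ⊗ₜ[A₁] c) by rw [TensorProduct.smul_tmul', smul_eq_mul, mul_one],
        map_smul]
      refine Subalgebra.smul_mem _ ?_ a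
      have hc : c ∈ Algebra.adjoin A₁ (t : Set C₁) := ht ▸ Algebra.mem_top
      let f : C₁ →ₐ[A₁] R := (e.symm.toAlgHom.restrictScalars A₁).comp Algebra.TensorProduct.includeRight
      show f c ∈ Algebra.adjoin A _
      refine (Algebra.adjoin_le (S := ((Algebra.adjoin A _).restrictScalars A₁).comap f) fun z hz => ?_) hc
      refine Algebra.subset_adjoin ⟨_, Finset.mem_image_of_mem _ hz, ?_⟩
      simp [η, f]
      exact σ1_tmul B.val 1 z

end Groth.Agent.H87.HopfModel
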