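import Groth.Agent.H87.HomLiftAlg
import Groth.Agent.H87.HomSep
import Groth.Agent.H87.HopfModel
import Groth.Agent.Lib.MultSmooth.Lifting

/-!
# Homomorphisms from `D(M)` to a smooth affine group over an affine base
-/

set_option autoImplicit false
universe u

open CategoryTheory CategoryTheory.Limits MonoidalCategory CartesianMonoidalCategory MonObj GrpObj
open AlgebraicGeometry
open Groth.Agent.H87.HomFam Groth.Agent.H87.HomPts Groth.Agent.H87.HomGood

namespace Groth.Agent.H87.HomSmooth

set_option linter.style.haveILetI false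

variable {A : Type u} [CommRing A] {R : Type u} [CommRing R] [HopfAlgebra A R]
variable (M : Type) [AddCommGroup M] (cap : Weights.Cap A R)

local notation "N" => Multiplicative M

theorem range_mk_surj {B : CommRingCat.{u}} {J : Ideal B} (hJ : J ^ 2 = ⊥)
    (x : Spec (.of B)) : x ∈ Set.range (Spec.map (CommRingCat.ofHom (Ideal.Quotient.mk J))) := by
  rw [show Set.range (Spec.map (CommRingCat.ofHom (Ideal.Quotient.mk J))) =
    Set.range (PrimeSpectrum.comap (Ideal.Quotient.mk J)) from rfl,
    range_comap_of_surjective _ _ Ideal.Quotient.mk_surjective, Ideal.mk_ker]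
  intro z hz
  have : z ^ 2 ∈ J ^ 2 := Ideal.pow_mem_pow hz 2
  rw [hJ, Ideal.mem_bot] at this
  exact x.isPrime.mem_of_pow_mem 2 (this ▸ Submodule.zero_mem _)

theorem smooth_hom [Algebra.FinitePresentation A R] [Algebra.FormallySmooth A R] :
    Smooth (HomScheme.hom M cap) := by
  have hlfp := HomScheme.locallyOfFinitePresentation (M := M) cap
  rw [IsZariskiLocalAtSource.iff_of_openCover (P := @Smooth) (HomScheme.H M cap).affineCover]
  intro i
  refine Groth.Agent.Lib.MultSmooth.smooth_of_lifts _ ?_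
  intro B J hJ t c₀ hc₀
  rw [Category.comp_id] at hc₀ ⊢
  letI : Algebra A B := (Spec.preimage t).hom.toAlgebra
  have ht : stm A B = t := Spec.map_preimage t
  let mk : B →ₐ[A] (B ⧸ J) := Ideal.Quotient.mkₐ A J
  have hstm : stm A (B ⧸ J) = Spec.map (CommRingCat.ofHom (Ideal.Quotient.mk J)) ≫ stm A B := by
    rw [← Spec.map_comp]
    rfl
  have w₀ : (c₀ ≫ (HomScheme.H M cap).affineCover.f i) ≫ HomScheme.hom M cap = stm A (B ⧸ J) := by
    rw [hstm, ht, Category.assoc]
    exact hc₀
  obtain ⟨φ₀, hφ₀, h0⟩ := exists_alg_res (HomScheme.U M cap) _ w₀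
  have hker : RingHom.ker mk = J := Ideal.Quotient.mkₐ_ker A J
  obtain ⟨φ, hφ, hφ'⟩ := HomLiftAlg.exists_lift mk Ideal.Quotient.mk_surjective
    (by rw [hker]; exact hJ) φ₀ hφ₀
  obtain ⟨a, ⟨aw, ha⟩, -⟩ := HomScheme.reps M cap _ _ (toFam φ hφ)
  have hmk : Spec.map (CommRingCat.ofHom (Ideal.Quotient.mk J)) ≫ a =
      c₀ ≫ (HomScheme.H M cap).affineCover.f i := by
    refine HomScheme.hom_ext_U M cap ?_ ?_
    · rw [w₀, hstm, Category.assoc]
      exact congrArg (_ ≫ ·) aw
    · have h1 := congrArg (fun G => Fam.res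
        (t' := (c₀ ≫ (HomScheme.H M cap).affineCover.f i) ≫ HomScheme.hom M cap) G (pm mk).left
        (by rw [w₀]; exact Over.w (pm mk))) ha
      simp only [Fam.res_res] at h1
      refine h1.trans ?_
      have h2 := toFam_res mk φ hφ
      have h3 : toFam (A := A) (R := R) (M := M) (C := B ⧸ J) (Weights.push mk φ) (Weights.isHom_push mk hφ) =
          toFam (A := A) (R := R) (M := M) (C := B ⧸ J) φ₀ hφ₀ := by
        subst hφ'; rfl
      rw [h3, ← h0] at h2
      have h4 := congrArg (fun G => Fam.res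
        (t' := (c₀ ≫ (HomScheme.H M cap).affineCover.f i) ≫ HomScheme.hom M cap) G (𝟙 _)
        (by rw [Category.id_comp, w₀])) h2
      simpa only [Fam.res_res, Category.id_comp] using h4
  have hr : Set.range a ⊆ Set.range ((HomScheme.H M cap).affineCover.f i) := by
    rintro _ ⟨x, rfl⟩
    obtain ⟨y, rfl⟩ := range_mk_surj hJ x
    rw [← Scheme.Hom.comp_apply, hmk, Scheme.Hom.comp_apply]
    exact ⟨_, rfl⟩
  refine ⟨IsOpenImmersion.lift _ a hr, ?_, ?_⟩
  · rw [IsOpenImmersion.lift_fac_assoc, ← ht]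
    exact aw
  · rw [← cancel_mono ((HomScheme.H M cap).affineCover.f i), Category.assoc, IsOpenImmersion.lift_fac, hmk]

variable (R) in
/-- **`Hom(D(M), G)` for a smooth affine group over an affine base.** -/
theorem exists_reps [Algebra.FinitePresentation A R] [Algebra.Smooth A R] :
    ∃ (H : Over (Spec (.of A))) (U : Fam (Red.DS (Spec (.of A)) M) (pt A R) H.hom),
      Reps H U ∧ Smooth H.hom ∧ IsSeparated H.hom ∧ MoreMor.IsIndQuasiAffineHom H.hom := by
  haveI : Module.Flat A R := inferInstance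
  obtain ⟨cap⟩ := HopfModel.nonempty_cap A R
  refine ⟨Over.mk (HomScheme.hom M cap), HomScheme.U M cap, HomScheme.reps M cap, smooth_hom M cap, ?_,
    HomScheme.indQA M cap⟩
  haveI : IsAffineHom (pt A R).hom := inferInstanceAs (IsAffineHom (stm A R))
  exact HomSep.isSeparated_of_reps (HomSep.isEssentiallyFree_DS A M) _ _ (HomScheme.reps M cap)

end Groth.Agent.H87.HomSmooth
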