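import Groth.Agent.H87.Mono
import Groth.Agent.H87.SplitHom
import Groth.Agent.H87.Normal
import Groth.Agent.H87.CentralDescent
import Groth.Agent.Lib.Tori.Character
import Groth.Agent.Lib.SubEq.TorsFP
import Groth.Agent.S6064
import Groth.Agent.S19141

/-!
# The scheme of monomorphisms from a finite diagonalisable group

For a finite abelian group `M` and an affine group scheme `G` of finite presentation the monomorphisms
`D(M) → G` are parametrised by a scheme affine and of finite presentation over the base.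
-/

set_option autoImplicit false
set_option linter.style.haveILetI false
universe u

open CategoryTheory MonoidalCategory CartesianMonoidalCategory MonObj GrpObj AlgebraicGeometry
open CategoryTheory.Limits
open Groth.Agent.Lib Groth.Agent.Lib.RedPts Groth.Agent.H87.HomFam

namespace Groth.Agent.H87.MonoHom

variable {S : Scheme.{u}} (G : Over S) [GrpObj G]

/-- The underlying morphism to `G` of a morphism over a base change. -/
noncomputable abbrev gmap {T : Scheme.{u}} {t : T ⟶ S} {K : Over T} (j : K ⟶ Red.bc t G) : K.left ⟶ G.left :=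
  j.left ≫ pullback.fst G.hom t

/-- The map of base changes along a morphism of bases. -/
noncomputable def bm (H : Over S) {T E : Scheme.{u}} {t : T ⟶ S} {p : E ⟶ S} (e : T ⟶ E) (he : e ≫ p = t) :
    (Red.bc t H).left ⟶ (Red.bc p H).left :=
  pullback.lift (pullback.fst H.hom t) (pullback.snd H.hom t ≫ e) (by rw [Category.assoc, he, pullback.condition])

@[reassoc]
theorem bm_fst (H : Over S) {T E : Scheme.{u}} {t : T ⟶ S} {p : E ⟶ S} (e : T ⟶ E) (he : e ≫ p = t) :
    bm H e he ≫ pullback.fst H.hom p = pullback.fst H.hom t := pullback.lift_fst _ _ _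

@[reassoc]
theorem bm_snd (H : Over S) {T E : Scheme.{u}} {t : T ⟶ S} {p : E ⟶ S} (e : T ⟶ E) (he : e ≫ p = t) :
    bm H e he ≫ pullback.snd H.hom p = pullback.snd H.hom t ≫ e := pullback.lift_snd _ _ _

theorem bm_comp (H : Over S) {T E A : Scheme.{u}} {t : T ⟶ S} {p : E ⟶ S} {q : A ⟶ S} (e : T ⟶ E)
    (he : e ≫ p = t) (f : E ⟶ A) (hf : f ≫ q = p) (g : T ⟶ A) (hg : g ≫ q = t) (h : e ≫ f = g) :
    bm H e he ≫ bm H f hf = bm H g hg := by
  apply pullback.hom_ext
  · refine (Category.assoc _ _ _).trans ?_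
    rw [bm_fst, bm_fst, bm_fst]
  · refine (Category.assoc _ _ _).trans ?_
    rw [bm_snd, bm_snd_assoc, bm_snd, h]

variable {G}

theorem hom_ext_gmap {T : Scheme.{u}} {t : T ⟶ S} {K : Over T} {j j' : K ⟶ Red.bc t G}
    (h : gmap G j = gmap G j') : j = j' :=
  Over.OverMorphism.ext (pullback.hom_ext h ((Over.w j).trans (Over.w j').symm))

theorem isFinite_DS (M : Type) [AddCommGroup M] [Finite M] : IsFinite (Red.DS S M).hom := by
  let A : CommRingCat.{u} := CommRingCat.of (ULift.{u} ℤ)
  haveI := SubEq.isFinite_DS A M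
  have h1 : IsFinite (Red.bc (specULiftZIsTerminal.from S) (Red.DS (Spec A) M)).hom :=
    MorphismProperty.pullback_snd (P := @IsFinite) _ _ inferInstance
  let e := Tori.BaseChange.overIso (Tori.DS.dsBC M (specULiftZIsTerminal.from S) (S := Spec A))
  haveI : IsIso e.inv.left := inferInstanceAs (IsIso ((Over.forget _).map e.inv))
  rw [← Over.w e.inv]
  exact (MorphismProperty.cancel_left_of_respectsIso @IsFinite e.inv.left _).2 h1

theorem gmap_toMor {H : Over S} [GrpObj H] {T : Scheme.{u}} {t : T ⟶ S} (v : Red.bc t H ⟶ Red.bc t G) [IsMonHom v] :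
    (CentralDescent.famOf v).toMor.left = gmap G v := by
  show (CentralDescent.out (t := t) _ (Over.w (snd H (Over.mk t))) ≫
    BC.down t (BC.up t (CentralDescent.inn (t := t) _ (Over.w (snd H (Over.mk t))) ≫ fst H (Over.mk t)) ≫ v)).left = _
  rw [Over.comp_left, BC.down_left]
  erw [Category.id_comp]
  rw [Over.comp_left]
  refine (Category.assoc _ _ _).trans ?_
  refine (congrArg (· ≫ v.left ≫ pullback.fst G.hom t) ?_).trans (Category.id_comp _)
  apply pullback.hom_ext
  · have h := (BC.down_left (BC.up t (CentralDescent.inn (t := t) _ (Over.w (snd H (Over.mk t))) ≫ fst H (Over.mk t)))).symm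
    rw [BC.down_up] at h
    exact h.trans ((Category.id_comp _).trans (Category.id_comp _).symm)
  · refine (Over.w (BC.up t _)).trans ?_
    exact (Category.id_comp _).symm

theorem gmap_toHom_ofMor {H : Over S} [GrpObj H] {A : Over S} (υ : H ⊗ A ⟶ G)
    (hfam : AutFam.IsHomFamily H G υ) {T : Scheme.{u}} (e : T ⟶ A.left) :
    gmap G (CentralDescent.toHom ((Fam.ofMor (t := A.hom) υ hfam).res e (rfl : e ≫ A.hom = e ≫ A.hom))) =
      bm H e rfl ≫ υ.left := by
  refine (BC.down_left _).symm.trans ?_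
  rw [CentralDescent.toHom, BC.down_up]
  show (lift (BC.down (e ≫ A.hom) (𝟙 (Red.bc (e ≫ A.hom) H)))
    (Over.homMk ((Red.bc (e ≫ A.hom) H).hom ≫ e) : (Over.map (e ≫ A.hom)).obj (Red.bc (e ≫ A.hom) H) ⟶ Over.mk A.hom) ≫ υ).left = _
  rw [Over.comp_left]
  congr 1

/-- The iterated base change. -/
noncomputable def bcIso {T E : Scheme.{u}} (e : T ⟶ E) (p : E ⟶ S) (X : Over S) :
    Red.bc (e ≫ p) X ≅ Red.bc e (Red.bc p X) :=
  Over.isoMk (pullbackLeftPullbackSndIso X.hom p e).symm (pullbackLeftPullbackSndIso_inv_snd_snd _ _ _)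

theorem pullbackComp_comm {H : Over S} {T E : Scheme.{u}} (e : T ⟶ E) (p : E ⟶ S)
    (w : Red.bc p H ⟶ Red.bc p G) (v : Red.bc (e ≫ p) H ⟶ Red.bc (e ≫ p) G)
    (hv : bm H e rfl ≫ gmap G w = gmap G v) :
    (bcIso e p H).hom ≫ (Over.pullback e).map w = v ≫ (bcIso e p G).hom := by
  apply Over.OverMorphism.ext
  have e1 : w.left ≫ pullback.snd G.hom p = pullback.snd H.hom p := Over.w w
  have e2 : v.left ≫ pullback.snd G.hom (e ≫ p) = pullback.snd H.hom (e ≫ p) := Over.w v
  have eH : (bcIso e p H).hom.left ≫ pullback.fst (Red.bc p H).hom e = bm H e rfl := by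
    apply pullback.hom_ext
    · simp [bcIso, bm_fst]
    · simp [bcIso, bm_snd]
  have eG : (bcIso e p G).hom.left ≫ pullback.fst (Red.bc p G).hom e = bm G e rfl := by
    apply pullback.hom_ext
    · simp [bcIso, bm_fst]
    · simp [bcIso, bm_snd]
  have em : ((Over.pullback e).map w).left ≫ pullback.fst (Red.bc p G).hom e =
      pullback.fst (Red.bc p H).hom e ≫ w.left := pullback.lift_fst _ _ _
  apply pullback.hom_ext
  · show ((bcIso e p H).hom.left ≫ ((Over.pullback e).map w).left) ≫ _ = (v.left ≫ _) ≫ _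
    rw [Category.assoc, em, reassoc_of% eH, Category.assoc, eG]
    apply pullback.hom_ext
    · rw [Category.assoc, Category.assoc, bm_fst]
      exact hv
    · rw [Category.assoc, Category.assoc, bm_snd, e1, bm_snd, reassoc_of% e2]
  · show ((bcIso e p H).hom.left ≫ ((Over.pullback e).map w).left) ≫ _ = (v.left ≫ _) ≫ _
    rw [Category.assoc, Category.assoc]
    exact (congrArg (_ ≫ ·) (Over.w ((Over.pullback e).map w))).trans
      ((Over.w (bcIso e p H).hom).trans
        ((congrArg (v.left ≫ ·) (Over.w (bcIso e p G).hom)).trans (Over.w v)).symm)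

theorem bcIso_hom_fst {T E : Scheme.{u}} (e : T ⟶ E) (p : E ⟶ S) (X : Over S) :
    (bcIso e p X).hom.left ≫ pullback.fst (Red.bc p X).hom e = bm X e rfl := by
  apply pullback.hom_ext
  · simp [bcIso, bm_fst]
  · simp [bcIso, bm_snd]

theorem isMonHom_bcIso {T E : Scheme.{u}} (e : T ⟶ E) (p : E ⟶ S) :
    IsMonHom (bcIso e p G).hom := by
  refine HomDS.isMonHom_of_points _ fun X x y => BC.down_injective (BC.down_injective ?_)
  let c : (Over.map p).obj ((Over.map e).obj X) ⟶ (Over.map (e ≫ p)).obj X :=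
    Over.homMk (𝟙 X.left) ((Category.id_comp _).trans (Category.assoc _ _ _).symm)
  have key : ∀ z : X ⟶ Red.bc (e ≫ p) G,
      BC.down p (BC.down e (z ≫ (bcIso e p G).hom)) = c ≫ BC.down (e ≫ p) z := fun z => by
    apply Over.OverMorphism.ext
    show ((z.left ≫ (bcIso e p G).hom.left) ≫ pullback.fst (Red.bc p G).hom e) ≫ pullback.fst G.hom p =
      𝟙 _ ≫ z.left ≫ pullback.fst G.hom (e ≫ p)
    rw [Category.id_comp, Category.assoc z.left, bcIso_hom_fst, Category.assoc]
    exact congrArg (z.left ≫ ·) (bm_fst _ _ _)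
  rw [BC.down_mul, BC.down_mul, key, key, key, BC.down_mul, MonObj.comp_mul]

set_option maxHeartbeats 800000 in
/-- **The scheme of monomorphisms from a finite diagonalisable group.** -/
theorem exists_monoHom [IsAffineHom G.hom] [LocallyOfFinitePresentation G.hom] (M : Type) [AddCommGroup M]
    [Finite M] :
    ∃ (E : Over S) (a : Red.bc E.hom (Red.DS S M) ⟶ Red.bc E.hom G) (_ : IsMonHom a) (_ : Mono a),
      IsAffineHom E.hom ∧ LocallyOfFinitePresentation E.hom ∧
      ∀ {T : Scheme.{u}} (t : T ⟶ S) (v : Red.bc t (Red.DS S M) ⟶ Red.bc t G) [IsMonHom v] [Mono v],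
        ∃! e : T ⟶ E.left, ∃ he : e ≫ E.hom = t, bm (Red.DS S M) e he ≫ gmap G a = gmap G v := by
  haveI : AddGroup.FG M := inferInstance
  let H := Red.DS S M
  have hH : SGA3x.IsMultTypeFT H := Tori.Character.isMultTypeFT_DS S M
  haveI : IsFinite H.hom := isFinite_DS M
  obtain ⟨A, υ, ⟨hfam, hrep⟩, hAa, -, hAp⟩ := S6064.result H G hH
  haveI := hAp ‹LocallyOfFinitePresentation G.hom›
  haveI := hAa
  let F : Fam H G A.hom := Fam.ofMor (t := A.hom) υ hfam
  let w : Red.bc A.hom H ⟶ Red.bc A.hom G := CentralDescent.toHom F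
  haveI : IsMonHom w := CentralDescent.isMonHom_toHom F
  have hF : F.res (𝟙 A.left) (Category.id_comp A.hom) = F := Fam.res_id F
  have hw : gmap G w = υ.left := by
    refine (BC.down_left w).symm.trans ?_
    rw [show BC.down A.hom w = (F.app ((Over.map A.hom).obj (Red.bc A.hom H)) (Red.bc A.hom H).hom rfl
      (BC.down A.hom (𝟙 (Red.bc A.hom H)))) from BC.down_up _]
    show (lift (BC.down A.hom (𝟙 (Red.bc A.hom H)))
      (Over.homMk (Red.bc A.hom H).hom rfl : (Over.map A.hom).obj (Red.bc A.hom H) ⟶ Over.mk A.hom) ≫ υ).left = _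
    rw [Over.comp_left]
    refine (congrArg (· ≫ υ.left) ?_).trans (Category.id_comp υ.left)
    rw [Over.lift_left]
    apply pullback.hom_ext
    · rw [pullback.lift_fst, BC.down_left]
      rfl
    · rw [pullback.lift_snd]
      exact (Category.id_comp _).symm
  -- the monomorphism locus
  have hHA : SGA3x.IsMultTypeFT (Red.bc A.hom H) := Normal.multTypeFT_bc hH A.hom
  haveI : IsAffineHom (Red.bc A.hom G).hom := MorphismProperty.pullback_snd (P := @IsAffineHom) _ _ inferInstance
  haveI : LocallyOfFinitePresentation (Red.bc A.hom G).hom :=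
    MorphismProperty.pullback_snd (P := @LocallyOfFinitePresentation) _ _ inferInstance
  obtain ⟨⟨Q, iQ, j, ijm, f', ifm, hj, hQ, hfl, hsurj, hf'⟩, -⟩ := S19141.result (Red.bc A.hom H) (Red.bc A.hom G) (by
    obtain ⟨S', f, h1, h2, h3, h4⟩ := id hHA
    exact ⟨S', f, h1, h2, h3, fun s' => by
      obtain ⟨U, hU, N, iN, -, hiso⟩ := h4 s'
      exact ⟨U, hU, N, iN, hiso⟩⟩) w
  haveI : IsClosedImmersion j.left := hj
  haveI := hfl; haveI := hsurj
  have hQft : SGA3x.IsMultTypeFT Q := by
    haveI : LocallyOfFiniteType Q.hom := by rw [← Over.w j]; infer_instance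
    haveI : IsAffineHom Q.hom := by rw [← Over.w j]; infer_instance
    haveI : IsFinite (Red.bc A.hom H).hom := MorphismProperty.pullback_snd (P := @IsFinite) _ _ inferInstance
    haveI : UniversallyClosed (f'.left ≫ Q.hom) := by rw [Over.w]; infer_instance
    haveI : UniversallyClosed Q.hom := UniversallyClosed.of_comp_surjective f'.left Q.hom
    haveI : IsFinite Q.hom := IsFinite.iff_isProper_and_isAffineHom.mpr ⟨⟨⟩, inferInstance⟩
    obtain ⟨S', g, h1, h2, h3, h4⟩ := hQ
    refine ⟨S', g, h1, h2, h3, fun s' => ?_⟩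
    obtain ⟨V, hV, N, iN, ⟨e⟩⟩ := h4 s'
    letI := iN
    haveI hbc : IsFinite (Red.bc (V.ι ≫ g) Q).hom := MorphismProperty.pullback_snd (P := @IsFinite) _ _ inferInstance
    let e' := Tori.BaseChange.overIso e
    haveI : IsIso e'.inv.left := inferInstanceAs (IsIso ((Over.forget _).map e'.inv))
    haveI : IsFinite (Red.DS (V : Scheme.{u}) N).hom := by
      rw [← Over.w e'.inv]
      exact (MorphismProperty.cancel_left_of_respectsIso @IsFinite e'.inv.left _).2 hbc
    haveI := HomFam.finite_of_isFinite (U := (V : Scheme.{u})) ⟨s', hV⟩ N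
    exact ⟨V, hV, N, iN, inferInstance, ⟨e⟩⟩
  obtain ⟨U, hUc, hU, hUmono⟩ := Charts.exists_clopen_locus Mono.P Loci.hP_mono hHA hQft f'
  let E : Over S := Over.mk (U.ι ≫ A.hom)
  let F' : Fam H G E.hom := F.res U.ι rfl
  let a : Red.bc E.hom H ⟶ Red.bc E.hom G := CentralDescent.toHom F'
  have ha : gmap G a = bm H U.ι rfl ≫ υ.left := gmap_toHom_ofMor υ hfam U.ι
  have hmono : ∀ {T : Scheme.{u}} (e : T ⟶ A.left) (t : T ⟶ S) (he : e ≫ A.hom = t)
      (v : Red.bc t H ⟶ Red.bc t G), bm H e he ≫ υ.left = gmap G v → (Mono v ↔ Charts.Fib Mono.P e f') := by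
    intro T e t he v hv
    subst he
    have hfw : Charts.Fib Mono.P e f' ↔ Charts.Fib Mono.P e w := by
      show Mono ((Over.pullback e).map f').left ↔ Mono ((Over.pullback e).map w).left
      rw [← hf', Functor.map_comp, Over.comp_left]
      haveI : Mono ((Over.pullback e).map j).left :=
        Charts.fib_of Mono.P e j (inferInstanceAs (Mono j.left))
      exact ⟨fun h => inferInstance, fun h => mono_of_mono _ ((Over.pullback e).map j).left⟩
    rw [hfw]
    let iH := bcIso e A.hom H
    let iG := bcIso e A.hom G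
    have hcomm : iH.hom ≫ (Over.pullback e).map w = v ≫ iG.hom :=
      pullbackComp_comm e A.hom w v ((congrArg (bm H e rfl ≫ ·) hw).trans hv)
    show _ ↔ Mono ((Over.pullback e).map w).left
    have hl := congrArg CommaMorphism.left hcomm
    haveI : IsIso iH.hom.left := inferInstanceAs (IsIso ((Over.forget _).map iH.hom))
    haveI : IsIso iG.hom.left := inferInstanceAs (IsIso ((Over.forget _).map iG.hom))
    constructor
    · intro h
      haveI : Mono (v.left ≫ iG.hom.left) := inferInstance
      have : Mono (iH.hom.left ≫ ((Over.pullback e).map w).left) := by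
        rw [show iH.hom.left ≫ ((Over.pullback e).map w).left = v.left ≫ iG.hom.left from hl]; infer_instance
      rw [show ((Over.pullback e).map w).left = inv iH.hom.left ≫ (iH.hom.left ≫ ((Over.pullback e).map w).left) by simp]
      exact mono_comp _ _
    · intro h
      have : Mono (v.left ≫ iG.hom.left) := by
        rw [← show iH.hom.left ≫ ((Over.pullback e).map w).left = v.left ≫ iG.hom.left from hl]; infer_instance
      haveI := mono_of_mono v.left iG.hom.left
      exact Over.mono_of_mono_left v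
  haveI : IsMonHom a := CentralDescent.isMonHom_toHom F'
  haveI : Mono a := (hmono U.ι _ rfl a ha.symm).mpr hUmono
  refine ⟨E, a, inferInstance, inferInstance, ?_, inferInstanceAs (LocallyOfFinitePresentation (U.ι ≫ A.hom)), ?_⟩
  · haveI : IsClosedImmersion U.ι := IsClosedImmersion.of_isPreimmersion _ (by
      rw [Scheme.Opens.range_ι]; exact hUc)
    exact inferInstanceAs (IsAffineHom (U.ι ≫ A.hom))
  · intro T t v _ _
    let φ : H ⊗ Over.mk t ⟶ G := Over.homMk (v.left ≫ pullback.fst G.hom t) (by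
      show (v.left ≫ pullback.fst G.hom t) ≫ G.hom = pullback.fst H.hom t ≫ H.hom
      have h : v.left ≫ pullback.snd G.hom t = pullback.snd H.hom t := Over.w v
      rw [Category.assoc, pullback.condition, reassoc_of% h, pullback.condition])
    have hφ : φ = (CentralDescent.famOf v).toMor := Over.OverMorphism.ext (gmap_toMor v).symm
    obtain ⟨b, hb, hbu⟩ := hrep (Over.mk t) φ (hφ ▸ Fam.isHomFamily_toMor _)
    have hwl : ∀ (c : Over.mk t ⟶ A), (H ◁ c).left = bm H c.left (Over.w c) := fun c => by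
      apply pullback.hom_ext
      · simp [bm_fst]
      · simp [bm_snd]
    have hb' : bm H b.left (Over.w b) ≫ υ.left = gmap G v := by
      rw [← hwl]
      exact congrArg CommaMorphism.left hb
    obtain ⟨b₀, hb₀⟩ : ∃ b₀, b.left = b₀ := ⟨_, rfl⟩
    have hrange : Set.range b.left ⊆ Set.range U.ι := by
      rintro _ ⟨x, rfl⟩
      rw [Scheme.Opens.range_ι]
      refine (hU _).mpr ?_
      have h1 := (hmono b.left t (Over.w b) v hb').mp inferInstance
      exact (Charts.fib_residue_iff Mono.P b.left x f').mp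
        (Charts.fib_base Mono.P (T.fromSpecResidueField x) h1)
    let e : T ⟶ E.left := IsOpenImmersion.lift U.ι b.left hrange
    have hee : e ≫ U.ι = b.left := IsOpenImmersion.lift_fac _ _ _
    have het : e ≫ E.hom = t := by
      show e ≫ U.ι ≫ A.hom = t
      rw [← Category.assoc, hee]; exact Over.w b
    refine ⟨e, ⟨het, ?_⟩, ?_⟩
    · rw [ha, ← Category.assoc]
      exact (congrArg (· ≫ υ.left) (bm_comp H e het U.ι rfl b.left (Over.w b) hee)).trans hb'
    · rintro e' ⟨he', hev⟩
      have hw' : (e' ≫ U.ι) ≫ A.hom = t := (Category.assoc _ _ _).trans he'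
      rw [ha, ← Category.assoc] at hev
      have hev' : bm H (e' ≫ U.ι) hw' ≫ υ.left = gmap G v :=
        (congrArg (· ≫ υ.left) (bm_comp H e' he' U.ι rfl (e' ≫ U.ι) hw' rfl).symm).trans hev
      have hb2 : (H ◁ (Over.homMk (e' ≫ U.ι) hw' : Over.mk t ⟶ A)) ≫ υ = φ :=
        Over.OverMorphism.ext ((congrArg (· ≫ υ.left) (hwl _)).trans hev')
      rw [← cancel_mono U.ι, hee]
      exact congrArg CommaMorphism.left (hbu _ hb2)

end Groth.Agent.H87.MonoHom
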