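import Groth.Agent.H87.SubIn
import Groth.Agent.H87.SplitHom
import Groth.Agent.H87.SplitMax
import Groth.Agent.H87.Factor

/-!
# Relations between monomorphisms from finite diagonalisable groups
-/

set_option autoImplicit false
set_option linter.style.haveILetI false
universe u

open CategoryTheory MonoidalCategory CartesianMonoidalCategory MonObj GrpObj AlgebraicGeometry
open CategoryTheory.Limits
open Groth.Agent.Lib Groth.Agent.Lib.RedPts Groth.Agent.H87.MonoHom Groth.Agent.H87.SubIn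
open Groth.Agent.H87.HomFam

namespace Groth.Agent.H87.MonoRel

variable {S : Scheme.{u}} {M N : Type} [AddCommGroup M] [AddCommGroup N]

/-- The base change of `D(φ)`. -/
noncomputable abbrev dsm {T : Scheme.{u}} (t : T ⟶ S) (φ : N →+ M) :
    Red.bc t (Red.DS S M) ⟶ Red.bc t (Red.DS S N) := (Over.pullback t).map (Red.DSmap S φ)

theorem gmap_dsm {T : Scheme.{u}} (t : T ⟶ S) (φ : N →+ M) :
    gmap (Red.DS S N) (dsm t φ) = pullback.fst (Red.DS S M).hom t ≫ (Red.DSmap S φ).left :=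
  pullback.lift_fst _ _ _

theorem isMonHom_dsm {T : Scheme.{u}} (t : T ⟶ S) (φ : N →+ M) : IsMonHom (dsm t φ) := by
  haveI : IsMonHom (Red.DSmap S φ) := Gm.isMonHom_DSmap _
  infer_instance

theorem dsm_injective {T : Scheme.{u}} (x : T) {t : T ⟶ S} {φ ψ : N →+ M} (h : dsm t φ = dsm t ψ) : φ = ψ := by
  refine constFam_injective x (t := t) (Fam.ext (funext fun Y => funext fun y => funext fun hy => funext fun g => ?_))
  have h1 : pullback.fst (Red.DS S M).hom t ≫ (Red.DSmap S φ).left =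
      pullback.fst (Red.DS S M).hom t ≫ (Red.DSmap S ψ).left := by rw [← gmap_dsm, ← gmap_dsm, h]
  refine Over.OverMorphism.ext ?_
  show g.left ≫ (Red.DSmap S φ).left = g.left ≫ (Red.DSmap S ψ).left
  rw [← pullback.lift_fst g.left y ((Over.w g).trans hy.symm), Category.assoc, h1, ← Category.assoc]

/-- Finite abelian groups: a monomorphism of diagonalisable groups comes from a surjection. -/
theorem surjective_of_mono {T : Scheme.{u}} (x : T) (t : T ⟶ S) (φ : N →+ M) [Mono (dsm t φ)] :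
    Function.Surjective φ := by
  let q := QuotientAddGroup.mk' φ.range
  have h0 : q.comp φ = (0 : M →+ M ⧸ φ.range).comp φ := by
    ext n
    exact (QuotientAddGroup.eq_zero_iff _).mpr ⟨n, rfl⟩
  have h1 : dsm t q ≫ dsm t φ = dsm t (0 : M →+ M ⧸ φ.range) ≫ dsm t φ := by
    rw [← Functor.map_comp, ← Functor.map_comp, Factor.DSmap_comp, Factor.DSmap_comp, h0]
  rw [cancel_mono] at h1
  have h2 : q = 0 := dsm_injective x h1
  intro m
  exact (QuotientAddGroup.eq_zero_iff m).mp (DFunLike.congr_fun h2 m)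

set_option maxHeartbeats 400000 in
/-- A monomorphism between split groups is locally given by a surjection. -/
theorem exists_local [AddGroup.FG N] {T : Scheme.{u}} {t : T ⟶ S}
    (ψ : Red.bc t (Red.DS S M) ⟶ Red.bc t (Red.DS S N)) [IsMonHom ψ] [Mono ψ] (x : T) :
    ∃ (φ : N →+ M) (O : T.Opens), x ∈ O ∧ Function.Surjective φ ∧
      bm (Red.DS S M) O.ι rfl ≫ gmap (Red.DS S N) ψ = gmap (Red.DS S N) (dsm (O.ι ≫ t) φ) := by
  obtain ⟨φ, O, hx, hφ⟩ := exists_constFam (CentralDescent.famOf ψ) x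
  have key : bm (Red.DS S M) O.ι rfl ≫ gmap (Red.DS S N) ψ = gmap (Red.DS S N) (dsm (O.ι ≫ t) φ) := by
    let Y : Over S := Red.DS S M ⊗ Over.mk (O.ι ≫ t)
    let x₀ : Y ⟶ Red.DS S M := fst _ _
    have h1 := congr(($hφ).app Y (snd (Red.DS S M) (Over.mk (O.ι ≫ t))).left (Over.w _) x₀)
    have h2 := congrArg CommaMorphism.left h1
    rw [gmap_dsm]
    refine Eq.trans ?_ h2
    show _ = ((CentralDescent.famOf ψ).app Y ((snd (Red.DS S M) (Over.mk (O.ι ≫ t))).left ≫ O.ι) _ x₀).left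
    have hw : ((snd (Red.DS S M) (Over.mk (O.ι ≫ t))).left ≫ O.ι) ≫ t = Y.hom :=
      (Category.assoc _ _ _).trans (Over.w (snd (Red.DS S M) (Over.mk (O.ι ≫ t))))
    have h3 := Fam.lift_toMor (CentralDescent.famOf ψ) x₀ (Over.homMk _ hw : Y ⟶ Over.mk t)
    refine Eq.trans ?_ (congrArg CommaMorphism.left h3)
    exact congr(bm (Red.DS S M) O.ι rfl ≫ $((gmap_toMor ψ).symm))
  refine ⟨φ, O, hx, ?_, key⟩
  obtain ⟨ψ', h1, h2, h3, -⟩ := exists_pull (G := Red.DS S N) O.ι (rfl : O.ι ≫ t = O.ι ≫ t) ψ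
  let e := bcIso O.ι t (Red.DS S M)
  have : e.hom ≫ ψ' = dsm (O.ι ≫ t) φ := hom_ext_gmap (by
    show (e.hom.left ≫ ψ'.left) ≫ pullback.fst (Red.DS S N).hom (O.ι ≫ t) = _
    rw [Category.assoc]
    exact (congrArg (e.hom.left ≫ ·) h3).trans ((Category.assoc _ _ _).symm.trans
      ((congrArg (· ≫ gmap (Red.DS S N) ψ) (bcIso_hom_fst _ _ _)).trans key)))
  haveI : Mono (dsm (O.ι ≫ t) φ) := by rw [← this]; infer_instance
  exact surjective_of_mono (⟨x, hx⟩ : (O : Scheme.{u})) (O.ι ≫ t) φ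

variable {G : Over S} [GrpObj G]

theorem bm_dsm {T E : Scheme.{u}} {t : T ⟶ S} {p : E ⟶ S} (e : T ⟶ E) (he : e ≫ p = t) (φ : N →+ M) :
    bm (Red.DS S M) e he ≫ (dsm p φ).left = (dsm t φ).left ≫ bm (Red.DS S N) e he := by
  apply pullback.hom_ext
  · rw [Category.assoc, Category.assoc, bm_fst]
    exact (congrArg (bm (Red.DS S M) e he ≫ ·) (gmap_dsm p φ)).trans ((bm_fst_assoc _ _ _ _).trans (gmap_dsm t φ).symm)
  · rw [Category.assoc, Category.assoc, bm_snd]
    refine (congrArg (bm (Red.DS S M) e he ≫ ·) (Over.w (dsm p φ))).trans ((bm_snd _ _ _).trans ?_)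
    exact ((congrArg (· ≫ e) (Over.w (dsm t φ))).symm.trans (Category.assoc _ _ _))

/-- Restriction of a monomorphism family to a point. -/
theorem exists_restr {E : Over S} (a : Red.bc E.hom (Red.DS S M) ⟶ Red.bc E.hom G) [IsMonHom a] [Mono a]
    {T : Scheme.{u}} {t : T ⟶ S} (e : T ⟶ E.left) (he : e ≫ E.hom = t) :
    ∃ v : Red.bc t (Red.DS S M) ⟶ Red.bc t G, IsMonHom v ∧ Mono v ∧
      gmap G v = bm (Red.DS S M) e he ≫ gmap G a ∧
      ∀ {W : Scheme.{u}} (w : W ⟶ T) (g : W ⟶ G.left), In v w g ↔ In a (w ≫ e) g := by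
  subst he
  obtain ⟨a', h1, h2, h3, h4⟩ := exists_pull e rfl a
  haveI : IsMonHom (bcIso e E.hom (Red.DS S M)).hom := isMonHom_bcIso (G := Red.DS S M) e E.hom
  refine ⟨(bcIso e E.hom (Red.DS S M)).hom ≫ a', inferInstance, inferInstance, ?_, fun w g => (in_iso _ a' w g).trans (h4 w g)⟩
  show ((bcIso e E.hom (Red.DS S M)).hom.left ≫ a'.left) ≫ pullback.fst G.hom (e ≫ E.hom) = _
  rw [Category.assoc, ← bcIso_hom_fst, Category.assoc]
  exact congrArg ((bcIso e E.hom (Red.DS S M)).hom.left ≫ ·) h3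

/-- Two monomorphism families with the same image are locally related by an isomorphism. -/
theorem exists_local_rel [Finite M] [Finite N] {E E' : Over S}
    (a : Red.bc E.hom (Red.DS S M) ⟶ Red.bc E.hom G) [IsMonHom a] [Mono a]
    (a' : Red.bc E'.hom (Red.DS S N) ⟶ Red.bc E'.hom G) [IsMonHom a'] [Mono a']
    {T : Scheme.{u}} {t : T ⟶ S} (e : T ⟶ E.left) (he : e ≫ E.hom = t) (e' : T ⟶ E'.left) (he' : e' ≫ E'.hom = t)
    (h : ∀ (W : Scheme.{u}) (w : W ⟶ T) (g : W ⟶ G.left), In a (w ≫ e) g ↔ In a' (w ≫ e') g) (x : T) :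
    ∃ (φ : N ≃+ M) (O : T.Opens), x ∈ O ∧ ∀ (he₁ : (O.ι ≫ e) ≫ E.hom = O.ι ≫ t)
      (he₂ : (O.ι ≫ e') ≫ E'.hom = O.ι ≫ t),
      bm (Red.DS S M) (O.ι ≫ e) he₁ ≫ gmap G a =
        (dsm (O.ι ≫ t) φ.toAddMonoidHom).left ≫ bm (Red.DS S N) (O.ι ≫ e') he₂ ≫ gmap G a' := by
  obtain ⟨v, hv1, hv2, hv3, hv4⟩ := exists_restr a e he
  obtain ⟨v', hv1', hv2', hv3', hv4'⟩ := exists_restr a' e' he'
  obtain ⟨ψ, hψ⟩ := exists_iso_of_In v v' fun W w g => (hv4 w g).trans ((h W w g).trans (hv4' w g).symm)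
  haveI : IsMonHom ψ.hom := HomDS.isMonHom_of_points _ fun X a b => by
    rw [← cancel_mono v', Category.assoc, hψ, MonObj.mul_comp, MonObj.mul_comp, Category.assoc, Category.assoc, hψ]
  haveI : IsMonHom ψ.inv := show IsMonHom (Tori.BaseChange.overIso (Tori.BaseChange.grpIso ψ)).inv from inferInstance
  obtain ⟨φ, O, hx, hφ, hkey⟩ := exists_local ψ.hom x
  obtain ⟨φ', -, -, hφ', -⟩ := exists_local ψ.inv x
  have hinj : Function.Injective φ := by
    haveI : Fintype M := Fintype.ofFinite M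
    haveI : Fintype N := Fintype.ofFinite N
    exact ((Function.Surjective.bijective_of_nat_card_le hφ) (Nat.card_le_card_of_surjective φ' hφ')).1
  refine ⟨AddEquiv.ofBijective φ ⟨hinj, hφ⟩, O, hx, fun he₁ he₂ => ?_⟩
  have hh : bm (Red.DS S M) O.ι rfl ≫ ψ.hom.left = (dsm (O.ι ≫ t) φ).left ≫ bm (Red.DS S N) O.ι rfl := by
    apply pullback.hom_ext
    · rw [Category.assoc, Category.assoc, bm_fst]
      exact hkey
    · rw [Category.assoc, Category.assoc, bm_snd]
      refine (congrArg (bm (Red.DS S M) O.ι rfl ≫ ·) (Over.w ψ.hom)).trans ((bm_snd _ _ _).trans ?_)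
      exact ((congrArg (· ≫ O.ι) (Over.w (dsm (O.ι ≫ t) φ))).symm.trans (Category.assoc _ _ _))
  have hψ' : ψ.hom.left ≫ gmap G v' = gmap G v := by
    rw [← hψ]; exact (Category.assoc _ _ _).symm
  rw [← bm_comp (Red.DS S M) O.ι rfl e he (O.ι ≫ e) he₁ rfl, Category.assoc, ← hv3, ← hψ', ← Category.assoc, hh,
    Category.assoc, hv3', ← Category.assoc (bm (Red.DS S N) O.ι rfl), bm_comp (Red.DS S N) O.ι rfl e' he' (O.ι ≫ e') he₂ rfl]
  rfl

end Groth.Agent.H87.MonoRel
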