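import Groth.Agent.H87.BridgePts
import Groth.Agent.H87.Charts
import Groth.Agent.H87.MT
import Groth.Agent.H83.Quasi.PairMain
import Groth.Agent.H83.MultType.Quot
import Groth.Agent.Lib.MultAvg.Exists
import Groth.Agent.Lib.Tori.Basic

/-!
Groups of multiplicative type over an affine base: the Hopf-algebra form and the scheme form.
-/

set_option autoImplicit false
universe u

open CategoryTheory MonoidalCategory CartesianMonoidalCategory MonObj GrpObj AlgebraicGeometry
open CategoryTheory.Limits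
open scoped TensorProduct
open Groth.Agent.Lib Groth.Agent.Lib.Tori

namespace Groth.Agent.H87.Bridge

set_option linter.style.haveILetI false

/-- A finitely generated commutative group is realised in `Type`. -/
theorem exists_type0 (P : Type u) [CommGroup P] [Group.FG P] :
    ∃ (M : Type) (_ : AddCommGroup M), AddGroup.FG M ∧ Nonempty (P ≃* ULift.{u} (Multiplicative M)) := by
  obtain ⟨n, φ, hφ⟩ := Module.Finite.exists_fin' ℤ (Additive P)
  let M := (Fin n → ℤ) ⧸ LinearMap.ker φ
  let ψ : M ≃ₗ[ℤ] Additive P := φ.quotKerEquivOfSurjective hφ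
  refine ⟨M, inferInstance, Module.Finite.iff_addGroup_fg.1 inferInstance, ⟨?_⟩⟩
  exact (AddEquiv.toMultiplicativeRight ψ.symm.toAddEquiv).trans MulEquiv.ulift.symm

variable {R : Type u} [CommRing R] {A : Type u} [CommRing A] [HopfAlgebra R A]
  {T : Over (Spec (CommRingCat.of R))} [GrpObj T]
  (e : T ≅ (Spec (CommRingCat.of A)).asOver (Spec (CommRingCat.of R))) [IsMonHom e.hom]

include e in
theorem isMultType_of_locSplit (hT : MultAvg.LocSplit T) : SGA3b.IsMultType R A := by
  classical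
  obtain ⟨κ, iκ, B, φ, hflat, hsurj, hsplit⟩ := MultAvg.exists_split_cover hT (𝟙 (Spec (CommRingCat.of R)))
  letI : ∀ i, Algebra R (B i) := fun i => (φ i).hom.toAlgebra
  haveI : ∀ i, Module.Flat R (B i) := fun i => hflat i
  choose M iM hM using hsplit
  have hd : ∀ i, Nonempty ((B i ⊗[R] A) ≃ₐc[B i] MonoidAlgebra (B i) (ULift.{u} (Multiplicative (M i)))) := fun i => by
    obtain ⟨ε⟩ := hM i
    exact exists_bialgEquiv e ⟨BaseChange.bcCongr (by simp [sp]; rfl) T ≪≫ ε⟩
  let d := fun i => (hd i).some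
  let Rel : κ → κ → Prop := fun i j => Nonempty (ULift.{u} (Multiplicative (M i)) ≃* ULift.{u} (Multiplicative (M j)))
  let rng : κ → Set (PrimeSpectrum R) := fun i => Set.range (PrimeSpectrum.comap (algebraMap R (B i)))
  have hmeet : ∀ i j p, p ∈ rng i → p ∈ rng j → Rel i j := by
    rintro i j p ⟨y, rfl⟩ ⟨z, hz⟩
    obtain ⟨w, -, -⟩ := Scheme.Pullback.exists_preimage_pullback (f := Spec.map (φ i)) (g := Spec.map (φ j))
      (y : Spec (B i)) (z : Spec (B j)) hz.symm
    let P : Scheme.{u} := pullback (Spec.map (φ i)) (Spec.map (φ j))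
    let K := P.residueField w
    let a : B i ⟶ K := Spec.preimage (P.fromSpecResidueField w ≫ pullback.fst _ _)
    let b : B j ⟶ K := Spec.preimage (P.fromSpecResidueField w ≫ pullback.snd _ _)
    have hab : φ i ≫ a = φ j ≫ b := Spec.map_injective (by
      simp only [a, b, Spec.map_comp, Spec.map_preimage, Category.assoc, pullback.condition])
    letI : Algebra R K := (φ i ≫ a).hom.toAlgebra
    obtain ⟨ei, -⟩ := H83.MultType.exists_diag_map
      ({ a.hom with commutes' := fun _ => rfl } : B i →ₐ[R] K) (d i)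
    obtain ⟨ej, -⟩ := H83.MultType.exists_diag_map
      ({ b.hom with commutes' := fun r => (congr(($hab).hom r)).symm } : B j →ₐ[R] K) (d j)
    exact H83.MultType.nonempty_mulEquiv_of_bialgEquiv (ei.symm.trans ej)
  let Z : κ → Set (PrimeSpectrum R) := fun i₀ => ⋃ i : {i // Rel i₀ i}, rng i.1
  have hcov : ∀ p, ∃ i, p ∈ rng i := fun p => by
    obtain ⟨i, y, hy⟩ := hsurj p
    exact ⟨i, y, hy⟩
  have hsat : ∀ i₀ i p, p ∈ rng i → (p ∈ Z i₀ ↔ Rel i₀ i) := by
    intro i₀ i p hp
    refine ⟨fun h => ?_, fun h => Set.mem_iUnion.mpr ⟨⟨i, h⟩, hp⟩⟩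
    obtain ⟨⟨k, ⟨hk⟩⟩, hkp⟩ := Set.mem_iUnion.mp h
    obtain ⟨m₁⟩ := hmeet k i p hkp hp
    exact ⟨hk.trans m₁⟩
  have hclopen : ∀ i₀, IsClopen (Z i₀) := by
    intro i₀
    have hspec : ∀ x y, x ⤳ y → (x ∈ Z i₀ ↔ y ∈ Z i₀) := by
      intro x y hxy
      obtain ⟨i, q, hq⟩ := hcov y
      obtain ⟨q', -, hq'⟩ := Algebra.HasGoingDown.iff_generalizingMap_primeSpectrumComap.mp
        (inferInstance : Algebra.HasGoingDown R (B i)) (hq.symm ▸ hxy)
      rw [hsat i₀ i y ⟨q, hq⟩, hsat i₀ i x ⟨q', hq'⟩]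
    have hclosed : ∀ P : κ → Prop, StableUnderSpecialization (⋃ i : {i // P i}, rng i.1) →
        IsClosed (⋃ i : {i // P i}, rng i.1) := by
      intro P hP
      have hr : (⋃ i : {i // P i}, rng i.1) =
          Set.range (PrimeSpectrum.comap (Pi.ringHom fun i : {i // P i} => algebraMap R (B i.1))) := by
        have hx := PrimeSpectrum.iUnion_range_comap_comp_evalRingHom
          (Pi.ringHom fun i : {i // P i} => algebraMap R (B i.1))
        exact hx
      rw [hr] at hP ⊢
      exact PrimeSpectrum.isClosed_range_of_stableUnderSpecialization _ hP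
    refine ⟨hclosed _ fun x y hxy hx => (hspec x y hxy).mp hx, ?_⟩
    have hc : (Z i₀)ᶜ = ⋃ i : {i // ¬ Rel i₀ i}, rng i.1 := by
      ext p
      obtain ⟨i, hi⟩ := hcov p
      simp only [Set.mem_compl_iff, Set.mem_iUnion, Subtype.exists]
      exact ⟨fun h => ⟨i, fun hr => h ((hsat i₀ i p hi).mpr hr), hi⟩,
        fun ⟨k, hk, hkp⟩ h => hk ((hsat i₀ k p hkp).mp h)⟩
    rw [← isClosed_compl_iff, hc]
    exact hclosed _ (hc ▸ fun x y hxy hx => fun hy => hx ((hspec x y hxy).mpr hy))
  choose ε hεi hεZ using fun i₀ => PrimeSpectrum.exists_idempotent_basicOpen_eq_of_isClopen (hclopen i₀)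
  refine ⟨Set.range ε, ?_, ?_⟩
  · rw [← PrimeSpectrum.iSup_basicOpen_eq_top_iff, eq_top_iff]
    intro p _
    obtain ⟨i, hi⟩ := hcov p
    refine TopologicalSpace.Opens.mem_iSup.mpr ⟨i, ?_⟩
    show p ∈ (PrimeSpectrum.basicOpen (ε i) : Set (PrimeSpectrum R))
    rw [← hεZ]
    exact (hsat i i p hi).mpr ⟨MulEquiv.refl _⟩
  rintro _ ⟨i₀, rfl⟩
  let Rf := Localization.Away (ε i₀)
  let J := {i // Rel i₀ i}
  have hu : ∀ i : J, IsUnit (algebraMap R (B i.1) (ε i₀)) := fun i => by
    by_contra h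
    obtain ⟨m, hm, hmem⟩ := exists_max_ideal_of_mem_nonunits h
    have h1 : PrimeSpectrum.comap (algebraMap R (B i.1)) ⟨m, hm.isPrime⟩ ∈ Z i₀ := Set.mem_iUnion.mpr ⟨i, ⟨_, rfl⟩⟩
    rw [hεZ] at h1
    exact h1 hmem
  letI : ∀ i : J, Algebra Rf (B i.1) := fun i =>
    (IsLocalization.Away.lift (S := Rf) (ε i₀) (hu i)).toAlgebra
  haveI : ∀ i : J, IsScalarTower R Rf (B i.1) := fun i => IsScalarTower.of_algebraMap_eq fun r =>
    (IsLocalization.Away.lift_eq (S := Rf) (ε i₀) (hu i) r).symm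
  haveI : ∀ i : J, Module.Flat Rf (B i.1) := fun i =>
    (Module.flat_iff_of_isLocalization Rf (Submonoid.powers (ε i₀)) (B i.1)).mpr inferInstance
  haveI : Module.Flat Rf (Π i : J, B i.1) := Module.Flat.of_linearEquiv (DFinsupp.linearEquivFunOnFintype).symm
  haveI : Module.FaithfullyFlat Rf (Π i : J, B i.1) := by
    refine Module.FaithfullyFlat.of_comap_surjective fun p => ?_
    have hp : PrimeSpectrum.comap (algebraMap R Rf) p ∈ Z i₀ := by
      rw [hεZ]
      have := (PrimeSpectrum.localization_away_comap_range Rf (ε i₀)).le ⟨p, rfl⟩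
      exact this
    obtain ⟨i, y, hy⟩ := Set.mem_iUnion.mp hp
    refine ⟨PrimeSpectrum.comap (Pi.evalRingHom (fun i : J => B i.1) i) y, PrimeSpectrum.localization_comap_injective Rf (Submonoid.powers (ε i₀)) ?_⟩
    rw [← hy, ← PrimeSpectrum.comap_comp_apply, ← PrimeSpectrum.comap_comp_apply]
    congr 2
    exact RingHom.ext fun r => (IsScalarTower.algebraMap_apply R Rf (B i.1) r).symm
  obtain ⟨N, _, ⟨en⟩⟩ := H83.Quasi.exists_pi_diag (R := R) (A := A) (S := fun i : J => B i.1)
    (M := ULift.{u} (Multiplicative (M i₀))) fun i => (d i.1).trans (MonoidAlgebra.domCongrBialgEquiv _ _ i.2.some.symm)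
  haveI : IsScalarTower R Rf (Π i : J, B i.1) :=
    IsScalarTower.of_algebraMap_eq fun r => funext fun i => IsScalarTower.algebraMap_apply R Rf (B i.1) r
  obtain ⟨Tw, -⟩ := H83.MultType.exists_towerEquiv R Rf (Π i : J, B i.1) A
  exact ⟨(Π i : J, B i.1), inferInstance, inferInstance, inferInstance, N, inferInstance, ⟨Tw.symm.trans en⟩⟩

include e in
/-- A quasi-isotrivial Hopf algebra of finite type gives a group of multiplicative type. -/
theorem isMultTypeFT_of_quasi (hft : Algebra.FiniteType R A) (h : SGA3b.IsQuasiIsotrivial R A) :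
    SGA3x.IsMultTypeFT T := by
  classical
  obtain ⟨s, hs, hc⟩ := h
  obtain ⟨s₁, hsub, hs₁⟩ := (Ideal.span_eq_top_iff_finite s).mp hs
  choose R' cR aR hEt hFF hD using fun f : {f // f ∈ s₁} => hc f.1 (hsub f.2)
  letI : ∀ i, Algebra R (R' i) := fun i => Algebra.compHom (R' i) (algebraMap R (Localization.Away i.1))
  haveI : ∀ i, IsScalarTower R (Localization.Away i.1) (R' i) := fun i => IsScalarTower.of_algebraMap_eq fun _ => rfl
  haveI : ∀ i, Module.Flat R (R' i) := fun i => by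
    haveI : Module.FaithfullyFlat (Localization.Away i.1) (R' i) := hFF i
    haveI : Module.Flat R (Localization.Away i.1) := IsLocalization.flat _ (Submonoid.powers i.1)
    exact Module.Flat.trans R (Localization.Away i.1) (R' i)
  let J := {i : {f // f ∈ s₁} // Nontrivial (R' i)}
  have hchart : ∀ i : J, ∃ (M : Type) (_ : AddCommGroup M), AddGroup.FG M ∧
      Nonempty (Grp.mk (Red.bc (sp R (R' i.1)) T) ≅ Grp.mk (Red.DS (Spec (CommRingCat.of (R' i.1))) M)) := by
    intro i
    haveI := i.2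
    obtain ⟨P, _, ⟨ε⟩⟩ := hD i.1
    obtain ⟨Tw, -⟩ := H83.MultType.exists_towerEquiv R (Localization.Away i.1.1) (R' i.1) A
    haveI : Group.FG P := H83.MultType.fg_of_finiteType hft (Tw.trans ε)
    obtain ⟨M, _, hMfg, ⟨m₁⟩⟩ := exists_type0 P
    exact ⟨M, inferInstance, hMfg, exists_schemeIso e ((Tw.trans ε).trans (MonoidAlgebra.domCongrBialgEquiv _ _ m₁))⟩
  choose M iM hFG hM using hchart
  let X : J → Scheme.{u} := fun i => Spec (CommRingCat.of (R' i.1))
  let f : ∐ X ⟶ Spec (CommRingCat.of R) := Sigma.desc fun i => sp R (R' i.1)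
  have hf : Flat f := IsZariskiLocalAtSource.sigmaDesc fun i => by
    rw [HasRingHomProperty.Spec_iff (P := @Flat)]
    exact RingHom.flat_algebraMap_iff.2 inferInstance
  have hsj : Surjective f := ⟨fun p => by
    obtain ⟨g, hg, hgp⟩ : ∃ g ∈ s₁, g ∉ (p : PrimeSpectrum R).asIdeal := by
      by_contra hcon
      simp only [not_exists, not_and, not_not] at hcon
      exact (p : PrimeSpectrum R).isPrime.ne_top (top_le_iff.mp (hs₁ ▸ Ideal.span_le.mpr hcon))
    let i : {f // f ∈ s₁} := ⟨g, hg⟩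
    obtain ⟨q, hq⟩ : (p : PrimeSpectrum R) ∈ Set.range (PrimeSpectrum.comap (algebraMap R (Localization.Away g))) := by
      rw [PrimeSpectrum.localization_away_comap_range (Localization.Away g) g]; exact hgp
    haveI : Module.FaithfullyFlat (Localization.Away i.1) (R' i) := hFF i
    letI : Algebra (Localization.Away g) (R' i) := aR i
    obtain ⟨y, hy⟩ := PrimeSpectrum.comap_surjective_of_faithfullyFlat (A := Localization.Away g) (B := R' i) q
    let j : J := ⟨i, PrimeSpectrum.nonempty_iff_nontrivial.mp ⟨y⟩⟩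
    refine ⟨(Sigma.ι X j) (y : Spec (CommRingCat.of (R' i))), ?_⟩
    show (Sigma.ι X j ≫ f) _ = p
    rw [Sigma.ι_desc]
    show PrimeSpectrum.comap (algebraMap R (R' i)) y = p
    haveI : IsScalarTower R (Localization.Away g) (R' i) := IsScalarTower.of_algebraMap_eq fun _ => rfl
    rw [IsScalarTower.algebraMap_eq R (Localization.Away g) (R' i), PrimeSpectrum.comap_comp_apply]
    exact (congrArg _ hy).trans hq⟩
  refine ⟨∐ X, f, hf, hsj, Basic.isQCCover_of_qc f, fun x => ?_⟩
  obtain ⟨⟨i, y⟩, rfl⟩ := (sigmaMk X).surjective x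
  refine ⟨(Sigma.ι X i).opensRange, ⟨y, (sigmaMk_mk X i y).symm⟩, M i, iM i, hFG i, ?_⟩
  obtain ⟨ε⟩ := hM i
  exact ⟨BaseChange.bcCongr (by
    rw [← Scheme.Hom.isoOpensRange_inv_comp (Sigma.ι X i), Category.assoc]
    exact congrArg _ (Sigma.ι_desc (fun i : J => sp R (R' i.1)) i)) T ≪≫ Charts.resChart ε (Sigma.ι X i).isoOpensRange.inv⟩

end Groth.Agent.H87.Bridge
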