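import Groth.Agent.H87.SubgroupDescent
import Groth.Agent.H87.EqLocus
import Groth.Agent.H87.Normal
import Groth.Agent.H83.ClopenEq

/-!
# Descent of central subgroups of multiplicative type along covers with connected fibres
-/

set_option autoImplicit false
universe u

open CategoryTheory CategoryTheory.Limits MonoidalCategory CartesianMonoidalCategory MonObj GrpObj
open AlgebraicGeometry
open Groth.Agent.Lib.RedPts Groth.Agent.Lib.Tori
open Groth.Agent.H87.CentralEq (Fac)

namespace Groth.Agent.H87.MultDescent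

set_option linter.style.haveILetI false

variable {S S' : Scheme.{u}} {π : S' ⟶ S}

/-- An open and closed subset of `S' ×_S S'` containing the diagonal is everything, for connected fibres. -/
theorem mem_of_clopen [Surjective π] (hconn : ∀ s : S, ConnectedSpace ↥(Limits.pullback π (Red.geomPt s)))
    (U : (pullback π π).Opens) (hUc : IsClosed (U : Set ↥(pullback π π))) (hdiag : ∀ s' : S', pullback.diagonal π s' ∈ U)
    (x : ↥(pullback π π)) : x ∈ U := by
  haveI : GeometricallyConnected π := Groth.Agent.H83.ClopenEq.geometricallyConnected_of_geomFibre π hconn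
  let s' := pullback.fst π π x
  let c := S'.fromSpecResidueField s'
  haveI : ConnectedSpace ↥(pullback π (c ≫ π)) :=
    GeometricallyConnected.geometrically_connectedSpace (f := π) (K := S'.residueField s') (c ≫ π) _ _
      (IsPullback.of_hasPullback π (c ≫ π))
  let e := pullbackSymmetry (pullback.fst π π) c ≪≫ pullbackRightPullbackFstIso π π c ≪≫ pullbackSymmetry _ _
  haveI : ConnectedSpace ↥(pullback (pullback.fst π π) c) :=
    e.inv.homeomorph.surjective.connectedSpace e.inv.homeomorph.continuous
  let q := pullback.fst (pullback.fst π π) c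
  obtain ⟨z, hz⟩ : x ∈ Set.range q := by
    rw [Scheme.Pullback.range_fst, S'.range_fromSpecResidueField]
    exact rfl
  obtain ⟨z₀, hz₀⟩ : pullback.diagonal π s' ∈ Set.range q := by
    rw [Scheme.Pullback.range_fst, S'.range_fromSpecResidueField]
    exact (Scheme.Hom.comp_apply _ _ _).symm.trans (congrArg (fun f : S' ⟶ S' => f s') (pullback.diagonal_fst π))
  have huniv : (q ⁻¹ᵁ U : Set ↥(pullback (pullback.fst π π) c)) = Set.univ :=
    IsClopen.eq_univ ⟨hUc.preimage q.continuous, (q ⁻¹ᵁ U).isOpen⟩ ⟨z₀, by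
      show q z₀ ∈ U
      rw [hz₀]; exact hdiag s'⟩
  have : z ∈ (q ⁻¹ᵁ U : Set ↥(pullback (pullback.fst π π) c)) := huniv ▸ Set.mem_univ z
  rw [← hz]
  exact this

variable {G : Over S} {Z' : Over S'} (j' : Z' ⟶ Red.bc π G) {P : Scheme.{u}} (p : P ⟶ S') {t : P ⟶ S} (e : p ≫ π = t)

/-- A scheme over `P` seen over `S` in two ways. -/
noncomputable def eps (X : Over P) : (Over.map t).obj X ⟶ (Over.map π).obj ((Over.map p).obj X) :=
  Over.homMk (U := (Over.map t).obj X) (V := (Over.map π).obj ((Over.map p).obj X)) (𝟙 X.left) (by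
    show 𝟙 X.left ≫ (X.hom ≫ p) ≫ π = X.hom ≫ t
    rw [Category.id_comp, Category.assoc, e])

theorem map_eps {X Y : Over P} (a : X ⟶ Y) :
    eps p e X ≫ (Over.map π).map ((Over.map p).map a) = (Over.map t).map a ≫ eps p e Y :=
  Over.OverMorphism.ext ((Category.id_comp _).trans (Category.comp_id _).symm)

/-- The pullback of `Z'` in the base change of `G`. -/
noncomputable def pull : Red.bc p Z' ⟶ Red.bc t G :=
  BC.up t (eps p e _ ≫ BC.down π (BC.down p (𝟙 (Red.bc p Z')) ≫ j'))

theorem down_pull {X : Over P} (a : X ⟶ Red.bc p Z') :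
    BC.down t (a ≫ pull j' p e) = eps p e X ≫ BC.down π (BC.down p a ≫ j') := by
  rw [BC.down_comp, pull, BC.down_up, ← Category.assoc, ← map_eps, Category.assoc, ← BC.down_comp,
    ← Category.assoc, ← BC.down_comp, Category.comp_id]

instance isMonHom_pull [GrpObj G] [GrpObj Z'] [IsMonHom j'] : IsMonHom (pull j' p e) :=
  HomDS.isMonHom_of_points _ fun X a b => BC.down_injective (by
    rw [down_pull, BC.down_mul, BC.down_mul, MonObj.mul_comp, BC.down_mul, comp_mul, down_pull, down_pull])

set_option backward.isDefEq.respectTransparency false in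
theorem pull_fst : (pull j' p e).left ≫ pullback.fst G.hom t =
    pullback.fst Z'.hom p ≫ SubgroupDescent.toG j' := by
  have := congr(($(down_pull j' p e (𝟙 (Red.bc p Z')))).left)
  rw [Category.id_comp, BC.down_left, Over.comp_left, BC.down_left, Over.comp_left, BC.down_left,
    Over.id_left, Category.id_comp, Category.assoc] at this
  exact this.trans (Category.id_comp _)

theorem isImmersion_pull [IsImmersion j'.left] : IsImmersion (pull j' p e).left := by
  let k : pullback G.hom t ⟶ pullback G.hom π :=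
    pullback.lift (pullback.fst G.hom t) (pullback.snd G.hom t ≫ p) (by rw [Category.assoc, e, pullback.condition])
  have hk1 : k ≫ pullback.fst G.hom π = pullback.fst G.hom t := pullback.lift_fst _ _ _
  have hk2 : k ≫ pullback.snd G.hom π = pullback.snd G.hom t ≫ p := pullback.lift_snd _ _ _
  have sqG : IsPullback k (pullback.snd G.hom t) (pullback.snd G.hom π) p := by
    refine IsPullback.of_right ?_ hk2 (IsPullback.of_hasPullback G.hom π)
    rw [hk1, e]
    exact IsPullback.of_hasPullback G.hom t
  have hs : (pull j' p e).left ≫ pullback.snd G.hom t = pullback.snd Z'.hom p := Over.w (pull j' p e)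
  have hj : j'.left ≫ pullback.snd G.hom π = Z'.hom := Over.w j'
  have hw : pullback.fst Z'.hom p ≫ j'.left = (pull j' p e).left ≫ k := by
    refine pullback.hom_ext ?_ ?_
    · rw [Category.assoc, Category.assoc, hk1, pull_fst]; rfl
    · rw [Category.assoc, Category.assoc, hk2, hj, ← Category.assoc (pull j' p e).left, hs, pullback.condition]
  have sq : IsPullback (pullback.fst Z'.hom p) (pull j' p e).left j'.left k := by
    refine IsPullback.of_bot ?_ hw sqG
    rw [hs, hj]
    exact IsPullback.of_hasPullback Z'.hom p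
  exact MorphismProperty.of_isPullback (P := @IsImmersion) sq inferInstance

set_option backward.isDefEq.respectTransparency false in
/-- The two pullbacks of a central subgroup of multiplicative type agree. -/
theorem invariant [GrpObj G] [GrpObj Z'] [IsMonHom j'] [IsImmersion j'.left] [Flat π] [Surjective π]
    [IsSeparated G.hom] [LocallyOfFinitePresentation G.hom]
    (hconn : ∀ s : S, ConnectedSpace ↥(Limits.pullback π (Red.geomPt s))) (hZ' : SGA3x.IsMultTypeFT Z')
    (hc : ∀ (X : Over S') (g : X ⟶ Red.bc π G) (h : X ⟶ Z'), g * (h ≫ j') = (h ≫ j') * g) :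
    SubgroupDescent.Invariant j' := by
  let p₁ := pullback.fst π π
  let p₂ := pullback.snd π π
  let t := p₁ ≫ π
  let i₁ := pull j' p₁ (t := t) rfl
  let i₂ := pull j' p₂ (t := t) pullback.condition.symm
  haveI : IsImmersion i₁.left := isImmersion_pull j' p₁ rfl
  haveI : IsImmersion i₂.left := isImmersion_pull j' p₂ pullback.condition.symm
  haveI : Mono i₁ := by
    have : Mono i₁.left := inferInstance
    exact Over.mono_of_mono_left i₁
  haveI : Mono i₂ := by
    have : Mono i₂.left := inferInstance
    exact Over.mono_of_mono_left i₂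
  haveI : IsSeparated (Red.bc t G).hom := MorphismProperty.pullback_snd (P := @IsSeparated) _ _ inferInstance
  haveI : LocallyOfFinitePresentation (Red.bc t G).hom :=
    MorphismProperty.pullback_snd (P := @LocallyOfFinitePresentation) _ _ inferInstance
  have hcomm : ∀ (X : Over (pullback π π)) (h : X ⟶ Red.bc p₁ Z') (h' : X ⟶ Red.bc p₂ Z'),
      (h ≫ i₁) * (h' ≫ i₂) = (h' ≫ i₂) * (h ≫ i₁) := fun X h h' => BC.down_injective (by
    let e₁ := eps p₁ (t := t) (π := π) rfl X
    let e₁' : (Over.map π).obj ((Over.map p₁).obj X) ⟶ (Over.map t).obj X :=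
      Over.homMk (U := (Over.map π).obj ((Over.map p₁).obj X)) (V := (Over.map t).obj X) (𝟙 X.left) (by
        show 𝟙 X.left ≫ X.hom ≫ t = (X.hom ≫ p₁) ≫ π
        rw [Category.id_comp, Category.assoc])
    have hee : e₁ ≫ e₁' = 𝟙 _ := Over.OverMorphism.ext (Category.id_comp _)
    rw [BC.down_mul, BC.down_mul, down_pull]
    have hg : BC.down t (h' ≫ i₂) = e₁ ≫ BC.down π (BC.up π (e₁' ≫ BC.down t (h' ≫ i₂))) := by
      rw [BC.down_up, ← Category.assoc, hee, Category.id_comp]
    rw [hg, ← comp_mul, ← comp_mul, ← BC.down_mul, ← BC.down_mul, hc])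
  obtain ⟨U, hUc, hU, hUf⟩ := EqLocus.exists_fac_locus i₁ i₂ (Normal.multTypeFT_bc hZ' p₁)
    (Normal.multTypeFT_bc hZ' p₂) (Or.inr inferInstance) hcomm
  -- on the diagonal the subgroups agree
  have hd : Fac i₁ i₂ (pullback.diagonal π) := by
    intro Y q γ
    have hY : q.left ≫ pullback.diagonal π = Y.hom := Over.w q
    have h12 : Y.hom ≫ p₁ = Y.hom ≫ p₂ := by
      rw [← hY, Category.assoc, Category.assoc, pullback.diagonal_fst, pullback.diagonal_snd]
    let l : Y.left ⟶ pullback Z'.hom p₂ := pullback.lift (γ.left ≫ pullback.fst Z'.hom p₁) Y.hom (by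
      rw [Category.assoc, pullback.condition, ← Category.assoc, ← h12]
      exact congrArg (· ≫ p₁) (Over.w γ))
    refine ⟨Over.homMk l (pullback.lift_snd _ _ _), Over.OverMorphism.ext (pullback.hom_ext ?_ ?_)⟩
    · show (l ≫ i₂.left) ≫ _ = (γ.left ≫ i₁.left) ≫ _
      rw [Category.assoc, Category.assoc]
      erw [pull_fst, pull_fst]
      rw [← Category.assoc, pullback.lift_fst, Category.assoc]
    · exact ((Over.w _).trans (Over.w _).symm)
  have hdiag : ∀ s' : S', pullback.diagonal π s' ∈ U := by
    intro s'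
    rw [hU]
    intro Y q γ
    let c := S'.fromSpecResidueField s'
    have hfac : Fac i₁ i₂ (c ≫ pullback.diagonal π) := fun Y q γ =>
      hd Y (Over.homMk (q.left ≫ c) ((Category.assoc _ _ _).trans (Over.w q))) γ
    refine (CentralEq.fib_iso_iff i₁ i₂ _).1 ?_ Y q γ
    have := (Charts.fib_residue_iff (MorphismProperty.isomorphisms Scheme) (pullback.diagonal π) s'
      (CentralEq.proj i₁ i₂)).1 ((CentralEq.fib_iso_iff i₁ i₂ _).2 hfac)
    exact this
  have htop := mem_of_clopen hconn U hUc hdiag
  intro T v x hx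
  let l : T ⟶ pullback π π := pullback.lift (v ≫ Z'.hom) x (by rw [Category.assoc, hx])
  let Y : Over (pullback π π) := Over.mk l
  let γ : Y ⟶ Red.bc p₁ Z' :=
    Over.homMk (pullback.lift v l (pullback.lift_fst _ _ _).symm) (pullback.lift_snd _ _ _)
  have hlU : Set.range l ⊆ Set.range U.ι := by
    rintro _ ⟨y, rfl⟩
    rw [Scheme.Opens.range_ι]
    exact htop _
  obtain ⟨γ', hγ'⟩ := hUf Y (Over.homMk (IsOpenImmersion.lift U.ι l hlU) (IsOpenImmersion.lift_fac _ _ _)) γ
  refine ⟨γ'.left ≫ pullback.fst Z'.hom p₂, ?_, ?_⟩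
  · rw [Category.assoc, pullback.condition, ← Category.assoc]
    exact (congrArg (· ≫ p₂) (Over.w γ')).trans (pullback.lift_snd _ _ _)
  · have := congrArg (fun f => f ≫ pullback.fst G.hom t) (congrArg CommaMorphism.left hγ')
    simp only [Over.comp_left, Category.assoc] at this
    erw [pull_fst, pull_fst] at this
    rw [Category.assoc]
    refine this.trans ?_
    exact (Category.assoc _ _ _).symm.trans (congrArg (· ≫ SubgroupDescent.toG j') (pullback.lift_fst _ _ _))

set_option backward.isDefEq.respectTransparency false in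
/-- Factorisation through a monomorphism may be checked after a cover. -/
theorem exists_fac_of_bc [Flat π] [Surjective π]
    (hcov : ∀ V : S.Opens, IsAffineOpen V → ∃ W : S'.Opens, IsCompact (W : Set S') ∧ π.base '' (W : Set S') = (V : Set S))
    {A B : Over S} (a : A ⟶ G) (b : B ⟶ G) [Mono b] (ψ : Red.bc π A ⟶ Red.bc π B)
    (hψ : ψ ≫ (Over.pullback π).map b = (Over.pullback π).map a) : ∃ r : A ⟶ B, r ≫ b = a := by
  have hmem := SubgroupDescent.cover_mem (π := π) hcov
  have hsh : ∀ (Y : Scheme.{u}),
      (Presieve.ofArrows (fun _ : PUnit.{u + 1} => pullback A.hom π) (fun _ => pullback.fst A.hom π)).IsSheafFor (yoneda.obj Y) :=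
    fun Y => Groth.Agent.Lib.DescAlg.DDFam.Cover.isSheafFor_yoneda
      (Precoverage.mem_coverings_of_isPullback _ hmem A.hom _ (fun _ ↦ pullback.snd A.hom π)
        fun _ ↦ IsPullback.of_hasPullback _ _) Y
  let X : Over S := Over.mk (pullback.fst A.hom π ≫ A.hom)
  let k : X ⟶ (Over.map π).obj (Red.bc π A) :=
    Over.homMk (U := X) (V := (Over.map π).obj (Red.bc π A)) (𝟙 _) (by
      show 𝟙 _ ≫ pullback.snd A.hom π ≫ π = pullback.fst A.hom π ≫ A.hom
      rw [Category.id_comp, pullback.condition])
  have hkA : k ≫ BC.down π (𝟙 (Red.bc π A)) = (Over.homMk (pullback.fst A.hom π) : X ⟶ A) :=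
    Over.OverMorphism.ext (by
      rw [Over.comp_left, BC.down_left]
      exact (Category.id_comp _).trans (Category.id_comp _))
  let r₀ : X ⟶ B := k ≫ BC.down π ψ
  have hr₀ : r₀ ≫ b = (Over.homMk (pullback.fst A.hom π) : X ⟶ A) ≫ a := by
    rw [← hkA, Category.assoc, Category.assoc, ← BC.down_map, ← BC.down_map, hψ, Category.id_comp]
  obtain ⟨rl, hrl, -⟩ := (Presieve.isSheafFor_arrows_iff _ _).1 (hsh B.left) (fun _ => r₀.left)
    (fun i j W c d hcd => by
      show c ≫ r₀.left = d ≫ r₀.left
      let c' : Over.mk (c ≫ X.hom) ⟶ X := Over.homMk c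
      let d' : Over.mk (c ≫ X.hom) ⟶ X := Over.homMk d
        ((Category.assoc _ _ _).symm.trans ((congrArg (· ≫ A.hom) hcd.symm).trans (Category.assoc _ _ _)))
      refine congrArg CommaMorphism.left (show c' ≫ r₀ = d' ≫ r₀ from ?_)
      rw [← cancel_mono b]
      refine (Category.assoc _ _ _).trans (Eq.trans ?_ (Category.assoc _ _ _).symm)
      rw [hr₀, ← Category.assoc, ← Category.assoc]
      exact congrArg (· ≫ a) (Over.OverMorphism.ext hcd))
  have hrl' : pullback.fst A.hom π ≫ rl = r₀.left := hrl PUnit.unit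
  have hrw : rl ≫ B.hom = A.hom := (hsh S).isSeparatedFor.ext fun W c hc => by
    obtain ⟨i⟩ := hc
    show pullback.fst A.hom π ≫ rl ≫ B.hom = pullback.fst A.hom π ≫ A.hom
    rw [← Category.assoc, hrl']
    exact Over.w r₀
  refine ⟨Over.homMk rl hrw, Over.OverMorphism.ext ((hsh G.left).isSeparatedFor.ext fun W c hc => ?_)⟩
  obtain ⟨i⟩ := hc
  show pullback.fst A.hom π ≫ rl ≫ b.left = pullback.fst A.hom π ≫ a.left
  rw [← Category.assoc, hrl']
  exact congrArg CommaMorphism.left hr₀

end Groth.Agent.H87.MultDescent
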