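import Groth.Agent.H87.MultLift

/-!
Finite groups of multiplicative type lift along nil thickenings.
-/

set_option autoImplicit false
set_option linter.style.haveILetI false
universe u

open CategoryTheory MonoidalCategory CartesianMonoidalCategory MonObj GrpObj AlgebraicGeometry
open scoped TensorProduct
open Groth.Agent.Lib

namespace Groth.Agent.H87.Bridge

variable {R : Type u} [CommRing R]

/-- A quasi-isotrivial Hopf algebra which is finite modulo a nil ideal is finite. -/
theorem finite_of_quasi {A : Type u} [CommRing A] [HopfAlgebra R A] {J : Ideal R} (hJ : ∀ x ∈ J, IsNilpotent x)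
    (hq : SGA3b.IsQuasiIsotrivial R A) (h0 : Module.Finite (R ⧸ J) ((R ⧸ J) ⊗[R] A)) : Module.Finite R A := by
  obtain ⟨s, hs, hc⟩ := hq
  refine Module.Finite.of_localizationSpan' s hs (Rₚ := fun r => Localization.Away r.1)
    (Mₚ := fun r => Localization.Away r.1 ⊗[R] A)
    (fun r => TensorProduct.mk R (Localization.Away r.1) A 1) fun r => ?_
  obtain ⟨R', _, _, -, hff, P, _, ⟨ε⟩⟩ := hc r.1 r.2
  haveI := hff
  let R₁ := Localization.Away r.1
  rcases subsingleton_or_nontrivial R' with hR' | hR'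
  · haveI : Subsingleton (R' ⊗[R₁] (R₁ ⊗[R] A)) := Module.subsingleton R' _
    haveI : Module.Finite R' (R' ⊗[R₁] (R₁ ⊗[R] A)) := inferInstance
    exact Module.Finite.of_finite_tensorProduct_of_faithfullyFlat R'
  · letI : Algebra R R' := Algebra.compHom R' (algebraMap R R₁)
    haveI : IsScalarTower R R₁ R' := IsScalarTower.of_algebraMap_eq fun _ => rfl
    obtain ⟨m, hm⟩ := Ideal.exists_maximal R'
    letI : Field (R' ⧸ m) := Ideal.Quotient.field m
    let K := R' ⧸ m
    have hle : J ≤ RingHom.ker (algebraMap R K) := fun x hx => by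
      rw [RingHom.mem_ker]
      exact (IsNilpotent.map (hJ x hx) (algebraMap R K)).eq_zero
    letI : Algebra (R ⧸ J) K := (Ideal.Quotient.lift J (algebraMap R K) hle).toAlgebra
    haveI : IsScalarTower R (R ⧸ J) K := IsScalarTower.of_algebraMap_eq fun x => (Ideal.Quotient.lift_mk J _ hle).symm
    haveI := h0
    have h1 : Module.Finite K (K ⊗[R] A) :=
      Module.Finite.equiv (TensorProduct.AlgebraTensorModule.cancelBaseChange R (R ⧸ J) K K A)
    let e1 : K ⊗[R'] (R' ⊗[R₁] (R₁ ⊗[R] A)) ≃ₗ[K] K ⊗[R] A :=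
      (TensorProduct.AlgebraTensorModule.congr (LinearEquiv.refl K K)
        (TensorProduct.AlgebraTensorModule.cancelBaseChange R R₁ R' R' A)).trans
        (TensorProduct.AlgebraTensorModule.cancelBaseChange R R' K K A)
    haveI : Module.Finite K (K ⊗[R'] MonoidAlgebra R' P) :=
      Module.Finite.equiv (R := K) (M := K ⊗[R] A) (e1.symm.trans
        (TensorProduct.AlgebraTensorModule.congr (LinearEquiv.refl K K) ε.toAlgEquiv.toLinearEquiv))
    haveI : Finite P := Module.Finite.finite_basis (Algebra.TensorProduct.basis K (MonoidAlgebra.basis P R'))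
    haveI : Module.Finite R' (MonoidAlgebra R' P) := Module.Finite.of_basis (MonoidAlgebra.basis P R')
    haveI : Module.Finite R' (R' ⊗[R₁] (R₁ ⊗[R] A)) := Module.Finite.equiv ε.toAlgEquiv.toLinearEquiv.symm
    exact Module.Finite.of_finite_tensorProduct_of_faithfullyFlat R'

/-- Finite groups of multiplicative type lift along nil thickenings. -/
theorem exists_lift_finite {J : Ideal R} (hJ : ∀ x ∈ J, IsNilpotent x)
    (H₀ : Over (Spec (CommRingCat.of (R ⧸ J)))) [GrpObj H₀] (hH₀ : MultAvg.LocSplit H₀) [IsFinite H₀.hom] :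
    ∃ (H : Over (Spec (CommRingCat.of R))) (_ : GrpObj H), SGA3x.IsMultTypeFT H ∧
      Nonempty (Grp.mk (Red.bc (mq J) H) ≅ Grp.mk H₀) := by
  haveI : IsAffine H₀.left := isAffine_of_isAffineHom H₀.hom
  obtain ⟨A₀, _, _, e₀, he₀⟩ := H1.Hopf.exists_iso H₀
  haveI := he₀
  have : IsIso e₀.inv.left := inferInstanceAs (IsIso ((Over.forget _).map e₀.inv))
  have hfin : IsFinite ((Spec (CommRingCat.of A₀)).asOver (Spec (CommRingCat.of (R ⧸ J)))).hom := by
    rw [← Over.w e₀.inv]
    infer_instance
  haveI : Module.Finite (R ⧸ J) A₀ := by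
    have h' : IsFinite (Spec.map (CommRingCat.ofHom (algebraMap (R ⧸ J) A₀))) := hfin
    rw [IsFinite.SpecMap_iff] at h'
    exact RingHom.finite_algebraMap.1 h'
  have hft₀ : Algebra.FiniteType (R ⧸ J) A₀ := inferInstance
  obtain ⟨A, _, _, hq, ⟨φ⟩⟩ := S2979.result R J hJ A₀ (S2973.result (R ⧸ J) A₀ hft₀ (isMultType_of_locSplit e₀ hH₀))
  haveI : Module.Finite R A := finite_of_quasi hJ hq (Module.Finite.equiv φ.symm.toAlgEquiv.toLinearEquiv)
  let H := (Spec (CommRingCat.of A)).asOver (Spec (CommRingCat.of R))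
  haveI : IsMonHom (Iso.refl H).hom := inferInstanceAs (IsMonHom (𝟙 H))
  exact ⟨H, inferInstance, isMultTypeFT_of_quasi (Iso.refl H) inferInstance hq,
    exists_bcIso (Iso.refl H) e₀ φ⟩

end Groth.Agent.H87.Bridge
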