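import Groth.Agent.S4098
import Groth.Agent.Lib.SmWeil.CartanOpen

/-!
# The identity component of a smooth group
-/

set_option autoImplicit false
set_option linter.style.haveILetI false
universe u

open CategoryTheory CategoryTheory.Limits MonoidalCategory CartesianMonoidalCategory MonObj GrpObj AlgebraicGeometry
open Groth.Agent.Lib Groth.Agent.Lib.ActSep Groth.Agent.Lib.SmWeil Groth.Agent.Lib.RedPts

namespace Groth.Agent.H87.Neutral

variable {S : Scheme.{u}}

/-- The identity component of a smooth separated group. -/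
theorem exists_neutral (G : Over S) [GrpObj G] [Smooth G.hom] [IsSeparated G.hom] :
    ∃ (G₀ : Over S) (_ : GrpObj G₀) (i : G₀ ⟶ G), IsMonHom i ∧ Mono i ∧ IsOpenImmersion i.left ∧
      Smooth G₀.hom ∧ QuasiCompact G₀.hom ∧ IsSeparated G₀.hom ∧ GeometricallyConnected G₀.hom ∧
      ∀ {S' : Scheme.{u}} (π : S' ⟶ S) (H : Over S') [GrpObj H] (f : H ⟶ Red.bc π G) [IsMonHom f]
        [GeometricallyConnected H.hom], ∃ f₀ : H ⟶ Red.bc π G₀, f₀ ≫ (Over.pullback π).map i = f := by
  obtain ⟨-, G₀, _, i, hi, hio, hrange, hsm, hqc⟩ := S4098.result S G ⟨⊤, inferInstance, fun _ => trivial⟩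
  haveI := hi
  haveI := hio
  haveI := hsm
  haveI : Mono i := Over.mono_of_mono_left _
  have hsep : IsSeparated G₀.hom := by rw [← Over.w i]; infer_instance
  have hmem : ∀ x, i.left x ∈ SGA3x.neutralSet G := fun x => hrange ▸ ⟨x, rfl⟩
  refine ⟨G₀, inferInstance, i, hi, inferInstance, hio, hsm, hqc, hsep,
    CartanOpen.geometricallyConnected_of_fibres G₀ fun s => ⟨⟨η[G₀].left s, ?_⟩, ?_⟩, fun {S'} π H _ f _ _ => ?_⟩
  · exact hom_η G₀ s
  · refine i.left.isEmbedding.isInducing.isPreconnected_image.1 ?_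
    have himg : i.left '' (G₀.hom ⁻¹' {s}) = SGA3x.neutralSet G ∩ G.hom ⁻¹' {s} := by
      ext g
      have hh : ∀ x, G.hom (i.left x) = G₀.hom x := fun x =>
        (Scheme.Hom.comp_apply _ _ _).symm.trans (congrArg (fun φ : G₀.left ⟶ S => φ x) (Over.w i))
      refine ⟨fun ⟨x, hx, e⟩ => e ▸ ⟨hmem x, (hh x).trans hx⟩, fun ⟨hg, hgs⟩ => ?_⟩
      obtain ⟨x, rfl⟩ : g ∈ Set.range i.left.base := hrange.symm ▸ hg
      exact ⟨x, (hh x).symm.trans hgs, rfl⟩
    rw [himg]
    simpa using isPreconnected_inter_neutralSet G ⊤ s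
  · let φ : H.left ⟶ G.left := f.left ≫ pullback.fst G.hom π
    have hφ : φ ≫ G.hom = H.hom ≫ π := by
      show (f.left ≫ pullback.fst G.hom π) ≫ G.hom = _
      rw [Category.assoc, pullback.condition, ← Category.assoc]
      exact congrArg (· ≫ π) (Over.w f)
    have hr : Set.range φ ⊆ Set.range i.left := by
      rintro _ ⟨h, rfl⟩
      rw [show Set.range i.left = SGA3x.neutralSet G from hrange, mem_neutralSet_iff]
      have hh : ∀ x, G.hom (φ x) = π (H.hom x) := fun x =>
        (Scheme.Hom.comp_apply _ _ _).symm.trans ((congrArg (fun ψ : H.left ⟶ S => ψ x) hφ).trans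
          (Scheme.Hom.comp_apply _ _ _))
      have hη : η[G].left (π (H.hom h)) = φ (η[H].left (H.hom h)) := by
        have h1 : BC.down π ((1 : 𝟙_ (Over S') ⟶ H) ≫ f) = 1 := by rw [MonObj.one_comp, BC.down_one]
        have h2 := congrArg (fun ψ : (Over.map π).obj (𝟙_ (Over S')) ⟶ G => ψ.left (H.hom h)) h1
        simp only [BC.down_left, Over.comp_left, Category.assoc] at h2
        rw [Hom.one_def (X := 𝟙_ (Over S')) (M := H), Hom.one_def (M := G)] at h2
        simp [φ] at h2 ⊢
        exact h2.symm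
      rw [hh h, hη]
      refine ((H.hom.isConnected_preimage_singleton (H.hom h)).isPreconnected.image _
        φ.continuous.continuousOn).subset_connectedComponentIn ⟨_, hom_η H _, rfl⟩ ?_ ⟨h, rfl, rfl⟩
      rintro _ ⟨x, hx, rfl⟩
      exact (hh x).trans (congrArg π hx)
    refine ⟨BC.up π (Over.homMk (V := G₀) (IsOpenImmersion.lift i.left φ hr) ?_), BC.down_injective ?_⟩
    · rw [← Over.w i, IsOpenImmersion.lift_fac_assoc]
      exact hφ
    · rw [BC.down_map, BC.down_up]
      exact Over.OverMorphism.ext ((IsOpenImmersion.lift_fac _ _ _).trans (BC.down_left f).symm)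

end Groth.Agent.H87.Neutral
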