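import Mathlib.AlgebraicGeometry.Morphisms.ClosedImmersion
import Mathlib.RingTheory.Nilpotent.Lemmas

/-!
The quotient by a nil ideal is surjective on spectra.
-/

set_option autoImplicit false
universe u

open CategoryTheory AlgebraicGeometry

namespace Groth.Agent.H87.NilSurj

theorem surjective_mk {A : Type u} [CommRing A] (J : Ideal A) (hJ : ∀ x ∈ J, IsNilpotent x) :
    Surjective (Spec.map (CommRingCat.ofHom (Ideal.Quotient.mk J))) := by
  refine ⟨fun p => ?_⟩
  have hle : J ≤ p.asIdeal := fun x hx => by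
    obtain ⟨n, hn⟩ := hJ x hx
    exact p.isPrime.mem_of_pow_mem n (hn ▸ p.asIdeal.zero_mem)
  obtain ⟨q, hq⟩ : p ∈ Set.range (PrimeSpectrum.comap (Ideal.Quotient.mk J)) := by
    rw [range_comap_of_surjective _ _ Ideal.Quotient.mk_surjective, Ideal.mk_ker]
    exact hle
  exact ⟨q, hq⟩

end Groth.Agent.H87.NilSurj
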