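import Groth.Agent.S5257
import Groth.Agent.H87.HomSmooth
import Groth.Agent.H87.HomGlobal
import Groth.Agent.Lib.GrpSch.LangDense
import Groth.Agent.Lib.GrpSch.Orbit
import Groth.Agent.Lib.RedPts.BC
import Groth.Prelude.Def_RedSub
import Groth.Agent.H87.Normal
import Groth.Agent.Lib.Tori.Character
import Groth.Agent.H83.Fppf
import Mathlib.RingTheory.Spectrum.Prime.FreeLocus

/-!
# Orbits in the scheme of homomorphisms from a group of multiplicative type

Over an algebraically closed field the orbits of a smooth affine group acting by conjugation on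
`Hom(D(M), G)` are open, hence closed, and they are affine: the orbit of a homomorphism is the
affine quotient by its centraliser.
-/

set_option autoImplicit false
set_option linter.style.haveILetI false
universe u

open CategoryTheory CategoryTheory.Limits MonoidalCategory CartesianMonoidalCategory MonObj GrpObj
open AlgebraicGeometry
open Groth.Agent.Lib Groth.Agent.Lib.RedPts
open Groth.Agent.H87.HomFam Groth.Agent.H87.HomPts Groth.Agent.H87.HomGood

namespace Groth.Agent.H87.OrbitHom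

/-- An open subscheme of an affine scheme with closed underlying set is affine. -/
theorem isAffine_of_isClosed {X : Scheme.{u}} [IsAffine X] (U : X.Opens) (h : IsClosed (U : Set X)) :
    IsAffineOpen U := by
  haveI : IsClosedImmersion U.ι := IsClosedImmersion.of_isPreimmersion _ (by rwa [Scheme.Opens.range_ι])
  exact isAffine_of_isAffineHom U.ι

section Transfer

variable {S : Scheme.{u}} {H H' G G' : Over S} [GrpObj H] [GrpObj H'] [GrpObj G] [GrpObj G']

/-- Transport of the scheme of homomorphisms along isomorphisms of groups. -/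
theorem representsHom_congr (e : H ≅ H') [IsMonHom e.hom] (d : G ≅ G') [IsMonHom d.hom] {A : Over S}
    {υ : H' ⊗ A ⟶ G'} (h : AutFam.RepresentsHom H' G' A υ) :
    AutFam.RepresentsHom H G A ((e.hom ▷ A) ≫ υ ≫ d.inv) := by
  haveI : IsMonHom e.inv := inferInstance
  haveI : IsMonHom d.inv := inferInstance
  have ev : ∀ {X : Over S} (g : X ⟶ H) (t : X ⟶ A),
      lift g t ≫ (e.hom ▷ A) ≫ υ ≫ d.inv = (lift (g ≫ e.hom) t ≫ υ) ≫ d.inv := fun g t => by
    rw [← Category.assoc, lift_whiskerRight, Category.assoc]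
  refine ⟨fun X g₁ g₂ t => ?_, fun T φ hφ => ?_⟩
  · rw [ev, ev, ev, MonObj.mul_comp, h.1, MonObj.mul_comp]
  · have hψ : AutFam.IsHomFamily H' G' ((e.inv ▷ T) ≫ φ ≫ d.hom) := fun X g₁ g₂ t => by
      simp only [← Category.assoc, lift_whiskerRight]
      rw [MonObj.mul_comp, hφ, MonObj.mul_comp]
    obtain ⟨a, ha, hu⟩ := h.2 T _ hψ
    refine ⟨a, ?_, fun b hb => hu b ?_⟩
    · show (H ◁ a) ≫ (e.hom ▷ A) ≫ υ ≫ d.inv = φ
      rw [whisker_exchange_assoc, reassoc_of% ha, d.hom_inv_id, Category.comp_id, ← Category.assoc,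
        ← comp_whiskerRight, e.hom_inv_id, id_whiskerRight, Category.id_comp]
    · show (H' ◁ b) ≫ υ = _
      rw [← hb]
      simp only [Category.assoc, d.inv_hom_id, Category.comp_id]
      rw [← whisker_exchange_assoc, ← comp_whiskerRight_assoc, e.inv_hom_id, id_whiskerRight, Category.id_comp]

end Transfer

section Piece

variable {A : Type u} [Field A] {R : Type u} [CommRing R] [HopfAlgebra A R]
variable {M : Type} [AddCommGroup M] (cap : Weights.Cap A R)

/-- Over a field the pieces of the scheme of homomorphisms are affine. -/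
theorem isAffine_piece (F : Finset (Multiplicative M)) : IsAffine (V cap F) := by
  refine isAffine_of_isClosed _ ?_
  have e : goodSet cap F (F : Set (Multiplicative M)) =
      ⋂ m ∈ {m : Multiplicative M | m ∉ F}, Weights.absent cap (piece cap F).φ m := by
    ext q
    simp [goodSet]
  show IsClosed (goodSet cap F (F : Set (Multiplicative M)))
  rw [e]
  refine isClosed_biInter fun m _ => ?_
  rw [Weights.absent, isClosed_compl_iff]
  let P := Weights.P cap (piece cap F).φ m
  let Q := LinearMap.range P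
  haveI : Module.Free A cap.W := inferInstance
  haveI : Module.Projective (piece cap F).Q Q := Module.Projective.of_split Q.subtype P.rangeRestrict
    (LinearMap.ext fun q => Subtype.ext (by
      obtain ⟨_, y, rfl⟩ := q
      exact Weights.P_idem cap (piece cap F).hom m y))
  haveI : Module.Finite (piece cap F).Q Q := Module.Finite.range P
  haveI : Module.Flat (piece cap F).Q Q := inferInstance
  haveI : Module.FinitePresentation (piece cap F).Q Q :=
    Module.finitePresentation_of_projective (piece cap F).Q Q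
  have h : Module.support (piece cap F).Q Q = Module.rankAtStalk (R := (piece cap F).Q) Q ⁻¹' {0}ᶜ := by
    ext p
    simp [Module.rankAtStalk_eq_zero_iff_notMem_support]
  rw [h]
  exact (Module.isLocallyConstant_rankAtStalk (R := (piece cap F).Q) (M := Q)) _

/-- A compact closed open subscheme of the scheme of homomorphisms over a field is affine. -/
theorem isAffineOpen_of_compact (O : (HomScheme.H M cap).Opens) (hc : IsCompact (O : Set (HomScheme.H M cap)))
    (hcl : IsClosed (O : Set (HomScheme.H M cap))) : IsAffineOpen O := by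
  classical
  obtain ⟨s, hs⟩ := hc.elim_finite_subcover
    (fun F : Finset (Multiplicative M) => Set.range (HomScheme.inj cap F))
    (fun F => (HomScheme.inj cap F).isOpenEmbedding.isOpen_range)
    fun x _ => Set.mem_iUnion.2 (HomScheme.exists_mem M cap x)
  let L := s.sup id
  let j := HomScheme.inj cap L
  haveI : IsAffine (V cap L) := isAffine_piece cap L
  have hW : IsAffineOpen (j ⁻¹ᵁ O) := isAffine_of_isClosed _ (hcl.preimage j.continuous)
  have e : j ''ᵁ (j ⁻¹ᵁ O) = O := by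
    refine TopologicalSpace.Opens.ext ?_
    show j '' (j ⁻¹' (O : Set (HomScheme.H M cap))) = O
    refine Set.image_preimage_eq_of_subset fun x hx => ?_
    obtain ⟨F, hF, y, rfl⟩ := Set.mem_iUnion₂.1 (hs hx)
    exact ⟨HomScheme.incl cap (Finset.le_sup (f := id) hF) y,
      (Scheme.Hom.comp_apply _ _ _).symm.trans (congr($(HomScheme.incl_inj cap _) y))⟩
  exact e ▸ hW.image_of_isOpenImmersion j

end Piece

section Orbit

variable {K : Type u} [Field K]

variable {H G A : Over (Spec (CommRingCat.of K))} [GrpObj H] [GrpObj G] {υ : H ⊗ A ⟶ G}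

/-- The homomorphism of a point. -/
noncomputable abbrev homOf (υ : H ⊗ A ⟶ G) (a : 𝟙_ (Over (Spec (CommRingCat.of K))) ⟶ A) : H ⟶ G := lift (𝟙 H) (toUnit H ≫ a) ≫ υ

theorem comp_homOf (υ : H ⊗ A ⟶ G) (a : 𝟙_ (Over (Spec (CommRingCat.of K))) ⟶ A) {X : Over (Spec (CommRingCat.of K))} (h : X ⟶ H) :
    h ≫ homOf υ a = lift h (toUnit X ≫ a) ≫ υ := by
  rw [← Category.assoc, comp_lift, Category.comp_id, ← Category.assoc, toUnit_unique (h ≫ toUnit H) (toUnit X)]

theorem isMonHom_homOf (hυ : AutFam.RepresentsHom H G A υ) (a : 𝟙_ (Over (Spec (CommRingCat.of K))) ⟶ A) : IsMonHom (homOf υ a) :=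
  HomDS.isMonHom_of_points _ fun X g g' => by
    rw [comp_homOf, comp_homOf, comp_homOf]
    exact hυ.1 X g g' _

theorem hom_ext (hυ : AutFam.RepresentsHom H G A υ) {X : Over (Spec (CommRingCat.of K))} (a b : X ⟶ A)
    (hab : ∀ (X' : Over (Spec (CommRingCat.of K))) (x : X' ⟶ X) (h : X' ⟶ H), lift h (x ≫ a) ≫ υ = lift h (x ≫ b) ≫ υ) : a = b := by
  have ev : ∀ {T Y : Over (Spec (CommRingCat.of K))} (c : T ⟶ A) (h : Y ⟶ H) (x : Y ⟶ T),
      lift h x ≫ (H ◁ c) ≫ υ = lift h (x ≫ c) ≫ υ := fun c h x => by rw [← Category.assoc, lift_whiskerLeft]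
  have hfa : AutFam.IsHomFamily H G ((H ◁ a) ≫ υ) := fun Y g g' t => by
    rw [ev, ev, ev]
    exact hυ.1 Y g g' (t ≫ a)
  refine (hυ.2 X _ hfa).unique rfl ?_
  have := hab (H ⊗ X) (snd H X) (fst H X)
  rw [← ev, ← ev] at this
  rw [lift_fst_snd, Category.id_comp, Category.id_comp] at this
  exact this.symm

/-- The orbit map of a point. -/
theorem exists_orbitMap (hυ : AutFam.RepresentsHom H G A υ) (a : 𝟙_ (Over (Spec (CommRingCat.of K))) ⟶ A) :
    ∃ o : G ⟶ A, ∀ {X : Over (Spec (CommRingCat.of K))} (g : X ⟶ G) (h : X ⟶ H),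
      lift h (g ≫ o) ≫ υ = g * (h ≫ homOf υ a) * g⁻¹ := by
  haveI := isMonHom_homOf hυ a
  let φ : H ⊗ G ⟶ G := snd H G * (fst H G ≫ homOf υ a) * (snd H G)⁻¹
  have hφp : ∀ {X : Over (Spec (CommRingCat.of K))} (h : X ⟶ H) (g : X ⟶ G), lift h g ≫ φ = g * (h ≫ homOf υ a) * g⁻¹ := fun h g => by
    simp only [φ, MonObj.comp_mul, GrpObj.comp_inv, lift_fst_assoc, lift_snd]
  obtain ⟨o, ho, -⟩ := hυ.2 G φ fun X h₁ h₂ g => by
    rw [hφp, hφp, hφp, MonObj.mul_comp]
    group
  exact ⟨o, fun g h => by rw [← hφp, ← ho, ← Category.assoc, lift_whiskerLeft]⟩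

/-- A morphism of base changes given on points by a family is a homomorphism. -/
theorem isMonHom_family (hυ : AutFam.RepresentsHom H G A υ) {S' : Scheme.{u}} {f : S' ⟶ Spec (CommRingCat.of K)}
    (u₂ : Red.bc f H ⟶ Red.bc f G) (π : ∀ X : Over S', (Over.map f).obj X ⟶ A)
    (hu₂ : ∀ {X : Over S'} (x : X ⟶ Red.bc f H), BC.down f (x ≫ u₂) = lift (BC.down f x) (π X) ≫ υ) :
    IsMonHom u₂ :=
  HomDS.isMonHom_of_points _ fun X x x' => BC.down_injective
    ((hu₂ _).trans ((congrArg (fun w => lift w (π X) ≫ υ) (BC.down_mul x x')).trans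
      ((hυ.1 _ (BC.down f x) (BC.down f x') (π X)).trans
        ((congrArg₂ (fun a b => a * b) (hu₂ x).symm (hu₂ x').symm).trans (BC.down_mul _ _).symm))))

/-- The orbit maps are smooth. -/
theorem smooth_orbitMap (hH : SGA3x.IsMultTypeFT H) [Smooth G.hom] [IsAffineHom G.hom]
    (hυ : AutFam.RepresentsHom H G A υ) (a : 𝟙_ (Over (Spec (CommRingCat.of K))) ⟶ A) (o : G ⟶ A)
    (ho : ∀ {X : Over (Spec (CommRingCat.of K))} (g : X ⟶ G) (h : X ⟶ H), lift h (g ≫ o) ≫ υ = g * (h ≫ homOf υ a) * g⁻¹) :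
    Smooth o.left := by
  haveI := isMonHom_homOf hυ a
  let f := A.hom
  let H' := Red.bc f H
  let G' := Red.bc f G
  let π : ∀ X : Over A.left, (Over.map f).obj X ⟶ A := fun X => Over.homMk X.hom rfl
  have hπ : ∀ {X X' : Over A.left} (x : X' ⟶ X), (Over.map f).map x ≫ π X = π X' := fun x =>
    Over.OverMorphism.ext (Over.w x)
  let u₁ : H' ⟶ G' := (Over.pullback f).map (homOf υ a)
  let u₂ : H' ⟶ G' := BC.up f (lift (BC.down f (𝟙 H')) (π H') ≫ υ)
  have hu₂ : ∀ {X : Over A.left} (x : X ⟶ H'), BC.down f (x ≫ u₂) = lift (BC.down f x) (π X) ≫ υ := fun x => by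
    rw [BC.down_comp, BC.down_up, ← Category.assoc, comp_lift, hπ, ← BC.down_comp, Category.comp_id]
  haveI : IsMonHom u₁ := inferInstance
  haveI : IsMonHom u₂ := isMonHom_family hυ u₂ π hu₂
  haveI hG1 : Smooth G'.hom := MorphismProperty.pullback_snd (P := @Smooth) _ _ inferInstance
  haveI hG2 : IsAffineHom G'.hom := MorphismProperty.pullback_snd (P := @IsAffineHom) _ _ inferInstance
  obtain ⟨T, j, hj, hT, hTs⟩ := Groth.Agent.S5257.result H' G' (Normal.multTypeFT_bc hH f) hG1 hG2 u₁ u₂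
  haveI := hj
  haveI : Mono j := Over.mono_of_mono_left j
  let GA : Over A.left := Over.mk o.left
  let κ : (Over.map f).obj GA ⟶ G := Over.homMk (𝟙 G.left) (by
    show 𝟙 G.left ≫ G.hom = o.left ≫ A.hom
    rw [Category.id_comp, Over.w])
  have hκ : κ ≫ o = π GA := Over.OverMorphism.ext (Category.id_comp _)
  obtain ⟨t, ht⟩ := (hTs GA (BC.up f κ)).2 fun X' x h => BC.down_injective (by
    rw [BC.down_mul, BC.down_mul, BC.down_inv, BC.down_map, BC.down_comp, BC.down_up, hu₂, ← hπ x,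
      ← hκ]
    exact (ho ((Over.map f).map x ≫ κ) (BC.down f h)).symm.trans (by rw [Category.assoc]))
  have hd : BC.down f j ≫ o = π T := hom_ext hυ _ _ fun X' x h => by
    let X'' : Over A.left := Over.mk (x.left ≫ T.hom)
    let e : (Over.map f).obj X'' ≅ X' := Over.isoMk (Iso.refl _) (by
      show 𝟙 _ ≫ X'.hom = (x.left ≫ T.hom) ≫ f
      rw [Category.id_comp, Category.assoc, ← Over.w x]
      rfl)
    let x' : X'' ⟶ T := Over.homMk x.left rfl
    have hx : (Over.map f).map x' = e.hom ≫ x := Over.OverMorphism.ext (Category.id_comp _).symm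
    have h1 := congrArg (BC.down f) ((hTs T j).1 ⟨𝟙 T, Category.id_comp j⟩ X'' x' (BC.up f (e.hom ≫ h)))
    rw [BC.down_mul, BC.down_mul, BC.down_inv, BC.down_map, BC.down_comp, BC.down_up, hu₂, BC.down_up,
      ← ho, ← hπ x', hx] at h1
    rw [← cancel_epi e.hom]
    simp only [← Category.assoc, comp_lift]
    simpa only [← Category.assoc] using h1
  let s : T ⟶ GA := Over.homMk (BC.down f j).left (congrArg CommaMorphism.left hd)
  have hs : (Over.map f).map s ≫ κ = BC.down f j := Over.OverMorphism.ext (Category.comp_id _)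
  have h1 : t ≫ s = 𝟙 GA := by
    refine Over.OverMorphism.ext ?_
    have := congrArg (fun z => (BC.down f z).left) ht
    rw [BC.down_comp, BC.down_up] at this
    exact this
  have h2 : s ≫ t = 𝟙 T := by
    rw [← cancel_mono j, Category.assoc, ht, Category.id_comp]
    exact BC.down_injective (by rw [BC.down_comp, BC.down_up, hs])
  let E : GA ≅ T := ⟨t, s, h1, h2⟩
  haveI : IsIso t.left := ((Over.forget _).mapIso E).isIso_hom
  show Smooth GA.hom
  rw [← Over.w t]
  infer_instance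

variable [IsAlgClosed K]

/-- A nonempty closed subset of a scheme locally of finite type has a rational point. -/
theorem exists_pt {X : Over (Spec (CommRingCat.of K))} [LocallyOfFiniteType X.hom] {W : Set X.left}
    (hW : IsClosed W) (hne : W.Nonempty) :
    ∃ y : 𝟙_ (Over (Spec (CommRingCat.of K))) ⟶ X, Set.range y.left ⊆ W := by
  have : JacobsonSpace X.left := LocallyOfFiniteType.jacobsonSpace X.hom
  obtain ⟨c, hcW, hc⟩ := nonempty_inter_closedPoints hne hW.isLocallyClosed
  refine ⟨Over.homMk (pointOfClosedPoint X.hom c hc) (pointOfClosedPoint_comp X.hom c hc), ?_⟩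
  rintro _ ⟨s, rfl⟩
  change pointOfClosedPoint X.hom c hc s ∈ W
  exact (pointOfClosedPoint_apply X.hom c hc s).symm ▸ hcW

/-- **The orbit of a homomorphism is open and closed.** -/
theorem exists_orbit (hH : SGA3x.IsMultTypeFT H) [Smooth G.hom] [IsAffineHom G.hom] [LocallyOfFiniteType A.hom]
    (hυ : AutFam.RepresentsHom H G A υ) (a₀ : 𝟙_ (Over (Spec (CommRingCat.of K))) ⟶ A) (o : G ⟶ A)
    (ho : ∀ {X : Over (Spec (CommRingCat.of K))} (g : X ⟶ G) (h : X ⟶ H), lift h (g ≫ o) ≫ υ = g * (h ≫ homOf υ a₀) * g⁻¹) :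
    IsOpen (Set.range o.left) ∧ IsClosed (Set.range o.left) := by
  haveI := smooth_orbitMap hH hυ a₀ o ho
  have hopen : IsOpen (Set.range o.left) := o.left.isOpenMap.isOpen_range
  refine ⟨hopen, isOpen_compl_iff.1 (isOpen_iff_forall_mem_open.2 fun y hy => ?_)⟩
  obtain ⟨a, ha⟩ := exists_pt (X := A) (W := closure {y}) isClosed_closure
    ⟨y, subset_closure rfl⟩
  have hpt : ∀ b : 𝟙_ (Over (Spec (CommRingCat.of K))) ⟶ A, Lib.GrpQ.MonoClosed.ptOf b ∈ Set.range b.left := fun b => ⟨_, rfl⟩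
  obtain ⟨oa, hoa⟩ := exists_orbitMap hυ a
  haveI := smooth_orbitMap hH hυ a oa hoa
  have hspec : y ⤳ Lib.GrpQ.MonoClosed.ptOf a := specializes_iff_mem_closure.2 (ha (hpt a))
  have ha₀ : Lib.GrpQ.MonoClosed.ptOf a ∉ Set.range o.left := fun hc => hy (hspec.mem_open hopen hc)
  have hself : ((1 : 𝟙_ (Over (Spec (CommRingCat.of K))) ⟶ G)) ≫ oa = a := hom_ext hυ _ _ fun X' x h => by
    rw [← Category.assoc, hoa, comp_homOf, MonObj.comp_one, _root_.one_mul, inv_one, _root_.mul_one,
      toUnit_unique (toUnit X') x]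
  refine ⟨Set.range oa.left, ?_, oa.left.isOpenMap.isOpen_range, ?_⟩
  · rintro z hz hz'
    have hW : IsOpen (Set.range oa.left ∩ Set.range o.left) := oa.left.isOpenMap.isOpen_range.inter hopen
    haveI : JacobsonSpace A.left := LocallyOfFiniteType.jacobsonSpace A.hom
    obtain ⟨c, hc, hcc⟩ := nonempty_inter_closedPoints (⟨z, hz, hz'⟩ : (Set.range oa.left ∩ Set.range o.left).Nonempty)
      hW.isLocallyClosed
    obtain ⟨b, hb⟩ := exists_pt (X := A) (W := {c}) hcc (Set.singleton_nonempty c)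
    have hbc : Lib.GrpQ.MonoClosed.ptOf b = c := hb (hpt b)
    obtain ⟨g', hg'⟩ := GrpSch.exists_lift_of_mem_range oa b (GrpSch.isClosed_ptOf b) (by rw [hbc]; exact hc.1)
    obtain ⟨g, hg⟩ := GrpSch.exists_lift_of_mem_range o b (GrpSch.isClosed_ptOf b) (by rw [hbc]; exact hc.2)
    refine ha₀ ?_
    have key : (g'⁻¹ * g) ≫ o = a := hom_ext hυ _ _ fun X' x h => by
      have h1 := congrArg (fun w => lift h (x ≫ w) ≫ υ) (hg.trans hg'.symm)
      simp only [← Category.assoc x, ho, hoa] at h1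
      rw [← Category.assoc x, ho, MonObj.comp_mul, GrpObj.comp_inv]
      calc (x ≫ g')⁻¹ * (x ≫ g) * (h ≫ homOf υ a₀) * ((x ≫ g')⁻¹ * (x ≫ g))⁻¹
          = (x ≫ g')⁻¹ * ((x ≫ g) * (h ≫ homOf υ a₀) * (x ≫ g)⁻¹) * (x ≫ g') := by group
        _ = h ≫ homOf υ a := by rw [h1]; group
        _ = lift h (x ≫ a) ≫ υ := by rw [comp_homOf, toUnit_unique (toUnit X') x]
    rw [← key, ← Lib.GrpQ.MonoClosed.ptOf_comp]
    exact ⟨_, rfl⟩
  · refine hspec.mem_open oa.left.isOpenMap.isOpen_range ?_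
    rw [← hself, ← Lib.GrpQ.MonoClosed.ptOf_comp]
    exact ⟨_, rfl⟩

/-- **The quotient by the centralizer is affine.** -/
theorem exists_quotient {M : Type} [AddCommGroup M] (hH : SGA3x.IsMultTypeFT H) (eH : Grp.mk H ≅ Grp.mk (Red.DS (Spec (CommRingCat.of K)) M))
    [Smooth G.hom] [IsAffine G.left] (h : H ⟶ G) [IsMonHom h]
    {C : Over (Spec (CommRingCat.of K))} [GrpObj C] (c : C ⟶ G) (hC : Red.IsCentralizerOf h c) :
    ∃ (O : Over (Spec (CommRingCat.of K))) (o : G ⟶ O), RedSub.IsQuotient c o ∧ IsAffine O.left ∧ Smooth o.left := by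
  haveI : IsAffineHom G.hom := isAffineHom_of_isAffine G.hom
  obtain ⟨R, _, _, eG, heG⟩ := Groth.Agent.H1.Hopf.exists_iso (R := K) G
  haveI := heG
  have hR : Smooth (stm K R) := by
    have h1 : ((Over.forget _).mapIso eG).inv ≫ G.hom = stm K R := Over.w eG.inv
    rw [← h1]
    exact (MorphismProperty.cancel_left_of_respectsIso @Smooth _ _).2 ‹Smooth G.hom›
  rw [HasRingHomProperty.Spec_iff (P := @Smooth)] at hR
  haveI : Algebra.Smooth K R := RingHom.smooth_algebraMap.1 hR
  haveI : Algebra.FinitePresentation K R := inferInstance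
  haveI : Module.Flat K R := inferInstance
  obtain ⟨cap⟩ := HopfModel.nonempty_cap K R
  let A₀ : Over (Spec (CommRingCat.of K)) := Over.mk (HomScheme.hom M cap)
  haveI : LocallyOfFinitePresentation A₀.hom := HomScheme.locallyOfFinitePresentation (M := M) cap
  haveI : LocallyOfFiniteType A₀.hom := inferInstance
  let e := Tori.BaseChange.overIso eH
  haveI : IsMonHom e.hom := inferInstanceAs (IsMonHom (Tori.BaseChange.overIso eH).hom)
  haveI : IsMonHom (eG : G ≅ pt K R).hom := heG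
  obtain ⟨υ, hυ⟩ : ∃ υ, AutFam.RepresentsHom H G A₀ υ :=
    ⟨_, representsHom_congr e (eG : G ≅ pt K R) (representsHom A₀ (HomScheme.U M cap) (HomScheme.reps M cap))⟩
  obtain ⟨a₀, ha₀, -⟩ := hυ.2 (𝟙_ (Over (Spec (CommRingCat.of K)))) (fst H _ ≫ h) fun X g g' t => by
    simp only [lift_fst_assoc, MonObj.mul_comp]
  have hh : homOf υ a₀ = h := by
    show lift (𝟙 H) (toUnit H ≫ a₀) ≫ υ = h
    rw [← lift_whiskerLeft, Category.assoc, ha₀, lift_fst_assoc, Category.id_comp]
  obtain ⟨o, ho⟩ := exists_orbitMap hυ a₀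
  haveI := smooth_orbitMap hH hυ a₀ o ho
  obtain ⟨hop, hcl⟩ := exists_orbit hH hυ a₀ o ho
  let U : A₀.left.Opens := ⟨Set.range o.left, hop⟩
  have hU : IsAffineOpen U := isAffineOpen_of_compact cap U (isCompact_range o.left.continuous) hcl
  let O : Over (Spec (CommRingCat.of K)) := Over.mk (U.ι ≫ A₀.hom)
  let ιO : O ⟶ A₀ := Over.homMk U.ι rfl
  haveI : Mono ιO := Over.mono_of_mono_left _
  let l : G.left ⟶ (U : Scheme.{u}) := IsOpenImmersion.lift U.ι o.left (by rw [Scheme.Opens.range_ι]; exact subset_rfl)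
  have hl : l ≫ U.ι = o.left := IsOpenImmersion.lift_fac _ _ _
  let p : G ⟶ O := Over.homMk l (by
    show l ≫ U.ι ≫ A₀.hom = G.hom
    rw [← Category.assoc, hl, Over.w])
  have hp : p ≫ ιO = o := Over.OverMorphism.ext hl
  haveI hps : Surjective p.left := ⟨fun w => by
    obtain ⟨x, hx⟩ := w.2
    exact ⟨x, U.ι.isOpenEmbedding.injective ((Scheme.Hom.comp_apply _ _ _).symm.trans
      ((congr($(hl) x)).trans hx))⟩⟩
  haveI hpm : Smooth p.left := by
    have : Smooth (l ≫ U.ι) := by rw [hl]; infer_instance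
    exact MorphismProperty.of_postcomp (W := @Smooth) (W' := @IsOpenImmersion) l U.ι inferInstance this
  haveI := hC.1
  haveI := hC.2.1
  have hcp : ∀ {X : Over (Spec (CommRingCat.of K))} (z : X ⟶ C) (k : X ⟶ H), (z ≫ c) * (k ≫ h) = (k ≫ h) * (z ≫ c) := fun z k => by
    simpa using (hC.2.2 _ (z ≫ c)).1 ⟨z, rfl⟩ _ (𝟙 _) k
  have hker : ∀ {X : Over (Spec (CommRingCat.of K))} (g g' : X ⟶ G), g ≫ p = g' ≫ p ↔ ∃ z : X ⟶ C, z ≫ c = g⁻¹ * g' := fun {X} g g' => by
    rw [← cancel_mono ιO, Category.assoc, Category.assoc, hp]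
    constructor
    · intro e
      refine (hC.2.2 X _).2 fun X' x k => ?_
      have h1 := congrArg (fun w => lift k (x ≫ w) ≫ υ) e
      simp only [← Category.assoc x, ho, hh] at h1
      rw [MonObj.comp_mul, GrpObj.comp_inv]
      calc (x ≫ g)⁻¹ * (x ≫ g') * (k ≫ h)
          = (x ≫ g)⁻¹ * ((x ≫ g') * (k ≫ h) * (x ≫ g')⁻¹) * (x ≫ g') := by group
        _ = (k ≫ h) * ((x ≫ g)⁻¹ * (x ≫ g')) := by rw [← h1]; group
    · rintro ⟨z, hz⟩
      refine hom_ext hυ _ _ fun X' x k => ?_
      rw [← Category.assoc, ← Category.assoc, ho, ho, hh]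
      have hg' : x ≫ g' = (x ≫ g) * ((x ≫ z) ≫ c) := by
        rw [Category.assoc, hz, MonObj.comp_mul, GrpObj.comp_inv, mul_inv_cancel_left]
      rw [hg', show (x ≫ g) * ((x ≫ z) ≫ c) * (k ≫ h) * ((x ≫ g) * ((x ≫ z) ≫ c))⁻¹ =
        (x ≫ g) * (((x ≫ z) ≫ c) * (k ≫ h)) * ((x ≫ z) ≫ c)⁻¹ * (x ≫ g)⁻¹ by group, hcp]
      group
  have hnf : ∀ {X : Over (Spec (CommRingCat.of K))} (g : X ⟶ G) (z : X ⟶ C), lift g z ≫ (G ◁ c) ≫ μ[G] = g * (z ≫ c) := fun g z => by
    rw [lift_whiskerLeft_assoc, Hom.mul_def]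
  refine ⟨O, p, ⟨hps, inferInstance, inferInstance, H83.Fppf.isPullback_of_points ?_ fun T x y e => ?_⟩, hU, hpm⟩
  · refine (hker _ _).2 ⟨snd G C, ?_⟩
    have := hnf (fst G C) (snd G C)
    rw [lift_fst_snd, Category.id_comp] at this
    rw [this]
    group
  · obtain ⟨z, hz⟩ := (hker x y).1 e
    refine ⟨lift x z, ⟨lift_fst _ _, by rw [hnf, hz, mul_inv_cancel_left]⟩, fun l hl => ?_⟩
    refine CartesianMonoidalCategory.hom_ext _ _ (by rw [lift_fst]; exact hl.1) ?_
    rw [lift_snd, ← cancel_mono c, hz]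
    have h3 := hnf (l ≫ fst G C) (l ≫ snd G C)
    rw [← comp_lift, lift_fst_snd, Category.comp_id] at h3
    rw [← hl.1, ← hl.2, h3]
    group

end Orbit

end Groth.Agent.H87.OrbitHom
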