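import Groth.Agent.H87.OrbitHom
import Groth.Agent.H87.AutMult
import Groth.Agent.S0593
import Groth.Agent.S5248
import Groth.Agent.Lib.Henselian.DescendSection
import Groth.Agent.H1.Classical.FieldDescent
import Groth.Agent.Lib.WeilRep.QuotBC
import Mathlib.AlgebraicGeometry.Morphisms.FlatDescent

/-!
# Quotients by centralisers and normalisers of subgroups of multiplicative type are affine
-/

set_option autoImplicit false
set_option linter.style.haveILetI false
universe u

open CategoryTheory CategoryTheory.Limits MonoidalCategory CartesianMonoidalCategory MonObj GrpObj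
open AlgebraicGeometry
open Groth.Agent.Lib Groth.Agent.Lib.RedPts Groth.Agent.H83

namespace Groth.Agent.H87.QuotAffine

section Gen

variable {S S' : Scheme.{u}} (f : S' ⟶ S) {G H Q : Over S} [GrpObj G] [GrpObj H]

/-- Base change of a monomorphism. -/
theorem mono_bc {X Y : Over S} (i : X ⟶ Y) [Mono i] : Mono ((Over.pullback f).map i) :=
  ⟨fun u v huv => BC.down_injective ((cancel_mono i).1 (by rw [← BC.down_map, ← BC.down_map, huv]))⟩

/-- Base change of a quotient. -/
theorem isQuotient_bc {i : H ⟶ G} [IsMonHom i] [Mono i] {q : G ⟶ Q} (hq : RedSub.IsQuotient i q) :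
    RedSub.IsQuotient ((Over.pullback f).map i) ((Over.pullback f).map q) := by
  obtain ⟨hs, hf, hl, -⟩ := id hq
  haveI := mono_bc f i
  have sq := (WeilRep.AF.isPullback_map f q).flip
  have hnf : ∀ {X : Over S'} (g : X ⟶ Red.bc f G) (z : X ⟶ Red.bc f H),
      lift g z ≫ (Red.bc f G ◁ (Over.pullback f).map i) ≫ μ[Red.bc f G] = g * (z ≫ (Over.pullback f).map i) :=
    fun g z => by rw [lift_whiskerLeft_assoc, Hom.mul_def]
  refine ⟨MorphismProperty.of_isPullback (P := @Surjective) sq hs, MorphismProperty.of_isPullback (P := @Flat) sq hf,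
    MorphismProperty.of_isPullback (P := @LocallyOfFinitePresentation) sq hl,
    Fppf.isPullback_of_points ?_ fun T x y e => ?_⟩
  · refine BC.down_injective ?_
    have h1 := hnf (fst (Red.bc f G) (Red.bc f H)) (snd (Red.bc f G) (Red.bc f H))
    rw [lift_fst_snd, Category.id_comp] at h1
    rw [h1, BC.down_map, BC.down_map, BC.down_mul, BC.down_map, Fppf.eq_of_translate hq]
  · have e' := congrArg (BC.down f) e
    rw [BC.down_map, BC.down_map] at e'
    obtain ⟨h, hh⟩ := Fppf.exists_translate hq e'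
    refine ⟨lift x (BC.up f h), ⟨lift_fst _ _, ?_⟩, fun l hl => ?_⟩
    · rw [hnf]
      exact BC.down_injective (by rw [BC.down_mul, BC.down_map, BC.down_up, hh])
    · refine CartesianMonoidalCategory.hom_ext _ _ (by rw [lift_fst]; exact hl.1) ?_
      rw [lift_snd, ← cancel_mono ((Over.pullback f).map i)]
      have h3 := hnf (l ≫ fst _ _) (l ≫ snd _ _)
      rw [← comp_lift, lift_fst_snd, Category.comp_id, hl.2, hl.1] at h3
      refine (mul_left_cancel (a := x) ?_)
      rw [← h3]
      exact BC.down_injective (by rw [BC.down_mul, BC.down_map, BC.down_up, hh])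

/-- Base change of a normalizer. -/
theorem isNormalizerOf_bc {N : Over S} [GrpObj N] {i : H ⟶ G} {n : N ⟶ G} (hn : Red.IsNormalizerOf i n) :
    Red.IsNormalizerOf ((Over.pullback f).map i) ((Over.pullback f).map n) := by
  haveI := hn.1
  haveI := hn.2.1
  haveI := mono_bc f n
  refine ⟨inferInstance, inferInstance, fun X g => ⟨?_, fun hg => ?_⟩⟩
  · rintro ⟨z, rfl⟩ X' x h
    obtain ⟨⟨a, ha⟩, ⟨b, hb⟩⟩ := (hn.2.2 _ (BC.down f z ≫ n)).mp ⟨_, rfl⟩ _ ((Over.map f).map x) (BC.down f h)
    constructor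
    · refine ⟨BC.up f a, BC.down_injective ?_⟩
      rw [BC.down_mul, BC.down_mul, BC.down_inv, BC.down_comp x (z ≫ _), BC.down_map z, BC.down_map h,
        BC.down_map, BC.down_up, ha]
    · refine ⟨BC.up f b, BC.down_injective ?_⟩
      rw [BC.down_mul, BC.down_mul, BC.down_inv, BC.down_comp x (z ≫ _), BC.down_map z, BC.down_map h,
        BC.down_map, BC.down_up, hb]
  · obtain ⟨z, hz⟩ := (hn.2.2 _ (BC.down f g)).mpr fun X'' x h => by
      let X' : Over S' := Over.mk (x.left ≫ X.hom)
      let κ : (Over.map f).obj X' ≅ X'' := Over.isoMk (Iso.refl _) (by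
        show 𝟙 _ ≫ X''.hom = (x.left ≫ X.hom) ≫ f
        rw [Category.id_comp, Category.assoc, ← Over.w x]
        rfl)
      let x' : X' ⟶ X := Over.homMk x.left rfl
      have hx : (Over.map f).map x' = κ.hom ≫ x := Over.OverMorphism.ext (Category.id_comp _).symm
      obtain ⟨⟨a, ha⟩, ⟨b, hb⟩⟩ := hg X' x' (BC.up f (κ.hom ≫ h))
      have ha' := congrArg (BC.down f) ha
      have hb' := congrArg (BC.down f) hb
      simp only [BC.down_mul, BC.down_inv] at ha' hb'
      rw [BC.down_map (BC.up f (κ.hom ≫ h)), BC.down_up, BC.down_map, BC.down_comp x' g, hx] at ha' hb'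
      constructor
      · refine ⟨κ.inv ≫ BC.down f a, ?_⟩
        rw [Category.assoc, ← ha']
        simp only [MonObj.comp_mul, GrpObj.comp_inv, Category.assoc, Iso.inv_hom_id_assoc]
      · refine ⟨κ.inv ≫ BC.down f b, ?_⟩
        rw [Category.assoc, ← hb']
        simp only [MonObj.comp_mul, GrpObj.comp_inv, Category.assoc, Iso.inv_hom_id_assoc]
    exact ⟨BC.up f z, BC.down_injective (by rw [BC.down_map, BC.down_up, hz])⟩

end Gen

section Field

variable {K : Type u} [Field K] [IsAlgClosed K]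
variable {H G C N Q : Over (Spec (CommRingCat.of K))} [GrpObj H] [GrpObj G] [GrpObj C] [GrpObj N]

set_option maxHeartbeats 800000 in
/-- The split case. -/
theorem isAffine_split [Smooth G.hom] [IsAffine G.left] {M : Type} [AddCommGroup M]
    (hH : SGA3x.IsMultTypeFT H) (eH : Grp.mk H ≅ Grp.mk (Red.DS (Spec (CommRingCat.of K)) M))
    (h : H ⟶ G) [IsMonHom h] [Mono h] (c : C ⟶ G) (n : N ⟶ G)
    (hC : Red.IsCentralizerOf h c) (hN : Red.IsNormalizerOf h n) :
    (∀ (q : G ⟶ Q), RedSub.IsQuotient c q → IsAffine Q.left) ∧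
      (∀ (q : G ⟶ Q), RedSub.IsQuotient n q → IsAffine Q.left) := by
  obtain ⟨O, p, hp, hO, hps⟩ := OrbitHom.exists_quotient hH eH h c hC
  haveI := hO
  have hpc := Fppf.isCov_of_isQuotient hp
  constructor
  · intro q hq
    have hqc := Fppf.isCov_of_isQuotient hq
    obtain ⟨a, ha⟩ := Fppf.exists_desc_quotient hq p fun T g z => Fppf.eq_of_translate hp g z
    obtain ⟨b, hb⟩ := Fppf.exists_desc_quotient hp q fun T g z => Fppf.eq_of_translate hq g z
    let E : Q ≅ O := ⟨a, b, hqc.cancel (by rw [reassoc_of% ha, hb, Category.comp_id]),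
      hpc.cancel (by rw [reassoc_of% hb, ha, Category.comp_id])⟩
    haveI : IsAffine ((Over.forget _).obj O) := hO
    exact IsAffine.of_isIso ((Over.forget _).mapIso E).hom
  · intro q hq
    haveI : IsAffineHom G.hom := isAffineHom_of_isAffine G.hom
    obtain ⟨hkm, hkmono, hkspec⟩ := id hN
    haveI := hkm
    haveI := hkmono
    obtain ⟨hcm, hcmono, hcspec⟩ := id hC
    haveI := hcm
    haveI := hcmono
    obtain ⟨N', _, k', hk', hcl, hsm⟩ := Groth.Agent.S5248.result H G hH ‹_› ‹_› h
    obtain ⟨hk'm, hk'mono, hk'spec⟩ := hk'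
    obtain ⟨a, ha⟩ := (hk'spec N n).mpr ((hkspec N n).mp ⟨𝟙 N, Category.id_comp n⟩)
    obtain ⟨b, hb⟩ := (hkspec N' k').mpr ((hk'spec N' k').mp ⟨𝟙 N', Category.id_comp k'⟩)
    haveI : IsIso a := ⟨b, by rw [← cancel_mono n, Category.assoc, hb, ha, Category.id_comp],
      by rw [← cancel_mono k', Category.assoc, ha, hb, Category.id_comp]⟩
    haveI : IsIso a.left := inferInstanceAs (IsIso ((Over.forget _).map a))
    haveI : Smooth N.hom := by
      haveI := hsm
      rw [← Over.w a]; infer_instance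
    haveI : QuasiCompact N'.hom := by
      haveI := hcl
      rw [← Over.w k']; infer_instance
    haveI : QuasiCompact N.hom := by rw [← Over.w a]; infer_instance
    obtain ⟨f, hf⟩ : ∃ f : C ⟶ N, f ≫ n = c := (hkspec C c).2 fun X' x k => by
      have h1 : (x ≫ c) * (k ≫ h) = (k ≫ h) * (x ≫ c) := by
        simpa using (hcspec C c).1 ⟨𝟙 C, Category.id_comp c⟩ X' x k
      exact ⟨⟨k, by rw [h1]; group⟩, ⟨k, by rw [_root_.mul_assoc, ← h1]; group⟩⟩
    haveI : IsMonHom f := HomDS.isMonHom_of_points f fun X x y => by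
      rw [← cancel_mono n, Category.assoc, hf, MonObj.mul_comp, MonObj.mul_comp _ _ n, Category.assoc,
        Category.assoc, hf]
    obtain ⟨W, _, qW, hqWm, hqW, hWs, hWe, hWc⟩ := AutMult.exists_weyl hH h c n hC hN f hf
    haveI := hWe
    haveI := hWc
    haveI : LocallyQuasiFinite W.hom := Groth.Agent.Lib.Henselian.DescendSection.locallyQuasiFinite_of_etale W.hom
    haveI : IsFinite W.hom := IsFinite.of_locallyQuasiFinite W.hom
    have hWcov := Fppf.isCov_of_isQuotient hqW
    obtain ⟨π, hπ⟩ := Fppf.exists_desc_quotient hp q fun T g z => by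
      rw [show z ≫ c = (z ≫ f) ≫ n by rw [Category.assoc, hf]]
      exact Fppf.eq_of_translate hq g (z ≫ f)
    let ψ₀ : G ⊗ N ⟶ O := (fst G N * (snd G N ≫ n)) ≫ p
    have hψ₀ : ∀ {X : Over (Spec (CommRingCat.of K))} (g : X ⟶ G) (m : X ⟶ N),
        lift g m ≫ ψ₀ = (g * (m ≫ n)) ≫ p := fun g m => by
      simp only [ψ₀, ← Category.assoc, MonObj.comp_mul, lift_fst, lift_snd_assoc, lift_snd]
    have hcov := hWcov.whiskerLeft G
    obtain ⟨ψ, hψ⟩ := hcov.exists_desc ψ₀ fun T a b e => by
      have e1 : a ≫ fst G N = b ≫ fst G N := by simpa using congrArg (· ≫ fst G W) e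
      have e2 : (a ≫ snd G N) ≫ qW = (b ≫ snd G N) ≫ qW := by simpa using congrArg (· ≫ snd G W) e
      obtain ⟨z, hz⟩ := Fppf.exists_translate hqW e2
      have ha' : a = lift (a ≫ fst G N) (a ≫ snd G N) := by rw [← comp_lift, lift_fst_snd, Category.comp_id]
      have hb' : b = lift (b ≫ fst G N) (b ≫ snd G N) := by rw [← comp_lift, lift_fst_snd, Category.comp_id]
      rw [ha', hb', hψ₀, hψ₀, ← e1, hz, MonObj.mul_comp _ _ n, Category.assoc z f n, hf, ← _root_.mul_assoc,
        Fppf.eq_of_translate hp]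
    have hψp : ∀ {X : Over (Spec (CommRingCat.of K))} (g : X ⟶ G) (m : X ⟶ N),
        lift g (m ≫ qW) ≫ ψ = (g * (m ≫ n)) ≫ p := fun g m => by
      rw [← hψ₀, ← hψ, ← Category.assoc, lift_whiskerLeft]
    have hw : fst G W ≫ q = ψ ≫ π := hcov.cancel (by
      rw [reassoc_of% hψ]
      simp only [ψ₀, Category.assoc, hπ, whiskerLeft_fst_assoc]
      exact (Fppf.eq_of_translate hq (fst G N) (snd G N)).symm)
    have huniq : ∀ (T : Over (Spec (CommRingCat.of K))) (l l' : T ⟶ G ⊗ W), l ≫ fst G W = l' ≫ fst G W →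
        l ≫ ψ = l' ≫ ψ → l = l' := by
      intro T l l' e1 e2
      refine CartesianMonoidalCategory.hom_ext _ _ e1 ?_
      obtain ⟨T₁, t₁, m, ht₁, hm⟩ := hWcov.exists_lift (l ≫ snd G W)
      obtain ⟨T₂, t₂, m', ht₂, hm'⟩ := hWcov.exists_lift (t₁ ≫ l' ≫ snd G W)
      refine ht₁.cancel (ht₂.cancel ?_)
      have a1 : t₂ ≫ t₁ ≫ l = lift (t₂ ≫ t₁ ≫ l ≫ fst G W) ((t₂ ≫ m) ≫ qW) := by
        refine CartesianMonoidalCategory.hom_ext _ _ (by simp) ?_
        rw [lift_snd]
        simp only [Category.assoc, hm]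
      have a2 : t₂ ≫ t₁ ≫ l' = lift (t₂ ≫ t₁ ≫ l ≫ fst G W) (m' ≫ qW) := by
        refine CartesianMonoidalCategory.hom_ext _ _ (by simp [e1]) ?_
        rw [lift_snd]
        simp only [Category.assoc, hm']
      have h2 := congrArg (fun w => t₂ ≫ t₁ ≫ w) e2
      simp only [← Category.assoc] at h2
      rw [Category.assoc t₂ t₁ l, Category.assoc t₂ t₁ l', a1, a2, hψp, hψp] at h2
      obtain ⟨z, hz⟩ := Fppf.exists_translate hp h2
      have hm'' : m' = (t₂ ≫ m) * (z ≫ f) := by
        rw [← cancel_mono n, MonObj.mul_comp, Category.assoc z f n, hf]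
        rw [_root_.mul_assoc] at hz
        exact mul_left_cancel hz
      rw [← hm, ← hm', hm'', ← Category.assoc t₂ m qW, Fppf.eq_of_translate hqW]
    have hpb : IsPullback (fst G W) ψ q π := Fppf.isPullback_of_points hw fun T x y e => by
      obtain ⟨T', t, a', ht, ha'⟩ := hpc.exists_lift y
      have e' : (t ≫ x) ≫ q = a' ≫ q := by rw [Category.assoc, e, ← hπ, reassoc_of% ha']
      obtain ⟨m, hm⟩ := Fppf.exists_translate hq e'
      let l' : T' ⟶ G ⊗ W := lift (t ≫ x) (m ≫ qW)
      have l1 : l' ≫ fst G W = t ≫ x := lift_fst _ _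
      have l2 : l' ≫ ψ = t ≫ y := by rw [hψp, ← hm, ha']
      obtain ⟨l, hl⟩ := ht.exists_desc l' fun T'' u v euv => huniq _ _ _
        (by rw [Category.assoc, Category.assoc, l1, reassoc_of% euv])
        (by rw [Category.assoc, Category.assoc, l2, reassoc_of% euv])
      refine ⟨l, ⟨ht.cancel (by rw [reassoc_of% hl, l1]), ht.cancel (by rw [reassoc_of% hl, l2])⟩,
        fun l₂ hl₂ => huniq _ _ _ ?_ ?_⟩
      · rw [hl₂.1]; exact (ht.cancel (by rw [reassoc_of% hl, l1])).symm
      · rw [hl₂.2]; exact (ht.cancel (by rw [reassoc_of% hl, l2])).symm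
    haveI : UniversallyClosed π.left := by
      refine MorphismProperty.of_isPullback_of_descendsAlong (P := @UniversallyClosed)
        (Q := (@Surjective ⊓ @Flat ⊓ @LocallyOfFinitePresentation : MorphismProperty Scheme.{u}))
        (hpb.map (Over.forget _)) (Fppf.isCov_of_isQuotient hq).prop ?_
      show UniversallyClosed (pullback.fst G.hom W.hom)
      infer_instance
    haveI : Surjective π.left := by
      haveI : Surjective (p.left ≫ π.left) := by rw [← Over.comp_left, hπ]; exact hq.1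
      exact Surjective.of_comp p.left π.left
    exact Groth.Agent.S0593.result O.left Q.left π.left

end Field

end Groth.Agent.H87.QuotAffine
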