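import Groth.Agent.S7996
import Groth.Agent.S7997
import Groth.Agent.S3006
import Groth.Agent.Lib.GrpQ.Affinization
import Groth.Agent.Lib.GrpQ.KerRho
import Groth.Agent.Lib.GrpQ.Kernel
import Groth.Agent.Lib.GrpSch.SmoothReduced
import Groth.Agent.H1.Classical.Solvable
import Groth.Agent.H1.Classical.ComodPts
import Groth.Agent.H87.CartanUnip
import Groth.Agent.H87.Normal
import Groth.Agent.H87.LocalForm
import Groth.Agent.H87.GmFibre
import Mathlib.RingTheory.RootsOfUnity.EnoughRootsOfUnity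
import Mathlib.RingTheory.Nilpotent.Lemmas

/-!
In a connected solvable group over an algebraically closed field the normalizer of a torus
centralizes it.
-/

set_option autoImplicit false
set_option linter.style.haveILetI false
set_option linter.unusedSectionVars false
universe u

open CategoryTheory MonoidalCategory CartesianMonoidalCategory MonObj GrpObj AlgebraicGeometry
open Groth.Agent.Lib.RedPts Groth.Agent.Lib.RedPts.Points
open Groth.Agent.H1.Classical Groth.Agent.H1.Classical.Scheme'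
open Groth.Agent.Lib.Tori
open MaxTorusApply (exists_GA)
open scoped commutatorElement

namespace Groth.Agent.H87.SolvNorm

/-- A unipotent element of finite order invertible in the field is trivial. -/
theorem unip_eq_one {k R : Type*} [Field k] [Ring R] [Algebra k R] {x : R} {m : ℕ} (h : IsNilpotent (x - 1))
    (hm : x ^ m = 1) (hk : (m : k) ≠ 0) : x = 1 := by
  have hu : IsUnit (∑ i ∈ Finset.range m, x ^ i) := by
    have he : ∑ i ∈ Finset.range m, x ^ i = (m : R) + ∑ i ∈ Finset.range m, (x ^ i - 1) := by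
      simp [Finset.sum_sub_distrib]
    rw [he]
    refine IsNilpotent.isUnit_add_left_of_commute ?_ ?_ ?_
    · refine Commute.isNilpotent_sum (fun i _ => ?_) fun i j _ _ => ?_
      · rw [← geom_sum_mul x i]
        refine Commute.isNilpotent_mul_left (Commute.sum_left _ _ _ fun l _ => ?_) h
        exact ((Commute.refl x).pow_left l).sub_right (Commute.one_right _)
      · exact (((Commute.refl x).pow_pow i j).sub_left (Commute.one_left _)).sub_right (Commute.one_right _)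
    · rw [← map_natCast (algebraMap k R) m]
      exact hk.isUnit.map _
    · exact (Nat.cast_commute m _).symm
  exact sub_eq_zero.1 (hu.mul_right_eq_zero.1 (by rw [geom_sum_mul, hm, sub_self]))

variable {k : Type u} [Field k] [IsAlgClosed k]

local notation "𝕊" => Over (Spec (CommRingCat.of k))

/-- An endomorphism of a torus killing the torsion prime to a given number is trivial. -/
theorem hom_eq_one_of_torsion {T : 𝕊} [GrpObj T] (hT : Red.IsTorus T) (ψ : T ⟶ T) [IsMonHom ψ] (N₀ : ℕ)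
    (hN : 0 < N₀) (h : ∀ (m : ℕ) (t : 𝟙_ 𝕊 ⟶ T), Nat.Coprime N₀ m → (m : k) ≠ 0 → t ^ m = 1 → t ≫ ψ = 1) :
    ψ = 1 := by
  obtain ⟨r, ⟨eT⟩⟩ := TorusIn.exists_split T hT
  let S := Spec (CommRingCat.of k)
  let e := BaseChange.overIso eT
  haveI : IsMonHom e.hom := inferInstanceAs (IsMonHom (BaseChange.overIso eT).hom)
  haveI : IsMonHom e.inv := inferInstanceAs (IsMonHom (BaseChange.overIso eT.symm).hom)
  let v : Red.DS S (Fin r → ℤ) ⟶ Red.DS S (Fin r → ℤ) := e.inv ≫ ψ ≫ e.hom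
  obtain ⟨φ, U, hU, hφ⟩ := LocalForm.exists_local_form_spec (A := CommRingCat.of k) v (IsLocalRing.closedPoint k)
  have hUtop : U = ⊤ := by
    ext x
    exact ⟨fun _ => trivial, fun _ => by
      rwa [Subsingleton.elim (α := PrimeSpectrum k) x (IsLocalRing.closedPoint k)]⟩
  have hv : ∀ (X : 𝕊) (x : X ⟶ Red.DS S (Fin r → ℤ)), x ≫ v = x ≫ Red.DSmap S φ := fun X x => by
    refine hφ X (Over.homMk (IsOpenImmersion.lift U.ι X.hom ?_) (IsOpenImmersion.lift_fac _ _ _)) x
    rw [Scheme.Opens.range_ι, hUtop]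
    exact Set.subset_univ _
  have hφ0 : φ = 0 := by
    by_contra hne
    obtain ⟨a, j, hj⟩ : ∃ a j, φ a j ≠ 0 := by
      by_contra hall
      push Not at hall
      exact hne (AddMonoidHom.ext fun a => funext (hall a))
    obtain ⟨m, hm, hmp⟩ := Nat.exists_infinite_primes (N₀ + (φ a j).natAbs + ringChar k + 1)
    have hmk : (m : k) ≠ 0 := fun h0 => by
      rcases (Nat.dvd_prime hmp).1 ((ringChar.spec k m).1 h0) with h1 | h1
      · exact CharP.ringChar_ne_one h1
      · omega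
    have hcop : Nat.Coprime N₀ m :=
      ((hmp.coprime_iff_not_dvd).2 fun hd => by have := Nat.le_of_dvd hN hd; omega).symm
    haveI : NeZero (m : k) := ⟨hmk⟩
    obtain ⟨ζ, hζ⟩ := HasEnoughRootsOfUnity.exists_primitiveRoot k m
    have hζu : IsUnit ζ := hζ.isUnit hmp.ne_zero
    let u : kˣ := hζu.unit
    have hu : IsPrimitiveRoot u m := IsPrimitiveRoot.coe_units_iff.1 hζ
    let ι₀ : k →+* Γ((𝟙_ 𝕊).left, ⊤) := (Scheme.ΓSpecIso (CommRingCat.of k)).inv.hom
    let χ : Multiplicative (Fin r → ℤ) →* Γ((𝟙_ 𝕊).left, ⊤) :=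
      { toFun := fun b => ι₀ ((u ^ (b.toAdd j) : kˣ) : k)
        map_one' := by rw [toAdd_one, Pi.zero_apply, zpow_zero, Units.val_one, map_one]
        map_mul' := fun b c => by rw [toAdd_mul, Pi.add_apply, zpow_add, Units.val_mul, map_mul] }
    let x : 𝟙_ 𝕊 ⟶ Red.DS S (Fin r → ℤ) := Gm.dsPt χ
    have hxpow : ∀ (i : ℕ) (b : Fin r → ℤ), Gm.dsFn (x ^ i) b = Gm.dsFn x b ^ i := by
      intro i b
      induction i with
      | zero => rw [pow_zero, pow_zero, Gm.dsFn_one]
      | succ i ih => rw [pow_succ, pow_succ, Gm.dsFn_mul, ih]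
    have hxm : x ^ m = 1 := Gm.dsFn_ext fun b => by
      rw [hxpow, Gm.dsFn_one, Gm.dsFn_dsPt]
      show ι₀ ((u ^ (b j) : kˣ) : k) ^ m = 1
      rw [← map_pow, ← Units.val_pow_eq_pow_val, ← zpow_natCast, ← zpow_mul, mul_comm, zpow_mul, zpow_natCast,
        hu.pow_eq_one, one_zpow, Units.val_one, map_one]
    have h1 : (x ≫ e.inv) ≫ ψ = 1 := h m _ hcop hmk (by rw [← MonObj.pow_comp, hxm, MonObj.one_comp])
    have h2 : x ≫ Red.DSmap S φ = 1 := by
      rw [← hv]
      show x ≫ e.inv ≫ ψ ≫ e.hom = 1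
      rw [← Category.assoc, ← Category.assoc, h1, MonObj.one_comp]
    have h3 := congrArg (fun z => Gm.dsFn z a) h2
    rw [Gm.dsFn_DSmap, Gm.dsFn_dsPt, Gm.dsFn_one] at h3
    have h4 : ι₀ ((u ^ (φ a j) : kˣ) : k) = 1 := h3
    rw [map_eq_one_iff ι₀ (ConcreteCategory.bijective_of_isIso (Scheme.ΓSpecIso (CommRingCat.of k)).inv).1, Units.val_eq_one, hu.zpow_eq_one_iff_dvd] at h4
    have := Int.natAbs_dvd_natAbs.2 h4
    rw [Int.natAbs_natCast] at this
    have := Nat.le_of_dvd (Int.natAbs_pos.2 hj) this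
    omega
  have hv1 : v = 1 := by
    rw [← Category.id_comp v, hv _ (𝟙 _), hφ0, Category.id_comp, Factor.DSmap_zero]
  calc ψ = e.hom ≫ v ≫ e.inv := by simp [v]
    _ = 1 := by rw [hv1, MonObj.one_comp, MonObj.comp_one]

/-- In a smooth connected affine solvable group a commutator of finite order invertible in the
field is trivial. -/
theorem commutator_eq_one_of_pow {H : 𝕊} [GrpObj H] [IsAffine H.left] [Smooth H.hom] [ConnectedSpace H.left]
    (hs : Red.IsSolvableGrp H) (a t : 𝟙_ 𝕊 ⟶ H) {m : ℕ} (hm : ⁅a, t⁆ ^ m = 1) (hk : (m : k) ≠ 0) :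
    ⁅a, t⁆ = 1 := by
  obtain ⟨A, _, _, _, _, e, he⟩ := exists_GA H
  haveI := he
  let Φ : (𝟙_ 𝕊 ⟶ H) →* (𝟙_ 𝕊 ⟶ GA k A) := postcomp e.hom _
  have hΦ : Function.Bijective Φ :=
    ⟨fun x y h => (cancel_mono e.hom).1 h, fun y => ⟨y ≫ e.inv, by simp [Φ, postcomp]⟩⟩
  let P : HopfPts.Pt k A ≃* (𝟙_ 𝕊 ⟶ H) :=
    (MulEquiv.ofBijective (ptHom (A := A) (𝟙_ 𝕊)) ⟨ptHom_injective, ptHom_surjective⟩).trans
      (MulEquiv.ofBijective Φ hΦ).symm
  obtain ⟨n, hn⟩ := hs
  haveI : Group.IsSolvable (𝟙_ 𝕊 ⟶ H) := (Group.isSolvable_def _).mpr ⟨n, hn _⟩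
  haveI : Group.IsSolvable (HopfPts.Pt k A) :=
    Group.isSolvable_of_isSolvable_injective (f := P.toMonoidHom) P.injective
  haveI : NoZeroDivisors (HopfPts.D k A).R :=
    ComodPts.noZeroDivisors fun x hx => (IsIdempotentElem.iff_eq_zero_or_one.1 hx)
  obtain ⟨W, _, σ, hσ⟩ := Torus.GenRep.exists_gen (HopfPts.D k A) hasMul_pts pts_ext
  let g : HopfPts.Pt k A := ⁅P.symm a, P.symm t⁆
  have hg : g ∈ commutator (HopfPts.Pt k A) :=
    Subgroup.commutator_mem_commutator (Subgroup.mem_top _) (Subgroup.mem_top _)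
  have hP : P g = ⁅a, t⁆ := by rw [map_commutatorElement, MulEquiv.apply_symm_apply, MulEquiv.apply_symm_apply]
  have hnil := Solvable.isNilpotent_sub_one (HopfPts.D k A).R _ σ hσ.reg (Torus.GenRep.inv_regular _ hσ) rfl g hg
  have hgm : g ^ m = 1 := P.injective (by rw [map_pow, hP, hm, map_one])
  have h1 : σ g = 1 := unip_eq_one (R := Module.End k W) hnil
    ((map_pow σ g m).symm.trans ((congrArg σ hgm).trans (map_one σ))) hk
  rw [← hP, hσ.faith (h1.trans (map_one σ).symm), map_one]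

/-- A reduced algebraic group over an algebraically closed field is smooth. -/
theorem smooth_of_reduced (Q : 𝕊) [GrpObj Q] [LocallyOfFiniteType Q.hom] [IsReduced Q.left] : Smooth Q.hom := by
  haveI : GrpObj (Over.mk Q.hom) := inferInstanceAs (GrpObj Q)
  exact Smooth.smooth_of_isReduced Q.hom

/-- In a smooth connected solvable group a commutator of finite order invertible in the field is
central. -/
theorem commutator_central {B : 𝕊} [GrpObj B] [Smooth B.hom] [QuasiCompact B.hom] [ConnectedSpace B.left]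
    (hs : Red.IsSolvableGrp B) (a t : 𝟙_ 𝕊 ⟶ B) {m : ℕ} (hm : ⁅a, t⁆ ^ m = 1) (hk : (m : k) ≠ 0)
    (b : 𝟙_ 𝕊 ⟶ B) : ⁅a, t⁆ * b = b * ⁅a, t⁆ := by
  haveI := Groth.Agent.Lib.GrpSch.isSeparated_of_field B
  haveI : LocallyOfFiniteType B.hom := inferInstance
  obtain ⟨_, hρ⟩ := Groth.Agent.Lib.GrpQ.Affinization.exists_grp B
  let Q := Groth.Agent.Lib.GrpQ.Affinization.aff B
  let ρ : B ⟶ Q := Groth.Agent.Lib.GrpQ.Affinization.rho B
  haveI : IsMonHom ρ := hρ
  obtain ⟨hsur, hflat, hlft⟩ := Groth.Agent.Lib.GrpQ.Affinization.rho_faithfullyFlat B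
  haveI : Surjective ρ.left := hsur
  haveI : Flat ρ.left := hflat
  haveI : LocallyOfFiniteType Q.hom := hlft
  haveI : IsAffine Q.left := inferInstanceAs (IsAffine (Spec Γ(B.left, ⊤)))
  haveI : IsReduced B.left := Groth.Agent.Lib.GrpSch.isReduced_of_smooth_field B.hom
  haveI : IsReduced Q.left := inferInstanceAs (IsReduced (Spec Γ(B.left, ⊤)))
  haveI : Smooth Q.hom := smooth_of_reduced Q
  haveI : ConnectedSpace Q.left := ρ.left.surjective.connectedSpace ρ.left.continuous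
  have hQs : Red.IsSolvableGrp Q := Groth.Agent.S7997.result k B Q ρ hs
  have h1 : ⁅a, t⁆ ≫ ρ = 1 := by
    have hc : ⁅a, t⁆ ≫ ρ = ⁅a ≫ ρ, t ≫ ρ⁆ := map_commutatorElement (postcomp ρ (𝟙_ 𝕊)) a t
    rw [hc]
    exact commutator_eq_one_of_pow hQs _ _ (by rw [← hc, ← MonObj.pow_comp, hm, MonObj.one_comp]) hk
  haveI := Groth.Agent.Lib.GrpSch.isSeparated_of_field Q
  obtain ⟨N, _, i, hi, hic, hK, -⟩ := Groth.Agent.Lib.GrpQ.exists_kernel ρ
  haveI := hi
  haveI := hic
  haveI : LocallyOfFiniteType N.hom := by rw [← Over.w i]; infer_instance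
  haveI : QuasiCompact N.hom := by rw [← Over.w i]; infer_instance
  haveI := Groth.Agent.Lib.GrpQ.KerRho.isIso_appTop_kernel i hK
  obtain ⟨z, hz⟩ : ∃ z, z ≫ i = ⁅a, t⁆ :=
    ⟨hK.lift ⁅a, t⁆ (toUnit _) (by rw [h1, Hom.one_def]), hK.lift_fst _ _ _⟩
  have hc := Groth.Agent.S7996.result k N B
    (ConcreteCategory.bijective_of_isIso ((Scheme.ΓSpecIso (CommRingCat.of k)).inv ≫ N.hom.appTop)) i _ z _ (𝟙 _) b
  rwa [Category.id_comp, hz] at hc

/-- The point of the underlying space of a rational point. -/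
noncomputable def pt {X : 𝕊} (x : 𝟙_ 𝕊 ⟶ X) : X.left :=
  x.left (IsLocalRing.closedPoint k : ↥(Spec (CommRingCat.of k)))

/-- **The normalizer of a torus of a connected solvable group centralizes it.** -/
theorem commute_of_normalizes {B : 𝕊} [GrpObj B] [Smooth B.hom] [QuasiCompact B.hom] [ConnectedSpace B.left]
    (hs : Red.IsSolvableGrp B) {T : 𝕊} [GrpObj T] (hT : Red.IsTorus T) (i : T ⟶ B) [IsMonHom i] [Mono i]
    {X : 𝕊} (a : X ⟶ B)
    (ha : ∀ (Y : 𝕊) (y : Y ⟶ X) (h : Y ⟶ T),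
      (∃ h' : Y ⟶ T, (y ≫ a) * (h ≫ i) * (y ≫ a)⁻¹ = h' ≫ i) ∧
      (∃ h' : Y ⟶ T, (y ≫ a)⁻¹ * (h ≫ i) * (y ≫ a) = h' ≫ i))
    (t : X ⟶ T) : a * (t ≫ i) = (t ≫ i) * a := by
  haveI := Groth.Agent.Lib.GrpSch.isSeparated_of_field B
  haveI : QuasiSeparated B.hom := inferInstance
  haveI : LocallyOfFinitePresentation B.hom := inferInstance
  haveI := Groth.Agent.Lib.Tori.Basic.smooth_of_isTorus hT
  haveI := Groth.Agent.Lib.Tori.Basic.isAffineHom_of_isTorus hT
  haveI : CompactSpace T.left := haveI := isAffine_of_isAffineHom T.hom; inferInstance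
  haveI : QuasiCompact (i.left ≫ B.hom) := by rw [Over.w]; infer_instance
  haveI : QuasiCompact i.left := QuasiCompact.of_comp i.left B.hom
  have hTc : IsClosedImmersion i.left := Groth.Agent.Lib.GrpQ.MonoClosed.isClosedImmersion_of_mono i
  obtain ⟨-, N, _, n, hN, hnc, -⟩ := Groth.Agent.S3006.result _ B T i hTc hT
  haveI := hnc
  haveI := hN.1
  haveI := hN.2.1
  haveI : QuasiCompact N.hom := by rw [← Over.w n]; infer_instance
  haveI : LocallyOfFiniteType N.hom := by rw [← Over.w n]; infer_instance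
  have hcomm : ∀ {Y : 𝕊} (x y : Y ⟶ T), x * y = y * x := fun x y => Groth.Agent.Lib.Tori.Comm.mul_comm_of_isTorus hT x y
  obtain ⟨i', hi'⟩ := (hN.2.2 T i).2 fun Y y h => by
    constructor <;> refine ⟨h, ?_⟩
    · rw [← GrpObj.inv_comp, ← MonObj.mul_comp, ← MonObj.mul_comp, hcomm, inv_mul_cancel_left]
    · rw [← GrpObj.inv_comp, ← MonObj.mul_comp, ← MonObj.mul_comp, _root_.mul_assoc, hcomm h,
        inv_mul_cancel_left]
  haveI : IsMonHom i' := HomDS.isMonHom_of_points i' fun Y x y => by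
    rw [← cancel_mono n, MonObj.mul_comp _ _ n, Category.assoc, Category.assoc, Category.assoc, hi', MonObj.mul_comp]
  haveI : Mono i' := by
    haveI : Mono (i' ≫ n) := by rw [hi']; infer_instance
    exact mono_of_mono i' n
  have hn' : AlgGrp.IsNormalHom i' := fun Y g h => by
    obtain ⟨h', hh'⟩ := ((hN.2.2 Y (g ≫ n)).1 ⟨g, rfl⟩ Y (𝟙 Y) h).1
    refine ⟨h', (cancel_mono n).1 ?_⟩
    rw [MonObj.mul_comp _ _ n, MonObj.mul_comp _ _ n, GrpObj.inv_comp _ n, Category.assoc, Category.assoc, hi']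
    rw [Category.id_comp] at hh'
    exact hh'
  obtain ⟨U, hUc, hc, hpt⟩ := Normal.exists_cent_locus i' (GmFibre.isMultTypeFT_of_isTorus hT) hn'
  have hUopen : IsClopen (U : Set N.left) := ⟨hUc, U.2⟩
  -- rational points in the locus are exactly the centralizing ones
  have hmem : ∀ x : 𝟙_ 𝕊 ⟶ N, pt x ∈ U →
      ∀ s : 𝟙_ 𝕊 ⟶ T, (x ≫ n) * (s ≫ i) = (s ≫ i) * (x ≫ n) := by
    intro x hx s
    let Y : Over N.left := Over.mk x.left
    let ε : 𝟙_ 𝕊 ≅ (Over.map N.hom).obj Y :=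
      Over.isoMk (Iso.refl _) ((Category.id_comp _).trans (Over.w x))
    have hq : ε.hom ≫ Normal.tautPt Y = x := Over.OverMorphism.ext (Category.id_comp _)
    have h1 := congrArg (fun z => ε.hom ≫ z ≫ n) ((hpt x.left).2 hx Y (𝟙 _) (ε.inv ≫ s))
    simp only [MonObj.mul_comp _ _ n, MonObj.comp_mul, Category.assoc, hi', Iso.hom_inv_id_assoc] at h1
    rwa [← Category.assoc ε.hom (Normal.tautPt Y) n, hq] at h1
  have hone : pt (1 : 𝟙_ 𝕊 ⟶ N) ∈ U := by
    have h1 := (hpt (F := k) (𝟙 _ ≫ η[N].left)).1 (Normal.cent_one i' (𝟙 _))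
    rwa [Category.id_comp, show η[N].left = (1 : 𝟙_ 𝕊 ⟶ N).left by
      rw [Hom.one_def, toUnit_unique (toUnit (𝟙_ 𝕊)) (𝟙 _), Category.id_comp]] at h1
  haveI : CompactSpace N.left := QuasiCompact.compactSpace_of_compactSpace N.hom
  haveI : IsLocallyNoetherian N.left := LocallyOfFiniteType.isLocallyNoetherian N.hom
  haveI : IsNoetherian N.left := {}
  -- a power of every rational point centralizes
  have hpow : ∀ x : 𝟙_ 𝕊 ⟶ N, ∃ j : ℕ, 0 < j ∧ pt (x ^ j) ∈ U := by
    intro x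
    haveI : Finite (irreducibleComponents N.left) := TopologicalSpace.NoetherianSpace.finite_irreducibleComponents.to_subtype
    choose Z hZ hxZ using fun j : ℕ => exists_mem_irreducibleComponents_subset_of_isIrreducible
      {pt (x ^ j)} isIrreducible_singleton
    obtain ⟨j₁, j₂, hne, he⟩ := Finite.exists_ne_map_eq_of_infinite
      (fun j : ℕ => (⟨Z j, hZ j⟩ : irreducibleComponents N.left))
    simp only [Subtype.mk.injEq] at he
    wlog hlt : j₁ < j₂ generalizing j₁ j₂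
    · exact this j₂ j₁ hne.symm he.symm (by omega)
    refine ⟨j₂ - j₁, by omega, ?_⟩
    let L : N ⟶ N := (toUnit N ≫ (x ^ j₁)⁻¹) * 𝟙 N
    have hL : ∀ y : 𝟙_ 𝕊 ⟶ N, pt ((x ^ j₁)⁻¹ * y) = L.left (pt y) := fun y => by
      have : y ≫ L = (x ^ j₁)⁻¹ * y := by
        rw [MonObj.comp_mul, ← Category.assoc, toUnit_unique (y ≫ toUnit N) (𝟙 _), Category.id_comp, Category.comp_id]
      rw [← this]
      rfl
    have hsub : L.left '' Z j₁ ⊆ (U : Set N.left) := by
      refine (((hZ j₁).1.2.isPreconnected).image _ L.left.continuous.continuousOn).subset_isClopen hUopen ?_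
      refine ⟨pt (1 : 𝟙_ 𝕊 ⟶ N), ⟨pt (x ^ j₁), hxZ j₁ rfl, ?_⟩, hone⟩
      rw [← hL, inv_mul_cancel]
    refine hsub ⟨pt (x ^ j₂), he ▸ hxZ j₂ rfl, ?_⟩
    rw [← hL, show x ^ j₂ = x ^ j₁ * x ^ (j₂ - j₁) by rw [← pow_add]; congr 1; omega, inv_mul_cancel_left]
  -- every rational point centralizes
  have hcl : ∀ x : 𝟙_ 𝕊 ⟶ N, pt x ∈ U := by
    intro x
    obtain ⟨j, hj, hxj⟩ := hpow x
    let b : 𝟙_ 𝕊 ⟶ B := x ≫ n
    obtain ⟨τ, hτ⟩ := ((hN.2.2 (𝟙_ 𝕊) b).1 ⟨x, rfl⟩ T (toUnit T) (𝟙 T)).1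
    let ψ : T ⟶ T := τ * (𝟙 T)⁻¹
    have hψ : ∀ {Y : 𝕊} (s : Y ⟶ T), (s ≫ ψ) ≫ i = ⁅toUnit Y ≫ b, s ≫ i⁆ := by
      intro Y s
      rw [MonObj.comp_mul, MonObj.mul_comp _ _ i, Category.assoc, ← hτ, GrpObj.comp_inv, Category.comp_id,
        GrpObj.inv_comp _ i, commutatorElement_def]
      simp only [MonObj.comp_mul, GrpObj.comp_inv, Category.id_comp, ← Category.assoc,
        toUnit_unique (s ≫ toUnit T) (toUnit Y)]
    haveI : IsMonHom ψ := HomDS.isMonHom_of_points ψ fun Y s s' => by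
      have e1 : ∀ r : Y ⟶ T, (r ≫ τ) ≫ i = (toUnit Y ≫ b) * (r ≫ i) * (toUnit Y ≫ b)⁻¹ := fun r => by
        rw [Category.assoc, ← hτ]
        simp only [MonObj.comp_mul, GrpObj.comp_inv, Category.id_comp, ← Category.assoc,
          toUnit_unique (r ≫ toUnit T) (toUnit Y)]
      have e2 : (s * s') ≫ τ = (s ≫ τ) * (s' ≫ τ) := (cancel_mono i).1 (by
        rw [MonObj.mul_comp _ _ i, e1, e1, e1, MonObj.mul_comp]
        group)
      simp only [ψ, MonObj.comp_mul, GrpObj.comp_inv, Category.comp_id, e2]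
      exact HomDS.group_aux (G := Y ⟶ T) hcomm _ _ _ _
    have hψ1 : ψ = 1 := by
      refine hom_eq_one_of_torsion hT ψ j hj fun m s hcop hmk hsm => ?_
      let g := (s ≫ ψ) ≫ i
      have hg : g = ⁅b, s ≫ i⁆ := by
        rw [show g = _ from hψ s, toUnit_unique (toUnit (𝟙_ 𝕊)) (𝟙 _), Category.id_comp]
      have hgm : g ^ m = 1 := by
        rw [← MonObj.pow_comp, ← MonObj.pow_comp, hsm, MonObj.one_comp, MonObj.one_comp]
      have hgb : Commute b g := by
        rw [hg]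
        exact (commutator_central hs b (s ≫ i) (by rw [← hg]; exact hgm) hmk b).symm
      have hconj : ∀ l : ℕ, b ^ l * (s ≫ i) * (b ^ l)⁻¹ = g ^ l * (s ≫ i) := by
        intro l
        induction l with
        | zero => simp
        | succ l ih =>
          rw [pow_succ', show b * b ^ l * (s ≫ i) * (b * b ^ l)⁻¹ = b * (b ^ l * (s ≫ i) * (b ^ l)⁻¹) * b⁻¹ by group,
            ih, ← _root_.mul_assoc b, (hgb.pow_right l).eq, pow_succ, hg, commutatorElement_def]
          group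
      have hgj : g ^ j = 1 := by
        have h1 := hconj j
        have h2 : (b ^ j) * (s ≫ i) = (s ≫ i) * b ^ j := by
          have := hmem (x ^ j) hxj s
          rwa [MonObj.pow_comp] at this
        rwa [h2, mul_inv_cancel_right, eq_comm, mul_eq_right] at h1
      have : g = 1 := by
        rw [← orderOf_eq_one_iff]
        exact Nat.eq_one_of_dvd_coprimes hcop (orderOf_dvd_of_pow_eq_one hgj) (orderOf_dvd_of_pow_eq_one hgm)
      rw [← cancel_mono i, MonObj.one_comp]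
      exact this
    refine (hpt x.left).1 fun Y p h => (cancel_mono n).1 ?_
    have hp : p.left ≫ x.left = Y.hom := Over.w p
    have hq : Normal.tautPt Y = toUnit _ ≫ x := by
      apply Over.OverMorphism.ext
      show Y.hom = (Y.hom ≫ N.hom) ≫ x.left
      rw [← hp, Category.assoc p.left, Over.w x]
      exact congrArg (· ≫ x.left) (Category.comp_id _).symm
    rw [MonObj.mul_comp _ _ n, MonObj.mul_comp _ _ n, Category.assoc, hi', hq, Category.assoc,
      ← commutatorElement_eq_one_iff_mul_comm, ← hψ, hψ1, MonObj.comp_one, MonObj.one_comp]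
  have hall : (U : Set N.left) = Set.univ := by
    haveI : JacobsonSpace N.left := LocallyOfFiniteType.jacobsonSpace N.hom
    by_contra hne
    obtain ⟨z, hz, hzc⟩ := nonempty_inter_closedPoints (X := N.left) (Z := (U : Set N.left)ᶜ)
      (Set.nonempty_compl.2 hne) U.isOpen.isClosed_compl.isLocallyClosed
    obtain ⟨p, hp⟩ := Scheme'.exists_point (Y := N) hzc
    exact hz ((hp _).symm ▸ hcl p)
  obtain ⟨z, hz⟩ := (hN.2.2 X a).2 ha
  have h1 := congrArg (· ≫ n) (Normal.central_of_cent i' U hall hc z t)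
  simp only [MonObj.mul_comp _ _ n, Category.assoc, hi', hz] at h1
  exact h1

end Groth.Agent.H87.SolvNorm
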