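import Groth.Agent.H87.MonoHom
import Groth.Agent.H87.SubgroupDescent
import Groth.Agent.Lib.Tori.Character

/-!
# Subgroups of base changes through their points
-/

set_option autoImplicit false
set_option linter.style.haveILetI false
universe u

open CategoryTheory MonoidalCategory CartesianMonoidalCategory MonObj GrpObj AlgebraicGeometry
open CategoryTheory.Limits
open Groth.Agent.Lib Groth.Agent.Lib.RedPts Groth.Agent.H87.MonoHom

namespace Groth.Agent.H87.SubIn

variable {S : Scheme.{u}} {G : Over S} [GrpObj G]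

/-- A point of `G` over a point of the base lies in the subobject `j`. -/
def In {T : Scheme.{u}} {t : T ⟶ S} {K : Over T} (j : K ⟶ Red.bc t G) {W : Scheme.{u}} (w : W ⟶ T)
    (g : W ⟶ G.left) : Prop :=
  ∃ k : W ⟶ K.left, k ≫ K.hom = w ∧ k ≫ gmap G j = g

section Basic

variable {T : Scheme.{u}} {t : T ⟶ S} {K : Over T} {j : K ⟶ Red.bc t G}

theorem gmap_hom (j : K ⟶ Red.bc t G) : gmap G j ≫ G.hom = K.hom ≫ t := by
  have h : j.left ≫ pullback.snd G.hom t = K.hom := Over.w j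
  rw [Category.assoc, pullback.condition, reassoc_of% h]

theorem in_hom (j : K ⟶ Red.bc t G) : In j K.hom (gmap G j) := ⟨𝟙 _, Category.id_comp _, Category.id_comp _⟩

theorem In.comp {W W' : Scheme.{u}} {w : W ⟶ T} {g : W ⟶ G.left} (h : In j w g) (r : W' ⟶ W) :
    In j (r ≫ w) (r ≫ g) := by
  obtain ⟨k, h₁, h₂⟩ := h
  exact ⟨r ≫ k, by rw [Category.assoc, h₁], by rw [Category.assoc, h₂]⟩

theorem In.hom {W : Scheme.{u}} {w : W ⟶ T} {g : W ⟶ G.left} (h : In j w g) : g ≫ G.hom = w ≫ t := by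
  obtain ⟨k, rfl, rfl⟩ := h
  rw [Category.assoc, gmap_hom, Category.assoc]

theorem hom_ext_In [Mono j] {W : Scheme.{u}} {a b : W ⟶ K.left} (h₁ : a ≫ K.hom = b ≫ K.hom)
    (h₂ : a ≫ gmap G j = b ≫ gmap G j) : a = b := by
  let a' : Over.mk (a ≫ K.hom) ⟶ K := Over.homMk a
  let b' : Over.mk (a ≫ K.hom) ⟶ K := Over.homMk b h₁.symm
  refine congrArg CommaMorphism.left (show a' = b' from ?_)
  rw [← cancel_mono j]
  refine hom_ext_gmap ?_
  show (a ≫ j.left) ≫ pullback.fst G.hom t = (b ≫ j.left) ≫ pullback.fst G.hom t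
  rw [Category.assoc, Category.assoc]
  exact h₂

theorem mono_of_In (h : ∀ {W : Scheme.{u}} (a b : W ⟶ K.left), a ≫ K.hom = b ≫ K.hom →
    a ≫ gmap G j = b ≫ gmap G j → a = b) : Mono j :=
  ⟨fun {X} a b hab => Over.OverMorphism.ext (h a.left b.left ((Over.w a).trans (Over.w b).symm) (by
    have := congr(($hab).left ≫ pullback.fst G.hom t)
    simpa only [Over.comp_left, Category.assoc] using this))⟩

theorem In.glue [Mono j] {W : Scheme.{u}} {w : W ⟶ T} {g : W ⟶ G.left}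
    (h : ∀ x : W, ∃ V : W.Opens, x ∈ V ∧ In j (V.ι ≫ w) (V.ι ≫ g)) : In j w g := by
  choose V hV hIn using h
  choose k hk₁ hk₂ using hIn
  let 𝒰 := W.openCoverOfIsOpenCover V
    (.mk (eq_top_iff.mpr fun x _ => TopologicalSpace.Opens.mem_iSup.mpr ⟨x, hV x⟩))
  have hg : ∀ x y, pullback.fst (V x).ι (V y).ι ≫ k x = pullback.snd _ _ ≫ k y := fun x y =>
    hom_ext_In (j := j) (by rw [Category.assoc, Category.assoc, hk₁, hk₁, pullback.condition_assoc])
      (by rw [Category.assoc, Category.assoc, hk₂, hk₂, pullback.condition_assoc])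
  have hr : ∀ x, (V x).ι ≫ 𝒰.glueMorphisms k hg = k x := Scheme.Cover.ι_glueMorphisms 𝒰 k hg
  refine ⟨𝒰.glueMorphisms k hg, Scheme.hom_ext_of_forall _ _ fun x => ⟨V x, hV x, ?_⟩,
    Scheme.hom_ext_of_forall _ _ fun x => ⟨V x, hV x, ?_⟩⟩
  · rw [← Category.assoc, hr, hk₁]
  · rw [← Category.assoc, hr, hk₂]

theorem In.descend [Mono j] {W W' : Scheme.{u}} (f : W' ⟶ W) [Flat f] [Surjective f] (hf : Tori.Basic.IsQCCover f)
    {w : W ⟶ T} {g : W ⟶ G.left} (h : In j (f ≫ w) (f ≫ g)) : In j w g := by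
  obtain ⟨k, hk₁, hk₂⟩ := h
  have hmem := SubgroupDescent.cover_mem (π := f) hf
  have hsh : ∀ Y : Scheme.{u},
      (Presieve.ofArrows (fun _ : PUnit.{u + 1} => W') (fun _ => f)).IsSheafFor (yoneda.obj Y) :=
    fun Y => Groth.Agent.Lib.DescAlg.DDFam.Cover.isSheafFor_yoneda hmem Y
  obtain ⟨l, hl, -⟩ := (Presieve.isSheafFor_arrows_iff _ _).1 (hsh K.left) (fun _ => k)
    (fun i i' Z a b hab => by
      have hab' : a ≫ f = b ≫ f := hab
      exact hom_ext_In (j := j) ((Category.assoc _ _ _).trans ((congrArg (a ≫ ·) hk₁).trans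
        ((reassoc_of% hab') w |>.trans ((congrArg (b ≫ ·) hk₁).symm.trans (Category.assoc _ _ _).symm))))
        ((Category.assoc _ _ _).trans ((congrArg (a ≫ ·) hk₂).trans
        ((reassoc_of% hab') g |>.trans ((congrArg (b ≫ ·) hk₂).symm.trans (Category.assoc _ _ _).symm)))))
  have hl' : f ≫ l = k := hl PUnit.unit
  refine ⟨l, (hsh T).isSeparatedFor.ext fun Z a ha => ?_, (hsh G.left).isSeparatedFor.ext fun Z a ha => ?_⟩
  · obtain ⟨i⟩ := ha
    show f ≫ l ≫ K.hom = f ≫ w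
    rw [← Category.assoc, hl', hk₁]
  · obtain ⟨i⟩ := ha
    show f ≫ l ≫ gmap G j = f ≫ g
    rw [← Category.assoc, hl', hk₂]

end Basic

/-- Two subobjects with the same points coincide. -/
theorem exists_iso_of_In {T : Scheme.{u}} {t : T ⟶ S} {K K' : Over T} (j : K ⟶ Red.bc t G) (j' : K' ⟶ Red.bc t G)
    [Mono j] [Mono j'] (h : ∀ (W : Scheme.{u}) (w : W ⟶ T) (g : W ⟶ G.left), In j w g ↔ In j' w g) :
    ∃ φ : K ≅ K', φ.hom ≫ j' = j := by
  obtain ⟨a, ha₁, ha₂⟩ := (h _ _ _).1 (in_hom j)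
  obtain ⟨b, hb₁, hb₂⟩ := (h _ _ _).2 (in_hom j')
  let a' : K ⟶ K' := Over.homMk a ha₁
  let b' : K' ⟶ K := Over.homMk b hb₁
  have ha' : a' ≫ j' = j := hom_ext_gmap ((Category.assoc _ _ _).trans ha₂)
  have hb' : b' ≫ j = j' := hom_ext_gmap ((Category.assoc _ _ _).trans hb₂)
  exact ⟨⟨a', b', by rw [← cancel_mono j, Category.assoc, hb', ha', Category.id_comp],
    by rw [← cancel_mono j', Category.assoc, ha', hb', Category.id_comp]⟩, ha'⟩

theorem in_iso {T : Scheme.{u}} {t : T ⟶ S} {K K' : Over T} (φ : K ≅ K') (j' : K' ⟶ Red.bc t G)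
    {W : Scheme.{u}} (w : W ⟶ T) (g : W ⟶ G.left) : In (φ.hom ≫ j') w g ↔ In j' w g := by
  constructor
  · rintro ⟨k, h₁, h₂⟩
    exact ⟨k ≫ φ.hom.left, by rw [Category.assoc, Over.w φ.hom, h₁], by
      rw [← h₂, gmap, gmap, Over.comp_left, Category.assoc, Category.assoc]⟩
  · rintro ⟨k, h₁, h₂⟩
    refine ⟨k ≫ φ.inv.left, by rw [Category.assoc, Over.w φ.inv, h₁], ?_⟩
    show (k ≫ φ.inv.left) ≫ (φ.hom ≫ j').left ≫ pullback.fst G.hom t = g
    rw [Category.assoc, ← Category.assoc φ.inv.left, ← Over.comp_left, Iso.inv_hom_id_assoc]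
    exact h₂

/-- Pullback of a subobject along a morphism of bases. -/
theorem exists_pull {T T' : Scheme.{u}} {t : T ⟶ S} {t' : T' ⟶ S} (f : T' ⟶ T) (hf : f ≫ t = t')
    {K : Over T} [GrpObj K] (j : K ⟶ Red.bc t G) [IsMonHom j] [Mono j] :
    ∃ j' : Red.bc f K ⟶ Red.bc t' G, IsMonHom j' ∧ Mono j' ∧ gmap G j' = pullback.fst K.hom f ≫ gmap G j ∧
      ∀ {W : Scheme.{u}} (w : W ⟶ T') (g : W ⟶ G.left), In j' w g ↔ In j (w ≫ f) g := by
  subst hf
  haveI : IsMonHom (bcIso f t G).hom := isMonHom_bcIso (G := G) f t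
  let e := Tori.BaseChange.grpIso (bcIso f t G)
  haveI : IsMonHom (bcIso f t G).inv := show IsMonHom (Tori.BaseChange.overIso e).inv from inferInstance
  haveI : IsMonHom ((Over.pullback f).map j) := inferInstance
  refine ⟨(Over.pullback f).map j ≫ (bcIso f t G).inv, inferInstance, inferInstance, ?_, ?_⟩
  all_goals
    have hfst : (bcIso f t G).inv.left ≫ pullback.fst G.hom (f ≫ t) =
        pullback.fst (Red.bc t G).hom f ≫ pullback.fst G.hom t := by
      rw [← bm_fst G f rfl (t := f ≫ t) (p := t), ← bcIso_hom_fst, Category.assoc, ← Category.assoc (bcIso f t G).inv.left,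
        ← Over.comp_left, Iso.inv_hom_id]
      exact Category.id_comp _
    have hg : gmap G ((Over.pullback f).map j ≫ (bcIso f t G).inv) = pullback.fst K.hom f ≫ gmap G j := by
      show (((Over.pullback f).map j).left ≫ (bcIso f t G).inv.left) ≫ pullback.fst G.hom (f ≫ t) = _
      rw [Category.assoc, hfst]
      exact (Category.assoc _ _ _).symm.trans ((congrArg (· ≫ pullback.fst G.hom t)
        (show ((Over.pullback f).map j).left ≫ pullback.fst (Red.bc t G).hom f = pullback.fst K.hom f ≫ j.left from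
          pullback.lift_fst _ _ _)).trans (Category.assoc _ _ _))
  · exact hg
  · intro W w g
    constructor
    · rintro ⟨k, h₁, h₂⟩
      refine ⟨k ≫ pullback.fst K.hom f, ?_, ?_⟩
      · rw [Category.assoc, pullback.condition, ← Category.assoc]
        exact congrArg (· ≫ f) h₁
      · rw [Category.assoc, ← hg]; exact h₂
    · rintro ⟨k, h₁, h₂⟩
      refine ⟨pullback.lift k w h₁, pullback.lift_snd _ _ _, ?_⟩
      rw [hg]
      exact (pullback.lift_fst_assoc _ _ _ _).trans h₂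

theorem exists_congr {T : Scheme.{u}} {t t' : T ⟶ S} (h : t = t') {K : Over T} [GrpObj K]
    (j : K ⟶ Red.bc t G) [IsMonHom j] [Mono j] :
    ∃ j' : K ⟶ Red.bc t' G, IsMonHom j' ∧ Mono j' ∧ gmap G j' = gmap G j := by
  subst h
  exact ⟨j, inferInstance, inferInstance, rfl⟩

/-- The points of a subgroup form a subgroup. -/
theorem In.grp {T : Scheme.{u}} {t : T ⟶ S} {K : Over T} [GrpObj K] (j : K ⟶ Red.bc t G) [IsMonHom j]
    {W : Scheme.{u}} (w : W ⟶ T) :
    In j w (1 : Over.mk (w ≫ t) ⟶ G).left ∧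
      (∀ a b : Over.mk (w ≫ t) ⟶ G, In j w a.left → In j w b.left → In j w (a * b).left) ∧
      ∀ a : Over.mk (w ≫ t) ⟶ G, In j w a.left → In j w a⁻¹.left := by
  let X : Over T := Over.mk w
  have key : ∀ (k : X ⟶ K), In j w (BC.down t (k ≫ j)).left := fun k =>
    ⟨k.left, Over.w k, by rw [BC.down_left, Over.comp_left, Category.assoc]⟩
  have back : ∀ a : Over.mk (w ≫ t) ⟶ G, In j w a.left → ∃ k : X ⟶ K, BC.down t (k ≫ j) = a := by
    rintro a ⟨k, h₁, h₂⟩
    refine ⟨Over.homMk k h₁, Over.OverMorphism.ext ?_⟩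
    rw [BC.down_left, Over.comp_left, Category.assoc]
    exact h₂
  refine ⟨?_, fun a b ha hb => ?_, fun a ha => ?_⟩
  · have := key 1
    rwa [MonObj.one_comp, BC.down_one] at this
  · obtain ⟨k, rfl⟩ := back a ha
    obtain ⟨l, rfl⟩ := back b hb
    have := key (k * l)
    rwa [MonObj.mul_comp, BC.down_mul] at this
  · obtain ⟨k, rfl⟩ := back a ha
    have := key k⁻¹
    rwa [GrpObj.inv_comp, BC.down_inv] at this

/-- A monomorphism whose points form a subgroup is a subgroup. -/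
theorem exists_grpObj_of_In {T : Scheme.{u}} {t : T ⟶ S} {K : Over T} (j : K ⟶ Red.bc t G) [Mono j]
    (h : ∀ {W : Scheme.{u}} (w : W ⟶ T),
      In j w (1 : Over.mk (w ≫ t) ⟶ G).left ∧
        (∀ a b : Over.mk (w ≫ t) ⟶ G, In j w a.left → In j w b.left → In j w (a * b).left) ∧
        ∀ a : Over.mk (w ≫ t) ⟶ G, In j w a.left → In j w a⁻¹.left) :
    ∃ _ : GrpObj K, IsMonHom j := by
  have mk : ∀ {X : Over T} (y : X ⟶ Red.bc t G), In j X.hom (BC.down t y).left → ∃ r, r ≫ j = y := by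
    rintro X y ⟨k, h₁, h₂⟩
    refine ⟨Over.homMk k h₁, hom_ext_gmap ?_⟩
    show (k ≫ j.left) ≫ pullback.fst G.hom t = y.left ≫ pullback.fst G.hom t
    rw [Category.assoc]
    exact h₂.trans (BC.down_left y)
  have inj : ∀ {X : Over T} (a : X ⟶ K), In j X.hom (BC.down t (a ≫ j)).left := fun {X} a =>
    ⟨a.left, Over.w a, by rw [BC.down_left, Over.comp_left, Category.assoc]⟩
  refine SubgroupDescent.exists_grpObj (S := T) j (fun X => mk 1 ?_) (fun X a b => mk _ ?_) (fun X a => mk _ ?_)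
  · rw [BC.down_one]; exact (h X.hom).1
  · rw [BC.down_mul]; exact (h X.hom).2.1 _ _ (inj a) (inj b)
  · rw [BC.down_inv]; exact (h X.hom).2.2 _ (inj a)

end Groth.Agent.H87.SubIn
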