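import Groth.Agent.Lib.MultAvg.HomSmooth
import Groth.Agent.H87.MultLift
import Groth.Agent.Lib.NilGrp.IsoMod
import Groth.Agent.Lib.Lim.Thickening

/-!
Subgroups of multiplicative type lift along square-zero thickenings as soon as they lift as flat
subschemes.
-/

set_option autoImplicit false
universe u

open CategoryTheory MonoidalCategory CartesianMonoidalCategory MonObj GrpObj AlgebraicGeometry
open CategoryTheory.Limits
open Groth.Agent.H87.HomDS Groth.Agent.H87.HomFam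
open Groth.Agent.Lib.MultAvg

namespace Groth.Agent.H87.SubLift

set_option linter.style.haveILetI false

variable {S : Scheme.{u}} {H K : Over S} [GrpObj H] [GrpObj K]

/-- The square-zero step, given a lift as a morphism of schemes. -/
theorem exists_fam_sq_of_lift (hH : LocSplit H) {A : CommRingCat.{u}} (t : Spec A ⟶ S)
    (J : Ideal A) (hJ : J ^ 2 = ⊥) (F₀ : Fam H K (Spec.map (mkA J) ≫ t)) (m : H ⟶ K)
    (hm : ∀ (Y : Over S) (y : Y.left ⟶ Spec (CommRingCat.of (A ⧸ J))) (hy : y ≫ Spec.map (mkA J) ≫ t = Y.hom)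
      (g : Y ⟶ H), F₀.app Y y hy g = g ≫ m) :
    ∃ F : Fam H K t, F.res (Spec.map (mkA J)) rfl = F₀ := by
  haveI := isAffineHom_of_locSplit hH
  obtain ⟨d⟩ := exists_coord t H
  obtain ⟨ε, hε⟩ := d.exists_isIntegral hH
  let J' : Ideal d.C := J.map d.inc.hom
  have hJ' : J' ^ 2 = ⊥ := by rw [← Ideal.map_pow, hJ, Ideal.map_bot]
  let P₀ : Over S := test t (d.inc ≫ mkC d.inc J)
  have hy₀ : Spec.map (inc₀ d.inc J) ≫ Spec.map (mkA J) ≫ t = P₀.hom := by
    show _ = Spec.map (d.inc ≫ mkC d.inc J) ≫ t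
    rw [← mkA_inc₀, Spec.map_comp, Category.assoc]
  let f₀ : P₀ ⟶ K := F₀.app P₀ (Spec.map (inc₀ d.inc J)) hy₀ (tmap t (mkC d.inc J) rfl ≫ d.univ)
  let l : Spec d.C ⟶ K.left := (d.univ ≫ m).left
  have hl' : l ≫ K.hom = Spec.map d.inc ≫ t := Over.w (d.univ ≫ m)
  have hl : Spec.map (mkC d.inc J) ≫ l = f₀.left := by
    show _ = (F₀.app P₀ _ hy₀ (tmap t (mkC d.inc J) rfl ≫ d.univ)).left
    rw [hm, Category.assoc]
    rfl
  let f : test t d.inc ⟶ K := Over.homMk l hl'
  -- `f` on the points killed by `J`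
  have hval : ∀ {D : CommRingCat.{u}} {φ : A ⟶ D} (α : d.C ⟶ D) (h : d.inc ≫ α = φ)
      (β : CommRingCat.of (A ⧸ J) ⟶ D) (hβ : mkA J ≫ β = φ)
      (hy : Spec.map β ≫ Spec.map (mkA J) ≫ t = (test t φ).hom),
      d.ev f α h = F₀.app (test t φ) (Spec.map β) hy (d.ev d.univ α h) := by
    intro D φ α h β hβ hy
    obtain ⟨α', hα'⟩ : ∃ α' : CommRingCat.of (d.C ⧸ J') ⟶ D, mkC d.inc J ≫ α' = α := by
      refine ⟨CommRingCat.ofHom (Ideal.Quotient.lift J' α.hom fun z hz => ?_),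
        CommRingCat.hom_ext (Ideal.Quotient.lift_comp_mk J' α.hom _)⟩
      refine RingHom.mem_ker.mp ((Ideal.map_le_iff_le_comap.mpr fun a ha => ?_) hz)
      rw [Ideal.mem_comap, RingHom.mem_ker]
      refine (congr((CommRingCat.Hom.hom $(h.trans hβ.symm)) a)).trans ?_
      show β.hom (Ideal.Quotient.mk J a) = 0
      rw [Ideal.Quotient.eq_zero_iff_mem.mpr ha, map_zero]
    have hw : (d.inc ≫ mkC d.inc J) ≫ α' = φ := by rw [Category.assoc, hα', h]
    have hβ' : inc₀ d.inc J ≫ α' = β := by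
      refine CommRingCat.hom_ext (Ideal.Quotient.ringHom_ext (RingHom.ext fun a => ?_))
      show α'.hom ((mkC d.inc J).hom (d.inc.hom a)) = β.hom ((mkA J).hom a)
      exact (congr((CommRingCat.Hom.hom $hw) a)).trans (congr((CommRingCat.Hom.hom $hβ) a)).symm
    let r : test t φ ⟶ P₀ := tmap t α' hw
    have e : d.ev f α h = r ≫ f₀ := by
      apply Over.OverMorphism.ext
      show Spec.map α ≫ l = Spec.map α' ≫ f₀.left
      rw [← hl, ← Spec.map_comp_assoc, hα']
    rw [e, ← F₀.natural r (Spec.map (inc₀ d.inc J)) hy₀ (Spec.map β) hy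
      (tmap t (mkC d.inc J) rfl ≫ d.univ) (by rw [← hβ']; exact (Spec.map_comp _ _).symm)]
    congr 1
    rw [← Category.assoc, tmap_tmap, tmap_congr hα']
    rfl
  have hf : d.MulMod J f := by
    intro D gm hgm
    let β : CommRingCat.of (A ⧸ J) ⟶ D := CommRingCat.ofHom (Ideal.Quotient.lift J (d.inc ≫ d.p₁ ≫ gm).hom hgm)
    have hβ : mkA J ≫ β = d.inc ≫ d.p₁ ≫ gm :=
      CommRingCat.hom_ext (Ideal.Quotient.lift_comp_mk J _ _)
    have hy : Spec.map β ≫ Spec.map (mkA J) ≫ t = (test t (d.inc ≫ d.p₁ ≫ gm)).hom := by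
      show _ = Spec.map (d.inc ≫ d.p₁ ≫ gm) ≫ t
      rw [← Spec.map_comp_assoc, hβ]
    rw [hval _ _ β hβ hy, hval _ _ β hβ hy, hval _ _ β hβ hy, ← F₀.mul, ← d.ev_univ_mul gm]
  obtain ⟨f', hff', hmul'⟩ := d.exists_mulMod_bot hε J hJ f hf
  choose r hr hr' using d.fac
  have hru : ∀ (Y : Over S) (y : Y.left ⟶ Spec A) (hy : y ≫ t = Y.hom) (g : Y ⟶ H)
      (r₁ : Y ⟶ test t d.inc), r₁ ≫ d.univ = g → r₁.left ≫ Spec.map d.inc = y → r Y y hy g = r₁ :=
    fun Y y hy g r₁ h₁ h₂ => Over.OverMorphism.ext (d.pt_ext _ _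
      (congrArg CommaMorphism.left ((hr Y y hy g).trans h₁.symm)) ((hr' Y y hy g).trans h₂.symm))
  let F : Fam H K t :=
    { app := fun Y y hy g => r Y y hy g ≫ f'
      natural := fun {Y Y'} s y hy y' hy' g e => by
        rw [hru Y' y' hy' (s ≫ g) (s ≫ r Y y hy g) (by rw [Category.assoc, hr])
          (by
            show (s.left ≫ (r Y y hy g).left) ≫ _ = _
            rw [Category.assoc, hr', e]), Category.assoc]
      mul := fun Y y hy g g' => by
        apply Over.OverMorphism.ext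
        refine ext_affine _ _ fun E s => ?_
        obtain ⟨α, hα⟩ : ∃ α, Spec.map α = s ≫ (r Y y hy g).left := ⟨_, Spec.map_preimage _⟩
        obtain ⟨β, hβ⟩ : ∃ β, Spec.map β = s ≫ (r Y y hy g').left := ⟨_, Spec.map_preimage _⟩
        obtain ⟨θ, hθ⟩ : ∃ θ, Spec.map θ = s ≫ (r Y y hy (g * g')).left := ⟨_, Spec.map_preimage _⟩
        have hinc : ∀ (r₁ : Y ⟶ test t d.inc) (α₁ : d.C ⟶ E), r₁.left ≫ Spec.map d.inc = y →
            Spec.map α₁ = s ≫ r₁.left → Spec.map (d.inc ≫ α₁) = s ≫ y := fun r₁ α₁ h₁ h₂ => by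
          rw [Spec.map_comp, h₂, Category.assoc, h₁]
        have hαy := hinc _ α (hr' Y y hy g) hα
        have hβα : d.inc ≫ β = d.inc ≫ α :=
          Spec.map_injective ((hinc _ β (hr' Y y hy g') hβ).trans hαy.symm)
        have hθα : d.inc ≫ θ = d.inc ≫ α :=
          Spec.map_injective ((hinc _ θ (hr' Y y hy (g * g')) hθ).trans hαy.symm)
        obtain ⟨gm, hg1, hg2⟩ := d.exists_pair α β hβα
        subst hg1 hg2
        let T : test t (d.inc ≫ d.p₁ ≫ gm) ⟶ Y := Over.homMk s (by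
          show s ≫ Y.hom = Spec.map (d.inc ≫ d.p₁ ≫ gm) ≫ t
          rw [hαy, ← hy, Category.assoc])
        have hg : ∀ (g₁ : Y ⟶ H) (α₁ : d.C ⟶ E) (h : d.inc ≫ α₁ = d.inc ≫ d.p₁ ≫ gm)
            (_ : Spec.map α₁ = s ≫ (r Y y hy g₁).left) {Z : Over S} (q : test t d.inc ⟶ Z),
            T ≫ r Y y hy g₁ ≫ q = d.ev q α₁ h := fun g₁ α₁ h h₁ {Z} q => by
          rw [Coord.ev, ← Category.assoc T]
          congr 1
          exact Over.OverMorphism.ext h₁.symm
        have hθm : θ = d.m ≫ gm := by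
          refine d.uniq _ _ ?_ (by rw [hθα, reassoc_of% d.wm])
          have h1 : d.ev d.univ θ hθα = d.ev d.univ (d.m ≫ gm) (by rw [reassoc_of% d.wm]) := by
            rw [d.ev_univ_mul, ← hg _ θ hθα hθ, hr, MonObj.comp_mul,
              ← hg g (d.p₁ ≫ gm) rfl hα, ← hg g' (d.p₂ ≫ gm) hβα hβ, hr, hr]
          exact congrArg CommaMorphism.left h1
        have h1 : T ≫ (r Y y hy (g * g') ≫ f') = T ≫ ((r Y y hy g ≫ f') * (r Y y hy g' ≫ f')) := by
          rw [MonObj.comp_mul, hg _ θ hθα hθ, hg g (d.p₁ ≫ gm) rfl hα, hg g' (d.p₂ ≫ gm) hβα hβ,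
            d.ev_congr f' hθm]
          exact hmul' gm fun a ha => by rw [Ideal.mem_bot.mp ha, map_zero]
        exact congrArg CommaMorphism.left h1 }
  refine ⟨F, Fam.ext (funext fun Y => funext fun y₀ => funext fun hy₀' => funext fun g => ?_)⟩
  apply Over.OverMorphism.ext
  refine ext_affine _ _ fun E s => ?_
  have hy : (y₀ ≫ Spec.map (mkA J)) ≫ t = Y.hom := by rw [Category.assoc, hy₀']
  obtain ⟨α, hα⟩ : ∃ α, Spec.map α = s ≫ (r Y _ hy g).left := ⟨_, Spec.map_preimage _⟩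
  obtain ⟨β, hβ⟩ : ∃ β, Spec.map β = s ≫ y₀ := ⟨_, Spec.map_preimage _⟩
  have h : d.inc ≫ α = mkA J ≫ β := Spec.map_injective (by
    rw [Spec.map_comp, Spec.map_comp, hα, hβ, Category.assoc, Category.assoc, hr'])
  let T : test t (mkA J ≫ β) ⟶ Y := Over.homMk s (by
    show s ≫ Y.hom = Spec.map (mkA J ≫ β) ≫ t
    rw [← hy₀', Spec.map_comp, hβ, Category.assoc, Category.assoc])
  have hTr : T ≫ r Y _ hy g = tmap t α h := Over.OverMorphism.ext hα.symm
  obtain ⟨α', hα'⟩ : ∃ α' : CommRingCat.of (d.C ⧸ J') ⟶ E, mkC d.inc J ≫ α' = α := by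
    refine ⟨CommRingCat.ofHom (Ideal.Quotient.lift J' α.hom fun z hz => ?_),
      CommRingCat.hom_ext (Ideal.Quotient.lift_comp_mk J' α.hom _)⟩
    refine RingHom.mem_ker.mp ((Ideal.map_le_iff_le_comap.mpr fun a ha => ?_) hz)
    rw [Ideal.mem_comap, RingHom.mem_ker]
    refine (congr((CommRingCat.Hom.hom $h) a)).trans ?_
    show β.hom (Ideal.Quotient.mk J a) = 0
    rw [Ideal.Quotient.eq_zero_iff_mem.mpr ha, map_zero]
  have e1 : d.ev f' α h = d.ev f α h := by
    apply Over.OverMorphism.ext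
    show Spec.map α ≫ f'.left = Spec.map α ≫ f.left
    rw [← hα', Spec.map_comp_assoc, Spec.map_comp_assoc, hff']
  have hyT : Spec.map β ≫ Spec.map (mkA J) ≫ t = (test t (mkA J ≫ β)).hom := by
    show _ = Spec.map (mkA J ≫ β) ≫ t
    rw [← Spec.map_comp_assoc]
  have h1 : T ≫ (r Y _ hy g ≫ f') = T ≫ F₀.app Y y₀ hy₀' g := by
    rw [← Category.assoc, hTr]
    show d.ev f' α h = _
    rw [e1, hval α h β rfl hyT, ← F₀.natural T y₀ hy₀' (Spec.map β) hyT g hβ.symm]
    congr 1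
    show tmap t α h ≫ d.univ = _
    rw [← hTr, Category.assoc, hr]
  exact congrArg CommaMorphism.left h1

section Thickening

variable {R : Type u} [CommRing R] {J : Ideal R}

open Groth.Agent.H87.Bridge (mq)
open Groth.Agent.Lib.RedPts

theorem surjective_mq (hJ : IsNilpotent J) : Surjective (mq J) := by
  refine ⟨fun p => ?_⟩
  have h : (p : PrimeSpectrum R) ∈ Set.range (PrimeSpectrum.comap (Ideal.Quotient.mk J)) := by
    rw [range_comap_of_surjective _ _ Ideal.Quotient.mk_surjective]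
    refine (PrimeSpectrum.mem_zeroLocus _ _).2 ?_
    rw [Ideal.mk_ker]
    intro x hx
    obtain ⟨n, hn⟩ := hJ
    exact p.isPrime.mem_of_pow_mem n (by
      have := Ideal.pow_mem_pow hx n; rw [hn] at this; rw [(Submodule.mem_bot R).1 this]; exact zero_mem _)
  exact h

/-- A morphism from an affine scheme to a smooth one lifts along a square-zero thickening. -/
theorem exists_lift_smooth (hJ : J ^ 2 = ⊥) {Y H : Over (Spec (CommRingCat.of R))} [IsAffine Y.left] [Smooth H.hom]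
    (u₀ : Red.bc (mq J) Y ⟶ Red.bc (mq J) H) : ∃ φ : Y ⟶ H, (Over.pullback (mq J)).map φ = u₀ := by
  haveI : IsClosedImmersion (mq J) := IsClosedImmersion.spec_of_surjective _ Ideal.Quotient.mk_surjective
  let B : CommRingCat.{u} := Γ(Y.left, ⊤)
  let q : Y.left ⟶ Spec B := Y.left.isoSpec.hom
  obtain ⟨b, hb⟩ : ∃ b : CommRingCat.of R ⟶ B, Spec.map b = Y.left.isoSpec.inv ≫ Y.hom := ⟨_, Spec.map_preimage _⟩
  let J' : Ideal B := J.map b.hom
  have hJ' : J' ^ 2 = ⊥ := by rw [← Ideal.map_pow, hJ, Ideal.map_bot]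
  let π : B ⟶ CommRingCat.of (B ⧸ J') := CommRingCat.ofHom (Ideal.Quotient.mk J')
  let β : CommRingCat.of (R ⧸ J) ⟶ CommRingCat.of (B ⧸ J') :=
    CommRingCat.ofHom (Ideal.quotientMap J' b.hom Ideal.le_comap_map)
  let c : Spec (CommRingCat.of (B ⧸ J')) ⟶ pullback Y.hom (mq J) :=
    pullback.lift (Spec.map π ≫ Y.left.isoSpec.inv) (Spec.map β) (by
      rw [Category.assoc, ← hb]
      exact (Spec.map_comp _ _).symm.trans (Spec.map_comp (CommRingCat.ofHom (Ideal.Quotient.mk J)) β))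
  let a : Spec (CommRingCat.of (B ⧸ J')) ⟶ H.left := c ≫ u₀.left ≫ pullback.fst H.hom (mq J)
  obtain ⟨l, hl, hl'⟩ := Groth.Agent.Lib.SmoothLift.Formal.isFormallySmoothHom_of_smooth H.hom B J' hJ' a (Spec.map b) (by
    show _ = (c ≫ u₀.left ≫ pullback.fst H.hom (mq J)) ≫ H.hom
    rw [Category.assoc, Category.assoc, pullback.condition, ← Category.assoc u₀.left]
    erw [Over.w u₀]
    show _ = c ≫ pullback.snd Y.hom (mq J) ≫ mq J
    rw [pullback.lift_snd_assoc]
    exact (Spec.map_comp _ _).symm.trans (Spec.map_comp (CommRingCat.ofHom (Ideal.Quotient.mk J)) β))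
  refine ⟨Over.homMk (Y.left.isoSpec.hom ≫ l) (by rw [Category.assoc, hl', hb, Iso.hom_inv_id_assoc]),
    Over.OverMorphism.ext ?_⟩
  let P := pullback Y.hom (mq J)
  haveI : IsAffine P := isAffine_of_isAffineHom (pullback.fst Y.hom (mq J))
  obtain ⟨ρ, hρ⟩ : ∃ ρ : B ⟶ Γ(P, ⊤), Spec.map ρ = P.isoSpec.inv ≫ pullback.fst Y.hom (mq J) ≫ Y.left.isoSpec.hom :=
    ⟨_, Spec.map_preimage _⟩
  obtain ⟨σ, hσ⟩ : ∃ σ : CommRingCat.of (R ⧸ J) ⟶ Γ(P, ⊤), Spec.map σ = P.isoSpec.inv ≫ pullback.snd Y.hom (mq J) :=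
    ⟨_, Spec.map_preimage _⟩
  have hbρ : b ≫ ρ = CommRingCat.ofHom (Ideal.Quotient.mk J) ≫ σ := by
    apply Spec.map_injective
    rw [Spec.map_comp, Spec.map_comp, hρ, hσ, hb, Category.assoc, Category.assoc, Category.assoc,
      Iso.hom_inv_id_assoc, pullback.condition]
  let ρ' : CommRingCat.of (B ⧸ J') ⟶ Γ(P, ⊤) := CommRingCat.ofHom (Ideal.Quotient.lift J' ρ.hom fun z hz => by
    refine RingHom.mem_ker.mp ((Ideal.map_le_iff_le_comap.mpr fun r hr => ?_) hz)
    rw [Ideal.mem_comap, RingHom.mem_ker]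
    refine (congr((CommRingCat.Hom.hom $hbρ) r)).trans ?_
    show σ.hom (Ideal.Quotient.mk J r) = 0
    rw [Ideal.Quotient.eq_zero_iff_mem.mpr hr, map_zero])
  have hρ' : π ≫ ρ' = ρ := CommRingCat.hom_ext (Ideal.Quotient.lift_comp_mk J' _ _)
  let r : P ⟶ Spec (CommRingCat.of (B ⧸ J')) := P.isoSpec.hom ≫ Spec.map ρ'
  have hr₁ : r ≫ Spec.map π = pullback.fst Y.hom (mq J) ≫ Y.left.isoSpec.hom := by
    rw [Category.assoc, ← Spec.map_comp, hρ', hρ, Iso.hom_inv_id_assoc]
  have hrc : r ≫ c = 𝟙 P := by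
    apply pullback.hom_ext
    · rw [Category.assoc, pullback.lift_fst, ← Category.assoc, hr₁, Category.assoc, Iso.hom_inv_id, Category.comp_id,
        Category.id_comp]
    · haveI : Mono (mq J) := inferInstance
      rw [← cancel_mono (mq J), Category.assoc, Category.assoc, Category.id_comp, ← pullback.condition,
        pullback.lift_fst_assoc]
      simp only [r, Category.assoc]
      rw [← Spec.map_comp_assoc, hρ', hρ]
      simp only [Category.assoc, Iso.hom_inv_id_assoc]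
  show pullback.lift _ _ _ = _
  apply pullback.hom_ext
  · rw [pullback.lift_fst]
    show pullback.fst Y.hom (mq J) ≫ Y.left.isoSpec.hom ≫ l = _
    rw [← Category.assoc, ← hr₁, Category.assoc]
    erw [hl]
    show r ≫ c ≫ u₀.left ≫ _ = _
    rw [reassoc_of% hrc]
  · rw [pullback.lift_snd]
    exact (Over.w u₀).symm

/-- A flat scheme of finite presentation is smooth if it is smooth modulo a nilpotent ideal. -/
theorem smooth_of_mod (hJ : IsNilpotent J) (X : Over (Spec (CommRingCat.of R))) [Flat X.hom]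
    [LocallyOfFinitePresentation X.hom] [Smooth (Red.bc (mq J) X).hom] : Smooth X.hom := by
  haveI : IsClosedImmersion (mq J) := IsClosedImmersion.spec_of_surjective _ Ideal.Quotient.mk_surjective
  haveI := surjective_mq hJ
  refine Smooth.of_smooth_fiberToSpecResidueField X.hom fun s => ?_
  obtain ⟨s₀, rfl⟩ := (mq J).surjective s
  haveI : IsIso ((mq J).residueFieldMap s₀) := by
    rw [ConcreteCategory.isIso_iff_bijective]
    refine ⟨RingHom.injective _, fun a => ?_⟩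
    obtain ⟨b, rfl⟩ := IsLocalRing.residue_surjective a
    obtain ⟨c, rfl⟩ := (mq J).stalkMap_surjective s₀ b
    exact ⟨(Spec (CommRingCat.of R)).residue _ c, congr($(Scheme.residue_residueFieldMap (mq J) s₀) c)⟩
  let k : Spec ((Spec (CommRingCat.of (R ⧸ J))).residueField s₀) ⟶ Spec ((Spec (CommRingCat.of R)).residueField ((mq J) s₀)) :=
    Spec.map ((mq J).residueFieldMap s₀)
  have hk : k ≫ (Spec (CommRingCat.of R)).fromSpecResidueField ((mq J) s₀) =
      (Spec (CommRingCat.of (R ⧸ J))).fromSpecResidueField s₀ ≫ mq J :=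
    Scheme.Hom.SpecMap_residueFieldMap_fromSpecResidueField _ _
  have h1 : Smooth (pullback.snd (pullback.snd X.hom (mq J)) ((Spec (CommRingCat.of (R ⧸ J))).fromSpecResidueField s₀)) := by
    haveI : Smooth (pullback.snd X.hom (mq J)) := ‹Smooth (Red.bc (mq J) X).hom›
    infer_instance
  have h2 := (Groth.Agent.Lib.DescAlg.FpqcCover.snd_iff @Smooth X.hom (mq J)
    ((Spec (CommRingCat.of (R ⧸ J))).fromSpecResidueField s₀)).1 h1
  rw [← hk] at h2
  have h3 := (Groth.Agent.Lib.DescAlg.FpqcCover.snd_iff @Smooth X.hom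
    ((Spec (CommRingCat.of R)).fromSpecResidueField ((mq J) s₀)) k).2 h2
  have e : IsPullback (pullback.fst (pullback.snd X.hom ((Spec (CommRingCat.of R)).fromSpecResidueField ((mq J) s₀))) k)
      (pullback.snd _ k) (pullback.snd X.hom _) k := IsPullback.of_hasPullback _ _
  haveI : IsIso (pullback.fst (pullback.snd X.hom ((Spec (CommRingCat.of R)).fromSpecResidueField ((mq J) s₀))) k) :=
    inferInstance
  show Smooth (pullback.snd X.hom _)
  rw [← MorphismProperty.cancel_left_of_respectsIso @Smooth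
    (pullback.fst (pullback.snd X.hom ((Spec (CommRingCat.of R)).fromSpecResidueField ((mq J) s₀))) k), e.w]
  exact MorphismProperty.comp_mem _ _ _ h3 inferInstance

end Thickening

end Groth.Agent.H87.SubLift
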