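import Groth.Agent.Lib.SmWeil.TorusCommutator
import Groth.Agent.Lib.GrpSch.LangDense

/-!
# Density of the prime-to-characteristic torsion of a torus
-/

set_option autoImplicit false
set_option linter.style.haveILetI false

universe u

open CategoryTheory CategoryTheory.Limits AlgebraicGeometry MonoidalCategory CartesianMonoidalCategory
open CategoryTheory.MonObj CategoryTheory.GrpObj
open Groth.Agent.Lib Groth.Agent.Lib.RedPts Groth.Agent.Lib.SmWeil
open Groth.Agent.H87.Locus (toG ev)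
open Groth.Agent.Lib.GrpQ.MonoClosed (ptOf ptOf_comp)

namespace Groth.Agent.H87.TorsionDense

variable {K : Type u} [Field K] [IsAlgClosed K] {G : Over (Spec (CommRingCat.of K))} [GrpObj G]

theorem pt_bcId {M : Type} [AddCommGroup M] {D : CommRingCat.{u}} (φ : CommRingCat.of K ⟶ D)
    (χ : Multiplicative M →* Γ((Over.mk (Spec.map φ)).left, ⊤)) :
    Rigid.pt (Tori.BaseChange.bcId (Red.DS (Spec (CommRingCat.of K)) M)) (T := Over.mk (Spec.map φ)) χ =
      (Over.homMk (U := (Over.map (𝟙 (Spec (CommRingCat.of K)))).obj (Over.mk (Spec.map φ))) (𝟙 _) (by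
        show 𝟙 _ ≫ Spec.map φ = Spec.map φ ≫ 𝟙 _
        simp) : _ ⟶ Over.mk (Spec.map φ)) ≫ Gm.dsPt χ := by
  let A : CommRingCat.{u} := CommRingCat.of K
  let H := Red.DS (Spec A) M
  let e : Grp.mk (Red.bc (𝟙 (Spec A)) H) ≅ Grp.mk H := Tori.BaseChange.bcId H
  rw [Rigid.pt]
  refine Over.OverMorphism.ext ?_
  rw [BC.down_left]
  show ((Gm.dsPt χ).left ≫ e.inv.hom.hom.left) ≫ pullback.fst H.hom (𝟙 (Spec A)) = 𝟙 _ ≫ (Gm.dsPt χ).left
  have he : e.inv.hom.hom.left ≫ pullback.fst H.hom (𝟙 (Spec A)) = 𝟙 H.left := by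
    have h2 : e.hom.hom.hom.left = pullback.fst H.hom (𝟙 (Spec A)) := by
      simp [e, Tori.BaseChange.bcId, Over.pullbackId]
    rw [← h2]
    exact congrArg (fun f => Over.Hom.left f) (Tori.BaseChange.overIso e).inv_hom_id
  rw [Category.assoc, he, Category.comp_id, Category.id_comp]

omit [IsAlgClosed K] in
theorem liftNC_single {r : ℕ} (ch : Multiplicative (Fin r → ℤ) →* K) (g : Multiplicative (Fin r → ℤ)) (c : K) :
    MonoidAlgebra.liftNCRingHom (RingHom.id K) ch (fun _ _ => Commute.all _ _) (MonoidAlgebra.single g c) =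
      c * ch g :=
  MonoidAlgebra.liftNCRingHom_single _ ch (fun _ _ => Commute.all _ _) g c

/-- The torsion characters separate the elements of the group algebra of `ℤ^r`. -/
theorem eq_zero_of_eval {r : ℕ} {ℓ : ℕ} (hℓ : 2 ≤ ℓ) (hℓK : (ℓ : K) ≠ 0)
    (z : MonoidAlgebra K (Multiplicative (Fin r → ℤ)))
    (hz : ∀ (ch : Multiplicative (Fin r → ℤ) →* K) (m : ℕ), ch ^ ℓ ^ m = 1 →
      MonoidAlgebra.liftNCRingHom (RingHom.id K) ch (fun _ _ => Commute.all _ _) z = 0) : z = 0 := by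
  classical
  let M := Fin r → ℤ
  let P : Submonoid (Multiplicative M →* K) :=
    { carrier := {ch | ∃ m : ℕ, ch ^ ℓ ^ m = 1}
      one_mem' := ⟨0, one_pow _⟩
      mul_mem' := fun {a b} ⟨m, hm⟩ ⟨n, hn⟩ => ⟨m + n, by
        rw [mul_pow, pow_add ℓ, pow_mul, hm, one_pow, _root_.one_mul, mul_comm, pow_mul, hn, one_pow]⟩ }
  let F : Multiplicative M → (P →* K) := fun g =>
    { toFun := fun p => p.1 g
      map_one' := rfl
      map_mul' := fun _ _ => rfl }
  have hF : Function.Injective F := fun g g' hgg => by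
    by_contra hne
    obtain ⟨j, hj⟩ : ∃ j, g.toAdd j ≠ g'.toAdd j := by
      by_contra hc
      exact hne (Multiplicative.toAdd.injective (funext fun j => not_not.1 fun hj => hc ⟨j, hj⟩))
    let d := g.toAdd j - g'.toAdd j
    let n := d.natAbs
    haveI : NeZero ((ℓ ^ n : ℕ) : K) := ⟨by simpa using pow_ne_zero n hℓK⟩
    obtain ⟨ζ, hζ⟩ := HasEnoughRootsOfUnity.exists_primitiveRoot K (ℓ ^ n)
    obtain ⟨ζu, rfl⟩ := hζ.isUnit (by positivity)
    rw [IsPrimitiveRoot.coe_units_iff] at hζ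
    let ch : Multiplicative M →* K := (Units.coeHom K).comp
      ((zpowersHom Kˣ ζu).comp (AddMonoidHom.toMultiplicative (Pi.evalAddMonoidHom (fun _ : Fin r => ℤ) j)))
    have hch : ∀ a, ch a = ((ζu ^ (a.toAdd j) : Kˣ) : K) := fun a => by simp [ch, zpowersHom_apply]; rfl
    have hP : ch ∈ P := ⟨n, MonoidHom.ext fun a => by
      rw [MonoidHom.pow_apply, hch, ← Units.val_pow_eq_pow_val, ← zpow_natCast, ← zpow_mul, mul_comm, zpow_mul,
        zpow_natCast, hζ.pow_eq_one, one_zpow]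
      rfl⟩
    have h1 : ch g = ch g' := DFunLike.congr_fun hgg ⟨ch, hP⟩
    rw [hch, hch] at h1
    have h2 : ((ℓ ^ n : ℕ) : ℤ) ∣ d := (hζ.zpow_eq_one_iff_dvd _).1 (by
      rw [zpow_sub, Units.ext h1, mul_inv_cancel])
    rw [Int.natCast_dvd] at h2
    exact hj (sub_eq_zero.1 (Int.natAbs_eq_zero.1 (Nat.eq_zero_of_dvd_of_lt h2 (Nat.lt_pow_self hℓ))))
  have hlin : LinearIndependent K (fun g => (F g : P → K)) :=
    (linearIndependent_monoidHom P K).comp F hF
  have hlc : ∀ (w : MonoidAlgebra K (Multiplicative M)) (p : P),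
      Finsupp.linearCombination K (fun g => (F g : P → K)) w.coeff p =
        MonoidAlgebra.liftNCRingHom (RingHom.id K) p.1 (fun _ _ => Commute.all _ _) w := by
    intro w p
    induction w using MonoidAlgebra.induction_linear with
    | zero => simp
    | add a b ha hb => simp [ha, hb]
    | single g c => rw [liftNC_single]; simp [F]
  refine MonoidAlgebra.coeff_injective ((linearIndependent_iff.mp hlin z.coeff (funext fun p => ?_)).trans
    MonoidAlgebra.coeff_zero.symm)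
  rw [hlc]
  obtain ⟨m, hm⟩ := p.2
  exact hz p.1 m hm

theorem exists_unit_iso {X : Scheme.{u}} {g : X ⟶ X} (hg : g = 𝟙 X) :
    ∃ (a : 𝟙_ (Over X) ⟶ Over.mk g) (b : Over.mk g ⟶ 𝟙_ (Over X)), b ≫ a = 𝟙 _ := by
  subst hg
  exact ⟨𝟙 _, 𝟙 _, Category.id_comp _⟩

/-- A morphism from a torus to a group, trivial on the `ℓ`-power torsion points, is trivial. -/
theorem eq_one_of_torsion [LocallyOfFiniteType G.hom] {r : ℕ}
    (f : Red.DS (Spec (CommRingCat.of K)) (Fin r → ℤ) ⟶ G) {ℓ : ℕ} (hℓ : 2 ≤ ℓ) (hℓK : (ℓ : K) ≠ 0)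
    (h : ∀ (m : ℕ) (x : 𝟙_ (Over (Spec (CommRingCat.of K))) ⟶ Red.DS (Spec (CommRingCat.of K)) (Fin r → ℤ)),
      x ^ ℓ ^ m = 1 → x ≫ f = 1) :
    f = 1 := by
  classical
  let A : CommRingCat.{u} := CommRingCat.of K
  let M := Fin r → ℤ
  let H := Red.DS (Spec A) M
  let e : Grp.mk (Red.bc (𝟙 (Spec A)) H) ≅ Grp.mk H := Tori.BaseChange.bcId H
  haveI : IsSeparated G.hom := Groth.Agent.Lib.GrpSch.isSeparated_of_field G
  haveI : IsClosedImmersion η[G].left := Groth.Agent.Lib.GrpSch.isClosedImmersion_η G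
  haveI : IsClosedImmersion (pullback.fst f.left η[G].left) := inferInstance
  haveI : LocallyOfFiniteType H.hom := by
    have := Tori.DS.locallyOfFinitePresentation (Spec A) M
    infer_instance
  haveI : IsLocallyNoetherian H.left := LocallyOfFiniteType.isLocallyNoetherian H.hom
  haveI : LocallyOfFinitePresentation (pullback.fst f.left η[G].left) := inferInstance
  obtain ⟨I, -, hI⟩ := Locus.exists_ideal f e
  -- torsion characters kill the ideal
  have htor : ∀ (ch : Multiplicative M →* K) (m : ℕ), ch ^ ℓ ^ m = 1 → I ≤ RingHom.ker (ev (𝟙 A) ch).hom := by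
    intro ch m hch
    rw [← hI A (𝟙 A) ch, pt_bcId, Category.assoc]
    let Y : Over (Spec A) := Over.mk (Spec.map (𝟙 A))
    obtain ⟨i₀, i₁, hi⟩ := exists_unit_iso (Spec.map_id A)
    let y : Y ⟶ H := Gm.dsPt ((toG A).comp ch)
    have hy : (i₀ ≫ y) ^ ℓ ^ m = 1 := Gm.dsFn_ext fun a => by
      rw [Gm.dsFn_pow, Gm.dsFn_comp, ← map_pow, Gm.dsFn_one]
      simp only [y, Gm.dsFn_dsPt, MonoidHom.comp_apply]
      rw [← map_pow (toG A), ← MonoidHom.pow_apply, hch, MonoidHom.one_apply, map_one, map_one]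
    have h1 := congrArg (i₁ ≫ ·) (h m _ hy)
    simp only [← Category.assoc, hi, Category.id_comp, MonObj.comp_one] at h1
    show _ ≫ y ≫ f = 1
    rw [h1, MonObj.comp_one]
  -- hence the ideal is zero
  have hI0 : ∀ z ∈ I, z = 0 := fun z hz => eq_zero_of_eval hℓ hℓK z fun ch m hm => htor ch m hm hz
  -- the universal point
  have key : ∀ (D : CommRingCat.{u}) (φ : A ⟶ D) (y : Over.mk (Spec.map φ) ⟶ H), y ≫ f = 1 := by
    intro D φ y
    let ch : Multiplicative M →* D := ((Scheme.ΓSpecIso D).hom.hom : Γ(Spec D, ⊤) →* D).comp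
      { toFun := fun m => Gm.dsFn y m.toAdd
        map_one' := Gm.dsFn_zero y
        map_mul' := fun m n => Gm.dsFn_add y _ _ }
    have hy : (Gm.dsPt ((toG D).comp ch) : Over.mk (Spec.map φ) ⟶ H) = y := Gm.dsFn_ext fun m => by
      rw [Gm.dsFn_dsPt]
      simp [ch]
    have h1 : Rigid.pt e (T := Over.mk (Spec.map φ)) ((toG D).comp ch) ≫ f = 1 :=
      (hI D φ ch).2 fun z hz => by rw [RingHom.mem_ker, hI0 z hz, map_zero]
    rw [pt_bcId, hy, Category.assoc] at h1
    have h2 := congrArg ((Over.homMk (V := (Over.map (𝟙 (Spec A))).obj (Over.mk (Spec.map φ))) (𝟙 _) (by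
      show 𝟙 _ ≫ Spec.map φ ≫ 𝟙 _ = Spec.map φ
      simp) : Over.mk (Spec.map φ) ⟶ _) ≫ ·) h1
    simp only [← Category.assoc, MonObj.comp_one] at h2
    refine Eq.trans ?_ h2
    refine congrArg (· ≫ f) ((Category.id_comp y).symm.trans (congrArg (· ≫ y) (Over.OverMorphism.ext ?_)))
    exact (Category.id_comp _).symm
  apply Over.OverMorphism.ext
  refine Locus.ext_affine fun O hO => ?_
  let k : Over.mk (Spec.map (Spec.preimage (hO.fromSpec ≫ H.hom))) ⟶ H :=
    Over.homMk hO.fromSpec (Spec.map_preimage _).symm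
  have h1 := key _ _ k
  rw [← MonObj.comp_one k] at h1
  exact congrArg (fun f => Over.Hom.left f) h1

variable {T : Over (Spec (CommRingCat.of K))} [GrpObj T]

/-- A point commuting with all torsion points of a torus commutes with the torus. -/
theorem commute_of_torsion [LocallyOfFiniteType G.hom] (hT : Red.IsTorus T) (a : T ⟶ G) [IsMonHom a]
    {ℓ : ℕ} (hℓ : 2 ≤ ℓ) (hℓK : (ℓ : K) ≠ 0) (z : 𝟙_ (Over (Spec (CommRingCat.of K))) ⟶ G)
    (h : ∀ (m : ℕ) (g : 𝟙_ (Over (Spec (CommRingCat.of K))) ⟶ T), g ^ ℓ ^ m = 1 → Commute z (g ≫ a))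
    (X : Over (Spec (CommRingCat.of K))) (w : X ⟶ T) : Commute (toUnit X ≫ z) (w ≫ a) := by
  obtain ⟨r, ⟨e₁⟩⟩ := H87.TorusIn.exists_split T hT
  let E := Tori.BaseChange.overIso e₁
  haveI : IsMonHom E.inv := inferInstanceAs (IsMonHom (Tori.BaseChange.overIso e₁.symm).hom)
  let f : Red.DS (Spec (CommRingCat.of K)) (Fin r → ℤ) ⟶ G :=
    (toUnit _ ≫ z) * (E.inv ≫ a) * (toUnit _ ≫ z)⁻¹ * (E.inv ≫ a)⁻¹
  have hf : ∀ (Z : Over (Spec (CommRingCat.of K))) (v : Z ⟶ Red.DS (Spec (CommRingCat.of K)) (Fin r → ℤ)),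
      v ≫ f = (toUnit Z ≫ z) * (v ≫ E.inv ≫ a) * (toUnit Z ≫ z)⁻¹ * (v ≫ E.inv ≫ a)⁻¹ := fun Z v => by
    simp only [f, MonObj.comp_mul, GrpObj.comp_inv, ← Category.assoc, toUnit_unique (v ≫ toUnit _) (toUnit Z)]
  have h0 := eq_one_of_torsion f hℓ hℓK fun m x hx => by
    rw [hf, mul_inv_eq_one, mul_inv_eq_iff_eq_mul, toUnit_unique (toUnit _) (𝟙 _), Category.id_comp]
    have := (h m (x ≫ E.inv) (by rw [← pow_comp_hom E.inv x, hx, MonObj.one_comp])).eq
    rwa [Category.assoc] at this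
  have h1 := hf X (w ≫ E.hom)
  rw [h0, MonObj.comp_one, eq_comm, mul_inv_eq_one, mul_inv_eq_iff_eq_mul] at h1
  simpa using (show Commute _ _ from h1)

/-- A torus is centralised by a point as soon as finitely many torsion points of it are. -/
theorem exists_list [LocallyOfFiniteType G.hom] [QuasiCompact G.hom] (hT : Red.IsTorus T) (a : T ⟶ G) [IsMonHom a]
    {ℓ : ℕ} (hℓ : 2 ≤ ℓ) (hℓK : (ℓ : K) ≠ 0) :
    ∃ gs : List (𝟙_ (Over (Spec (CommRingCat.of K))) ⟶ T), (∀ g ∈ gs, ∃ m : ℕ, g ^ ℓ ^ m = 1) ∧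
      ∀ z : 𝟙_ (Over (Spec (CommRingCat.of K))) ⟶ G, (∀ g ∈ gs, Commute z (g ≫ a)) →
        ∀ (X : Over (Spec (CommRingCat.of K))) (w : X ⟶ T), Commute (toUnit X ≫ z) (w ≫ a) := by
  haveI : IsSeparated G.hom := GrpSch.isSeparated_of_field G
  haveI : IsClosedImmersion η[G].left := GrpSch.isClosedImmersion_η G
  haveI : Mono η[G] := GrpQ.mono_of_left _
  haveI : IsLocallyNoetherian G.left := LocallyOfFiniteType.isLocallyNoetherian G.hom
  haveI : CompactSpace G.left := QuasiCompact.compactSpace_of_compactSpace G.hom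
  haveI : IsNoetherian G.left := ⟨⟩
  let S : List (𝟙_ (Over (Spec (CommRingCat.of K))) ⟶ T) → TopologicalSpace.Closeds G.left := fun gs =>
    ⟨closure (ptOf '' {z | ∀ g ∈ gs, Commute z (g ≫ a)}), isClosed_closure⟩
  let Q : Set (TopologicalSpace.Closeds G.left) := {Z | ∃ gs, (∀ g ∈ gs, ∃ m : ℕ, g ^ ℓ ^ m = 1) ∧ S gs = Z}
  obtain ⟨Z, ⟨gs, hgs, rfl⟩, hmin⟩ := wellFounded_lt.has_min Q ⟨_, [], by simp, rfl⟩
  refine ⟨gs, hgs, fun z hz => commute_of_torsion hT a hℓ hℓK z fun m g hg => ?_⟩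
  obtain ⟨C, c, -, -, hcl, hC⟩ := exists_preimage_mono
    ((toUnit G ≫ g ≫ a) * 𝟙 G * (toUnit G ≫ g ≫ a)⁻¹ * (𝟙 G)⁻¹) η[G]
  haveI := hcl inferInstance
  have key : ∀ v : 𝟙_ (Over (Spec (CommRingCat.of K))) ⟶ G, (∃ w, w ≫ c = v) ↔ Commute v (g ≫ a) := fun v => by
    rw [hC]
    simp only [MonObj.comp_mul, GrpObj.comp_inv, Category.comp_id, ← Category.assoc]
    rw [toUnit_unique (v ≫ toUnit G) (𝟙 _), Category.id_comp]
    constructor
    · rintro ⟨κ, hκ⟩
      rw [Gm.η_eq_one, MonObj.comp_one, eq_comm, mul_inv_eq_one, mul_inv_eq_iff_eq_mul] at hκ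
      exact hκ.symm
    · intro hc
      refine ⟨toUnit _, ?_⟩
      rw [Gm.η_eq_one, MonObj.comp_one, eq_comm, mul_inv_eq_one, mul_inv_eq_iff_eq_mul]
      exact hc.symm
  have hle : S (g :: gs) ≤ S gs := closure_mono (Set.image_mono fun v hv x hx => hv x (List.mem_cons_of_mem _ hx))
  have heq : S (g :: gs) = S gs := by
    by_contra hne
    refine hmin (S (g :: gs)) ⟨_, ?_, rfl⟩ (lt_of_le_of_ne hle hne)
    intro x hx
    rcases List.mem_cons.1 hx with rfl | hx
    exacts [⟨m, hg⟩, hgs x hx]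
  have hmem : ptOf z ∈ Set.range c.left := by
    refine closure_minimal (s := ptOf '' {v | ∀ x ∈ g :: gs, Commute v (x ≫ a)}) ?_
      c.left.isClosedEmbedding.isClosed_range (heq.ge (subset_closure ⟨z, hz, rfl⟩))
    rintro _ ⟨v, hv, rfl⟩
    obtain ⟨w, rfl⟩ := (key v).2 (hv g List.mem_cons_self)
    exact ⟨ptOf w, ptOf_comp w c⟩
  haveI : LocallyOfFiniteType C.hom := by rw [← Over.w c]; infer_instance
  exact (key z).1 (GrpSch.exists_lift_of_mem_range c z (GrpSch.isClosed_ptOf z) hmem)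

/-- A torus commuting with all rational points of a smooth group is central. -/
theorem commute_of_points [Smooth G.hom] [QuasiCompact G.hom] (hT : Red.IsTorus T) (a : T ⟶ G) [IsMonHom a] [Mono a]
    (h : ∀ (z : 𝟙_ (Over (Spec (CommRingCat.of K))) ⟶ G) (X : Over (Spec (CommRingCat.of K))) (w : X ⟶ T),
      Commute (toUnit X ≫ z) (w ≫ a))
    (X : Over (Spec (CommRingCat.of K))) (v : X ⟶ G) (w : X ⟶ T) : Commute v (w ≫ a) := by
  obtain ⟨C, _, c, hcen, hci, -⟩ := exists_centralizer_torus hT a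
  haveI := hci
  haveI : JacobsonSpace G.left := LocallyOfFiniteType.jacobsonSpace G.hom
  haveI : IsReduced G.left := GrpSch.isReduced_of_smooth_field G.hom
  haveI : Surjective c.left := by
    refine ⟨Set.range_eq_univ.1 (Set.univ_subset_iff.1 ?_)⟩
    rw [← closure_closedPoints]
    refine closure_minimal (fun t ht => ?_) c.left.isClosedEmbedding.isClosed_range
    obtain ⟨p, hp⟩ := GrpSch.exists_point_mem (W := {t}) ht (Set.singleton_nonempty t)
    obtain ⟨z, hz⟩ := (hcen.2.2 _ p).2 fun X' x' w' => by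
      rw [toUnit_unique x' (toUnit X')]
      exact (h p X' w').eq
    refine ⟨z.left (IsLocalRing.closedPoint K), ?_⟩
    rw [← Scheme.Hom.comp_apply, ← Over.comp_left, hz]
    exact hp ⟨_, rfl⟩
  haveI := isIso_of_isClosedImmersion_of_surjective c.left
  have hl : ∃ l : X ⟶ C, l ≫ c = v :=
    ⟨Over.homMk (v.left ≫ CategoryTheory.inv c.left) (by
      rw [← Over.w c, Category.assoc, IsIso.inv_hom_id_assoc, Over.w v]),
      Over.OverMorphism.ext (by simp)⟩
  have := (hcen.2.2 X v).1 hl X (𝟙 X) w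
  rw [Category.id_comp] at this
  exact this

end Groth.Agent.H87.TorsionDense
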