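import Groth.Agent.H87.CyclicAvg
import Groth.Agent.Lib.SmWeil.TorusCentralizer

/-!
# Torsion points and centralisers of torsion sections of smooth groups
-/

set_option autoImplicit false
set_option linter.style.haveILetI false
universe u

open CategoryTheory CategoryTheory.Limits MonoidalCategory CartesianMonoidalCategory MonObj GrpObj AlgebraicGeometry
open Groth.Agent.H87.HomDS Groth.Agent.Lib Groth.Agent.Lib.MultAvg Groth.Agent.Lib.MultAvg.Fnl
open Groth.Agent.Lib.SmWeil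

namespace Groth.Agent.H87.TorsionScheme

variable {S : Scheme.{u}} {G : Over S} [GrpObj G] {N : ℕ}

theorem isUnit_pt (hN : IsUnit (N : Γ(S, ⊤))) {A : CommRingCat.{u}} (t : Spec A ⟶ S) : IsUnit (N : A) := by
  have h := hN.map ((Scheme.ΓSpecIso A).hom.hom.comp (t.appTop).hom)
  simpa using h

theorem lfp_η [IsSeparated G.hom] [LocallyOfFiniteType G.hom] : LocallyOfFinitePresentation η[G].left :=
  AlgSpMor.Cancel.locallyOfFinitePresentation_of_comp (g := G.hom)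
    (by rw [Over.w]; show LocallyOfFinitePresentation (𝟙 S); infer_instance) inferInstance

theorem exists_fac_one {X : Over S} (g : X ⟶ G) : (∃ κ, κ ≫ η[G] = g) ↔ g = 1 := by
  constructor
  · rintro ⟨κ, rfl⟩
    rw [RedPts.Gm.η_eq_one, MonObj.comp_one]
  · rintro rfl
    exact ⟨toUnit _, by rw [RedPts.Gm.η_eq_one, MonObj.comp_one]⟩

/-- **The scheme of `N`-torsion points is smooth.** -/
theorem exists_torsion [Smooth G.hom] [IsSeparated G.hom] [NeZero N] (hN : IsUnit (N : Γ(S, ⊤))) :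
    ∃ (Y : Over S) (y : Y ⟶ G), Smooth Y.hom ∧ IsClosedImmersion y.left ∧
      ∀ {X : Over S} (g : X ⟶ G), (∃ z, z ≫ y = g) ↔ g ^ N = 1 := by
  haveI : IsClosedImmersion η[G].left := GrpSch.isClosedImmersion_η G
  haveI : Mono η[G] := GrpQ.mono_of_left _
  obtain ⟨Y, y, hym, hyfp, hycl, hy⟩ := exists_preimage_mono ((𝟙 G : G ⟶ G) ^ N) η[G]
  haveI := hyfp lfp_η
  haveI := hycl inferInstance
  have key : ∀ {X : Over S} (g : X ⟶ G), (∃ z, z ≫ y = g) ↔ g ^ N = 1 := fun g => by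
    rw [hy, exists_fac_one, MonObj.comp_pow, Category.comp_id]
  haveI : LocallyOfFinitePresentation Y.hom := by rw [← Over.w y]; infer_instance
  refine ⟨Y, y, ?_, inferInstance, key⟩
  refine GrpSch.smooth_of_liftings Y.hom fun A J hJ t c₀ hc₀ => ?_
  let z₀ : test t (𝟙 A ≫ mkA J) ⟶ Y := Over.homMk c₀ (by rw [hc₀]; simp)
  obtain ⟨l, hl, hl'⟩ := SmoothLift.Formal.isFormallySmoothHom_of_smooth G.hom A J hJ (z₀ ≫ y).left t
    (by rw [Over.w (z₀ ≫ y)]; simp)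
  let g : test t (𝟙 A) ⟶ G := Over.homMk l (by simpa using hl')
  let r := tmap t (φ' := 𝟙 A ≫ mkA J) (mkA J) (rfl : 𝟙 A ≫ mkA J = _)
  have hg : r ≫ g = z₀ ≫ y := Over.OverMorphism.ext hl
  obtain ⟨g', hg', hr⟩ := CyclicAvg.exists_torsion (t := t) (hJ := hJ) (hN := isUnit_pt hN t) g
    (by rw [show r ≫ g = _ from hg]; exact (key _).1 ⟨z₀, rfl⟩)
  obtain ⟨z, hz⟩ := (key g').2 hg'
  refine ⟨z.left, by rw [Over.w z]; simp, ?_⟩
  rw [← cancel_mono y.left, Category.assoc, ← Over.comp_left, hz]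
  exact congrArg (fun f : test t (𝟙 A ≫ mkA J) ⟶ G => f.left) (hr.trans hg)

/-- **The centraliser of a torsion section is smooth.** -/
theorem exists_centralizer [Smooth G.hom] [IsSeparated G.hom] [NeZero N] (hN : IsUnit (N : Γ(S, ⊤)))
    (g : 𝟙_ (Over S) ⟶ G) (hg : g ^ N = 1) :
    ∃ (C : Over S) (_ : GrpObj C) (c : C ⟶ G), IsMonHom c ∧ Mono c ∧ Smooth C.hom ∧ IsClosedImmersion c.left ∧
      ∀ {X : Over S} (z : X ⟶ G), (∃ w, w ≫ c = z) ↔ (toUnit X ≫ g) * z = z * (toUnit X ≫ g) := by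
  haveI : IsClosedImmersion η[G].left := GrpSch.isClosedImmersion_η G
  haveI : Mono η[G] := GrpQ.mono_of_left _
  obtain ⟨C, c, hcm, hcfp, hccl, hC⟩ := exists_preimage_mono
    ((toUnit G ≫ g) * 𝟙 G * (toUnit G ≫ g)⁻¹ * (𝟙 G)⁻¹) η[G]
  haveI := hcfp lfp_η
  haveI := hccl inferInstance
  have key : ∀ {X : Over S} (z : X ⟶ G), (∃ w, w ≫ c = z) ↔ (toUnit X ≫ g) * z = z * (toUnit X ≫ g) := fun {X} z => by
    rw [hC, exists_fac_one]
    simp only [MonObj.comp_mul, GrpObj.comp_inv, Category.comp_id, ← Category.assoc, toUnit_unique (z ≫ toUnit G) (toUnit X)]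
    rw [mul_inv_eq_one, mul_inv_eq_iff_eq_mul]
  obtain ⟨hgrp, hcG⟩ := FreeRes.exists_grpObj_of_mono c
    (fun T => (key 1).2 (by simp))
    (fun {T} a b => (key _).2 (Commute.mul_right (show Commute _ _ from (key (a ≫ c)).1 ⟨a, rfl⟩) ((key (b ≫ c)).1 ⟨b, rfl⟩)))
    (fun {T} a => (key _).2 (Commute.inv_right (show Commute _ _ from (key (a ≫ c)).1 ⟨a, rfl⟩)))
  haveI : LocallyOfFinitePresentation C.hom := by rw [← Over.w c]; infer_instance
  refine ⟨C, hgrp, c, hcG, hcm, ?_, inferInstance, key⟩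
  refine GrpSch.smooth_of_liftings C.hom fun A J hJ t c₀ hc₀ => ?_
  let z₀ : test t (𝟙 A ≫ mkA J) ⟶ C := Over.homMk c₀ (by rw [hc₀]; simp)
  obtain ⟨l, hl, hl'⟩ := SmoothLift.Formal.isFormallySmoothHom_of_smooth G.hom A J hJ (z₀ ≫ c).left t
    (by rw [Over.w (z₀ ≫ c)]; simp)
  let z : test t (𝟙 A) ⟶ G := Over.homMk l (by simpa using hl')
  let r := tmap t (φ' := 𝟙 A ≫ mkA J) (mkA J) (rfl : 𝟙 A ≫ mkA J = _)
  have hz : r ≫ z = z₀ ≫ c := Over.OverMorphism.ext hl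
  obtain ⟨z', hz', hr⟩ := CyclicAvg.exists_commute (t := t) (hJ := hJ) (hN := isUnit_pt hN t) (toUnit _ ≫ g) z
    (by rw [← MonObj.comp_pow, hg, MonObj.comp_one]) (by
      rw [MonObj.comp_mul, MonObj.comp_mul, show r ≫ z = _ from hz, ← Category.assoc, toUnit_unique (r ≫ toUnit _) (toUnit _)]
      exact (key _).1 ⟨z₀, rfl⟩)
  obtain ⟨w, hw⟩ := (key z').2 hz'
  refine ⟨w.left, by rw [Over.w w]; simp, ?_⟩
  rw [← cancel_mono c.left, Category.assoc, ← Over.comp_left, hw]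
  exact congrArg (fun f : test t (𝟙 A ≫ mkA J) ⟶ G => f.left) (hr.trans hz)

end Groth.Agent.H87.TorsionScheme
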