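import Groth.Agent.H87.TorusNhd
import Groth.Agent.H87.EtaleSplitTorus
import Groth.Agent.Lib.ImgMT.EtTorus

/-!
# Maximal tori exist étale locally as soon as they exist fpqc locally
-/

set_option autoImplicit false
set_option linter.style.haveILetI false

universe u

open CategoryTheory CategoryTheory.Limits AlgebraicGeometry MonoidalCategory CartesianMonoidalCategory
open CategoryTheory.MonObj CategoryTheory.GrpObj
open Groth.Agent.Lib Groth.Agent.Lib.RedPts Groth.Agent.Lib.Tori Groth.Agent.Lib.SmWeil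
open Groth.Agent.Lib.SmWeil.CartanDescent

namespace Groth.Agent.H87.TorusEtale

variable {S : Scheme.{u}}

/-- Tori split étale locally. -/
theorem exists_etale_split (T : Over S) [GrpObj T] (hT : Red.IsTorus T) (s : S) :
    ∃ (S' : Scheme.{u}) (v : S' ⟶ S) (r : ℕ) (e : Red.DS S' (Fin r → ℤ) ⟶ Red.bc v T),
      Etale v ∧ s ∈ Set.range v.base ∧ IsMonHom e ∧ IsIso e := by
  haveI := Tori.Basic.smooth_of_isTorus hT
  haveI := Tori.Basic.isAffineHom_of_isTorus hT
  haveI := geometricallyConnected_of_isTorus hT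
  let g := Red.geomPt s
  obtain ⟨r, ⟨e⟩⟩ := TorusIn.exists_split (Red.bc g T) (Basic.isTorus_bc hT g)
  let E := BaseChange.overIso e
  haveI : IsMonHom E.inv := inferInstanceAs (IsMonHom (BaseChange.overIso e.symm).hom)
  obtain ⟨B, _, v, hv, hs, i, hi⟩ := EtaleSplitTorus.exists_etale g E.inv fun Z z _ => ⟨z ≫ E.hom, by simp⟩
  rw [show g (IsLocalRing.closedPoint _) = s from Scheme.fromSpecResidueField_apply s _] at hs
  haveI := hi.1
  haveI := hi.2.1
  haveI : Smooth (Red.bc v T).hom := MorphismProperty.pullback_snd (P := @Smooth) _ _ inferInstance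
  haveI := Tori.Basic.smooth_of_isTorus hi.2.2.1
  refine ⟨_, v, r, i, hv, hs, inferInstance, CartanAux.isIso_of_geom_fibres i fun t => ?_⟩
  haveI : IsMonHom (𝟙 (Red.geomFibre t (Red.bc v T))) := inferInstance
  haveI : Mono (𝟙 (Red.geomFibre t (Red.bc v T))) := inferInstance
  exact hi.2.2.2 t _ (𝟙 (Red.geomFibre t (Red.bc v T))) _ (Basic.isTorus_bc (Basic.isTorus_bc hT v) _)
    (Category.comp_id _)

/-- Maximality at a point can be tested after base change. -/
theorem maximal_at {S' : Scheme.{u}} {G T : Over S} [GrpObj G] [GrpObj T] (π : S' ⟶ S) (i : T ⟶ G) [IsMonHom i]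
    (hTπ : Red.IsMaximalTorus ((Over.pullback π).map i)) (s₂ : S')
    (T' : Over (Spec (CommRingCat.of (AlgebraicClosure (S.residueField (π s₂)))))) [GrpObj T']
    (j : T' ⟶ Red.geomFibre (π s₂) G) [IsMonHom j] [Mono j] (g : Red.geomFibre (π s₂) T ⟶ T')
    (hT' : Red.IsTorus T') (hg : g ≫ j = (Over.pullback (Red.geomPt (π s₂))).map i) : IsIso g := by
  obtain ⟨_, hsq⟩ := CartanAux.exists_geom_sq π s₂
  obtain ⟨eG, eT, hnat⟩ := MaxTorusBC.exists_transport (Red.geomPt s₂) π _ (Red.geomPt (π s₂)) hsq i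
  let b := TorusSpec.base (K := AlgebraicClosure (S.residueField (π s₂))) (AlgebraicClosure (S'.residueField s₂))
  haveI : Flat b := Groth.Agent.Lib.GrpSch.flat_of_isField (Field.toIsField _) _
  haveI : Surjective b := ⟨fun x => ⟨IsLocalRing.closedPoint _, Subsingleton.elim (α := PrimeSpectrum _) _ _⟩⟩
  haveI : Mono ((Over.pullback b).map j) := inferInstance
  haveI : IsMonHom ((Over.pullback b).map j) := inferInstance
  haveI := CartanAux.isMonHom_inv _ (BaseChange.isMonHom_overIso eG)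
  haveI : IsMonHom ((Over.pullback b).map j ≫ (BaseChange.overIso eG).inv) := inferInstance
  haveI : Mono ((Over.pullback b).map j ≫ (BaseChange.overIso eG).inv) :=
    MaxTorusBC.mono_comp_iso _ (BaseChange.overIso eG).symm
  have h1 := hTπ.2.2.2 s₂ (Red.bc b T') ((Over.pullback b).map j ≫ (BaseChange.overIso eG).inv)
    ((BaseChange.overIso eT).hom ≫ (Over.pullback b).map g) (Basic.isTorus_bc hT' b) (by
      rw [Category.assoc, ← Category.assoc ((Over.pullback b).map g), ← Functor.map_comp, hg,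
        ← Category.assoc, ← hnat, Category.assoc, Iso.hom_inv_id, Category.comp_id])
  exact CartanAux.isIso_of_bc b g
    (@IsIso.of_isIso_comp_left _ _ _ _ _ (BaseChange.overIso eT).hom ((Over.pullback b).map g)
      (BaseChange.overIso eT).isIso_hom h1)

/-- A maximal torus of the identity component is a maximal torus. -/
theorem isMaximalTorus_neutral {S' : Scheme.{u}} (π : S' ⟶ S) {G G₀ : Over S} [GrpObj G] [GrpObj G₀]
    (i : G₀ ⟶ G) [IsMonHom i] [Mono i]
    (hfac : ∀ {A : Scheme.{u}} (p : A ⟶ S) (H : Over A) [GrpObj H] (f : H ⟶ Red.bc p G) [IsMonHom f]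
      [GeometricallyConnected H.hom], ∃ f₀ : H ⟶ Red.bc p G₀, f₀ ≫ (Over.pullback p).map i = f)
    {T : Over S'} [GrpObj T] (a : T ⟶ Red.bc π G₀) (ha : Red.IsMaximalTorus a) :
    Red.IsMaximalTorus (a ≫ (Over.pullback π).map i) := by
  haveI := ha.1
  haveI := ha.2.1
  refine ⟨inferInstance, inferInstance, ha.2.2.1, fun s T' _ j _ _ f hT' hf => ?_⟩
  let σ := Red.geomPt s
  let k₀ := compIso σ π (rfl : σ ≫ π = _) G₀
  let k := compIso σ π (rfl : σ ≫ π = _) G
  haveI := isMonHom_compIso σ π (rfl : σ ≫ π = _) G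
  haveI := isMonHom_compIso σ π (rfl : σ ≫ π = _) G₀
  haveI : IsMonHom k₀.inv := CartanAux.isMonHom_inv k₀ (isMonHom_compIso σ π rfl G₀)
  haveI := geometricallyConnected_of_isTorus hT'
  haveI : IsMonHom (j ≫ k.hom) := inferInstance
  obtain ⟨f₀, hf₀⟩ := hfac (σ ≫ π) T' (j ≫ k.hom)
  haveI : IsMonHom f₀ := TorusNhd.isMonHom_of_comp hf₀
  have hj : (f₀ ≫ k₀.inv) ≫ (Over.pullback σ).map ((Over.pullback π).map i) = j := by
    have hn : (Over.pullback σ).map ((Over.pullback π).map i) ≫ k.hom = k₀.hom ≫ (Over.pullback (σ ≫ π)).map i :=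
      compIso_naturality σ π (rfl : σ ≫ π = _) i
    refine (cancel_mono k.hom).1 ?_
    exact ((Category.assoc _ _ _).trans ((congrArg ((f₀ ≫ k₀.inv) ≫ ·) hn).trans
      ((Category.assoc _ _ _).trans ((congrArg (f₀ ≫ ·) (k₀.inv_hom_id_assoc _)).trans hf₀))))
  haveI : Mono (f₀ ≫ k₀.inv) := mono_of_mono_fac hj
  haveI : IsMonHom (f₀ ≫ k₀.inv) := inferInstance
  refine ha.2.2.2 s T' (f₀ ≫ k₀.inv) f hT' ?_
  rw [← cancel_mono ((Over.pullback σ).map ((Over.pullback π).map i)), Category.assoc, hj, hf, Functor.map_comp]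

variable {G : Over S} [GrpObj G] [Smooth G.hom] [IsSeparated G.hom] [QuasiCompact G.hom]

/-- Étale neighbourhoods with a split maximal torus. -/
theorem exists_etale_nhd (hG : SGA3x.HasMaxTorusFpqcLocally G) (s : S) :
    ∃ (S' : Scheme.{u}) (v : S' ⟶ S) (r : ℕ) (i : Red.DS S' (Fin r → ℤ) ⟶ Red.bc v G),
      Etale v ∧ s ∈ Set.range v.base ∧ Red.IsMaximalTorus i := by
  obtain ⟨G₀, _, i₀, him, himono, -, hsm, hqc, hsep, hgc, hfac⟩ := Neutral.exists_neutral G
  haveI := him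
  haveI := himono
  haveI := hsm
  haveI := hqc
  haveI := hsep
  haveI := hgc
  obtain ⟨S₁, f, hf, hfs, hcov, T₁, _, i₁, hT₁⟩ := hG
  haveI := hf
  haveI := hfs
  obtain ⟨s₁, hs₁⟩ := f.surjective s
  haveI := hT₁.1
  haveI := hT₁.2.1
  haveI : GeometricallyConnected T₁.hom := geometricallyConnected_of_isTorus hT₁.2.2.1
  haveI : Smooth (Red.bc f G).hom := MorphismProperty.pullback_snd (P := @Smooth) _ _ inferInstance
  haveI : IsSeparated (Red.bc f G).hom := MorphismProperty.pullback_snd (P := @IsSeparated) _ _ inferInstance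
  haveI : Smooth (Red.bc f G₀).hom := MorphismProperty.pullback_snd (P := @Smooth) _ _ inferInstance
  haveI : IsSeparated (Red.bc f G₀).hom := MorphismProperty.pullback_snd (P := @IsSeparated) _ _ inferInstance
  obtain ⟨a, ha⟩ := hfac f T₁ i₁
  haveI : IsMonHom a := TorusNhd.isMonHom_of_comp ha
  haveI : Mono a := mono_of_mono_fac ha
  have hamax : Red.IsMaximalTorus a := ⟨inferInstance, inferInstance, hT₁.2.2.1, fun s T' _ j _ _ φ hT' hφ =>
    hT₁.2.2.2 s T' (j ≫ (Over.pullback (Red.geomPt s)).map ((Over.pullback f).map i₀)) φ hT' (by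
      rw [← Category.assoc, hφ, ← Functor.map_comp, ha])⟩
  have hG₀ : SGA3x.HasMaxTorusFpqcLocally G₀ := ⟨S₁, f, hf, hfs, hcov, T₁, _, a, hamax⟩
  let K := AlgebraicClosure (S₁.residueField s₁)
  let σ := Red.geomPt s₁
  -- a prime invertible at the point
  obtain ⟨ℓ, hℓ, hℓK⟩ : ∃ ℓ : ℕ, 2 ≤ ℓ ∧ (ℓ : K) ≠ 0 := by
    by_cases h2 : (2 : K) = 0
    · refine ⟨3, by norm_num, fun h3 => one_ne_zero (α := K) ?_⟩
      have : (1 : K) = (3 : ℕ) - (2 : K) := by push_cast; ring
      rw [this, h3, h2, sub_zero]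
    · exact ⟨2, le_rfl, by exact_mod_cast h2⟩
  let U : S.Opens := S.basicOpen (ℓ : Γ(S, ⊤))
  let x : Spec (CommRingCat.of K) ⟶ S := σ ≫ f
  have hx : Set.range x ⊆ Set.range U.ι := by
    rintro _ ⟨p, rfl⟩
    rw [Scheme.Opens.range_ι, SetLike.mem_coe]
    change p ∈ x ⁻¹ᵁ S.basicOpen (ℓ : Γ(S, ⊤))
    rw [Scheme.preimage_basicOpen_top, Scheme.basicOpen_of_isUnit]
    · trivial
    · rw [map_natCast]
      have := (isUnit_iff_ne_zero.2 hℓK).map (Scheme.ΓSpecIso (CommRingCat.of K)).inv.hom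
      rw [map_natCast] at this
      exact this
  let b := IsOpenImmersion.lift U.ι x hx
  have hb : b ≫ U.ι = x := IsOpenImmersion.lift_fac _ _ _
  have hU : IsUnit (ℓ : Γ((U : Scheme.{u}), ⊤)) := by
    have h1 := RingedSpace.isUnit_res_basicOpen S.toRingedSpace (ℓ : Γ(S, ⊤))
    have h2 := h1.map U.topIso.inv.hom
    simpa using h2
  let G' := Red.bc U.ι G₀
  haveI : Smooth G'.hom := MorphismProperty.pullback_snd (P := @Smooth) _ _ inferInstance
  haveI : IsSeparated G'.hom := MorphismProperty.pullback_snd (P := @IsSeparated) _ _ inferInstance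
  haveI : QuasiCompact G'.hom := MorphismProperty.pullback_snd (P := @QuasiCompact) _ _ inferInstance
  haveI : GeometricallyConnected G'.hom := inferInstanceAs (GeometricallyConnected (pullback.snd G₀.hom U.ι))
  let k := compIso σ f (rfl : σ ≫ f = x) G₀ ≪≫ (compIso b U.ι hb G₀).symm
  haveI := isMonHom_compIso b U.ι hb G₀
  haveI := isMonHom_compIso σ f (rfl : σ ≫ f = x) G₀
  haveI : IsMonHom (compIso b U.ι hb G₀).inv := CartanAux.isMonHom_inv _ (isMonHom_compIso b U.ι hb G₀)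
  have hk : IsMonHom k.hom :=
    inferInstanceAs (IsMonHom ((compIso σ f (rfl : σ ≫ f = x) G₀).hom ≫ (compIso b U.ι hb G₀).inv))
  let t : Red.bc σ T₁ ⟶ Red.bc b G' := (Over.pullback σ).map a ≫ k.hom
  have htmax : Red.IsMaximalTorus t := CartanAux.isMaximalTorus_congr k (Iso.refl _) hk
    (inferInstanceAs (IsMonHom (𝟙 _))) (Category.id_comp _).symm (MaxTorusBC.isMaximalTorus_bc a hamax σ)
  haveI := htmax.1
  haveI := htmax.2.1
  haveI : LocallyOfFiniteType (Red.bc b G').hom :=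
    MorphismProperty.pullback_snd (P := @LocallyOfFiniteType) _ _ inferInstance
  haveI : QuasiCompact (Red.bc b G').hom := MorphismProperty.pullback_snd (P := @QuasiCompact) _ _ inferInstance
  obtain ⟨gs, hgs, hlist⟩ := TorsionDense.exists_list htmax.2.2.1 t hℓ hℓK
  obtain ⟨B', π, b', hπ, hb', T', _, i', hi'⟩ := TorusNhd.exists_nhd htmax.2.2.1 (by omega) gs hgs
    (TorusNhd.hasMaxTorus_bc hG₀ U.ι) hU (𝟙 G') b t
    (by rw [CategoryTheory.Functor.map_id, Category.comp_id]; exact htmax)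
    (fun C _ _ c _ _ => ⟨c, by rw [CategoryTheory.Functor.map_id, Category.comp_id]⟩) hlist
  haveI := hπ
  let π₂ := π ≫ U.ι
  let k₂ := compIso π U.ι (rfl : π ≫ U.ι = π₂) G₀
  have hi₂ : Red.IsMaximalTorus (i' ≫ k₂.hom) := CartanAux.isMaximalTorus_congr k₂ (Iso.refl _)
    (isMonHom_compIso _ _ _ _) (inferInstanceAs (IsMonHom (𝟙 _))) (Category.id_comp _).symm hi'
  have hiG := isMaximalTorus_neutral π₂ i₀ hfac _ hi₂
  obtain ⟨S₂, v₁, s₂, hv₁, hs₂, h, hh⟩ := EtaleSection.Sections.exists_etale_section π₂ b'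
  haveI := hv₁
  haveI : Smooth (Red.bc π₂ G).hom := MorphismProperty.pullback_snd (P := @Smooth) _ _ inferInstance
  haveI : IsSeparated (Red.bc π₂ G).hom := MorphismProperty.pullback_snd (P := @IsSeparated) _ _ inferInstance
  let k₃ := compIso h π₂ hh G
  have hi₃ : Red.IsMaximalTorus ((Over.pullback h).map (i' ≫ k₂.hom ≫ (Over.pullback π₂).map i₀) ≫ k₃.hom) :=
    CartanAux.isMaximalTorus_congr k₃ (Iso.refl _) (isMonHom_compIso _ _ _ _) (inferInstanceAs (IsMonHom (𝟙 _)))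
      (Category.id_comp _).symm (MaxTorusBC.isMaximalTorus_bc _ (by rwa [← Category.assoc]) h)
  obtain ⟨S₃, v₂, r, e, hv₂, ⟨s₃, hs₃⟩, hem, hei⟩ := exists_etale_split _ hi₃.2.2.1 s₂
  haveI := hv₂
  haveI := hem
  haveI := hei
  let v := v₂ ≫ v₁
  let k₄ := compIso v₂ v₁ (rfl : v₂ ≫ v₁ = v) G
  haveI : Smooth (Red.bc v₁ G).hom := MorphismProperty.pullback_snd (P := @Smooth) _ _ inferInstance
  haveI : IsSeparated (Red.bc v₁ G).hom := MorphismProperty.pullback_snd (P := @IsSeparated) _ _ inferInstance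
  refine ⟨S₃, v, r, e ≫ (Over.pullback v₂).map _ ≫ k₄.hom, inferInstance, ⟨s₃, ?_⟩,
    CartanAux.isMaximalTorus_congr k₄ (asIso e).symm (isMonHom_compIso _ _ _ _)
      (CartanAux.isMonHom_inv (asIso e) hem) (IsIso.inv_hom_id_assoc e _).symm
      (MaxTorusBC.isMaximalTorus_bc _ hi₃ v₂)⟩
  show v s₃ = s
  rw [Scheme.Hom.comp_apply, show v₂ s₃ = s₂ from hs₃, hs₂, Scheme.Hom.comp_apply, hb', ← Scheme.Hom.comp_apply,
    hb, Scheme.Hom.comp_apply, show σ (IsLocalRing.closedPoint K) = s₁ from Scheme.fromSpecResidueField_apply s₁ _, hs₁]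

/-- **Maximal tori exist étale locally as soon as they exist fpqc locally.** -/
theorem hasMaxTorusEtaleLocally (hG : SGA3x.HasMaxTorusFpqcLocally G) : SGA3x.HasMaxTorusEtaleLocally G := by
  choose P c r z hc hs hz using exists_etale_nhd hG
  let f : ∐ P ⟶ S := Sigma.desc c
  have hf : Etale f := by
    haveI : IsZariskiLocalAtSource @Etale.{u} :=
      HasRingHomProperty.instIsZariskiLocalAtSource (P := @Etale) (Q := RingHom.Etale)
    exact IsZariskiLocalAtSource.sigmaDesc hc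
  haveI := hf
  have hι : ∀ k, Sigma.ι P k ≫ f = c k := fun k => Sigma.ι_desc c k
  have hfs : Surjective f := ⟨fun s => by
    obtain ⟨p, hp⟩ := hs s
    exact ⟨Sigma.ι P s p, (congrArg (fun w : P s ⟶ S => w p) (hι s)).trans hp⟩⟩
  let kk := fun k => compIso (Sigma.ι P k) f (hι k) G
  let z' := fun k => z k ≫ (kk k).inv
  have hz' : ∀ k, Red.IsMaximalTorus (z' k) := fun k => CartanAux.isMaximalTorus_congr (kk k).symm (Iso.refl _)
    (CartanAux.isMonHom_inv (kk k) (isMonHom_compIso _ _ _ _)) (inferInstanceAs (IsMonHom (𝟙 _)))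
    (Category.id_comp _).symm (hz k)
  haveI : ∀ k, IsMonHom (z' k) := fun k => (hz' k).1
  haveI : ∀ k, Mono (z' k) := fun k => (hz' k).2.1
  haveI : ∀ k, IsAffineHom (Red.DS (P k) (Fin (r k) → ℤ)).hom := fun k => DS.isAffineHom _ _
  have hcov : ∀ t : ↥(∐ P), ∃ k, t ∈ Set.range (Sigma.ι P k) := fun t => by
    obtain ⟨k, y, hy⟩ := (sigmaOpenCover P).exists_eq t
    exact ⟨k, y, hy⟩
  have hmem := HomFam.mem_fpqc_of_etale (fun k => Sigma.ι P k) hcov
  obtain ⟨T, _, i, him, hi, hch, -⟩ := ImgMT.exists_subgroup (Φ := ImgMT.EtTorus.piece z') (z' := z') hmem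
    (ImgMT.EtTorus.reps_piece z')
    (fun W k Y m => ⟨1, by
      rw [MonObj.one_comp, MonObj.comp_one]
      exact BC.down_injective (by rw [BC.down_up, BC.down_one])⟩)
    (fun W a b ha hb k Y m => by
      obtain ⟨p, hp⟩ := ha k Y m
      obtain ⟨q, hq⟩ := hb k Y m
      exact ⟨p * q, by rw [MonObj.mul_comp, hp, hq, ← BC.up_mul, MonObj.comp_mul]⟩)
    (fun W a ha k Y m => by
      obtain ⟨p, hp⟩ := ha k Y m
      refine ⟨p⁻¹, BC.down_injective ?_⟩
      rw [GrpObj.inv_comp, BC.down_inv, hp, BC.down_up, BC.down_up, GrpObj.comp_inv])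
  haveI := him
  haveI := hi
  refine ⟨∐ P, f, hf, hfs, T, _, i, him, hi, ?_, fun t T' _ j _ _ g hT' hg => ?_⟩
  · refine ⟨∐ P, 𝟙 _, inferInstance, ⟨fun x => ⟨x, rfl⟩⟩, fun V hV => ⟨V, hV.isCompact, by simp⟩, fun s => ?_⟩
    obtain ⟨k, y, hy⟩ := hcov s
    obtain ⟨φ, -⟩ := hch k
    let l := IsOpenImmersion.lift (Sigma.ι P k) (Sigma.ι P k).opensRange.ι (by rw [Scheme.Opens.range_ι]; rfl)
    refine ⟨(Sigma.ι P k).opensRange, ⟨y, hy⟩, r k, ⟨BaseChange.bcCongr ?_ T ≪≫ Charts.resChart φ l⟩⟩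
    rw [Category.comp_id, IsOpenImmersion.lift_fac]
  · obtain ⟨k, y, rfl⟩ := hcov t
    obtain ⟨φ, hφ⟩ := hch k
    exact maximal_at (Sigma.ι P k) i (CartanAux.isMaximalTorus_congr (Iso.refl _) (BaseChange.overIso φ).symm
      (inferInstanceAs (IsMonHom (𝟙 _))) (CartanAux.isMonHom_inv _ (BaseChange.isMonHom_overIso φ))
      (by rw [Iso.refl_hom, Category.comp_id, Iso.symm_hom, ← hφ, Iso.inv_hom_id_assoc]) (hz' k)) y T' j g hT' hg

end Groth.Agent.H87.TorusEtale
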