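import Groth.Agent.H87.TorsionDense
import Groth.Agent.H87.TorsionScheme
import Groth.Agent.H87.Neutral
import Groth.Agent.Lib.SmWeil.CartanOpen

/-!
# A maximal torus of a geometric fibre spreads out to a smooth neighbourhood
-/

set_option autoImplicit false
set_option linter.style.haveILetI false

universe u

open CategoryTheory CategoryTheory.Limits AlgebraicGeometry MonoidalCategory CartesianMonoidalCategory
open CategoryTheory.MonObj CategoryTheory.GrpObj
open Groth.Agent.Lib Groth.Agent.Lib.RedPts Groth.Agent.Lib.Tori Groth.Agent.Lib.SmWeil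
open Groth.Agent.Lib.SmWeil.CartanDescent

namespace Groth.Agent.H87.TorusNhd

theorem down_pow {S S' : Scheme.{u}} {f : S' ⟶ S} {X : Over S'} {G : Over S} [GrpObj G] (g : X ⟶ Red.bc f G) :
    ∀ n : ℕ, BC.down f (g ^ n) = BC.down f g ^ n
  | 0 => by rw [pow_zero, pow_zero, BC.down_one]
  | n + 1 => by rw [pow_succ, pow_succ, BC.down_mul, down_pow g n]

theorem isMonHom_of_comp {C : Type*} [Category C] [CartesianMonoidalCategory C] {X Y Z : C}
    [GrpObj X] [GrpObj Y] [GrpObj Z] {a : X ⟶ Y} {b : Y ⟶ Z} {c : X ⟶ Z} (h : a ≫ b = c)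
    [IsMonHom b] [Mono b] [IsMonHom c] : IsMonHom a := by
  subst h
  exact MaxTorusBC.isMonHom_of_mono_comp a b

/-- The hypothesis of a maximal torus fpqc locally is stable under base change. -/
theorem hasMaxTorus_bc {S B : Scheme.{u}} {G : Over S} [GrpObj G] [Smooth G.hom] [IsSeparated G.hom]
    (hG : SGA3x.HasMaxTorusFpqcLocally G) (π : B ⟶ S) : SGA3x.HasMaxTorusFpqcLocally (Red.bc π G) := by
  obtain ⟨S₁, f, hf, hfs, hcov, T, _, i, hT⟩ := hG
  haveI := hf
  haveI := hfs
  haveI : Smooth (Red.bc f G).hom := MorphismProperty.pullback_snd (P := @Smooth) _ _ inferInstance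
  haveI : IsSeparated (Red.bc f G).hom := MorphismProperty.pullback_snd (P := @IsSeparated) _ _ inferInstance
  let f' := pullback.fst π f
  let π' := pullback.snd π f
  let k₁ := compIso π' f (pullback.condition.symm : π' ≫ f = f' ≫ π) G
  let k₂ := compIso f' π (rfl : f' ≫ π = _) G
  haveI := isMonHom_compIso π' f (pullback.condition.symm : π' ≫ f = f' ≫ π) G
  haveI := isMonHom_compIso f' π (rfl : f' ≫ π = _) G
  haveI := CartanAux.isMonHom_inv k₂ inferInstance
  exact ⟨_, f', inferInstance, inferInstance, Basic.isQCCover_pullback_snd hcov π, _, _,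
    (Over.pullback π').map i ≫ (k₁ ≪≫ k₂.symm).hom,
    CartanAux.isMaximalTorus_congr (k₁ ≪≫ k₂.symm) (Iso.refl _)
      (inferInstanceAs (IsMonHom (k₁.hom ≫ k₂.inv))) (inferInstanceAs (IsMonHom (𝟙 _)))
      (Category.id_comp _).symm (MaxTorusBC.isMaximalTorus_bc i hT π')⟩

variable {K : Type u} [Field K] [IsAlgClosed K]

/-- A connected centraliser which is Cartan at a geometric point gives a maximal torus nearby. -/
theorem exists_open {B : Scheme.{u}} {G H : Over B} [GrpObj G] [GrpObj H]
    [Smooth G.hom] [IsSeparated G.hom] [QuasiCompact G.hom] [GeometricallyConnected G.hom]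
    [Smooth H.hom] [GeometricallyConnected H.hom] (hG : SGA3x.HasMaxTorusFpqcLocally G)
    (j : H ⟶ G) [IsMonHom j] [Mono j] (b : Spec (CommRingCat.of K) ⟶ B)
    (h : SGA3x.IsCartanOver K ((Over.pullback b).map j)) :
    ∃ W : B.Opens, b (IsLocalRing.closedPoint K) ∈ W ∧
      ∃ (T : Over (W : Scheme.{u})) (_ : GrpObj T) (i : T ⟶ Red.bc W.ι G), Red.IsMaximalTorus i := by
  let W : B.Opens := ⟨_, CartanOpen.isOpen_cartan hG j⟩
  have hb : b (IsLocalRing.closedPoint K) ∈ W := by
    refine (CartanOpen.isCartanOver_iff j b (IsLocalRing.closedPoint K)).1 ?_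
    let s₀ : Spec (CommRingCat.of K) := IsLocalRing.closedPoint K
    letI : Algebra K (AlgebraicClosure ((Spec (CommRingCat.of K)).residueField s₀)) :=
      (Spec.preimage (Red.geomPt s₀)).hom.toAlgebra
    haveI : Smooth (Red.bc b G).hom := MorphismProperty.pullback_snd (P := @Smooth) _ _ inferInstance
    haveI : IsSeparated (Red.bc b G).hom := MorphismProperty.pullback_snd (P := @IsSeparated) _ _ inferInstance
    have e : TorusSpec.base (K := K) (AlgebraicClosure ((Spec (CommRingCat.of K)).residueField s₀)) = Red.geomPt s₀ :=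
      Spec.map_preimage _
    have h1 := CartanAux.isCartanOver_bc (K' := AlgebraicClosure ((Spec (CommRingCat.of K)).residueField s₀)) h
    rw [e] at h1
    exact h1
  have hC : SGA3x.IsCartan ((Over.pullback W.ι).map j) :=
    ⟨inferInstance, inferInstance, MorphismProperty.pullback_snd (P := @Smooth) _ _ inferInstance,
      fun t => (CartanOpen.isCartanOver_iff j W.ι t).2 t.2⟩
  haveI : Smooth (Red.bc W.ι G).hom := MorphismProperty.pullback_snd (P := @Smooth) _ _ inferInstance
  haveI : IsSeparated (Red.bc W.ι G).hom := MorphismProperty.pullback_snd (P := @IsSeparated) _ _ inferInstance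
  haveI : QuasiCompact (Red.bc W.ι G).hom := MorphismProperty.pullback_snd (P := @QuasiCompact) _ _ inferInstance
  obtain ⟨T, _, i, hi, -⟩ := CartanDescent.exists_maximalTorus (hasMaxTorus_bc hG W.ι) hC
  exact ⟨W, hb, T, _, i, hi⟩

variable {T : Over (Spec (CommRingCat.of K))} [GrpObj T] (hT : Red.IsTorus T) {ℓ : ℕ}

include hT in
/-- **Spreading out a maximal torus over a smooth neighbourhood**, by induction on the number of
torsion points needed to cut out its centraliser. -/
theorem exists_nhd (hℓ : ℓ ≠ 0) (gs : List (𝟙_ (Over (Spec (CommRingCat.of K))) ⟶ T)) :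
    (∀ g ∈ gs, ∃ m : ℕ, g ^ ℓ ^ m = 1) →
    ∀ {B : Scheme.{u}} {G H : Over B} [GrpObj G] [GrpObj H]
      [Smooth G.hom] [IsSeparated G.hom] [QuasiCompact G.hom] [GeometricallyConnected G.hom]
      [Smooth H.hom] [IsSeparated H.hom] [QuasiCompact H.hom] [GeometricallyConnected H.hom]
      (_ : SGA3x.HasMaxTorusFpqcLocally G) (_ : IsUnit (ℓ : Γ(B, ⊤)))
      (j : H ⟶ G) [IsMonHom j] [Mono j] (b : Spec (CommRingCat.of K) ⟶ B) (t : T ⟶ Red.bc b H)
      [IsMonHom t] [Mono t],
      Red.IsMaximalTorus (t ≫ (Over.pullback b).map j) →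
      (∀ (C : Over (Spec (CommRingCat.of K))) [GrpObj C] [GeometricallyConnected C.hom] (c : C ⟶ Red.bc b G)
        [IsMonHom c], (∀ (X : Over (Spec (CommRingCat.of K))) (z : X ⟶ C) (w : X ⟶ T),
          Commute (z ≫ c) (w ≫ t ≫ (Over.pullback b).map j)) → ∃ c', c' ≫ (Over.pullback b).map j = c) →
      (∀ z : 𝟙_ (Over (Spec (CommRingCat.of K))) ⟶ Red.bc b H, (∀ g ∈ gs, Commute z (g ≫ t)) →
        ∀ (X : Over (Spec (CommRingCat.of K))) (w : X ⟶ T), Commute (toUnit X ≫ z) (w ≫ t)) →
      ∃ (B' : Scheme.{u}) (π : B' ⟶ B) (b' : B'), Smooth π ∧ π b' = b (IsLocalRing.closedPoint K) ∧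
        ∃ (T' : Over B') (_ : GrpObj T') (i : T' ⟶ Red.bc π G), Red.IsMaximalTorus i := by
  induction gs with
  | nil =>
    intro _ B G H _ _ _ _ _ _ _ _ _ _ hG _ j _ _ b t _ _ hmax hcent hlist
    haveI : Smooth (Red.bc b G).hom := MorphismProperty.pullback_snd (P := @Smooth) _ _ inferInstance
    haveI : Smooth (Red.bc b H).hom := MorphismProperty.pullback_snd (P := @Smooth) _ _ inferInstance
    haveI : QuasiCompact (Red.bc b G).hom := MorphismProperty.pullback_snd (P := @QuasiCompact) _ _ inferInstance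
    haveI : QuasiCompact (Red.bc b H).hom := MorphismProperty.pullback_snd (P := @QuasiCompact) _ _ inferInstance
    haveI : GeometricallyConnected (Red.bc b G).hom :=
      inferInstanceAs (GeometricallyConnected (pullback.snd G.hom b))
    haveI : ConnectedSpace (Red.bc b G).left :=
      GeometricallyConnected.geometrically_connectedSpace b (pullback.fst G.hom b) (pullback.snd G.hom b)
        (IsPullback.of_hasPullback G.hom b)
    haveI := hmax.1
    haveI := hmax.2.1
    obtain ⟨C, _, c, hC, -, -⟩ := exists_centralizer_torus hT (t ≫ (Over.pullback b).map j)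
    haveI := hC.1
    haveI := hC.2.1
    obtain ⟨-, -, hconn⟩ := connectedSpace_centralizer hT (t ≫ (Over.pullback b).map j) c hC
    haveI : GeometricallyConnected C.hom := CartanOpen.geometricallyConnected_of_fibres C fun s => by
      haveI := hconn
      have e : C.hom.base ⁻¹' {s} = Set.univ := Set.eq_univ_of_forall fun x => Subsingleton.elim (α := PrimeSpectrum _) _ _
      rw [e]
      exact isConnected_univ
    obtain ⟨c', hc'⟩ := hcent C c fun X z w => by
      have := (hC.2.2 X (z ≫ c)).1 ⟨z, rfl⟩ X (𝟙 X) w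
      rwa [Category.id_comp] at this
    have hcen : Red.IsCentralizerOf (t ≫ (Over.pullback b).map j) ((Over.pullback b).map j) := by
      refine ⟨inferInstance, inferInstance, fun X g => ⟨?_, fun hg => ?_⟩⟩
      · rintro ⟨z, rfl⟩ X' x w
        have := congrArg (· ≫ (Over.pullback b).map j)
          (TorsionDense.commute_of_points hT t (fun z => hlist z (by simp)) X' (x ≫ z) w).eq
        simpa only [MonObj.mul_comp, Category.assoc] using this
      · obtain ⟨w, hw⟩ := (hC.2.2 X g).2 hg
        exact ⟨w ≫ c', by rw [Category.assoc, hc', hw]⟩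
    obtain ⟨W, hbW, T', _, i, hi⟩ := exists_open hG j b ⟨inferInstance, inferInstance, T, _, _, hmax, hcen⟩
    exact ⟨W, W.ι, ⟨_, hbW⟩, inferInstance, rfl, T', _, i, hi⟩
  | cons g gs ih =>
    intro hgs B G H _ _ _ _ _ _ _ _ _ _ hG hN j _ _ b t _ _ hmax hcent hlist
    obtain ⟨m, hm⟩ := hgs g List.mem_cons_self
    let N := ℓ ^ m
    haveI : NeZero N := ⟨pow_ne_zero m hℓ⟩
    have hN' : IsUnit (N : Γ(B, ⊤)) := by
      rw [Nat.cast_pow]
      exact hN.pow m
    obtain ⟨Y, y, hYsm, hycl, hY⟩ := TorsionScheme.exists_torsion (G := H) hN'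
    haveI := hYsm
    haveI := hycl
    obtain ⟨z, hz⟩ := (hY (BC.down b (g ≫ t))).2 (by rw [← down_pow, ← pow_comp_hom, hm, MonObj.one_comp, BC.down_one])
    let π : Y.left ⟶ B := Y.hom
    let b' : Spec (CommRingCat.of K) ⟶ Y.left := z.left
    have hb : b' ≫ π = b := (Over.w z).trans (Category.id_comp b)
    let y' : Over.mk π ⟶ H := Over.homMk y.left (Over.w y)
    let gu : 𝟙_ (Over Y.left) ⟶ Red.bc π H := ptUp π y'
    have hgu : gu ^ N = 1 := by
      refine BC.down_injective ?_
      rw [down_pow, BC.down_one, show BC.down π gu = (unitIso π).hom ≫ y' from BC.down_up _, ← comp_pow_point,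
        (hY y').1 ⟨Over.homMk (𝟙 _) (Category.id_comp _), Over.OverMorphism.ext (Category.id_comp _)⟩,
        MonObj.comp_one]
    haveI : Smooth (Red.bc π H).hom := MorphismProperty.pullback_snd (P := @Smooth) _ _ inferInstance
    haveI : IsSeparated (Red.bc π H).hom := MorphismProperty.pullback_snd (P := @IsSeparated) _ _ inferInstance
    haveI : Smooth (Red.bc π G).hom := MorphismProperty.pullback_snd (P := @Smooth) _ _ inferInstance
    haveI : IsSeparated (Red.bc π G).hom := MorphismProperty.pullback_snd (P := @IsSeparated) _ _ inferInstance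
    haveI : QuasiCompact (Red.bc π G).hom := MorphismProperty.pullback_snd (P := @QuasiCompact) _ _ inferInstance
    haveI : GeometricallyConnected (Red.bc π G).hom :=
      inferInstanceAs (GeometricallyConnected (pullback.snd G.hom π))
    have hℓY : IsUnit (ℓ : Γ(Y.left, ⊤)) := by simpa using hN.map π.appTop.hom
    have hNY : IsUnit (N : Γ(Y.left, ⊤)) := by
      rw [Nat.cast_pow]
      exact hℓY.pow m
    obtain ⟨C, _, c, hcm, hcmono, hCsm, hccl, hC⟩ := TorsionScheme.exists_centralizer hNY gu hgu
    haveI := hcm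
    haveI := hcmono
    haveI := hCsm
    haveI := hccl
    haveI : IsSeparated C.hom := by rw [← Over.w c]; infer_instance
    obtain ⟨C₀, _, i₀, him, himono, -, hC₀sm, hC₀qc, hC₀sep, hC₀gc, hfac₀⟩ := Neutral.exists_neutral C
    haveI := him
    haveI := himono
    haveI := hC₀sm
    haveI := hC₀qc
    haveI := hC₀sep
    haveI := hC₀gc
    let P := Over.pullback b'
    let eH := compIso b' π hb H
    let eG := compIso b' π hb G
    haveI := isMonHom_compIso b' π hb H
    haveI := isMonHom_compIso b' π hb G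
    haveI : IsMonHom eH.inv := CartanAux.isMonHom_inv eH (isMonHom_compIso b' π hb H)
    haveI : IsMonHom eG.inv := CartanAux.isMonHom_inv eG (isMonHom_compIso b' π hb G)
    -- the comparison of points
    have hD : ∀ {X : Over (Spec (CommRingCat.of K))} (v : X ⟶ Red.bc b H),
        (BC.down π (BC.down b' (v ≫ eH.inv))).left = (BC.down b v).left := fun v => by
      rw [BC.down_left, BC.down_left, BC.down_left, Over.comp_left, Category.assoc, Category.assoc]
      congr 1
      rw [← compIso_fst b' π hb H, ← Category.assoc, ← Over.comp_left, Iso.inv_hom_id]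
      exact Category.id_comp _
    have hguD : ∀ (X : Over (Spec (CommRingCat.of K))),
        BC.down b' ((toUnit X ≫ g ≫ t) ≫ eH.inv) = toUnit _ ≫ gu := fun X => by
      refine BC.down_injective (Over.OverMorphism.ext ?_)
      rw [hD, BC.down_comp, ← hz, show BC.down π (toUnit _ ≫ gu) = _ from down_toUnit_ptUp (f := π) y' _]
      simp [y', b', π, unitIso, Over.toUnit_left]
    have hfac : ∀ {X : Over (Spec (CommRingCat.of K))} (v : X ⟶ Red.bc b H),
        (∃ v', v' ≫ P.map c = v ≫ eH.inv) ↔ Commute v (toUnit X ≫ g ≫ t) := by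
      intro X v
      have h1 : (∃ v', v' ≫ P.map c = v ≫ eH.inv) ↔ ∃ w, w ≫ c = BC.down b' (v ≫ eH.inv) := by
        constructor
        · rintro ⟨v', hv'⟩
          exact ⟨BC.down b' v', by rw [← BC.down_map, ← hv']⟩
        · rintro ⟨w, hw⟩
          exact ⟨BC.up b' w, BC.down_injective (by rw [BC.down_map, BC.down_up, hw])⟩
      rw [h1, hC, ← hguD X]
      constructor
      · intro he
        refine ((cancel_mono eH.inv).1 ?_ : toUnit X ≫ g ≫ t * v = v * (toUnit X ≫ g ≫ t)).symm
        refine BC.down_injective ?_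
        rw [MonObj.mul_comp, MonObj.mul_comp, BC.down_mul, BC.down_mul]
        exact he
      · intro he
        rw [← BC.down_mul, ← BC.down_mul, ← MonObj.mul_comp, ← MonObj.mul_comp, he.eq]
    obtain ⟨t₂, ht₂⟩ := (hfac t).2 (by
      have := congrArg (· ≫ t) (MaxTorusBC.commute_of_isTorus hT (𝟙 T) (toUnit T ≫ g))
      simp only [MonObj.mul_comp, Category.id_comp, Category.assoc] at this
      exact this)
    haveI : IsMonHom t₂ := isMonHom_of_comp ht₂
    haveI : GeometricallyConnected T.hom := geometricallyConnected_of_isTorus hT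
    obtain ⟨t₃, ht₃⟩ := hfac₀ b' T t₂
    haveI : IsMonHom t₃ := isMonHom_of_comp ht₃
    let κ : Red.bc b' C₀ ⟶ Red.bc b H := P.map i₀ ≫ P.map c ≫ eH.hom
    haveI : IsMonHom κ := inferInstanceAs (IsMonHom (P.map i₀ ≫ P.map c ≫ eH.hom))
    haveI : Mono κ := inferInstanceAs (Mono (P.map i₀ ≫ P.map c ≫ eH.hom))
    have htκ : t₃ ≫ κ = t := by
      show t₃ ≫ P.map i₀ ≫ P.map c ≫ eH.hom = t
      rw [reassoc_of% ht₃, reassoc_of% ht₂, Iso.inv_hom_id, Category.comp_id]
    haveI : Mono t₃ := mono_of_mono_fac htκ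
    let j' : C₀ ⟶ Red.bc π G := i₀ ≫ c ≫ (Over.pullback π).map j
    haveI : IsMonHom j' := inferInstanceAs (IsMonHom (i₀ ≫ c ≫ (Over.pullback π).map j))
    haveI : Mono j' := inferInstanceAs (Mono (i₀ ≫ c ≫ (Over.pullback π).map j))
    have hj' : P.map j' ≫ eG.hom = κ ≫ (Over.pullback b).map j := by
      simp only [j', κ, P, Functor.map_comp, Category.assoc]
      rw [compIso_naturality b' π hb j]
    obtain ⟨B', π', b'', hπ', hb'', T', _, i, hi⟩ := ih (fun x hx => hgs x (List.mem_cons_of_mem _ hx))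
      (hasMaxTorus_bc hG π) hℓY j' b' t₃
      (CartanAux.isMaximalTorus_congr eG.symm (Iso.refl T) (CartanAux.isMonHom_inv eG (isMonHom_compIso b' π hb G)) (inferInstanceAs (IsMonHom (𝟙 T)))
        (by
          rw [Iso.refl_hom, Category.id_comp, Iso.symm_hom, Iso.comp_inv_eq, Category.assoc, hj',
            ← Category.assoc, htκ]) hmax)
      (fun C' _ _ c₀ _ hc₀ => by
        obtain ⟨c₁, hc₁⟩ := hcent C' (c₀ ≫ eG.hom) fun X z w => by
          have := congrArg (· ≫ eG.hom) (hc₀ X z w).eq
          simp only [MonObj.mul_comp, Category.assoc] at this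
          rw [show t₃ ≫ P.map j' ≫ eG.hom = t ≫ (Over.pullback b).map j by
            rw [hj', reassoc_of% htκ]] at this
          exact this
        haveI : IsMonHom c₁ := isMonHom_of_comp hc₁
        obtain ⟨c₂, hc₂⟩ := (hfac c₁).2 (by
          have := (hc₀ C' (𝟙 _) (toUnit C' ≫ g)).eq
          have h2 := congrArg (· ≫ eG.hom) this
          simp only [MonObj.mul_comp, Category.assoc, Category.id_comp] at h2
          rw [show t₃ ≫ P.map j' ≫ eG.hom = t ≫ (Over.pullback b).map j by
            rw [hj', reassoc_of% htκ], ← hc₁] at h2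
          refine (cancel_mono ((Over.pullback b).map j)).1 ?_
          simpa only [MonObj.mul_comp, Category.assoc] using h2)
        haveI : IsMonHom c₂ := isMonHom_of_comp hc₂
        obtain ⟨c₃, hc₃⟩ := hfac₀ b' C' c₂
        refine ⟨c₃, (cancel_mono eG.hom).1 ?_⟩
        show (c₃ ≫ P.map j') ≫ eG.hom = _
        rw [Category.assoc, hj']
        simp only [κ, Category.assoc]
        rw [reassoc_of% hc₃, reassoc_of% hc₂, Iso.inv_hom_id_assoc, hc₁])
      (fun z' hz' X w => by
        have hz'' : ∀ x ∈ g :: gs, Commute (z' ≫ κ) (x ≫ t) := by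
          intro x hx
          rcases List.mem_cons.1 hx with rfl | hx
          · have h1 := (hfac (z' ≫ κ)).1 ⟨z' ≫ P.map i₀, by simp [κ]⟩
            rwa [toUnit_unique (toUnit _) (𝟙 (𝟙_ (Over (Spec (CommRingCat.of K))))), Category.id_comp] at h1
          · have := congrArg (· ≫ κ) (hz' x hx).eq
            simp only [MonObj.mul_comp, Category.assoc, htκ] at this
            exact this
        have h1 := hlist (z' ≫ κ) hz'' X w
        refine (cancel_mono κ).1 ?_
        simpa only [MonObj.mul_comp, Category.assoc, htκ] using h1.eq)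
    haveI := hπ'
    let e := compIso π' π (rfl : π' ≫ π = _) G
    refine ⟨B', π' ≫ π, b'', inferInstance, ?_, T', _, i ≫ e.hom,
      CartanAux.isMaximalTorus_congr e (Iso.refl _) (isMonHom_compIso _ _ _ _) (inferInstanceAs (IsMonHom (𝟙 _)))
        (Category.id_comp _).symm hi⟩
    rw [Scheme.Hom.comp_apply, hb'', ← Scheme.Hom.comp_apply, hb]

end Groth.Agent.H87.TorusNhd
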