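import Groth.Agent.H87.TypeLocus

/-!
# Auxiliary facts on twists
-/

set_option autoImplicit false
set_option linter.style.haveILetI false
universe u

open CategoryTheory MonoidalCategory CartesianMonoidalCategory MonObj GrpObj AlgebraicGeometry
open CategoryTheory.Limits
open Groth.Agent.Lib Groth.Agent.Lib.RedPts Groth.Agent.H87.MonoHom Groth.Agent.H87.SubIn Groth.Agent.H87.TypeLocus

namespace Groth.Agent.H87.TwistAux

variable {S : Scheme.{u}}

theorem geomPt_apply (s : S) : Red.geomPt s (IsLocalRing.closedPoint _) = s :=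
  (Scheme.Hom.comp_apply _ _ _).trans (S.fromSpecResidueField_apply _ _)

theorem isAffineHom_of_cover {X : Scheme.{u}} (f : X ⟶ S)
    (h : ∀ s : S, ∃ O : S.Opens, s ∈ O ∧ ∀ W : S.Opens, IsAffineOpen W → W ≤ O → IsAffineOpen (f ⁻¹ᵁ W)) :
    IsAffineHom f := by
  have h' : ∀ s : S, ∃ W : S.Opens, s ∈ W ∧ IsAffineOpen W ∧ IsAffineOpen (f ⁻¹ᵁ W) := fun s => by
    obtain ⟨O, hs, hO⟩ := h s
    obtain ⟨W, hW, hsW, hle⟩ := exists_isAffineOpen_mem_and_subset (X := S) (x := s) (U := O) hs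
    exact ⟨W, hsW, hW, hO W hW hle⟩
  choose W hsW hW hpre using h'
  rw [IsZariskiLocalAtTarget.iff_of_iSup_eq_top (P := @IsAffineHom) W
    (eq_top_iff.mpr fun x _ => TopologicalSpace.Opens.mem_iSup.mpr ⟨x, hsW x⟩)]
  intro s
  haveI : IsAffine (W s : Scheme.{u}) := hW s
  haveI : IsAffine (f ⁻¹ᵁ W s : Scheme.{u}) := hpre s
  infer_instance

theorem isQuasiAffine_of_isAffineHom {X : Scheme.{u}} (f : X ⟶ S) [IsAffineHom f] : Mor2.IsQuasiAffine f :=
  ⟨inferInstance, fun V hV => by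
    haveI : IsAffine (f ⁻¹ᵁ V : Scheme.{u}) := hV.preimage f
    infer_instance⟩

end Groth.Agent.H87.TwistAux
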