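import Groth.Agent.H87.MonoRel
import Groth.Agent.Lib.DescAlg.Descends
import Mathlib.AlgebraicGeometry.AlgClosed.Basic

/-!
# Types of finite groups of multiplicative type
-/

set_option autoImplicit false
set_option linter.style.haveILetI false
universe u

open CategoryTheory MonoidalCategory CartesianMonoidalCategory MonObj GrpObj AlgebraicGeometry
open CategoryTheory.Limits
open Groth.Agent.Lib Groth.Agent.Lib.RedPts Groth.Agent.H87.MonoHom Groth.Agent.H87.SubIn Groth.Agent.H87.MonoRel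

namespace Groth.Agent.H87.TypeLocus

variable {S : Scheme.{u}} (H : Over S) [GrpObj H]

/-- The base change along `x` is `D(N)`. -/
def HasType (N : Type) [AddCommGroup N] {X : Scheme.{u}} (x : X ⟶ S) : Prop :=
  Nonempty (Grp.mk (Red.bc x H) ≅ Grp.mk (Red.DS X N))

/-- The points over which the type is `N`. -/
def locus (N : Type) [AddCommGroup N] : Set S :=
  {s | ∃ (X : Scheme.{u}) (x : X ⟶ S) (y : X), x y = s ∧ HasType H N x}

variable {H}

theorem HasType.comp {N : Type} [AddCommGroup N] {X X' : Scheme.{u}} {x : X ⟶ S} (h : HasType H N x) (r : X' ⟶ X) :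
    HasType H N (r ≫ x) :=
  h.elim fun e => ⟨Tori.BaseChange.bcComp r x H ≪≫ Tori.BaseChange.bcMapIso r e ≪≫ Tori.DS.dsBC N r⟩

theorem HasType.congr {N N' : Type} [AddCommGroup N] [AddCommGroup N'] {X : Scheme.{u}} {x : X ⟶ S}
    (h : HasType H N x) (e : N ≃+ N') : HasType H N' x := by
  obtain ⟨a⟩ := h
  let d : Red.DS X N ≅ Red.DS X N' :=
    { hom := Red.DSmap _ e.symm.toAddMonoidHom
      inv := Red.DSmap _ e.toAddMonoidHom
      hom_inv_id := by
        rw [Factor.DSmap_comp, show e.symm.toAddMonoidHom.comp e.toAddMonoidHom = AddMonoidHom.id _ by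
          ext m; simp, SplitMax.DSmap_id]
      inv_hom_id := by
        rw [Factor.DSmap_comp, show e.toAddMonoidHom.comp e.symm.toAddMonoidHom = AddMonoidHom.id _ by
          ext m; simp, SplitMax.DSmap_id] }
  haveI : IsMonHom d.hom := Gm.isMonHom_DSmap _
  exact ⟨a ≪≫ Tori.BaseChange.grpIso d⟩

theorem type_unique {N N' : Type} [AddCommGroup N] [AddCommGroup N'] [Finite N] [Finite N'] {X : Scheme.{u}}
    {x : X ⟶ S} (p : X) (h : HasType H N x) (h' : HasType H N' x) : Nonempty (N ≃+ N') := by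
  obtain ⟨a⟩ := h
  obtain ⟨b⟩ := h'
  let ψ : Grp.mk (Red.bc (𝟙 X) (Red.DS X N)) ≅ Grp.mk (Red.bc (𝟙 X) (Red.DS X N')) :=
    Tori.DS.dsBC N (𝟙 X) ≪≫ a.symm ≪≫ b ≪≫ (Tori.DS.dsBC N' (𝟙 X)).symm
  let ψ' := Tori.BaseChange.overIso ψ
  haveI : IsMonHom ψ'.hom := show IsMonHom (Tori.BaseChange.overIso ψ).hom from inferInstance
  haveI : IsMonHom ψ'.inv := show IsMonHom (Tori.BaseChange.overIso ψ).inv from inferInstance
  obtain ⟨φ, -, -, hφ, -⟩ := exists_local ψ'.hom p
  obtain ⟨φ', -, -, hφ', -⟩ := exists_local ψ'.inv p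
  haveI : Fintype N := Fintype.ofFinite N
  haveI : Fintype N' := Fintype.ofFinite N'
  have hb : Function.Bijective φ :=
    Function.Surjective.bijective_of_nat_card_le hφ (Nat.card_le_card_of_surjective φ' hφ')
  exact ⟨(AddEquiv.ofBijective φ hb).symm⟩

theorem type_unique' {N N' : Type} [AddCommGroup N] [AddCommGroup N'] [Finite N] [Finite N'] {X X' : Scheme.{u}}
    {x : X ⟶ S} {x' : X' ⟶ S} (p : X) (p' : X') (e : x p = x' p') (h : HasType H N x) (h' : HasType H N' x') :
    Nonempty (N ≃+ N') := by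
  obtain ⟨z, -, -⟩ := Scheme.Pullback.exists_preimage_pullback p p' e
  refine type_unique z (h.comp (pullback.fst x x')) ?_
  rw [pullback.condition]
  exact h'.comp _

/-- Finiteness of the type at a point. -/
theorem finite_type {X X' : Scheme.{u}} {x : X ⟶ S} {x' : X' ⟶ S} (p : X) (p' : X') (e : x p = x' p')
    [IsFinite (Red.bc x' H).hom] {N : Type} [AddCommGroup N] (h : HasType H N x) : Finite N := by
  obtain ⟨z, -, -⟩ := Scheme.Pullback.exists_preimage_pullback p p' e
  obtain ⟨a⟩ := h.comp (pullback.fst x x')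
  let a' := Tori.BaseChange.overIso
    (((Tori.BaseChange.bcComp (pullback.snd x x') x' H).symm ≪≫
      Tori.BaseChange.bcCongr pullback.condition.symm H) ≪≫ a)
  haveI : IsFinite (Red.bc (pullback.snd x x') (Red.bc x' H)).hom :=
    MorphismProperty.pullback_snd (P := @IsFinite) _ _ inferInstance
  haveI : IsIso a'.inv.left := inferInstanceAs (IsIso ((Over.forget _).map a'.inv))
  haveI : IsFinite (Red.DS (pullback x x') N).hom := by
    rw [← Over.w a'.inv]
    exact (MorphismProperty.cancel_left_of_respectsIso @IsFinite a'.inv.left _).2 inferInstance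
  exact HomFam.finite_of_isFinite z N

variable (hH : SGA3x.IsMultTypeFT H)
  (hfin : ∀ s : S, ∃ (X : Scheme.{u}) (x : X ⟶ S) (p : X), x p = s ∧ IsFinite (Red.bc x H).hom)

include hH hfin in
theorem exists_type (s : S) : ∃ (N : Type) (_ : AddCommGroup N), Finite N ∧ s ∈ locus H N := by
  obtain ⟨S', f, -, hs, -, hloc⟩ := hH
  obtain ⟨s', rfl⟩ := hs.surj s
  obtain ⟨U, hU, N, iN, -, h⟩ := hloc s'
  obtain ⟨X, x, p, hp, hx⟩ := hfin (f s')
  letI := iN
  haveI := hx
  exact ⟨N, iN, finite_type (x := U.ι ≫ f) ⟨s', hU⟩ p hp.symm h, _, U.ι ≫ f, ⟨s', hU⟩, rfl, h⟩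

include hH hfin in
theorem isFinite_of_fibres : IsFinite H.hom := by
  obtain ⟨S', f, hf, hs, hc, hloc⟩ := id hH
  haveI := hf
  refine MT.prop_of_locally_DS @IsFinite H (fun N _ => Finite N) f hc (fun s' => ?_) fun X N _ _ => isFinite_DS N
  obtain ⟨U, hU, N, iN, -, h⟩ := hloc s'
  obtain ⟨X, x, p, hp, hx⟩ := hfin (f s')
  letI := iN
  haveI := hx
  exact ⟨U, hU, N, iN, finite_type (x := U.ι ≫ f) ⟨s', hU⟩ p hp.symm h, h⟩

include hH hfin in
theorem isOpen_locus (N : Type) [AddCommGroup N] [Finite N] : IsOpen (locus H N) := by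
  obtain ⟨S', f, hf, hs, hc, hloc⟩ := id hH
  haveI := hf
  refine MT.isOpen_of_preimage f hc (isOpen_iff_forall_mem_open.mpr fun s' hs' => ?_)
  obtain ⟨U, hU, N₀, iN, -, h⟩ := hloc s'
  letI := iN
  obtain ⟨X, x, p, hp, hx⟩ := hfin (f s')
  haveI := hx
  haveI : Finite N₀ := finite_type (x := U.ι ≫ f) ⟨s', hU⟩ p hp.symm h
  obtain ⟨X₁, x₁, p₁, hp₁, h₁⟩ := hs'
  obtain ⟨e⟩ := type_unique' (x := U.ι ≫ f) ⟨s', hU⟩ p₁ hp₁.symm h h₁
  exact ⟨U, fun u hu => ⟨_, U.ι ≫ f, ⟨u, hu⟩, rfl, HasType.congr h e⟩, U.isOpen, hU⟩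

/-- The middle factor of an invertible composite of morphisms between invertible ones. -/
theorem isIso_mid {C : Type*} [Category C] {X' X Y Y' Z : C} (a : X' ⟶ X) (f : X ⟶ Y) (b : Y ⟶ Y') (c : Y' ⟶ Z)
    [IsIso a] [IsIso b] [IsIso c] (h : IsIso (a ≫ f ≫ b ≫ c)) : IsIso f := by
  haveI := IsIso.of_isIso_comp_left a (f ≫ b ≫ c)
  exact IsIso.of_isIso_comp_right f (b ≫ c)

/-- A morphism over a base with invertible underlying morphism is invertible. -/
theorem isIso_over {B : Scheme.{u}} {X Y : Over B} (w : X ⟶ Y) [IsIso w.left] : IsIso w := by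
  haveI : IsIso ((Over.forget B).map w) := ‹IsIso w.left›
  exact isIso_of_reflects_iso w (Over.forget B)

/-- A monomorphism from a finite split group to itself over a point is invertible. -/
theorem isIso_endo {B T : Scheme.{u}} [Subsingleton ↥T] (q : T) {u : T ⟶ B} {N : Type} [AddCommGroup N] [Finite N]
    (ψ : Red.bc u (Red.DS B N) ⟶ Red.bc u (Red.DS B N)) [IsMonHom ψ] [Mono ψ] : IsIso ψ := by
  obtain ⟨φ, O, hO, hφ, hkey⟩ := exists_local ψ q
  haveI : Fintype N := Fintype.ofFinite N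
  let ae : N ≃+ N := AddEquiv.ofBijective φ ⟨(Finite.injective_iff_surjective).2 hφ, hφ⟩
  haveI : IsIso O.ι := by
    haveI : Surjective O.ι := ⟨fun y => ⟨⟨y, (Subsingleton.elim q y) ▸ hO⟩, rfl⟩⟩
    haveI : Epi O.ι.base := (TopCat.epi_iff_surjective _).mpr O.ι.surjective
    exact IsOpenImmersion.isIso O.ι
  haveI : IsIso (dsm (O.ι ≫ u) φ) :=
    ⟨dsm (O.ι ≫ u) ae.symm.toAddMonoidHom, by
      rw [← Functor.map_comp, Factor.DSmap_comp, show φ.comp ae.symm.toAddMonoidHom = AddMonoidHom.id N by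
        ext m; exact ae.apply_symm_apply m, SplitMax.DSmap_id, CategoryTheory.Functor.map_id], by
      rw [← Functor.map_comp, Factor.DSmap_comp, show ae.symm.toAddMonoidHom.comp φ = AddMonoidHom.id N by
        ext m; exact ae.symm_apply_apply m, SplitMax.DSmap_id, CategoryTheory.Functor.map_id]⟩
  haveI : IsIso (dsm (O.ι ≫ u) φ).left := inferInstanceAs (IsIso ((Over.forget _).map (dsm (O.ι ≫ u) φ)))
  haveI : IsIso (bm (Red.DS B N) O.ι (rfl : O.ι ≫ u = O.ι ≫ u)) :=
    ⟨bm (Red.DS B N) (inv O.ι) (IsIso.inv_hom_id_assoc O.ι u),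
      by
        apply pullback.hom_ext
        · rw [Category.assoc, bm_fst, bm_fst, Category.id_comp]
        · rw [Category.assoc, bm_snd, bm_snd_assoc, IsIso.hom_inv_id, Category.comp_id, Category.id_comp],
      by
        apply pullback.hom_ext
        · rw [Category.assoc, bm_fst, bm_fst, Category.id_comp]
        · rw [Category.assoc, bm_snd, bm_snd_assoc, IsIso.inv_hom_id, Category.comp_id, Category.id_comp]⟩
  have hh : bm (Red.DS B N) O.ι rfl ≫ ψ.left = (dsm (O.ι ≫ u) φ).left ≫ bm (Red.DS B N) O.ι rfl := by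
    apply pullback.hom_ext
    · rw [Category.assoc, Category.assoc, bm_fst]
      exact hkey
    · rw [Category.assoc, Category.assoc, bm_snd]
      refine (congrArg (bm (Red.DS B N) O.ι rfl ≫ ·) (Over.w ψ)).trans ((bm_snd _ _ _).trans ?_)
      exact ((congrArg (· ≫ O.ι) (Over.w (dsm (O.ι ≫ u) φ))).symm.trans (Category.assoc _ _ _))
  haveI : IsIso ψ.left := by
    haveI : IsIso (bm (Red.DS B N) O.ι rfl ≫ ψ.left) := by rw [hh]; infer_instance
    exact IsIso.of_isIso_comp_left (bm (Red.DS B N) O.ι rfl) ψ.left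
  haveI : IsIso ψ := isIso_over ψ
  infer_instance

/-- A monomorphism between finite split groups of the same type over a point is invertible. -/
theorem isIso_of_split {B T : Scheme.{u}} [Subsingleton ↥T] (q : T) {u : T ⟶ B} {N : Type} [AddCommGroup N] [Finite N]
    {X Y : Over T} [GrpObj X] [GrpObj Y] (P : Grp.mk X ≅ Grp.mk (Red.bc u (Red.DS B N)))
    (Q : Grp.mk Y ≅ Grp.mk (Red.bc u (Red.DS B N))) (f : X ⟶ Y) [IsMonHom f] [Mono f] : IsIso f := by
  let a := Tori.BaseChange.overIso P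
  let b := Tori.BaseChange.overIso Q
  haveI : IsMonHom a.inv := show IsMonHom (Tori.BaseChange.overIso P).inv from inferInstance
  haveI : IsMonHom b.hom := show IsMonHom (Tori.BaseChange.overIso Q).hom from inferInstance
  haveI : IsIso (a.inv ≫ f ≫ b.hom) := isIso_endo q (a.inv ≫ f ≫ b.hom)
  haveI := IsIso.of_isIso_comp_left a.inv (f ≫ b.hom)
  exact IsIso.of_isIso_comp_right f b.hom

set_option maxHeartbeats 2000000 in
/-- Over algebraically closed fields the type splits the group. -/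
theorem hasType_algClosed (hH : SGA3x.IsMultTypeFT H) {Ω : Type u} [Field Ω] [IsAlgClosed Ω]
    (x : Spec (CommRingCat.of Ω) ⟶ S) {N : Type} [AddCommGroup N] [Finite N]
    (hx : x (IsLocalRing.closedPoint Ω) ∈ locus H N) : HasType H N x := by
  let B := Spec (CommRingCat.of Ω)
  let H₀ : Over B := Red.bc x H
  haveI := MT.isAffineHom hH
  haveI := MT.locallyOfFinitePresentation hH
  haveI : IsAffineHom H₀.hom := MorphismProperty.pullback_snd (P := @IsAffineHom) _ _ inferInstance
  haveI : LocallyOfFinitePresentation H₀.hom :=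
    MorphismProperty.pullback_snd (P := @LocallyOfFinitePresentation) _ _ inferInstance
  obtain ⟨X, y, p, hp, h⟩ := hx
  obtain ⟨z, -, -⟩ := Scheme.Pullback.exists_preimage_pullback (f := y) (g := x) p (IsLocalRing.closedPoint Ω) hp
  let L := (pullback y x).residueField z
  let k : Spec L ⟶ pullback y x := (pullback y x).fromSpecResidueField z
  let u : Spec L ⟶ B := k ≫ pullback.snd y x
  obtain ⟨c⟩ : HasType H N (u ≫ x) := by
    have := h.comp (k ≫ pullback.fst y x)
    rwa [Category.assoc, pullback.condition, ← Category.assoc] at this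
  -- the chart seen over `B`
  let e : Grp.mk (Red.bc u (Red.DS B N)) ≅ Grp.mk (Red.bc u H₀) :=
    Tori.DS.dsBC N u ≪≫ c.symm ≪≫ Tori.BaseChange.bcComp u x H
  let e' := Tori.BaseChange.overIso e
  haveI : IsMonHom e'.hom := show IsMonHom (Tori.BaseChange.overIso e).hom from inferInstance
  haveI : IsMonHom e'.inv := show IsMonHom (Tori.BaseChange.overIso e).inv from inferInstance
  obtain ⟨E, a, iam, iamono, hEa, hEp, hE⟩ := exists_monoHom (G := H₀) N
  haveI := iam; haveI := iamono; haveI := hEp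
  obtain ⟨eL, ⟨heL, -⟩, -⟩ := hE u e'.hom
  haveI : JacobsonSpace ↥E.left := LocallyOfFiniteType.jacobsonSpace E.hom
  haveI : Nonempty ↥E.left := ⟨eL (IsLocalRing.closedPoint L)⟩
  obtain ⟨q, -, hq⟩ := nonempty_inter_closedPoints (X := ↥E.left) Set.univ_nonempty isOpen_univ.isLocallyClosed
  let σ := pointOfClosedPoint E.hom q hq
  obtain ⟨w, hw1, hw2, -, -⟩ := exists_restr a σ (pointOfClosedPoint_comp E.hom q hq)
  haveI := hw1; haveI := hw2
  let P₁ : Grp.mk (Red.bc u (Red.bc (𝟙 B) (Red.DS B N))) ≅ Grp.mk (Red.bc u (Red.DS B N)) :=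
    (Tori.BaseChange.bcComp u (𝟙 B) (Red.DS B N)).symm ≪≫ Tori.BaseChange.bcCongr (Category.comp_id u) _
  let Q₁ : Grp.mk (Red.bc u (Red.bc (𝟙 B) H₀)) ≅ Grp.mk (Red.bc u H₀) :=
    (Tori.BaseChange.bcComp u (𝟙 B) H₀).symm ≪≫ Tori.BaseChange.bcCongr (Category.comp_id u) _
  haveI : IsMonHom ((Over.pullback u).map w) := inferInstance
  haveI : Subsingleton ↥(Spec L) := inferInstanceAs (Subsingleton (PrimeSpectrum L))
  haveI hmap : IsIso ((Over.pullback u).map w) :=
    isIso_of_split (IsLocalRing.closedPoint L) P₁ (Q₁ ≪≫ e.symm) ((Over.pullback u).map w)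
  haveI : Subsingleton ↥B := inferInstanceAs (Subsingleton (PrimeSpectrum Ω))
  haveI : Surjective u := ⟨fun y => ⟨IsLocalRing.closedPoint L, Subsingleton.elim _ _⟩⟩
  haveI : Flat u := by
    obtain ⟨uh, huh⟩ : ∃ uh, Spec.map uh = u := ⟨_, Spec.map_preimage u⟩
    rw [← huh]
    refine HasRingHomProperty.Spec_iff.2 ?_
    letI := uh.hom.toAlgebra
    show RingHom.Flat uh.hom
    rw [RingHom.Flat]
    exact Module.Flat.of_free
  haveI : QuasiCompact u := inferInstance
  have h1 : Charts.Fib (MorphismProperty.isomorphisms Scheme.{u}) (u ≫ 𝟙 B) w :=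
    Charts.fib_congr _ (Category.comp_id u).symm w
      (show IsIso ((Over.pullback u).map w).left from inferInstanceAs (IsIso ((Over.forget _).map ((Over.pullback u).map w))))
  haveI : IsIso w.left := (Charts.iff_natIso _ Over.pullbackId w).mp (Charts.fib_descend _ u h1)
  haveI : IsIso w := isIso_over w
  haveI : IsMonHom (asIso w).hom := hw1
  exact ⟨(Tori.DS.dsBC N (𝟙 B)).symm ≪≫ Tori.BaseChange.grpIso (asIso w) ≪≫
    (Tori.BaseChange.bcComp (𝟙 B) x H).symm ≪≫ Tori.BaseChange.bcCongr (Category.id_comp x) H |>.symm⟩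

end Groth.Agent.H87.TypeLocus
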